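import Groth.Agent.BigSiteLib.PiGerm
import Groth.Agent.FpqcDescent.Props

/-!
The inverse image of an étale sheaf on the big étale site satisfies the fpqc sheaf condition.
-/

set_option autoImplicit false
set_option backward.isDefEq.respectTransparency false
set_option backward.defeqAttrib.useBackward true
universe u

noncomputable section

namespace Groth.Agent.BigSiteLib

open CategoryTheory Limits Opposite AlgebraicGeometry

variable {S : Scheme.{u}} (F : EtCoh.Ab S)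

/-- An fpqc covering sieve contains an fpqc covering family. -/
lemma exists_fpqc_family {T : Over S} {R : Sieve T} (hR : R ∈ QuotSh.J Scheme.fpqcPrecoverage S T) :
    ∃ R₀ : Presieve T.left, R₀ ∈ Scheme.fpqcPrecoverage T.left ∧
      (∀ ⦃X : Scheme.{u}⦄ (f : X ⟶ T.left), R₀ f →
        R.arrows (Over.homMk f : Over.mk (f ≫ T.hom) ⟶ T)) ∧
      ∀ z : T.left, ∃ (X : Scheme.{u}) (f : X ⟶ T.left) (w : X), R₀ f ∧ f w = z := by
  rw [GrothendieckTopology.mem_over_iff, Precoverage.mem_toGrothendieck_iff_of_isStableUnderComposition] at hR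
  obtain ⟨R₀, hR₀, hle⟩ := hR
  refine ⟨R₀, hR₀, fun X f hf => (Sieve.overEquiv_iff R f).mp (hle _ _ hf), fun z => ?_⟩
  obtain ⟨𝒰, -, e⟩ := Scheme.mem_propQCPrecoverage_iff_exists_quasiCompactCover.mp hR₀
  obtain ⟨i, w, hw⟩ := 𝒰.exists_eq z
  exact ⟨𝒰.X i, 𝒰.f i, w, e ▸ Presieve.ofArrows.mk i, hw⟩

variable {F}

/-- Sections vanishing on an fpqc covering vanish. -/
lemma eq_zero_of_fpqc {T : Over S} {R : Sieve T} (hR : R ∈ QuotSh.J Scheme.fpqcPrecoverage S T)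
    (x : (Pi F).obj.obj (op T)) (h : ∀ ⦃T' : Over S⦄ (g : T' ⟶ T), R.arrows g → rs F g x = 0) : x = 0 := by
  obtain ⟨R₀, -, hmem, hsurj⟩ := exists_fpqc_family hR
  refine eq_zero_of_zeroLocus F (Set.eq_univ_of_forall fun z => ?_)
  obtain ⟨X, f, w, hf, rfl⟩ := hsurj z
  obtain ⟨Ω, _, _, s, t, rfl⟩ := exists_geom (T := Over.mk (f ≫ T.hom)) w
  refine mem_zeroLocus F (t ≫ (Over.homMk f : Over.mk (f ≫ T.hom) ⟶ T)) ?_
  rw [← rs_rs, h _ (hmem f hf), map_zero]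

/-- Vanishing of a compatible family at two points with the same image. -/
lemma mem_zeroLocus_of_compatible {T Y₁ Y₂ : Over S} {k₁ : Y₁ ⟶ T} {k₂ : Y₂ ⟶ T}
    {d₁ : (Pi F).obj.obj (op Y₁)} {d₂ : (Pi F).obj.obj (op Y₂)}
    (hd : ∀ ⦃Z : Over S⦄ (a : Z ⟶ Y₁) (b : Z ⟶ Y₂), a ≫ k₁ = b ≫ k₂ → rs F a d₁ = rs F b d₂)
    {w₁ : Y₁.left} {w₂ : Y₂.left} (e : k₁.left w₁ = k₂.left w₂) (h : w₁ ∈ zeroLocus F d₁) :
    w₂ ∈ zeroLocus F d₂ := by
  obtain ⟨p, hp₁, hp₂⟩ := Scheme.Pullback.exists_preimage_pullback w₁ w₂ e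
  let Z : Over S := Over.mk (pullback.fst k₁.left k₂.left ≫ Y₁.hom)
  let a : Z ⟶ Y₁ := Over.homMk (pullback.fst k₁.left k₂.left)
  let b : Z ⟶ Y₂ := Over.homMk (pullback.snd k₁.left k₂.left) (by
    change pullback.snd k₁.left k₂.left ≫ Y₂.hom = pullback.fst k₁.left k₂.left ≫ Y₁.hom
    rw [← Over.w k₁, ← Over.w k₂, pullback.condition_assoc])
  obtain ⟨Ω, _, _, s, t, ht⟩ := exists_geom (T := Z) p
  have h₁ : (t ≫ a).left (cpt Ω) = w₁ := by
    change pullback.fst k₁.left k₂.left (t.left (cpt Ω)) = w₁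
    rw [ht, hp₁]
  have h₂ : (t ≫ b).left (cpt Ω) = w₂ := by
    change pullback.snd k₁.left k₂.left (t.left (cpt Ω)) = w₂
    rw [ht, hp₂]
  rw [← h₂]
  refine mem_zeroLocus F (t ≫ b) ?_
  rw [← rs_rs, ← hd a b (Over.OverMorphism.ext pullback.condition), rs_rs]
  exact rs_eq_zero_of_mem F (t ≫ a) (by rw [h₁]; exact h)

/-- The sieve of maps over which a family glues. -/
def glueSieve {T : Over S} (R : Sieve T) (x : ∀ ⦃Y : Over S⦄ (f : Y ⟶ T), R.arrows f → (Pi F).obj.obj (op Y)) :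
    Sieve T where
  arrows T' g := ∃ y : (Pi F).obj.obj (op T'),
    ∀ ⦃Y : Over S⦄ (k : Y ⟶ T') (hk : R.arrows (k ≫ g)), rs F k y = x (k ≫ g) hk
  downward_closed := by
    rintro T' T'' g ⟨y, hy⟩ h
    refine ⟨rs F h y, fun Y k hk => ?_⟩
    have hk' : R.arrows ((k ≫ h) ≫ g) := by rw [Category.assoc]; exact hk
    rw [rs_rs, hy (k ≫ h) hk']
    congr 1

set_option maxHeartbeats 1000000 in
/-- A compatible family on an fpqc covering glues étale locally. -/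
theorem glueSieve_mem {T : Over S} {R : Sieve T} (hR : R ∈ QuotSh.J Scheme.fpqcPrecoverage S T)
    (x : ∀ ⦃Y : Over S⦄ (f : Y ⟶ T), R.arrows f → (Pi F).obj.obj (op Y))
    (hx' : ∀ ⦃Y₁ Y₂ Z : Over S⦄ (g₁ : Z ⟶ Y₁) (g₂ : Z ⟶ Y₂) {f₁ : Y₁ ⟶ T} {f₂ : Y₂ ⟶ T}
      (h₁ : R.arrows f₁) (h₂ : R.arrows f₂), g₁ ≫ f₁ = g₂ ≫ f₂ → rs F g₁ (x f₁ h₁) = rs F g₂ (x f₂ h₂)) :
    glueSieve R x ∈ QuotSh.J Scheme.etalePrecoverage S T := by
    refine mem_J_of_nhds _ fun z => ?_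
    obtain ⟨R₀, hR₀, hmem, hsurj⟩ := exists_fpqc_family hR
    obtain ⟨X₀, f₀, w₀, hf₀, rfl⟩ := hsurj z
    obtain ⟨Ω, _, _, s, t₀, rfl⟩ := exists_geom (T := Over.mk (f₀ ≫ T.hom)) w₀
    let g₀ : Over.mk (f₀ ≫ T.hom) ⟶ T := Over.homMk f₀
    obtain ⟨V, v, σ, hσ⟩ := basic_of_geom F s (rs F t₀ (x g₀ (hmem f₀ hf₀)))
    let t : Over.mk s ⟶ T := t₀ ≫ g₀
    haveI : Etale V.hom := V.prop
    let U : Over S := Over.mk (pullback.fst T.hom V.hom ≫ T.hom)
    let p : U ⟶ T := Over.homMk (pullback.fst T.hom V.hom)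
    let q : U ⟶ (EtFppf.a S).obj V := Over.homMk (pullback.snd T.hom V.hom) pullback.condition.symm
    let u : Over.mk s ⟶ U :=
      Over.homMk (pullback.lift t.left v.left ((Over.w t).trans (Over.w v).symm)) (by
        change pullback.lift _ _ _ ≫ pullback.fst T.hom V.hom ≫ T.hom = s
        rw [pullback.lift_fst_assoc]
        exact Over.w t)
    have hup : u ≫ p = t := Over.OverMorphism.ext (pullback.lift_fst _ _ _)
    have huq : u ≫ q = v := Over.OverMorphism.ext (pullback.lift_snd _ _ _)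
    let s₀ : (Pi F).obj.obj (op U) := rs F q (eta F V σ)
    let d : ∀ ⦃Y : Over S⦄ (k : Y ⟶ U), R.arrows (k ≫ p) → (Pi F).obj.obj (op Y) :=
      fun Y k hk => x (k ≫ p) hk - rs F k s₀
    have hd : ∀ {Y₁ Y₂ : Over S} (k₁ : Y₁ ⟶ U) (k₂ : Y₂ ⟶ U) (h₁ : R.arrows (k₁ ≫ p))
        (h₂ : R.arrows (k₂ ≫ p)) ⦃Z : Over S⦄ (a : Z ⟶ Y₁) (b : Z ⟶ Y₂), a ≫ k₁ = b ≫ k₂ →
        rs F a (d k₁ h₁) = rs F b (d k₂ h₂) := by
      intro Y₁ Y₂ k₁ k₂ h₁ h₂ Z a b e
      change rs F a (x _ h₁ - rs F k₁ s₀) = rs F b (x _ h₂ - rs F k₂ s₀)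
      rw [map_sub, map_sub, rs_rs F k₁ a, rs_rs F k₂ b, e]
      congr 1
      exact hx' a b h₁ h₂ (by rw [← Category.assoc, e, Category.assoc])
    let W : Set U.left := {w | ∃ (Y : Over S) (k : Y ⟶ U) (hk : R.arrows (k ≫ p)) (y : Y.left),
      k.left y = w ∧ y ∈ zeroLocus F (d k hk)}
    have hpre : ∀ ⦃Y : Over S⦄ (k : Y ⟶ U) (hk : R.arrows (k ≫ p)),
        k.left ⁻¹' W = zeroLocus F (d k hk) := by
      intro Y k hk
      ext y
      exact ⟨fun ⟨Y', k', hk', y', e, hy'⟩ => mem_zeroLocus_of_compatible (hd k' k hk' hk) e hy',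
        fun hy => ⟨Y, k, hk, y, rfl, hy⟩⟩
    have hmemU : ∀ ⦃X : Scheme.{u}⦄ (f : X ⟶ T.left), R₀ f →
        R.arrows ((Over.homMk (pullback.snd f p.left) :
          Over.mk (pullback.snd f p.left ≫ U.hom) ⟶ U) ≫ p) := by
      intro X f hf
      let h : Over.mk (pullback.snd f p.left ≫ U.hom) ⟶ Over.mk (f ≫ T.hom) :=
        Over.homMk (pullback.fst f p.left) (by
          change pullback.fst f p.left ≫ f ≫ T.hom = pullback.snd f p.left ≫ U.hom
          rw [pullback.condition_assoc, Over.w p])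
      have e : (Over.homMk (pullback.snd f p.left) : Over.mk (pullback.snd f p.left ≫ U.hom) ⟶ U) ≫ p =
          h ≫ (Over.homMk f : Over.mk (f ≫ T.hom) ⟶ T) := Over.OverMorphism.ext pullback.condition.symm
      rw [e]
      exact R.downward_closed (hmem f hf) h
    have hWopen : IsOpen W := by
      refine FpqcDescent.isOpen_of_fpqcPrecoverage
        (Precoverage.pullbackArrows_mem p.left hR₀) W ?_
      rintro _ _ ⟨X, f, hf⟩
      have := hpre (Over.homMk (pullback.snd f p.left) :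
        Over.mk (pullback.snd f p.left ≫ U.hom) ⟶ U) (hmemU f hf)
      exact this ▸ isOpen_zeroLocus F _
    have huW : u.left (cpt Ω) ∈ W := by
      let k : Over.mk (pullback.snd f₀ p.left ≫ U.hom) ⟶ U := Over.homMk (pullback.snd f₀ p.left)
      let h : Over.mk (pullback.snd f₀ p.left ≫ U.hom) ⟶ Over.mk (f₀ ≫ T.hom) :=
        Over.homMk (pullback.fst f₀ p.left) (by
          change pullback.fst f₀ p.left ≫ f₀ ≫ T.hom = pullback.snd f₀ p.left ≫ U.hom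
          rw [pullback.condition_assoc, Over.w p])
      let l : Over.mk s ⟶ Over.mk (pullback.snd f₀ p.left ≫ U.hom) :=
        Over.homMk (pullback.lift t₀.left u.left (congrArg (fun m => m.left) hup).symm) (by
          change pullback.lift _ _ _ ≫ pullback.snd f₀ p.left ≫ U.hom = s
          rw [pullback.lift_snd_assoc]
          exact Over.w u)
      have hlk : l ≫ k = u := Over.OverMorphism.ext (pullback.lift_snd _ _ _)
      have hlh : l ≫ h = t₀ := Over.OverMorphism.ext (pullback.lift_fst _ _ _)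
      have hkp : k ≫ p = h ≫ g₀ := Over.OverMorphism.ext pullback.condition.symm
      have elk : l.left ≫ k.left = u.left := congrArg Over.Hom.left hlk
      refine ⟨_, k, hmemU f₀ hf₀, l.left (cpt Ω), congr($elk (cpt Ω)),
        mem_zeroLocus F l ?_⟩
      rw [map_sub, sub_eq_zero, rs_rs, hlk, rs_rs, huq, hσ, ← hlh, ← rs_rs]
      congr 1
      exact ((hx' (𝟙 _) h (hmemU f₀ hf₀) (hmem f₀ hf₀) (by rw [Category.id_comp]; exact hkp)).symm.trans
        (rs_id F _)).symm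
    let Wo : U.left.Opens := ⟨W, hWopen⟩
    let j : Over.mk (Wo.ι ≫ U.hom) ⟶ U := Over.homMk Wo.ι
    refine ⟨_, j ≫ p, ⟨rs F j s₀, fun Y k hk => ?_⟩,
      inferInstanceAs (Etale (Wo.ι ≫ pullback.fst T.hom V.hom)), ⟨u.left (cpt Ω), huW⟩, ?_⟩
    · have hk' : R.arrows ((k ≫ j) ≫ p) := by rw [Category.assoc]; exact hk
      have h0 : d (k ≫ j) hk' = 0 := eq_zero_of_zeroLocus F (by
        rw [← hpre (k ≫ j) hk']
        exact Set.eq_univ_of_forall fun y => (k.left y).2)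
      rw [rs_rs, ← sub_eq_zero.mp h0]
      congr 1
    · have ep : u.left ≫ p.left = t.left := congrArg Over.Hom.left hup
      exact congr($ep (cpt Ω))

/-- The fpqc sheaf condition. -/
theorem isSheaf_fpqc_Pi (F : EtCoh.Ab S) : Presheaf.IsSheaf (QuotSh.J Scheme.fpqcPrecoverage S) (Pi F).obj := by
  rw [Presheaf.isSheaf_iff_isSheaf_forget _ _ (forget AddCommGrpCat.{u + 1}), isSheaf_iff_isSheaf_of_type]
  intro T R hR x hx
  let P := (Pi F).obj ⋙ forget AddCommGrpCat.{u + 1}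
  have het : Presieve.IsSheaf (QuotSh.J Scheme.etalePrecoverage S) P := (isSheaf_iff_isSheaf_of_type _ _).mp
    ((Presheaf.isSheaf_iff_isSheaf_forget _ _ (forget AddCommGrpCat.{u + 1})).mp (Pi F).property)
  have hx' : ∀ ⦃Y₁ Y₂ Z : Over S⦄ (g₁ : Z ⟶ Y₁) (g₂ : Z ⟶ Y₂) {f₁ : Y₁ ⟶ T} {f₂ : Y₂ ⟶ T}
      (h₁ : R.arrows f₁) (h₂ : R.arrows f₂), g₁ ≫ f₁ = g₂ ≫ f₂ → rs F g₁ (x f₁ h₁) = rs F g₂ (x f₂ h₂) :=
    fun Y₁ Y₂ Z g₁ g₂ f₁ f₂ h₁ h₂ e => hx g₁ g₂ h₁ h₂ e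
  have hsep : ∀ {T' : Over S} (g : T' ⟶ T) (a b : (Pi F).obj.obj (op T')),
      (∀ ⦃Y : Over S⦄ (k : Y ⟶ T') (hk : R.arrows (k ≫ g)), rs F k a = x (k ≫ g) hk) →
      (∀ ⦃Y : Over S⦄ (k : Y ⟶ T') (hk : R.arrows (k ≫ g)), rs F k b = x (k ≫ g) hk) → a = b := by
    intro T' g a b ha hb
    refine sub_eq_zero.mp (eq_zero_of_fpqc (GrothendieckTopology.pullback_stable _ g hR) _ fun Y k hk => ?_)
    rw [map_sub, ha k hk, hb k hk, sub_self]
  let L : Sieve T := glueSieve R fun _ f hf => x f hf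
  have hL : L ∈ QuotSh.J Scheme.etalePrecoverage S T := glueSieve_mem hR _ hx'
  choose y hy using fun (T' : Over S) (g : T' ⟶ T) (hg : L.arrows g) => hg
  let yf : Presieve.FamilyOfElements P L.arrows := fun T' g hg => y T' g hg
  have hyf : yf.Compatible := by
    intro Y₁ Y₂ Z a b f₁ f₂ h₁ h₂ e
    change rs F a (y _ f₁ h₁) = rs F b (y _ f₂ h₂)
    refine hsep (a ≫ f₁) _ _ (fun Y k hk => ?_) (fun Y k hk => ?_)
    · rw [rs_rs, hy _ f₁ h₁ (k ≫ a) (by rw [Category.assoc]; exact hk)]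
      congr 1
    · rw [rs_rs, hy _ f₂ h₂ (k ≫ b) (by rw [Category.assoc, ← e]; exact hk)]
      congr 1
      rw [Category.assoc, e]
  obtain ⟨s, hs, -⟩ := het L hL yf hyf
  have hglue : ∀ ⦃T' : Over S⦄ (g : T' ⟶ T) (hg : R.arrows g), rs F g s = x g hg := by
    intro T' g hg
    refine (het _ (GrothendieckTopology.pullback_stable _ g hL)).isSeparatedFor.ext fun Y k hk => ?_
    change rs F k (rs F g s) = rs F k (x g hg)
    rw [rs_rs]
    have h1 : rs F (k ≫ g) s = y _ (k ≫ g) hk := hs (k ≫ g) hk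
    have h2 := hy _ (k ≫ g) hk (𝟙 Y) (by rw [Category.id_comp]; exact R.downward_closed hg k)
    rw [rs_id] at h2
    rw [h1, h2]
    exact ((hx' k (𝟙 Y) hg (by rw [Category.id_comp]; exact R.downward_closed hg k)
      (by rw [Category.id_comp, Category.id_comp] :
        k ≫ g = 𝟙 Y ≫ (𝟙 Y ≫ k ≫ g))).trans (rs_id F _)).symm
  refine ⟨s, fun T' g hg => hglue g hg, fun s' hs' => ?_⟩
  refine sub_eq_zero.mp (eq_zero_of_fpqc hR (x := (s' : (Pi F).obj.obj (op T)) - s) fun T' g hg => ?_)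
  rw [map_sub, hglue g hg]
  exact sub_eq_zero.mpr (hs' g hg)

end Groth.Agent.BigSiteLib
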