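import Groth.Agent.BigSiteLib.FppfAcyclic
import Mathlib.CategoryTheory.Abelian.RightDerived

/-!
Comparison of the big fppf site with the small étale site.
-/

set_option autoImplicit false
set_option linter.style.haveILetI false
set_option backward.isDefEq.respectTransparency false
set_option backward.defeqAttrib.useBackward true
universe w w' v v' u' u'' u

noncomputable section

namespace Groth.Agent.BigSiteLib

open CategoryTheory Limits Opposite Abelian AlgebraicGeometry

section General

variable {A : Type u'} [Category.{v} A] [Abelian A] [EnoughInjectives A]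
  {B : Type u''} [Category.{v'} B] [Abelian B]
  (Φ : A ⥤ B) [Φ.Additive] [PreservesFiniteLimits Φ] (P : A → Prop)
  (hP : ∀ S : ShortComplex A, S.ShortExact → Injective S.X₂ → P S.X₁ → Epi (Φ.map S.g) ∧ P S.X₃)

include hP in
/-- A class closed under cosyzygies on which a left exact functor is exact consists of acyclic objects. -/
theorem isZero_rightDerived_of_class (X : A) (hX : P X) (n : ℕ) : IsZero ((Φ.rightDerived (n + 1)).obj X) := by
  let R : InjectiveResolution X := InjectiveResolution.of X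
  let K := R.cocomplex
  let Z : ℕ → A := fun n => kernel (K.d n (n + 1))
  have hπ : ∀ n, Epi (kernel.lift (K.d (n + 1) (n + 2)) (K.d n (n + 1)) (K.d_comp_d _ _ _)) := fun n => by
    have h := R.exact_succ n
    exact (ShortComplex.exact_iff_epi_kernel_lift (ShortComplex.mk (K.d n (n + 1)) (K.d (n + 1) (n + 2))
      (K.d_comp_d _ _ _))).mp h
  let π : ∀ n, K.X n ⟶ Z (n + 1) := fun n => kernel.lift _ (K.d n (n + 1)) (K.d_comp_d _ _ _)
  have hw : ∀ n, kernel.ι (K.d n (n + 1)) ≫ π n = 0 := fun n => by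
    rw [← cancel_mono (kernel.ι (K.d (n + 1) (n + 2))), Category.assoc, kernel.lift_ι, kernel.condition, zero_comp]
  have hS : ∀ n, (ShortComplex.mk _ _ (hw n)).ShortExact := fun n => by
    haveI := hπ n
    refine { exact := ShortComplex.exact_of_f_is_kernel _ ?_, epi_g := inferInstanceAs (Epi (π n)) }
    refine KernelFork.IsLimit.ofι _ _ (fun {W} g hg => kernel.lift _ g ?_) (fun {W} g hg => kernel.lift_ι _ _ _)
      (fun {W} g hg m hm => ?_)
    · rw [← kernel.lift_ι (K.d (n + 1) (n + 2)) (K.d n (n + 1)) (K.d_comp_d _ _ _), ← Category.assoc, hg, zero_comp]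
    · rw [← cancel_mono (kernel.ι (K.d n (n + 1))), hm, kernel.lift_ι]
  have hw₀ : R.ι.f 0 ≫ π 0 = 0 := by
    rw [← cancel_mono (kernel.ι (K.d 1 2)), Category.assoc, kernel.lift_ι, zero_comp]
    exact R.ι_f_zero_comp_complex_d
  have hS₀ : (ShortComplex.mk _ _ hw₀).ShortExact := by
    haveI := hπ 0
    refine { exact := ShortComplex.exact_of_f_is_kernel _ ?_, epi_g := inferInstanceAs (Epi (π 0)), mono_f := ?_ }
    · refine KernelFork.IsLimit.ofι' _ _ fun {W} g hg => ?_
      refine KernelFork.IsLimit.lift' R.isLimitKernelFork g ?_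
      rw [← kernel.lift_ι (K.d 1 2) (K.d 0 1) (K.d_comp_d _ _ _), ← Category.assoc, hg, zero_comp]
    · exact inferInstanceAs (Mono (R.ι.f 0))
  have hZ : ∀ n, Epi (Φ.map (π n)) ∧ P (Z (n + 1)) := fun n => by
    induction n with
    | zero => exact hP _ hS₀ (R.injective 0) hX
    | succ n ih => exact hP _ (hS (n + 1)) (R.injective _) ih.2
  refine IsZero.of_iso ?_ (R.isoRightDerivedObj Φ (n + 1))
  change IsZero (((Φ.mapHomologicalComplex _).obj K).homology (n + 1))
  rw [← HomologicalComplex.exactAt_iff_isZero_homology,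
    HomologicalComplex.exactAt_iff' _ n (n + 1) (n + 2) (by simp) (by simp)]
  haveI := (hZ n).1
  haveI := (hS (n + 1)).mono_f
  haveI : Mono (Φ.map (kernel.ι (K.d (n + 1) (n + 2)))) := inferInstance
  have hk := KernelFork.mapIsLimit _ (kernelIsKernel (K.d (n + 1) (n + 2))) Φ
  refine (ShortComplex.exact_iff_epi_kernel_lift _).mpr ?_
  let e := IsLimit.conePointUniqueUpToIso hk (limit.isLimit _)
  have he : Φ.map (π n) ≫ e.hom = kernel.lift (Φ.map (K.d (n + 1) (n + 2))) (Φ.map (K.d n (n + 1)))
      (by rw [← Φ.map_comp, K.d_comp_d, Φ.map_zero]) := by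
    rw [← cancel_mono (kernel.ι _), kernel.lift_ι, Category.assoc]
    erw [IsLimit.conePointUniqueUpToIso_hom_comp hk (limit.isLimit _) WalkingParallelPair.zero]
    exact (Φ.map_comp _ _).symm.trans (congrArg Φ.map (kernel.lift_ι _ _ _))
  change Epi (kernel.lift (Φ.map (K.d (n + 1) (n + 2))) (Φ.map (K.d n (n + 1))) _)
  rw [← he]
  exact epi_comp _ _

variable [HasExt.{w} A] [HasExt.{w} B] (hΦ : ∀ I : A, Injective I → Injective (Φ.obj I)) (M : B) (Q : A)
  (e : ∀ F : A, (M ⟶ Φ.obj F) ≃+ (Q ⟶ F))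
  (he : ∀ {F G : A} (g : F ⟶ G) (x : M ⟶ Φ.obj F), e G (x ≫ Φ.map g) = e F x ≫ g)

include hP hΦ he in
/-- Comparison of cohomology on a class of acyclic objects. -/
theorem nonempty_ext_equiv_of_class (p : ℕ) : ∀ F : A, P F →
    Nonempty (Ext.{w} M (Φ.obj F) p ≃+ Ext.{w} Q F p) := by
  induction p with
  | zero => exact fun F _ => ⟨Ext.addEquiv₀.trans ((e F).trans Ext.addEquiv₀.symm)⟩
  | succ n ih =>
    intro F hF
    let S : ShortComplex A := ShortComplex.mk (Injective.ι F) (cokernel.π (Injective.ι F)) (cokernel.condition _)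
    have hS : S.ShortExact := { exact := ShortComplex.exact_of_g_is_cokernel _ (cokernelIsCokernel _) }
    haveI : Injective S.X₂ := inferInstanceAs (Injective (Injective.under F))
    obtain ⟨hepi, hP'⟩ := hP S hS inferInstance hF
    haveI : Epi (S.map Φ).g := hepi
    haveI : Mono (S.map Φ).f := inferInstanceAs (Mono (Φ.map (Injective.ι F)))
    have hS' : (S.map Φ).ShortExact :=
      { exact := hS.exact.map_of_mono_of_preservesKernel Φ hS.mono_f inferInstance }
    haveI : Injective (S.map Φ).X₂ := hΦ _ inferInstance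
    cases n with
    | zero =>
      haveI : Subsingleton (Ext.{w} M (S.map Φ).X₂ 1) := subsingleton_of_forall_eq 0 fun x => Ext.eq_zero_of_injective x
      haveI : Subsingleton (Ext.{w} Q S.X₂ 1) := subsingleton_of_forall_eq 0 fun x => Ext.eq_zero_of_injective x
      have hk : (conn hS' M).ker.map ((e S.X₃) : (M ⟶ Φ.obj S.X₃) →+ (Q ⟶ S.X₃)) = (conn hS Q).ker := by
        ext φ
        constructor
        · rintro ⟨ψ, hψ, rfl⟩
          obtain ⟨χ, rfl⟩ := (conn_eq_zero_iff hS' M ψ).mp hψ
          exact (conn_eq_zero_iff hS Q _).mpr ⟨e _ χ, (he S.g χ).symm⟩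
        · intro hφ
          obtain ⟨χ, rfl⟩ := (conn_eq_zero_iff hS Q φ).mp hφ
          refine ⟨(e _).symm χ ≫ Φ.map S.g, (conn_eq_zero_iff hS' M _).mpr ⟨_, rfl⟩, ?_⟩
          exact (he S.g _).trans (congrArg (· ≫ S.g) ((e _).apply_symm_apply χ))
      exact ⟨((QuotientAddGroup.quotientKerEquivOfSurjective _ (surjective_conn hS' M)).symm.trans
        (QuotientAddGroup.congr _ _ (e S.X₃) hk)).trans
        (QuotientAddGroup.quotientKerEquivOfSurjective _ (surjective_conn hS Q))⟩
    | succ m =>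
      obtain ⟨ee⟩ := ih S.X₃ hP'
      exact ⟨((shift hS' M m).symm.trans ee).trans (shift hS Q m)⟩

end General

section Fppf

variable {S : Scheme.{u}}

/-- `a_*` is exact on acyclic sheaves. -/
theorem aPush_step [EtFppf.ACont S] (X : ShortComplex (EtFppf.AbF S)) (hX : X.ShortExact) (hI : Injective X.X₂)
    (h : Acyc X.X₁) : Epi ((EtFppf.aPush S).map X.g) ∧ Acyc X.X₃ := by
  haveI := hI
  obtain ⟨h1, h2⟩ := acyc_step hX h
  haveI : (BigSite.resEt Scheme.etalePrecoverage S).IsLeftAdjoint :=
    (BigSite.iEtAdj Scheme.etalePrecoverage S).isLeftAdjoint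
  haveI := h1
  exact ⟨(BigSite.resEt Scheme.etalePrecoverage S).map_epi ((toEt S).map X.g), h2⟩

/-- Higher direct images to the small étale site of inverse images vanish. -/
theorem isZero_RaPush_piF [EtFppf.ACont S] (F : EtCoh.Ab S) (n : ℕ) :
    IsZero ((EtFppf.RaPush S (n + 1)).obj ((piF S).obj F)) := by
  haveI : (EtFppf.aPush S).IsRightAdjoint := (EtFppf.aAdj S).isRightAdjoint
  exact isZero_rightDerived_of_class (EtFppf.aPush S) Acyc aPush_step _ (acyc_piF F) n

/-- Fppf cohomology of inverse images is étale cohomology. -/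
theorem nonempty_H_piF [EtFppf.ACont S] (F : EtCoh.Ab S) (p : ℕ) :
    Nonempty (EtCoh.H S ((EtFppf.aPush S).obj ((piF S).obj F)) p ≃+ EtFppf.HF S ((piF S).obj F) p) := by
  haveI : (EtFppf.aPush S).IsRightAdjoint := (EtFppf.aAdj S).isRightAdjoint
  have hC : IsTerminal (EtCoh.top S) := MorphismProperty.Over.mkIdTerminal _ S
  have hD : IsTerminal ((EtFppf.a S).obj (EtCoh.top S)) := Over.mkIdTerminal
  let eC := fun G => AddEquiv.trans ((constantSheafAdj S.smallEtaleTopology AddCommGrpCat.{u + 1} hC).homAddEquiv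
    (AddCommGrpCat.of (ULift ℤ)) G) (AddCommGrpCat.uliftZMultiplesAddEquiv _)
  let eD := fun G => AddEquiv.trans ((constantSheafAdj (EtFppf.J S) AddCommGrpCat.{u + 1} hD).homAddEquiv
    (AddCommGrpCat.of (ULift ℤ)) G) (AddCommGrpCat.uliftZMultiplesAddEquiv _)
  refine nonempty_ext_equiv_of_class (EtFppf.aPush S) Acyc aPush_step
    (fun I hI => haveI := hI; injective_resEt Scheme.fppfPrecoverage S I) _ _
    (fun G => (eC _).trans (eD G).symm) ?_ p _ (acyc_piF F)
  intro G G' g x
  apply (eD G').injective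
  have hCg : eC _ (x ≫ (EtFppf.aPush S).map g) =
      g.hom.app (op ((EtFppf.a S).obj (EtCoh.top S))) (eC _ x) := by
    simp only [eC, AddEquiv.trans_apply]; rfl
  have hDg : ∀ y : _ ⟶ G, eD G' (y ≫ g) = g.hom.app (op ((EtFppf.a S).obj (EtCoh.top S))) (eD G y) := fun y => by
    simp only [eD, AddEquiv.trans_apply]; rfl
  exact ((eD G').apply_symm_apply _).trans (hCg.trans
    ((congrArg (g.hom.app (op ((EtFppf.a S).obj (EtCoh.top S)))) ((eD G).apply_symm_apply _)).symm.trans (hDg _).symm))

variable {T : Scheme.{u}} (f : T ⟶ S) [IsFinite f]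

/-- Direct image along a finite morphism is exact on acyclic sheaves. -/
theorem pushBig_step (X : ShortComplex (EtFppf.AbF T)) (hX : X.ShortExact) (hI : Injective X.X₂)
    (h : Acyc X.X₁) : Epi ((EtFppf.pushBig f).map X.g) ∧ Acyc X.X₃ := by
  haveI := hI
  obtain ⟨h1, h2⟩ := acyc_step hX h
  haveI := h1
  have hs := isLocallySurjective_pushBig f ((toEt T).map X.g)
  haveI : Sheaf.IsLocallySurjective ((EtFppf.pushBig f).map X.g) :=
    ⟨fun {U} s => BigSite.J_mono BigSite.etalePrecoverage_le_fppfPrecoverage S _ (hs.imageSieve_mem s)⟩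
  exact ⟨inferInstance, h2⟩

/-- Higher direct images along finite morphisms of inverse images vanish. -/
theorem isZero_RpushBig_piF (F : EtCoh.Ab T) (n : ℕ) :
    IsZero ((EtFppf.RpushBig f (n + 1)).obj ((piF T).obj F)) := by
  haveI : (EtFppf.pushBig f).IsRightAdjoint :=
    (BigSite.bigAdj Scheme.fppfPrecoverage f AddCommGrpCat.{u + 1}).isRightAdjoint
  exact isZero_rightDerived_of_class (EtFppf.pushBig f) Acyc (pushBig_step f) _ (acyc_piF F) n

end Fppf

end Groth.Agent.BigSiteLib
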