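import Groth.Prelude.Def_BigSite
import Groth.Agent.EtStalk.Sheaf
import Mathlib.AlgebraicGeometry.Sites.EtalePoint
import Mathlib.CategoryTheory.Sites.Point.Basic

/-!
Sections of the inverse image of an étale sheaf on the big étale site: they are étale locally pulled back
from the small site, and are detected by geometric points.
-/

set_option autoImplicit false
set_option backward.isDefEq.respectTransparency false
set_option backward.defeqAttrib.useBackward true
universe u

noncomputable section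

namespace Groth.Agent.BigSiteLib

open CategoryTheory Limits Opposite AlgebraicGeometry

variable {S : Scheme.{u}} (F : EtCoh.Ab S)

/-- The inverse image on the big étale site. -/
abbrev Pi : BigSite.Ab Scheme.etalePrecoverage S := (BigSite.piEtPull Scheme.etalePrecoverage S).obj F

/-- Restriction of sections. -/
abbrev rs {T T' : Over S} (g : T' ⟶ T) : (Pi F).obj.obj (op T) →+ (Pi F).obj.obj (op T') :=
  ((Pi F).obj.map g.op).hom

lemma rs_rs {T T' T'' : Over S} (g : T' ⟶ T) (h : T'' ⟶ T') (x : (Pi F).obj.obj (op T)) :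
    rs F h (rs F g x) = rs F (h ≫ g) x := by
  change (Pi F).obj.map h.op ((Pi F).obj.map g.op x) = (Pi F).obj.map (h ≫ g).op x
  rw [op_comp, Functor.map_comp]; rfl

lemma rs_id {T : Over S} (x : (Pi F).obj.obj (op T)) : rs F (𝟙 T) x = x := by
  change (Pi F).obj.map (𝟙 T).op x = x
  rw [op_id, CategoryTheory.Functor.map_id]; rfl

/-- The canonical section. -/
def eta (V : S.Etale) (σ : F.obj.obj (op V)) : (Pi F).obj.obj (op ((EtFppf.a S).obj V)) :=
  ((BigSite.piEtAdj Scheme.etalePrecoverage S).unit.app F).hom.app (op V) σ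

lemma rs_eta {V W : S.Etale} (g : W ⟶ V) (σ : F.obj.obj (op V)) :
    rs F ((EtFppf.a S).map g) (eta F V σ) = eta F W (F.obj.map g.op σ) :=
  (ConcreteCategory.congr_hom
    (((BigSite.piEtAdj Scheme.etalePrecoverage S).unit.app F).hom.naturality g.op) σ).symm

lemma eta_zero (V : S.Etale) : eta F V 0 = 0 := map_zero _

lemma eta_add (V : S.Etale) (a b : F.obj.obj (op V)) : eta F V (a + b) = eta F V a + eta F V b := map_add _ a b

lemma eta_neg (V : S.Etale) (a : F.obj.obj (op V)) : eta F V (-a) = -eta F V a := map_neg _ a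

/-- A section pulled back from the small site. -/
def Basic {T : Over S} (x : (Pi F).obj.obj (op T)) : Prop :=
  ∃ (V : S.Etale) (h : T ⟶ (EtFppf.a S).obj V) (σ : F.obj.obj (op V)), rs F h (eta F V σ) = x

variable {F}

lemma Basic.rs {T T' : Over S} {x : (Pi F).obj.obj (op T)} (hx : Basic F x) (g : T' ⟶ T) :
    Basic F (rs F g x) := by
  obtain ⟨V, h, σ, rfl⟩ := hx
  exact ⟨V, g ≫ h, σ, (rs_rs F h g _).symm⟩

lemma Basic.neg {T : Over S} {x : (Pi F).obj.obj (op T)} (hx : Basic F x) : Basic F (-x) := by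
  obtain ⟨V, h, σ, rfl⟩ := hx
  exact ⟨V, h, -σ, by rw [eta_neg, map_neg]⟩

lemma Basic.zero (T : Over S) : Basic F (0 : (Pi F).obj.obj (op T)) :=
  ⟨EtCoh.top S, Over.homMk T.hom (Category.comp_id _), 0, by rw [eta_zero, map_zero]⟩

/-- The fibre product in the small site. -/
def prodEt (V W : S.Etale) : S.Etale :=
  haveI : Etale V.hom := V.prop
  haveI : Etale W.hom := W.prop
  Scheme.Etale.mk (pullback.fst V.hom W.hom ≫ V.hom)

lemma Basic.add {T : Over S} {x y : (Pi F).obj.obj (op T)} (hx : Basic F x) (hy : Basic F y) :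
    Basic F (x + y) := by
  obtain ⟨V, h, σ, rfl⟩ := hx
  obtain ⟨W, k, τ, rfl⟩ := hy
  let p : prodEt V W ⟶ V := MorphismProperty.Over.homMk (pullback.fst V.hom W.hom) rfl trivial
  let q : prodEt V W ⟶ W :=
    MorphismProperty.Over.homMk (pullback.snd V.hom W.hom) pullback.condition.symm trivial
  let l : T ⟶ (EtFppf.a S).obj (prodEt V W) :=
    Over.homMk (pullback.lift h.left k.left ((Over.w h).trans (Over.w k).symm)) (by
      change pullback.lift _ _ _ ≫ pullback.fst V.hom W.hom ≫ V.hom = T.hom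
      rw [pullback.lift_fst_assoc]
      exact Over.w h)
  have hp : l ≫ (EtFppf.a S).map p = h := Over.OverMorphism.ext (pullback.lift_fst _ _ _)
  have hq : l ≫ (EtFppf.a S).map q = k := Over.OverMorphism.ext (pullback.lift_snd _ _ _)
  refine ⟨prodEt V W, l, F.obj.map p.op σ + F.obj.map q.op τ, ?_⟩
  rw [eta_add, map_add, ← rs_eta, ← rs_eta, rs_rs, rs_rs, hp, hq]

variable (F)

/-- Sections that are locally basic. -/
def gen (T : Over S) : AddSubgroup ((Pi F).obj.obj (op T)) where
  carrier := {x | ∃ R ∈ QuotSh.J Scheme.etalePrecoverage S T, ∀ ⦃T' : Over S⦄ (g : T' ⟶ T),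
    R.arrows g → Basic F (rs F g x)}
  zero_mem' := ⟨⊤, GrothendieckTopology.top_mem _ _, fun T' g _ => by rw [map_zero]; exact Basic.zero T'⟩
  add_mem' := by
    rintro x y ⟨R, hR, hx⟩ ⟨R', hR', hy⟩
    exact ⟨R ⊓ R', GrothendieckTopology.intersection_covering _ hR hR', fun T' g hg => by
      rw [map_add]; exact (hx g hg.1).add (hy g hg.2)⟩
  neg_mem' := by
    rintro x ⟨R, hR, hx⟩
    exact ⟨R, hR, fun T' g hg => by rw [map_neg]; exact (hx g hg).neg⟩

lemma gen_rs {T T' : Over S} (g : T' ⟶ T) {x : (Pi F).obj.obj (op T)} (hx : x ∈ gen F T) :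
    rs F g x ∈ gen F T' := by
  obtain ⟨R, hR, hx⟩ := hx
  exact ⟨R.pullback g, GrothendieckTopology.pullback_stable _ g hR, fun T'' h hh => by
    rw [rs_rs]; exact hx (h ≫ g) hh⟩

lemma gen_local {T : Over S} {x : (Pi F).obj.obj (op T)} {R : Sieve T}
    (hR : R ∈ QuotSh.J Scheme.etalePrecoverage S T) (hx : ∀ ⦃T' : Over S⦄ (g : T' ⟶ T), R.arrows g → rs F g x ∈ gen F T') :
    x ∈ gen F T := by
  choose R' hR' hb using hx
  refine ⟨Sieve.bind R.arrows (fun Y f hf => R' f hf), GrothendieckTopology.bind_covering _ hR fun Y f hf => hR' f hf, ?_⟩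
  rintro T' _ ⟨Y, a, f, hf, ha, rfl⟩
  rw [← rs_rs]
  exact hb f hf a ha

/-- The presheaf of locally basic sections. -/
def genPre : (Over S)ᵒᵖ ⥤ AddCommGrpCat.{u + 1} where
  obj T := AddCommGrpCat.of (gen F T.unop)
  map {T T'} g := AddCommGrpCat.ofHom
    (AddMonoidHom.codRestrict ((rs F g.unop).comp (gen F T.unop).subtype) (gen F T'.unop)
      fun x => gen_rs F g.unop x.2)
  map_id T := by
    ext x
    exact rs_id F _
  map_comp {T T' T''} f g := by
    ext x
    exact (rs_rs F f.unop g.unop _).symm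

lemma genPre_isSheaf : Presheaf.IsSheaf (QuotSh.J Scheme.etalePrecoverage S) (genPre F) := by
  rw [Presheaf.isSheaf_iff_isSheaf_forget _ _ (forget AddCommGrpCat.{u + 1}), isSheaf_iff_isSheaf_of_type]
  intro T R hR x hx
  have hP := (isSheaf_iff_isSheaf_of_type _ _).mp
    ((Presheaf.isSheaf_iff_isSheaf_forget _ _ (forget AddCommGrpCat.{u + 1})).mp (Pi F).property) R hR
  let x' : Presieve.FamilyOfElements ((Pi F).obj ⋙ forget AddCommGrpCat.{u + 1}) R.arrows :=
    fun Y f hf => (x f hf).1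
  have hx' : x'.Compatible := fun Y Y' Z g g' f f' hf hf' e => congrArg Subtype.val (hx g g' hf hf' e)
  obtain ⟨s, hs, hsu⟩ := hP x' hx'
  have hs' : s ∈ gen F T := gen_local F hR fun T' g hg => by
    have := hs g hg
    change rs F g s = (x g hg).1 at this
    rw [this]
    exact (x g hg).2
  refine ⟨⟨s, hs'⟩, fun Y f hf => Subtype.ext (hs f hf), fun t ht => Subtype.ext ?_⟩
  exact hsu t.1 fun Y f hf => congrArg Subtype.val (ht f hf)

/-- Every section is étale locally pulled back from the small site. -/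
theorem mem_gen {T : Over S} (x : (Pi F).obj.obj (op T)) : x ∈ gen F T := by
  let Q : BigSite.Ab Scheme.etalePrecoverage S := ⟨genPre F, genPre_isSheaf F⟩
  let i : Q ⟶ Pi F := ⟨{ app := fun T => AddCommGrpCat.ofHom (gen F T.unop).subtype }⟩
  have hmem : ∀ (V : S.Etale) (σ : F.obj.obj (op V)), eta F V σ ∈ gen F ((EtFppf.a S).obj V) := fun V σ =>
    ⟨⊤, GrothendieckTopology.top_mem _ _, fun T' g _ => ⟨V, g, σ, rfl⟩⟩
  let η' : F ⟶ (BigSite.resEt Scheme.etalePrecoverage S).obj Q :=
    ⟨{ app := fun V => AddCommGrpCat.ofHom (AddMonoidHom.codRestrict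
          (((BigSite.piEtAdj Scheme.etalePrecoverage S).unit.app F).hom.app V).hom
          (gen F ((EtFppf.a S).obj V.unop)) fun σ => hmem V.unop σ)
       naturality := fun V W g => by
        ext σ
        apply Subtype.ext
        exact (rs_eta F g.unop σ).symm }⟩
  let A := BigSite.piEtAdj Scheme.etalePrecoverage S
  let j : Pi F ⟶ Q := (A.homEquiv F Q).symm η'
  have h : j ≫ i = 𝟙 (Pi F) := by
    apply (A.homEquiv F (Pi F)).injective
    rw [A.homEquiv_naturality_right, Equiv.apply_symm_apply, A.homEquiv_id]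
    rfl
  have := congrArg (fun q : Pi F ⟶ Pi F => q.hom.app (op T) x) h
  change (j.hom.app (op T) x).1 = x at this
  rw [← this]
  exact (j.hom.app (op T) x).2

/-- Étale neighbourhoods give coverings. -/
lemma mem_J_of_nhds {T : Over S} (R : Sieve T)
    (h : ∀ z : T.left, ∃ (T' : Over S) (g : T' ⟶ T), R.arrows g ∧ Etale g.left ∧ ∃ y, g.left y = z) :
    R ∈ QuotSh.J Scheme.etalePrecoverage S T := by
  rw [GrothendieckTopology.mem_over_iff]
  change Sieve.overEquiv T R ∈ Scheme.grothendieckTopology @Etale T.left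
  choose T' g hg het y hy using h
  rw [Scheme.mem_grothendieckTopology_iff]
  refine ⟨Scheme.Cover.mkOfCovers T.left (fun z => (T' z).left) (fun z => (g z).left)
    (fun z => ⟨z, y z, hy z⟩) (fun z => het z), ?_⟩
  rintro _ _ ⟨z⟩
  exact ⟨T' z, g z, 𝟙 _, hg z, (Category.id_comp _).symm⟩

/-- Geometric points lift along covering sieves. -/
lemma exists_etale_lift {T : Over S} {R : Sieve T} (hR : R ∈ QuotSh.J Scheme.etalePrecoverage S T)
    {Ω : Type u} [Field Ω] [IsSepClosed Ω] (t : Spec (CommRingCat.of Ω) ⟶ T.left) :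
    ∃ (T' : Over S) (g : T' ⟶ T), R.arrows g ∧ Etale g.left ∧
      ∃ l : Spec (CommRingCat.of Ω) ⟶ T'.left, l ≫ g.left = t := by
  rw [GrothendieckTopology.mem_over_iff] at hR
  change Sieve.overEquiv T R ∈ Scheme.grothendieckTopology @Etale T.left at hR
  rw [Scheme.mem_grothendieckTopology_iff] at hR
  obtain ⟨𝒰, hle⟩ := hR
  obtain ⟨i, y, hy⟩ := 𝒰.exists_eq (t default)
  haveI : Etale (𝒰.f i) := 𝒰.map_prop i
  obtain ⟨l, hl, -⟩ := Scheme.exists_fac_of_etale_of_isSepClosed (𝒰.f i) t y hy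
  exact ⟨Over.mk (𝒰.f i ≫ T.hom), Over.homMk (𝒰.f i), (Sieve.overEquiv_iff R _).mp (hle _ _ ⟨i⟩),
    ‹Etale (𝒰.f i)›, l, hl⟩

/-- Sections over a geometric point come from an étale neighbourhood in the small site. -/
lemma basic_of_geom {Ω : Type u} [Field Ω] [IsSepClosed Ω] (s : Spec (CommRingCat.of Ω) ⟶ S)
    (a : (Pi F).obj.obj (op (Over.mk s))) : Basic F a := by
  obtain ⟨R, hR, hb⟩ := mem_gen F a
  obtain ⟨T', g, hg, -, l, hl⟩ := exists_etale_lift hR (𝟙 _)
  let l' : Over.mk s ⟶ T' := Over.homMk l (by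
    rw [← Over.w g, ← Category.assoc, hl]
    exact Category.id_comp _)
  have e : l' ≫ g = 𝟙 _ := Over.OverMorphism.ext hl
  have := (hb g hg).rs l'
  rwa [rs_rs, e, rs_id] at this

section Sky

variable {Ω : Type u} [Field Ω] [IsSepClosed Ω] (s : Spec (CommRingCat.of Ω) ⟶ S)

/-- Functions on geometric points with values in the stalk. -/
def skyPre : (Over S)ᵒᵖ ⥤ AddCommGrpCat.{u + 1} where
  obj T := AddCommGrpCat.of ((Over.mk s ⟶ T.unop) → ↥((Scheme.pointSmallEtale s).presheafFiber.obj F.obj))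
  map {T T'} g := AddCommGrpCat.ofHom
    { toFun := fun f t => f (t ≫ g.unop)
      map_zero' := rfl
      map_add' := fun _ _ => rfl }
  map_id T := by
    ext f t
    exact congrArg f (Category.comp_id t)
  map_comp {T T' T''} g h := by
    ext f t
    exact congrArg f (Category.assoc t h.unop g.unop).symm

lemma skyPre_isSheaf : Presheaf.IsSheaf (QuotSh.J Scheme.etalePrecoverage S) (skyPre F s) := by
  rw [Presheaf.isSheaf_iff_isSheaf_forget _ _ (forget AddCommGrpCat.{u + 1}), isSheaf_iff_isSheaf_of_type]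
  intro T R hR x hx
  have lift : ∀ t : Over.mk s ⟶ T, ∃ (T' : Over S) (g : T' ⟶ T) (hg : R.arrows g) (l : Over.mk s ⟶ T'),
      l ≫ g = t := fun t => by
    obtain ⟨T', g, hg, -, l, hl⟩ := exists_etale_lift hR t.left
    exact ⟨T', g, hg, Over.homMk l (by rw [← Over.w g, ← Category.assoc, hl]; exact Over.w t),
      Over.OverMorphism.ext hl⟩
  choose T' g hg l hl using lift
  refine ⟨fun t => x (g t) (hg t) (l t), fun Y f hf => ?_, fun f' hf' => ?_⟩
  · funext t
    have := congrFun (hx (l (t ≫ f)) t (hg (t ≫ f)) hf (hl (t ≫ f))) (𝟙 (Over.mk s))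
    change x (g (t ≫ f)) (hg (t ≫ f)) (l (t ≫ f)) = x f hf t
    change x (g (t ≫ f)) (hg (t ≫ f)) (𝟙 _ ≫ l (t ≫ f)) = x f hf (𝟙 _ ≫ t) at this
    rwa [Category.id_comp, Category.id_comp] at this
  · funext t
    have := congrFun (hf' (g t) (hg t)) (l t)
    change f' (l t ≫ g t) = x (g t) (hg t) (l t) at this
    rwa [hl] at this

/-- The skyscraper sheaf on the big site. -/
def sky : BigSite.Ab Scheme.etalePrecoverage S := ⟨skyPre F s, skyPre_isSheaf F s⟩

/-- Germs. -/
def toSky : F ⟶ (BigSite.resEt Scheme.etalePrecoverage S).obj (sky F s) :=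
  ⟨{ app := fun V => AddCommGrpCat.ofHom
      { toFun := fun σ v => (Scheme.pointSmallEtale s).toPresheafFiber V.unop v F.obj σ
        map_zero' := funext fun v => map_zero _
        map_add' := fun a b => funext fun v => map_add _ a b }
     naturality := fun V W g => by
      ext σ
      funext v
      exact ConcreteCategory.congr_hom ((Scheme.pointSmallEtale s).toPresheafFiber_w g.unop v F.obj) σ }⟩

/-- A section vanishing at a geometric point vanishes on an étale neighbourhood. -/
theorem exists_nbhd_of_eta_eq_zero (V : S.Etale) (σ : F.obj.obj (op V))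
    (v : Over.mk s ⟶ (EtFppf.a S).obj V) (h : rs F v (eta F V σ) = 0) :
    ∃ (W : S.Etale) (g : W ⟶ V) (w : Over.mk s ⟶ (EtFppf.a S).obj W),
      w ≫ (EtFppf.a S).map g = v ∧ F.obj.map g.op σ = 0 := by
  let A := BigSite.piEtAdj Scheme.etalePrecoverage S
  let ψ : Pi F ⟶ sky F s := (A.homEquiv F (sky F s)).symm (toSky F s)
  have hψ : A.unit.app F ≫ (BigSite.resEt Scheme.etalePrecoverage S).map ψ = toSky F s := by
    exact (A.homEquiv_unit F (sky F s) ψ).symm.trans (Equiv.apply_symm_apply _ _)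
  have h1 : ψ.hom.app (op (Over.mk s)) (rs F v (eta F V σ)) (𝟙 _) =
      (Scheme.pointSmallEtale s).toPresheafFiber V v F.obj σ := by
    have n := congrFun (ConcreteCategory.congr_hom (ψ.hom.naturality v.op) (eta F V σ)) (𝟙 (Over.mk s))
    refine n.trans ?_
    have e := congrFun (congrArg (fun q : F ⟶ (BigSite.resEt Scheme.etalePrecoverage S).obj (sky F s) =>
      q.hom.app (op V) σ) hψ) v
    refine Eq.trans ?_ e
    exact congrArg (ψ.hom.app (op ((EtFppf.a S).obj V)) (eta F V σ)) (Category.id_comp v)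
  rw [h, map_zero] at h1
  obtain ⟨W, g, y, hy, h2⟩ := (GrothendieckTopology.Point.toPresheafFiber_eq_iff'
    (P := F.obj) (Scheme.pointSmallEtale s) V v σ 0).mp (h1.symm.trans (map_zero _).symm)
  exact ⟨W, g, y, hy, h2.trans (map_zero _)⟩

end Sky

/-- The point of the spectrum of a field. -/
abbrev cpt (Ω : Type u) [Field Ω] : Spec (CommRingCat.of Ω) := default

/-- The open locus where a section vanishes. -/
def zeroLocus {T : Over S} (x : (Pi F).obj.obj (op T)) : Set T.left :=
  {z | ∃ (T' : Over S) (g : T' ⟶ T), Etale g.left ∧ z ∈ Set.range g.left ∧ rs F g x = 0}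

lemma isOpen_zeroLocus {T : Over S} (x : (Pi F).obj.obj (op T)) : IsOpen (zeroLocus F x) := by
  rw [isOpen_iff_forall_mem_open]
  rintro z ⟨T', g, hg, hz, hx⟩
  haveI := hg
  exact ⟨Set.range g.left, fun w hw => ⟨T', g, hg, hw, hx⟩, g.left.isOpenMap.isOpen_range, hz⟩

/-- A section vanishing at a geometric point vanishes near it. -/
lemma mem_zeroLocus {T : Over S} {x : (Pi F).obj.obj (op T)} {Ω : Type u} [Field Ω] [IsSepClosed Ω]
    {s : Spec (CommRingCat.of Ω) ⟶ S} (t : Over.mk s ⟶ T) (h : rs F t x = 0) :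
    t.left (cpt Ω) ∈ zeroLocus F x := by
  obtain ⟨R, hR, hb⟩ := mem_gen F x
  obtain ⟨T', g, hg, het, l, hl⟩ := exists_etale_lift hR t.left
  let l' : Over.mk s ⟶ T' := Over.homMk l (by rw [← Over.w g, ← Category.assoc, hl]; exact Over.w t)
  have el : l' ≫ g = t := Over.OverMorphism.ext hl
  obtain ⟨V, k, σ, hσ⟩ := hb g hg
  have hv : rs F (l' ≫ k) (eta F V σ) = 0 := by rw [← rs_rs, hσ, rs_rs, el, h]
  obtain ⟨W, p, w, hw, h0⟩ := exists_nbhd_of_eta_eq_zero F s V σ (l' ≫ k) hv
  haveI : Etale V.hom := V.prop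
  haveI : Etale W.hom := W.prop
  haveI : Etale (p.left ≫ V.hom) := by rw [MorphismProperty.Over.w]; exact W.prop
  haveI : Etale p.left := Etale.of_comp p.left V.hom
  let T'' : Over S := Over.mk (pullback.fst k.left p.left ≫ T'.hom)
  let a : T'' ⟶ T' := Over.homMk (pullback.fst k.left p.left)
  let b : T'' ⟶ (EtFppf.a S).obj W := Over.homMk (pullback.snd k.left p.left) (by
    change pullback.snd k.left p.left ≫ W.hom = pullback.fst k.left p.left ≫ T'.hom
    rw [← MorphismProperty.Over.w p, ← pullback.condition_assoc]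
    exact congrArg (pullback.fst k.left p.left ≫ ·) (Over.w k))
  have eab : a ≫ k = b ≫ (EtFppf.a S).map p := Over.OverMorphism.ext pullback.condition
  haveI := het
  refine ⟨T'', a ≫ g, inferInstanceAs (Etale (pullback.fst k.left p.left ≫ g.left)),
    ⟨pullback.lift l'.left w.left (congrArg (fun q => q.left) hw).symm (cpt Ω), ?_⟩, ?_⟩
  · change (pullback.fst k.left p.left ≫ g.left) (pullback.lift l'.left w.left _ (cpt Ω)) = t.left (cpt Ω)
    rw [← Scheme.Hom.comp_apply, pullback.lift_fst_assoc]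
    exact congr($hl (cpt Ω))
  · rw [← rs_rs, ← hσ, rs_rs, eab, ← rs_rs, rs_eta, h0, eta_zero, map_zero]

/-- A section with full zero locus vanishes. -/
lemma eq_zero_of_zeroLocus {T : Over S} {x : (Pi F).obj.obj (op T)} (h : zeroLocus F x = Set.univ) : x = 0 := by
  let R : Sieve T :=
    { arrows := fun T' g => rs F g x = 0
      downward_closed := fun {Y Z f} hf g => by rw [← rs_rs, hf, map_zero] }
  have hR : R ∈ QuotSh.J Scheme.etalePrecoverage S T := mem_J_of_nhds R fun z => by
    obtain ⟨T', g, hg, hz, hx⟩ : z ∈ zeroLocus F x := by rw [h]; trivial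
    exact ⟨T', g, hx, hg, hz⟩
  have hP := (isSheaf_iff_isSheaf_of_type _ _).mp
    ((Presheaf.isSheaf_iff_isSheaf_forget _ _ (forget AddCommGrpCat.{u + 1})).mp (Pi F).property) R hR
  refine hP.isSeparatedFor.ext fun T' g hg => ?_
  change rs F g x = rs F g 0
  rw [map_zero]
  exact hg

/-- Vanishing at a geometric point only depends on its image. -/
lemma rs_eq_zero_of_mem {T : Over S} {x : (Pi F).obj.obj (op T)} {Ω : Type u} [Field Ω] [IsSepClosed Ω]
    {s : Spec (CommRingCat.of Ω) ⟶ S} (t : Over.mk s ⟶ T) (h : t.left (cpt Ω) ∈ zeroLocus F x) :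
    rs F t x = 0 := by
  obtain ⟨T', g, hg, ⟨y, hy⟩, hx⟩ := h
  haveI := hg
  obtain ⟨l, hl, -⟩ := Scheme.exists_fac_of_etale_of_isSepClosed g.left t.left y hy
  let l' : Over.mk s ⟶ T' := Over.homMk l (by rw [← Over.w g, ← Category.assoc, hl]; exact Over.w t)
  have e : l' ≫ g = t := Over.OverMorphism.ext hl
  rw [← e, ← rs_rs, hx, map_zero]

/-- Every point is the image of a geometric point. -/
lemma exists_geom {T : Over S} (z : T.left) : ∃ (Ω : Type u) (_ : Field Ω) (_ : IsSepClosed Ω)
    (s : Spec (CommRingCat.of Ω) ⟶ S) (t : Over.mk s ⟶ T), t.left (cpt Ω) = z := by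
  let η : Spec (CommRingCat.of (SeparableClosure (T.left.residueField z))) ⟶ T.left :=
    Spec.map (CommRingCat.ofHom (algebraMap (T.left.residueField z) (SeparableClosure (T.left.residueField z)))) ≫
      T.left.fromSpecResidueField z
  refine ⟨SeparableClosure (T.left.residueField z), inferInstance, inferInstance, η ≫ T.hom, Over.homMk η, ?_⟩
  change η (cpt _) = z
  exact (Scheme.Hom.comp_apply _ _ _).trans (Scheme.fromSpecResidueField_apply _ _)

end Groth.Agent.BigSiteLib
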