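import Groth.Agent.BigSiteLib.AcyclicDerived

/-!
Fppf and étale cohomology of inverse images.
-/

set_option autoImplicit false
set_option linter.style.haveILetI false
set_option backward.isDefEq.respectTransparency false
set_option backward.defeqAttrib.useBackward true
universe u

noncomputable section

namespace Groth.Agent.BigSiteLib

open CategoryTheory Limits Opposite AlgebraicGeometry

variable {S T : Scheme.{u}}

/-- Restricting an inverse image gives back the sheaf. -/
def piFRestrictIso (S : Scheme.{u}) [EtFppf.ACont S] : 𝟭 (EtCoh.Ab S) ≅ piF S ⋙ EtFppf.aPush S :=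
  haveI : ∀ F, IsIso ((BigSite.piEtAdj Scheme.etalePrecoverage S).unit.app F) := fun F =>
    isIso_unit_sheafPullback S.smallEtaleTopology (QuotSh.J Scheme.etalePrecoverage S) (EtFppf.a S)
      AddCommGrpCat.{u + 1} F
  NatIso.ofComponents (fun F => asIso ((BigSite.piEtAdj Scheme.etalePrecoverage S).unit.app F))
    (fun {F G} φ => (BigSite.piEtAdj Scheme.etalePrecoverage S).unit.naturality φ)

theorem isIso_aAdj_unit [EtFppf.ACont S] (F : EtCoh.Ab S) : IsIso ((EtFppf.aAdj S).unit.app F) := by
  haveI := (EtFppf.aAdj S).isIso_unit_of_iso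
    (Functor.isoWhiskerRight (piFIso S) (EtFppf.aPush S) ≪≫ (piFRestrictIso S).symm)
  infer_instance

/-- Direct images along finite morphisms commute with inverse images on the fppf sites. -/
theorem nonempty_piF_push (f : T ⟶ S) [IsFinite f] (F : EtCoh.Ab T) :
    Nonempty ((piF S).obj ((EtCoh.push f).obj F) ≅ (EtFppf.pushBig f).obj ((piF T).obj F)) := by
  haveI := isIso_theta (f := f) (G := F) geomFibreGen_of_isFinite
  let j := (sheafToPresheaf (QuotSh.J Scheme.etalePrecoverage S) AddCommGrpCat.{u + 1}).mapIso (asIso (theta f F))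
  exact ⟨(fullyFaithfulSheafToPresheaf (EtFppf.J S) AddCommGrpCat.{u + 1}).preimageIso
    (X := (piF S).obj ((EtCoh.push f).obj F)) (Y := (EtFppf.pushBig f).obj ((piF T).obj F)) j⟩

end Groth.Agent.BigSiteLib
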