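import Groth.Agent.BigSiteLib.PiPush
import Groth.Agent.ShriekH0c.Fibre
import Mathlib

/-!
Inverse images on big etale sites commute with direct images along proper morphisms.
-/

set_option autoImplicit false
set_option backward.isDefEq.respectTransparency false
set_option backward.isDefEq.respectTransparency.types false
set_option backward.defeqAttrib.useBackward true
set_option linter.style.haveILetI false
set_option maxHeartbeats 1000000
universe u

noncomputable section

namespace Groth.Agent.BigSiteLib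

open CategoryTheory Limits Opposite AlgebraicGeometry

variable {T S : Scheme.{u}} (f : T ⟶ S)

/-- the counit of the base change of over categories at an etale object -/
abbrev ctr (V : S.Etale) : (Over.map f).obj ((EtFppf.a T).obj ((EtCoh.bc f).obj V)) ⟶ (EtFppf.a S).obj V :=
  Over.homMk (pullback.fst V.hom f) pullback.condition

theorem resPullIso_eta (F : EtCoh.Ab S) (V : S.Etale) (σ : F.obj.obj (op V)) :
    (resPullIso f F).hom.hom.app (op ((EtCoh.bc f).obj V)) (rs F (ctr f V) (eta F V σ)) =
      EtH0Pair.unitSec f F V σ := by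
  haveI : ∀ G, IsIso ((BigSite.piEtAdj Scheme.etalePrecoverage T).unit.app G) := fun G =>
    isIso_unit_sheafPullback T.smallEtaleTopology (QuotSh.J Scheme.etalePrecoverage T) (EtFppf.a T)
      AddCommGrpCat.{u + 1} G
  let A₁ := ((BigSite.piEtAdj Scheme.etalePrecoverage S).comp
        (BigSite.bigAdj Scheme.etalePrecoverage f AddCommGrpCat.{u + 1})).ofNatIsoRight (pushSquareIso f).symm
  let A₂ := (EtCoh.pullPushAdj f).comp (BigSite.piEtAdj Scheme.etalePrecoverage T)
  let uT := (BigSite.piEtAdj Scheme.etalePrecoverage T).unit.app ((EtCoh.pull f).obj F)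
  have h := ConcreteCategory.congr_hom
    (congrArg (fun m : F ⟶ (BigSite.resEt Scheme.etalePrecoverage T ⋙ EtCoh.push f).obj _ => m.hom.app (op V))
      (Adjunction.unit_leftAdjointUniq_hom_app A₁ A₂ F)) σ
  have h2 : (BigSite.resEt Scheme.etalePrecoverage T).map ((Adjunction.leftAdjointUniq A₁ A₂).hom.app F) ≫ inv uT =
      (resPullIso f F).hom := rfl
  rw [← h2]
  refine (congrArg ((inv uT).hom.app (op ((EtCoh.bc f).obj V))) (Eq.trans ?_ h)).trans ?_
  · change ((Adjunction.leftAdjointUniq A₁ A₂).hom.app F).hom.app (op ((EtFppf.a T).obj ((EtCoh.bc f).obj V))) _ =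
      ((Adjunction.leftAdjointUniq A₁ A₂).hom.app F).hom.app (op ((EtFppf.a T).obj ((EtCoh.bc f).obj V))) _
    refine congrArg _ ?_
    symm
    rw [Adjunction.comp_unit_app]
    simp [pushSquareIso, BigSite.bigAdj]
    refine (congrArg (fun m => (((BigSite.piEtPull Scheme.etalePrecoverage S).obj F).obj.map
      (Quiver.Hom.op m)).hom' _) ((Over.map f).map_id ((Over.pullback f).obj V.toComma))).trans ?_
    exact ConcreteCategory.congr_hom
      (((BigSite.piEtPull Scheme.etalePrecoverage S).obj F).obj.map_id _) _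
  · change (inv uT).hom.app _ (uT.hom.app _ _) = _
    rw [← ConcreteCategory.comp_apply]
    exact ConcreteCategory.congr_hom
      (congrArg (fun m : (EtCoh.pull f).obj F ⟶ _ => m.hom.app (op ((EtCoh.bc f).obj V))) (IsIso.hom_inv_id uT)) _

/-- sections pulled back from the small site, in the small site of the object -/
theorem piSectIso_eta {S : Scheme.{u}} (F : EtCoh.Ab S) (U : Over S) (V : S.Etale) (h : U ⟶ (EtFppf.a S).obj V)
    (δ : EtCoh.top U.left ⟶ (EtCoh.bc U.hom).obj V) (hδ : δ.left ≫ pullback.fst V.hom U.hom = h.left)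
    (σ : F.obj.obj (op V)) :
    (piSectIso F U).hom (rs F h (eta F V σ)) = ShriekH0c.res U.hom F δ σ := by
  let k : (Over.map U.hom).obj ((EtFppf.a U.left).obj (EtCoh.top U.left)) ≅ U :=
    Over.isoMk (Iso.refl _) (by change 𝟙 _ ≫ U.hom = 𝟙 _ ≫ U.hom; rfl)
  change (resPullIso U.hom F).hom.hom.app (op (EtCoh.top U.left)) (rs F k.hom (rs F h (eta F V σ))) = _
  rw [rs_rs]
  have e : k.hom ≫ h = (Over.map U.hom).map ((EtFppf.a U.left).map δ) ≫ ctr U.hom V :=
    Over.OverMorphism.ext ((Category.id_comp _).trans hδ.symm)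
  rw [e, ← rs_rs]
  refine (NatTrans.naturality_apply (resPullIso U.hom F).hom.hom δ.op (rs F (ctr U.hom V) (eta F V σ))).trans ?_
  exact congrArg _ (resPullIso_eta U.hom F V σ)

variable {f}

/-- Proper morphisms: sections over a geometric fibre come from étale neighbourhoods. -/
theorem geomFibreGen_of_isProper [IsProper f] (G : EtCoh.Ab T) : GeomFibreGen f G := by
  intro Ω _ _ s a
  let U : Over T := Over.mk (pullback.fst f s)
  let e : U ⟶ (Over.pullback f).obj (Over.mk s) :=
    Over.homMk (pullbackSymmetry f s).hom (pullbackSymmetry_hom_comp_snd f s)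
  let e' : (Over.pullback f).obj (Over.mk s) ⟶ U :=
    Over.homMk (pullbackSymmetry f s).inv (pullbackSymmetry_inv_comp_fst f s)
  obtain ⟨V, v, σ, hσ⟩ := ShriekH0c.exists_ρ_eq f s G ((piSectIso G U).hom (rs G e a))
  let h : U ⟶ (EtFppf.a T).obj ((EtCoh.bc f).obj V) := Over.homMk (ShriekH0c.fib f s v) (ShriekH0c.fib_snd f s v)
  have h1 : rs G h (eta G ((EtCoh.bc f).obj V) σ) = rs G e a := by
    apply (ConcreteCategory.bijective_of_isIso (piSectIso G U).hom).1
    rw [piSectIso_eta G U _ h (ShriekH0c.δF f s v) (EtShLib.mkδ_fst _ _ _)]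
    exact hσ
  refine ⟨V, v, σ, ?_⟩
  have h2 := congrArg (rs G e') h1
  rw [rs_rs, rs_rs, show e' ≫ e = 𝟙 _ from Over.OverMorphism.ext (pullbackSymmetry f s).inv_hom_id, rs_id] at h2
  refine Eq.trans (congrArg (fun m => rs G m (eta G ((EtCoh.bc f).obj V) σ)) ?_) h2
  refine Over.OverMorphism.ext ?_
  apply pullback.hom_ext
  · refine (pullback_map_fst _).trans ?_
    refine Eq.trans ?_ (Category.assoc _ _ _).symm
    refine Eq.trans ?_ (congrArg ((pullbackSymmetry f s).inv ≫ ·) (ShriekH0c.fib_fst f s v)).symm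
    exact (congrArg (· ≫ v.left) (pullbackSymmetry_inv_comp_snd f s)).symm.trans (Category.assoc _ _ _)
  · refine (pullback.lift_snd _ _ _).trans ?_
    refine Eq.trans ?_ (Category.assoc _ _ _).symm
    refine Eq.trans ?_ (congrArg ((pullbackSymmetry f s).inv ≫ ·) (ShriekH0c.fib_snd f s v)).symm
    exact (pullbackSymmetry_inv_comp_fst f s).symm

end Groth.Agent.BigSiteLib
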