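import Groth.Agent.BigSiteLib.SubmSheaf
import Groth.Agent.BigSiteLib.PiProper
import Groth.Agent.S7473
import Groth.Agent.S8976
import Mathlib

/-!
Inverse images from the small etale site to the big ph and h sites.
-/

set_option autoImplicit false
set_option backward.isDefEq.respectTransparency false
set_option backward.defeqAttrib.useBackward true
set_option linter.style.haveILetI false
universe u

noncomputable section

namespace Groth.Agent.BigSiteLib

open CategoryTheory Limits Opposite AlgebraicGeometry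

theorem etale_le_hPrecoverage : Scheme.etalePrecoverage.{u} ≤ HTop.hTopology.toPrecoverage := by
  intro T R hR
  rw [GrothendieckTopology.mem_toPrecoverage_iff]
  obtain ⟨𝒰, rfl⟩ := Precoverage.mem_iff_exists_zeroHypercover.mp hR
  haveI : ∀ i, Etale (𝒰.f i) := fun i => Scheme.Cover.map_prop 𝒰 i
  have hle : Scheme.etalePrecoverage.{u} ≤ Scheme.fpqcPrecoverage :=
    BigSite.etalePrecoverage_le_fppfPrecoverage.trans Scheme.fppfPrecoverage_le_fpqcPrecoverage
  exact Precoverage.generate_mem_toGrothendieck ((HTop.presieve₀_mem_hPrecoverage_iff _).mpr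
    ⟨fun i => inferInstance, Groth.Agent.S7473.result (𝒰.weaken hle)⟩)

theorem etale_le_phPrecoverage : Scheme.etalePrecoverage.{u} ≤ HTop.phTopology.toPrecoverage := by
  intro T R hR
  rw [GrothendieckTopology.mem_toPrecoverage_iff]
  obtain ⟨𝒰, rfl⟩ := Precoverage.mem_iff_exists_zeroHypercover.mp hR
  haveI : ∀ i, Etale (𝒰.f i) := fun i => Scheme.Cover.map_prop 𝒰 i
  have hle : Scheme.etalePrecoverage.{u} ≤ Scheme.fpqcPrecoverage :=
    BigSite.etalePrecoverage_le_fppfPrecoverage.trans Scheme.fppfPrecoverage_le_fpqcPrecoverage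
  exact Precoverage.generate_mem_toGrothendieck ((HTop.presieve₀_mem_phPrecoverage_iff _).mpr
    ((Groth.Agent.S8976.result _ fun i => inferInstance).mpr (Groth.Agent.S7473.result (𝒰.weaken hle))))

section Gen

variable (K : GrothendieckTopology Scheme.{u}) (hK : Scheme.etalePrecoverage ≤ K.toPrecoverage) (S : Scheme.{u})

/-- regarding a sheaf for a finer topology as a sheaf on the big etale site -/
def toBigEt (hK : Scheme.etalePrecoverage ≤ K.toPrecoverage) :
    Sheaf (K.over S) AddCommGrpCat.{u + 1} ⥤ BigSite.Ab Scheme.etalePrecoverage S :=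
  ObjectProperty.lift _ (sheafToPresheaf _ _) fun G A => Presieve.isSheaf_of_le _
    (fun T R hR => by
      rw [GrothendieckTopology.mem_over_iff] at hR ⊢
      exact (Precoverage.toGrothendieck_le_iff_le_toPrecoverage.mpr hK) _ hR)
    (G.property A)

variable (hPi : ∀ F : EtCoh.Ab S, Presheaf.IsSheaf (K.over S) (Pi F).obj)

/-- the inverse image as a sheaf for a finer topology -/
def piTop : EtCoh.Ab S ⥤ Sheaf (K.over S) AddCommGrpCat.{u + 1} :=
  ObjectProperty.lift _ (BigSite.piEtPull Scheme.etalePrecoverage S ⋙ sheafToPresheaf _ _) hPi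

variable [(EtFppf.a S).IsContinuous S.smallEtaleTopology (K.over S)]

/-- it is left adjoint to restriction -/
def piTopAdj (hK : Scheme.etalePrecoverage ≤ K.toPrecoverage) : piTop K S hPi ⊣
    (EtFppf.a S).sheafPushforwardContinuous AddCommGrpCat.{u + 1} S.smallEtaleTopology (K.over S) :=
  Adjunction.restrictFullyFaithful (iC := 𝟭 (EtCoh.Ab S)) (iD := toBigEt K S hK)
    (BigSite.piEtAdj Scheme.etalePrecoverage S) (Functor.FullyFaithful.id _)
    { preimage := fun {F G} φ => ⟨φ.hom⟩
      map_preimage := fun _ => rfl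
      preimage_map := fun _ => rfl }
    (NatIso.ofComponents (fun F => Iso.refl _) (by
      intro F G φ
      exact (Category.comp_id _).trans (Category.id_comp _).symm))
    (NatIso.ofComponents (fun G => Iso.refl _) (by
      intro F G φ
      exact (Category.comp_id _).trans (Category.id_comp _).symm))

include hK hPi in
theorem nonempty_sections_iso (F : EtCoh.Ab S) {X : Scheme.{u}} (f : X ⟶ S) :
    Nonempty ((((EtFppf.a S).sheafPullback AddCommGrpCat.{u + 1} S.smallEtaleTopology (K.over S)).obj F).obj.obj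
        (op (Over.mk f)) ≅ ((EtCoh.pull f).obj F).obj.obj (op (EtCoh.top X))) :=
  ⟨((sheafToPresheaf _ _).mapIso ((((EtFppf.a S).sheafAdjunctionContinuous AddCommGrpCat.{u + 1}
      S.smallEtaleTopology (K.over S)).leftAdjointUniq (piTopAdj K S hPi hK)).app F)).app (op (Over.mk f)) ≪≫
    piSectIso F (Over.mk f)⟩

end Gen

section Push

variable (K : GrothendieckTopology Scheme.{u}) (hK : Scheme.etalePrecoverage ≤ K.toPrecoverage) {X Y : Scheme.{u}}
  (f : X ⟶ Y) [(EtFppf.a X).IsContinuous X.smallEtaleTopology (K.over X)]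
  [(EtFppf.a Y).IsContinuous Y.smallEtaleTopology (K.over Y)]
  [(Over.pullback f).IsContinuous (K.over Y) (K.over X)]
  (hX : ∀ F : EtCoh.Ab X, Presheaf.IsSheaf (K.over X) (Pi F).obj)
  (hY : ∀ F : EtCoh.Ab Y, Presheaf.IsSheaf (K.over Y) (Pi F).obj)

include hK hX hY in
theorem nonempty_push_proper_iso [IsProper f] (F : EtCoh.Ab X) :
    Nonempty (((EtFppf.a Y).sheafPullback AddCommGrpCat.{u + 1} Y.smallEtaleTopology (K.over Y)).obj
        ((EtCoh.push f).obj F) ≅
      ((Over.pullback f).sheafPushforwardContinuous AddCommGrpCat.{u + 1} (K.over Y) (K.over X)).obj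
        (((EtFppf.a X).sheafPullback AddCommGrpCat.{u + 1} X.smallEtaleTopology (K.over X)).obj F)) := by
  haveI := isIso_theta (f := f) (G := F) (geomFibreGen_of_isProper F)
  let P := (Over.pullback f).sheafPushforwardContinuous AddCommGrpCat.{u + 1} (K.over Y) (K.over X)
  let iX := ((EtFppf.a X).sheafAdjunctionContinuous AddCommGrpCat.{u + 1} X.smallEtaleTopology
    (K.over X)).leftAdjointUniq (piTopAdj K X hX hK)
  let iY := ((EtFppf.a Y).sheafAdjunctionContinuous AddCommGrpCat.{u + 1} Y.smallEtaleTopology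
    (K.over Y)).leftAdjointUniq (piTopAdj K Y hY hK)
  let j := (sheafToPresheaf (QuotSh.J Scheme.etalePrecoverage Y) AddCommGrpCat.{u + 1}).mapIso (asIso (theta f F))
  exact ⟨iY.app _ ≪≫
    (fullyFaithfulSheafToPresheaf (K.over Y) AddCommGrpCat.{u + 1}).preimageIso
      (X := (piTop K Y hY).obj ((EtCoh.push f).obj F)) (Y := P.obj ((piTop K X hX).obj F)) j ≪≫
    P.mapIso (iX.app F).symm⟩

end Push

end Groth.Agent.BigSiteLib
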