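import Groth.Agent.BigSiteLib.PiSections
import Groth.Agent.EtIntegral.StalkFinite
import Mathlib.AlgebraicGeometry.Morphisms.UniversallyClosed

/-!
Inverse images on big étale sites commute with direct images along closed maps whose geometric fibres
are computed by étale neighbourhoods; this holds for finite morphisms.
-/

set_option autoImplicit false
set_option backward.isDefEq.respectTransparency false
set_option backward.defeqAttrib.useBackward true
universe u

noncomputable section

namespace Groth.Agent.BigSiteLib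

open CategoryTheory Limits Opposite AlgebraicGeometry

section

variable {S : Scheme.{u}} {F : EtCoh.Ab S}

lemma eta_injective (V : S.Etale) : Function.Injective (eta F V) := by
  haveI : IsIso ((BigSite.piEtAdj Scheme.etalePrecoverage S).unit.app F) :=
    isIso_unit_sheafPullback S.smallEtaleTopology (QuotSh.J Scheme.etalePrecoverage S) (EtFppf.a S)
      AddCommGrpCat.{u + 1} F
  haveI : IsIso (((BigSite.piEtAdj Scheme.etalePrecoverage S).unit.app F).hom.app (op V)) :=
    ((((sheafToPresheaf _ _).mapIso (asIso ((BigSite.piEtAdj Scheme.etalePrecoverage S).unit.app F))).app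
      (op V))).isIso_hom
  exact ((ConcreteCategory.isIso_iff_bijective
    (((BigSite.piEtAdj Scheme.etalePrecoverage S).unit.app F).hom.app (op V))).mp inferInstance).1

lemma range_subset_zeroLocus {T T' : Over S} {x : (Pi F).obj.obj (op T)} (g : T' ⟶ T) (h : rs F g x = 0) :
    Set.range g.left ⊆ zeroLocus F x := by
  rintro _ ⟨y, rfl⟩
  obtain ⟨Ω, _, _, s, t, rfl⟩ := exists_geom (T := T') y
  exact mem_zeroLocus F (t ≫ g) (by rw [← rs_rs, h, map_zero])

lemma rs_eq_zero_of_range {T T' : Over S} {x : (Pi F).obj.obj (op T)} (g : T' ⟶ T)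
    (h : Set.range g.left ⊆ zeroLocus F x) : rs F g x = 0 := by
  refine eq_zero_of_zeroLocus F (Set.eq_univ_of_forall fun y => ?_)
  obtain ⟨Ω, _, _, s, t, rfl⟩ := exists_geom (T := T') y
  refine mem_zeroLocus F t ?_
  rw [rs_rs]
  exact rs_eq_zero_of_mem F (t ≫ g) (h ⟨_, rfl⟩)

/-- Every point is the image of an algebraically closed geometric point. -/
lemma exists_geom' {T : Over S} (z : T.left) : ∃ (Ω : Type u) (_ : Field Ω) (_ : IsAlgClosed Ω)
    (s : Spec (CommRingCat.of Ω) ⟶ S) (t : Over.mk s ⟶ T), t.left (cpt Ω) = z := by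
  let η : Spec (CommRingCat.of (AlgebraicClosure (T.left.residueField z))) ⟶ T.left :=
    Spec.map (CommRingCat.ofHom (algebraMap (T.left.residueField z) (AlgebraicClosure (T.left.residueField z)))) ≫
      T.left.fromSpecResidueField z
  refine ⟨AlgebraicClosure (T.left.residueField z), inferInstance, inferInstance, η ≫ T.hom, Over.homMk η, ?_⟩
  change η (cpt _) = z
  exact (Scheme.Hom.comp_apply _ _ _).trans (Scheme.fromSpecResidueField_apply _ _)

/-- Equal germs give equal sections at a geometric point. -/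
lemma rs_eta_eq_of_germ {Ω : Type u} [Field Ω] [IsSepClosed Ω] {s : Spec (CommRingCat.of Ω) ⟶ S}
    {V W : S.Etale} (v : Over.mk s ⟶ (EtFppf.a S).obj V) (w : Over.mk s ⟶ (EtFppf.a S).obj W)
    (σ : F.obj.obj (op V)) (τ : F.obj.obj (op W))
    (h : (Scheme.pointSmallEtale s).toPresheafFiber V v F.obj σ =
      (Scheme.pointSmallEtale s).toPresheafFiber W w F.obj τ) :
    rs F v (eta F V σ) = rs F w (eta F W τ) := by
  let Q := prodEt V W
  let p : Q ⟶ V := MorphismProperty.Over.homMk (pullback.fst V.hom W.hom) rfl trivial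
  let q : Q ⟶ W :=
    MorphismProperty.Over.homMk (pullback.snd V.hom W.hom) pullback.condition.symm trivial
  let l : Over.mk s ⟶ (EtFppf.a S).obj Q :=
    Over.homMk (pullback.lift v.left w.left ((Over.w v).trans (Over.w w).symm)) (by
      change pullback.lift _ _ _ ≫ pullback.fst V.hom W.hom ≫ V.hom = s
      rw [pullback.lift_fst_assoc]
      exact Over.w v)
  have hp : l ≫ (EtFppf.a S).map p = v := Over.OverMorphism.ext (pullback.lift_fst _ _ _)
  have hq : l ≫ (EtFppf.a S).map q = w := Over.OverMorphism.ext (pullback.lift_snd _ _ _)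
  have h' : (Scheme.pointSmallEtale s).toPresheafFiber Q l F.obj (F.obj.map p.op σ) =
      (Scheme.pointSmallEtale s).toPresheafFiber Q l F.obj (F.obj.map q.op τ) := by
    refine (GrothendieckTopology.Point.toPresheafFiber_w_apply (Scheme.pointSmallEtale s) p l F.obj σ).trans
      (Eq.trans ?_ (GrothendieckTopology.Point.toPresheafFiber_w_apply (Scheme.pointSmallEtale s) q l F.obj τ).symm)
    change (Scheme.pointSmallEtale s).toPresheafFiber V (l ≫ (EtFppf.a S).map p) F.obj σ =
      (Scheme.pointSmallEtale s).toPresheafFiber W (l ≫ (EtFppf.a S).map q) F.obj τ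
    rw [hp, hq]
    exact h
  obtain ⟨X, g, x₀, hx, e⟩ := (GrothendieckTopology.Point.toPresheafFiber_eq_iff'
    (P := F.obj) (Scheme.pointSmallEtale s) Q l _ _).mp h'
  let x : Over.mk s ⟶ (EtFppf.a S).obj X := x₀
  have hx' : x ≫ (EtFppf.a S).map g = l := hx
  rw [← hp, ← hq, ← rs_rs, ← rs_rs F _ l, rs_eta, rs_eta, ← hx', ← rs_rs, ← rs_rs F _ x, rs_eta, rs_eta, e]

end

section

variable {T S : Scheme.{u}} (f : T ⟶ S) (G : EtCoh.Ab T)

/-- The direct image on big sites of the inverse image. -/
abbrev PiPush : BigSite.Ab Scheme.etalePrecoverage S :=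
  (BigSite.pushBig Scheme.etalePrecoverage f AddCommGrpCat.{u + 1}).obj (Pi G)

/-- The comparison map. -/
def theta : Pi ((EtCoh.push f).obj G) ⟶ PiPush f G :=
  ((BigSite.piEtAdj Scheme.etalePrecoverage S).homEquiv _ _).symm
    ((EtCoh.push f).map ((BigSite.piEtAdj Scheme.etalePrecoverage T).unit.app G) ≫
      (pushSquareIso f).hom.app (Pi G))

lemma theta_eta (V : S.Etale) (σ : ((EtCoh.push f).obj G).obj.obj (op V)) :
    (theta f G).hom.app (op ((EtFppf.a S).obj V)) (eta ((EtCoh.push f).obj G) V σ) =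
      eta G ((EtCoh.bc f).obj V) σ := by
  let u := (EtCoh.push f).map ((BigSite.piEtAdj Scheme.etalePrecoverage T).unit.app G) ≫
    (pushSquareIso f).hom.app (Pi G)
  have h : (BigSite.piEtAdj Scheme.etalePrecoverage S).unit.app _ ≫
      (BigSite.resEt Scheme.etalePrecoverage S).map (theta f G) = u :=
    ((BigSite.piEtAdj Scheme.etalePrecoverage S).homEquiv_unit _ _ (theta f G)).symm.trans
      (Equiv.apply_symm_apply _ _)
  refine (congrArg (fun q : (EtCoh.push f).obj G ⟶ (BigSite.resEt Scheme.etalePrecoverage S).obj (PiPush f G) =>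
    q.hom.app (op V) σ) h).trans ?_
  change (Pi G).obj.map (𝟙 _) (eta G ((EtCoh.bc f).obj V) σ) = _
  rw [CategoryTheory.Functor.map_id]
  rfl

lemma theta_rs {U U' : Over S} (g : U' ⟶ U) (x : (Pi ((EtCoh.push f).obj G)).obj.obj (op U)) :
    (theta f G).hom.app (op U') (rs _ g x) = rs G ((Over.pullback f).map g) ((theta f G).hom.app (op U) x) :=
  ConcreteCategory.congr_hom ((theta f G).hom.naturality g.op) x

variable {f G}

lemma pullback_map_fst {U U' : Over S} (g : U' ⟶ U) :
    ((Over.pullback f).map g).left ≫ pullback.fst U.hom f = pullback.fst U'.hom f ≫ g.left :=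
  pullback.lift_fst _ _ _

/-- Points over the image of a geometric point. -/
lemma fibre_subset_zeroLocus {U : Over S} (d : (Pi G).obj.obj (op ((Over.pullback f).obj U))) {Ω : Type u} [Field Ω]
    {s : Spec (CommRingCat.of Ω) ⟶ S} (t : Over.mk s ⟶ U) (h : rs G ((Over.pullback f).map t) d = 0)
    (p : ((Over.pullback f).obj U).left) (hp : pullback.fst U.hom f p = t.left (cpt Ω)) :
    p ∈ zeroLocus G d := by
  refine range_subset_zeroLocus _ h ?_
  obtain ⟨q, hq₁, hq₂⟩ := Scheme.Pullback.exists_preimage_pullback (f := t.left) (g := pullback.fst U.hom f)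
    (cpt Ω) p hp.symm
  let m : pullback t.left (pullback.fst U.hom f) ⟶ pullback (Over.mk s).hom f :=
    pullback.lift (pullback.fst _ _) (pullback.snd _ _ ≫ pullback.snd U.hom f) (by
      rw [Category.assoc, ← pullback.condition (f := U.hom) (g := f), ← pullback.condition_assoc]
      exact congrArg (pullback.fst t.left (pullback.fst U.hom f) ≫ ·) (Over.w t).symm)
  refine ⟨m q, ?_⟩
  have e : m ≫ ((Over.pullback f).map t).left = pullback.snd t.left (pullback.fst U.hom f) := by
    apply pullback.hom_ext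
    · rw [Category.assoc, pullback_map_fst, ← Category.assoc, ← pullback.condition]
      exact congrArg (· ≫ t.left) (pullback.lift_fst _ _ _)
    · rw [Category.assoc]
      exact (congrArg (m ≫ ·) (pullback.lift_snd _ _ _)).trans (pullback.lift_snd _ _ _)
  exact (congr($e q)).trans hq₂

/-- Vanishing on a fibre spreads out. -/
lemma exists_nhd_zero [UniversallyClosed f] {U : Over S} (d : (Pi G).obj.obj (op ((Over.pullback f).obj U)))
    {Ω : Type u} [Field Ω] {s : Spec (CommRingCat.of Ω) ⟶ S} (t : Over.mk s ⟶ U)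
    (h : rs G ((Over.pullback f).map t) d = 0) :
    ∃ O : U.left.Opens, t.left (cpt Ω) ∈ O ∧
      rs G ((Over.pullback f).map (Over.homMk O.ι : Over.mk (O.ι ≫ U.hom) ⟶ U)) d = 0 := by
  have hcl : IsClosed ((pullback.fst U.hom f : ((Over.pullback f).obj U).left ⟶ U.left) '' (zeroLocus G d)ᶜ) :=
    (pullback.fst U.hom f).isClosedMap _ (isOpen_zeroLocus G d).isClosed_compl
  refine ⟨⟨_, hcl.isOpen_compl⟩, ?_, rs_eq_zero_of_range _ ?_⟩
  · rintro ⟨p, hp, he⟩
    exact hp (fibre_subset_zeroLocus d t h p he)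
  · rintro _ ⟨y, rfl⟩
    by_contra hy
    let O : U.left.Opens := ⟨_, hcl.isOpen_compl⟩
    let y' : O.toScheme := pullback.fst (O.ι ≫ U.hom) f y
    exact y'.2 ⟨_, hy, congr($(pullback_map_fst (f := f) (Over.homMk O.ι : Over.mk (O.ι ≫ U.hom) ⟶ U)) y)⟩

/-- The comparison map is injective. -/
theorem theta_injective [UniversallyClosed f] (U : Over S) :
    Function.Injective ((theta f G).hom.app (op U)) := by
  refine (injective_iff_map_eq_zero ((theta f G).hom.app (op U)).hom).mpr fun x hx => ?_
  change (theta f G).hom.app (op U) x = 0 at hx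
  refine eq_zero_of_zeroLocus _ (Set.eq_univ_of_forall fun z => ?_)
  obtain ⟨Ω, _, _, s, t, rfl⟩ := exists_geom (T := U) z
  refine mem_zeroLocus _ t ?_
  obtain ⟨V, v, σ, hσ⟩ := basic_of_geom _ s (rs _ t x)
  have h0 : rs G ((Over.pullback f).map v) (eta G ((EtCoh.bc f).obj V) σ) = 0 := by
    rw [← theta_eta, ← theta_rs, hσ, theta_rs, hx, map_zero]
  obtain ⟨O, hO, h1⟩ := exists_nhd_zero (U := (EtFppf.a S).obj V) _ v h0
  haveI : Etale V.hom := V.prop
  let O' : V.left.Opens := O
  let V' : S.Etale := Scheme.Etale.mk (O'.ι ≫ V.hom)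
  let j : V' ⟶ V := MorphismProperty.Over.homMk O'.ι rfl trivial
  have e0 : rs G ((EtFppf.a T).map ((EtCoh.bc f).map j)) (eta G ((EtCoh.bc f).obj V) σ) =
      rs G ((Over.pullback f).map (Over.homMk O'.ι : Over.mk (O'.ι ≫ V.hom) ⟶ (EtFppf.a S).obj V))
        (eta G ((EtCoh.bc f).obj V) σ) := rfl
  rw [rs_eta] at e0
  have h2 : ((EtCoh.push f).obj G).obj.map j.op σ = 0 :=
    eta_injective (F := G) ((EtCoh.bc f).obj V') ((e0.trans h1).trans (eta_zero G ((EtCoh.bc f).obj V')).symm)
  let v' : Over.mk s ⟶ (EtFppf.a S).obj V' :=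
    Over.homMk (IsOpenImmersion.lift O'.ι v.left (by
      rintro _ ⟨c, rfl⟩
      refine (Set.ext_iff.mp (Scheme.Opens.range_ι O') _).mpr ?_
      rw [Subsingleton.elim (α := Spec (CommRingCat.of Ω)) c (cpt Ω)]
      exact hO)) (by
      change IsOpenImmersion.lift _ _ _ ≫ O'.ι ≫ V.hom = s
      rw [IsOpenImmersion.lift_fac_assoc]
      exact Over.w v)
  have hv : v' ≫ (EtFppf.a S).map j = v := Over.OverMorphism.ext (IsOpenImmersion.lift_fac _ _ _)
  rw [← hσ, ← hv, ← rs_rs, rs_eta, h2, eta_zero, map_zero]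

variable (f G) in
/-- Sections over a geometric fibre come from étale neighbourhoods. -/
def GeomFibreGen : Prop :=
  ∀ (Ω : Type u) [Field Ω] [IsAlgClosed Ω] (s : Spec (CommRingCat.of Ω) ⟶ S)
    (a : (Pi G).obj.obj (op ((Over.pullback f).obj (Over.mk s)))),
    ∃ (V : S.Etale) (v : Over.mk s ⟶ (EtFppf.a S).obj V) (σ : G.obj.obj (op ((EtCoh.bc f).obj V))),
      rs G ((Over.pullback f).map v) (eta G ((EtCoh.bc f).obj V) σ) = a

/-- The comparison map is surjective. -/
theorem theta_surjective [UniversallyClosed f] (H : GeomFibreGen f G) (U : Over S) :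
    Function.Surjective ((theta f G).hom.app (op U)) := by
  intro z
  let P := Pi ((EtCoh.push f).obj G)
  have hP := (isSheaf_iff_isSheaf_of_type _ _).mp
    ((Presheaf.isSheaf_iff_isSheaf_forget _ _ (forget AddCommGrpCat.{u + 1})).mp P.property)
  have hQ := (isSheaf_iff_isSheaf_of_type _ _).mp
    ((Presheaf.isSheaf_iff_isSheaf_forget _ _ (forget AddCommGrpCat.{u + 1})).mp (PiPush f G).property)
  let L : Sieve U :=
    { arrows := fun U' g => ∃ x, (theta f G).hom.app (op U') x = rs G ((Over.pullback f).map g) z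
      downward_closed := by
        rintro U' U'' g ⟨x, hx⟩ h
        exact ⟨rs _ h x, by rw [theta_rs, hx, rs_rs, ← CategoryTheory.Functor.map_comp]⟩ }
  have hL : L ∈ QuotSh.J Scheme.etalePrecoverage S U := by
    refine mem_J_of_nhds L fun w => ?_
    obtain ⟨Ω, _, _, s, t, rfl⟩ := exists_geom' (T := U) w
    obtain ⟨V, v, σ, hσ⟩ := H Ω s (rs G ((Over.pullback f).map t) z)
    haveI : Etale V.hom := V.prop
    let U' : Over S := Over.mk (pullback.fst U.hom V.hom ≫ U.hom)
    let p : U' ⟶ U := Over.homMk (pullback.fst U.hom V.hom)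
    let q : U' ⟶ (EtFppf.a S).obj V := Over.homMk (pullback.snd U.hom V.hom) pullback.condition.symm
    let u : Over.mk s ⟶ U' :=
      Over.homMk (pullback.lift t.left v.left ((Over.w t).trans (Over.w v).symm)) (by
        change pullback.lift _ _ _ ≫ pullback.fst U.hom V.hom ≫ U.hom = s
        rw [pullback.lift_fst_assoc]
        exact Over.w t)
    have hup : u ≫ p = t := Over.OverMorphism.ext (pullback.lift_fst _ _ _)
    have huq : u ≫ q = v := Over.OverMorphism.ext (pullback.lift_snd _ _ _)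
    let d := rs G ((Over.pullback f).map p) z -
      rs G ((Over.pullback f).map q) (eta G ((EtCoh.bc f).obj V) σ)
    have hd : rs G ((Over.pullback f).map u) d = 0 := by
      rw [map_sub, rs_rs, rs_rs G _ ((Over.pullback f).map u), ← CategoryTheory.Functor.map_comp,
        ← CategoryTheory.Functor.map_comp, hup, huq, hσ, sub_self]
    obtain ⟨O, hO, h1⟩ := exists_nhd_zero d u hd
    let O' : U'.left.Opens := O
    let j : Over.mk (O'.ι ≫ U'.hom) ⟶ U' := Over.homMk O'.ι
    refine ⟨_, j ≫ p, ⟨rs _ (j ≫ q) (eta ((EtCoh.push f).obj G) V σ), ?_⟩,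
      inferInstanceAs (Etale (O'.ι ≫ pullback.fst U.hom V.hom)), ⟨u.left (cpt Ω), hO⟩, ?_⟩
    · rw [map_sub, sub_eq_zero, rs_rs, rs_rs G _ ((Over.pullback f).map j), ← CategoryTheory.Functor.map_comp,
        ← CategoryTheory.Functor.map_comp] at h1
      rw [theta_rs, theta_eta]
      exact h1.symm
    · have ep : u.left ≫ p.left = t.left := congrArg Over.Hom.left hup
      exact congr($ep (cpt Ω))
  choose x hx using fun (U' : Over S) (g : U' ⟶ U) (hg : L.arrows g) => hg
  let xf : Presieve.FamilyOfElements (P.obj ⋙ forget AddCommGrpCat.{u + 1}) L.arrows := fun U' g hg => x U' g hg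
  have hxf : xf.Compatible := by
    intro Y₁ Y₂ Z a b f₁ f₂ h₁ h₂ e
    apply theta_injective (f := f) (G := G) Z
    change (theta f G).hom.app (op Z) (rs _ a (x _ f₁ h₁)) = (theta f G).hom.app (op Z) (rs _ b (x _ f₂ h₂))
    rw [theta_rs, theta_rs, hx, hx, rs_rs, rs_rs, ← CategoryTheory.Functor.map_comp,
      ← CategoryTheory.Functor.map_comp, e]
  obtain ⟨y, hy, -⟩ := hP L hL xf hxf
  refine ⟨y, (hQ L hL).isSeparatedFor.ext fun U' g hg => ?_⟩
  change rs G ((Over.pullback f).map g) ((theta f G).hom.app (op U) y) = rs G ((Over.pullback f).map g) z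
  rw [← theta_rs, ← hx U' g hg]
  exact congrArg _ (hy g hg)

/-- The comparison map is an isomorphism. -/
theorem isIso_theta [UniversallyClosed f] (H : GeomFibreGen f G) : IsIso (theta f G) := by
  haveI : IsIso ((sheafToPresheaf _ _).map (theta f G)) := by
    haveI : ∀ U, IsIso (((sheafToPresheaf _ _).map (theta f G)).app U) := fun U =>
      (ConcreteCategory.isIso_iff_bijective _).mpr ⟨theta_injective U.unop, theta_surjective H U.unop⟩
    exact NatIso.isIso_of_isIso_app _
  exact isIso_of_reflects_iso (theta f G) (sheafToPresheaf _ _)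

/-- Finite morphisms: sections over a geometric fibre come from étale neighbourhoods. -/
theorem geomFibreGen_of_isFinite [IsFinite f] : GeomFibreGen f G := by
  intro Ω _ _ s a
  let l : ∀ ξ : EtIntegral.Lifts f s, Over.mk ξ.1 ⟶ (Over.pullback f).obj (Over.mk s) := fun ξ =>
    Over.homMk (pullback.lift (𝟙 _) ξ.1 ((Category.id_comp _).trans ξ.2.symm)) (pullback.lift_snd _ _ _)
  choose W w τ hτ using fun ξ => basic_of_geom G ξ.1 (rs G (l ξ) a)
  obtain ⟨g, hg⟩ := EtIntegral.exists_of_lifts f s G fun ξ =>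
    (Scheme.pointSmallEtale ξ.1).toPresheafFiber (W ξ) (w ξ) G.obj (τ ξ)
  obtain ⟨V, v₀, σ, rfl⟩ := (Scheme.pointSmallEtale s).toPresheafFiber_jointly_surjective
    (P := ((EtCoh.push f).obj G).obj) g
  let v : Over.mk s ⟶ (EtFppf.a S).obj V := v₀
  refine ⟨V, v, σ, sub_eq_zero.mp (eq_zero_of_zeroLocus G (Set.eq_univ_of_forall fun q => ?_))⟩
  haveI : IsFinite (pullback.fst s f) := MorphismProperty.pullback_fst _ _ ‹_›
  obtain ⟨⟨ζ, hζ⟩, hq⟩ := EtIntegral.exists_lift_of_point (pullback.fst s f) (𝟙 _) q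
    (Subsingleton.elim (α := Spec (CommRingCat.of Ω)) _ _)
  let ξ : EtIntegral.Lifts f s := ⟨ζ ≫ pullback.snd s f, by
    rw [Category.assoc, ← pullback.condition, ← Category.assoc, hζ, Category.id_comp]⟩
  have el : (l ξ).left = ζ := by
    apply pullback.hom_ext
    · exact (pullback.lift_fst _ _ _).trans hζ.symm
    · exact pullback.lift_snd _ _ _
  refine range_subset_zeroLocus (l ξ) ?_ ⟨cpt Ω, (congr($el (cpt Ω))).trans hq⟩
  rw [map_sub, sub_eq_zero, rs_rs, ← hτ]
  refine rs_eta_eq_of_germ (V := (EtCoh.bc f).obj V) (W := W ξ) (l ξ ≫ (Over.pullback f).map v) (w ξ) σ (τ ξ)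
    (Eq.trans ?_ ((EtIntegral.stalkPushLift_germ f s G ξ V v σ).symm.trans (hg ξ)))
  congr 3
  refine Over.OverMorphism.ext ?_
  apply pullback.hom_ext
  · refine Eq.trans ?_ (pullback.lift_fst _ _ _).symm
    rw [Over.comp_left, Category.assoc, pullback_map_fst]
    exact ((Category.assoc _ _ _).symm.trans (congrArg (· ≫ v.left) (pullback.lift_fst _ _ _))).trans (Category.id_comp _)
  · refine Eq.trans ?_ (pullback.lift_snd _ _ _).symm
    rw [Over.comp_left, Category.assoc]
    exact (congrArg (_ ≫ ·) (pullback.lift_snd _ _ _)).trans (pullback.lift_snd _ _ _)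

end

end Groth.Agent.BigSiteLib
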