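import Groth.Agent.BigSiteLib.Amitsur
import Groth.Agent.BigSiteLib.PiPush
import Groth.Agent.EtIntegral.Push

/-!
Local exactness of Amitsur complexes on big étale sites.
-/

set_option autoImplicit false
set_option linter.style.haveILetI false
set_option backward.isDefEq.respectTransparency false
set_option backward.defeqAttrib.useBackward true
universe u

noncomputable section

namespace Groth.Agent.BigSiteLib

open CategoryTheory Limits Opposite AlgebraicGeometry

section Pull

variable {S T : Scheme.{u}} (f : T ⟶ S)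

/-- Inverse images commute with pullback. -/
def piPullIso : BigSite.piEtPull Scheme.etalePrecoverage S ⋙
    BigSite.pullBig Scheme.etalePrecoverage f AddCommGrpCat.{u + 1} ≅
      EtCoh.pull f ⋙ BigSite.piEtPull Scheme.etalePrecoverage T :=
  Adjunction.leftAdjointUniq
    (((BigSite.piEtAdj Scheme.etalePrecoverage S).comp
      (BigSite.bigAdj Scheme.etalePrecoverage f AddCommGrpCat.{u + 1})).ofNatIsoRight (pushSquareIso f).symm)
    ((EtCoh.pullPushAdj f).comp (BigSite.piEtAdj Scheme.etalePrecoverage T))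

end Pull

section Push

variable {S T : Scheme.{u}} (f : T ⟶ S) [IsIntegralHom f]

/-- Direct image along an integral morphism preserves étale-local surjectivity. -/
theorem isLocallySurjective_pushBig {X Y : BigSite.Ab Scheme.etalePrecoverage T} (φ : X ⟶ Y) [Epi φ] :
    Presheaf.IsLocallySurjective (QuotSh.J Scheme.etalePrecoverage S)
      ((BigSite.pushBig Scheme.etalePrecoverage f AddCommGrpCat.{u + 1}).map φ).hom := by
  refine ⟨fun {U} z => ?_⟩
  let g := U.hom
  let fst : pullback g f ⟶ U.left := pullback.fst g f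
  haveI : IsIntegralHom fst := MorphismProperty.pullback_fst _ _ ‹_›
  haveI := Groth.Agent.EtIntegral.push_preservesEpimorphisms fst
  haveI : (BigSite.pullBig Scheme.etalePrecoverage (pullback.snd g f) AddCommGrpCat.{u + 1}).IsLeftAdjoint :=
    (BigSite.bigAdj Scheme.etalePrecoverage (pullback.snd g f) AddCommGrpCat.{u + 1}).isLeftAdjoint
  haveI : (BigSite.resEt Scheme.etalePrecoverage (pullback g f)).IsLeftAdjoint :=
    (BigSite.iEtAdj Scheme.etalePrecoverage (pullback g f)).isLeftAdjoint
  let e := pushResIso Scheme.etalePrecoverage (IsPullback.of_hasPullback g f).flip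
  haveI hepi : Epi ((BigSite.resEtAlong Scheme.etalePrecoverage g).map
      ((BigSite.pushBig Scheme.etalePrecoverage f AddCommGrpCat.{u + 1}).map φ)) := by
    have h : Epi ((BigSite.resEtAlong Scheme.etalePrecoverage (pullback.snd g f) ⋙ EtCoh.push fst).map φ) := by
      change Epi ((EtCoh.push fst).map ((BigSite.resEt Scheme.etalePrecoverage (pullback g f)).map
        ((BigSite.pullBig Scheme.etalePrecoverage (pullback.snd g f) AddCommGrpCat.{u + 1}).map φ)))
      haveI h1 := (BigSite.pullBig Scheme.etalePrecoverage (pullback.snd g f) AddCommGrpCat.{u + 1}).map_epi φ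
      haveI h2 := (BigSite.resEt Scheme.etalePrecoverage (pullback g f)).map_epi
        ((BigSite.pullBig Scheme.etalePrecoverage (pullback.snd g f) AddCommGrpCat.{u + 1}).map φ)
      exact (EtCoh.push fst).map_epi _
    exact ((MorphismProperty.epimorphisms _).arrow_mk_iso_iff
      (((Functor.mapArrowFunctor _ _).mapIso e).app (Arrow.mk φ))).mpr h
  have hls : Sheaf.IsLocallySurjective ((BigSite.resEtAlong Scheme.etalePrecoverage g).map
      ((BigSite.pushBig Scheme.etalePrecoverage f AddCommGrpCat.{u + 1}).map φ)) :=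
    (Sheaf.isLocallySurjective_iff_epi' _ _).mpr hepi
  let e₀ : (Over.map g).obj ((EtFppf.a U.left).obj (EtCoh.top U.left)) ⟶ U :=
    Over.homMk (𝟙 U.left) (by change 𝟙 _ ≫ U.hom = 𝟙 _ ≫ U.hom; rfl)
  let Y' := (BigSite.pushBig Scheme.etalePrecoverage f AddCommGrpCat.{u + 1}).obj Y
  have hmem := hls.imageSieve_mem (U := EtCoh.top U.left) (Y'.obj.map e₀.op z)
  refine mem_J_of_nhds _ fun w => ?_
  obtain ⟨𝒰, h₁, h₂, hle⟩ := (Scheme.mem_smallGrothendieckTopology _ _).1 hmem
  obtain ⟨i, y, hy⟩ := 𝒰.exists_eq w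
  obtain ⟨x, hx⟩ := hle _ _ ⟨i⟩
  let m : (𝒰.X i).asOverProp U.left (h₂ i) ⟶ EtCoh.top U.left := MorphismProperty.Over.homMk (𝒰.f i)
    (HomIsOver.comp_over (f := 𝒰.f i) (S := U.left))
  refine ⟨_, (Over.map g).map ((EtFppf.a U.left).map m) ≫ e₀, ⟨x, ?_⟩, ?_, ⟨y, ?_⟩⟩
  · refine hx.trans ?_
    exact (ConcreteCategory.congr_hom (Y'.obj.map_comp e₀.op ((Over.map g).map ((EtFppf.a U.left).map m)).op) z).symm
  · haveI : Etale (𝒰.f i) := 𝒰.map_prop i
    exact MorphismProperty.comp_mem (@Etale) (𝒰.f i) (𝟙 U.left) ‹_› (MorphismProperty.id_mem (@Etale) _)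
  · exact (congr($(Category.comp_id (𝒰.f i)) y)).trans hy

end Push

variable {T V : Scheme.{u}} (p : V ⟶ T)

/-- The étale sheaf condition for presheaves. -/
abbrev EtSheaf (P : Psh T) : Prop := Presheaf.IsSheaf (QuotSh.J Scheme.etalePrecoverage T) P

lemma etSheaf_Cp {P : Psh T} (h : EtSheaf P) : EtSheaf ((Cp p).obj P) :=
  ((BigSite.pushBig Scheme.etalePrecoverage p AddCommGrpCat.{u + 1}).obj
    ((BigSite.pullBig Scheme.etalePrecoverage p AddCommGrpCat.{u + 1}).obj ⟨P, h⟩)).property

lemma etSheaf_it {P : Psh T} (h : EtSheaf P) : ∀ n, EtSheaf (it p n P)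
  | 0 => h
  | n + 1 => etSheaf_Cp p (etSheaf_it h n)

/-- Inverse images of small étale sheaves. -/
def IsPi (P : Psh T) : Prop := ∃ H : EtCoh.Ab T, Nonempty (P ≅ (Pi H).obj)

/-- Étale locally every cocycle is a coboundary. -/
def LocExact (P : Psh T) : Prop :=
  ∀ (n : ℕ) (U : Over T) (c : ((Cp p).obj (it p n P)).obj (op U)), (dstep p (dd p n P)).app (op U) c = 0 →
    ∃ R ∈ QuotSh.J Scheme.etalePrecoverage T U, ∀ ⦃U' : Over T⦄ (g : U' ⟶ U), R.arrows g →
      ∃ b, (dd p n P).app (op U') b = ((Cp p).obj (it p n P)).map g.op c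

section Finite

variable [IsFinite p]

lemma isPi_Cp {P : Psh T} (h : IsPi P) : IsPi ((Cp p).obj P) := by
  obtain ⟨H, ⟨e⟩⟩ := h
  haveI := isIso_theta (f := p) (G := (EtCoh.pull p).obj H) geomFibreGen_of_isFinite
  refine ⟨(EtCoh.push p).obj ((EtCoh.pull p).obj H), ⟨(Cp p).mapIso e ≪≫ (sheafToPresheaf _ _).mapIso
    ((BigSite.pushBig Scheme.etalePrecoverage p AddCommGrpCat.{u + 1}).mapIso ((piPullIso p).app H) ≪≫
      (asIso (theta p ((EtCoh.pull p).obj H))).symm)⟩⟩

lemma isPi_it {P : Psh T} (h : IsPi P) : ∀ n, IsPi (it p n P)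
  | 0 => h
  | n + 1 => isPi_Cp p (isPi_it h n)

/-- Inverse images have locally exact Amitsur complexes along finite surjective morphisms. -/
theorem locExact_of_isPi [Surjective p] {P : Psh T} (h : IsPi P) : LocExact p P := by
  intro n U c hc
  obtain ⟨H, ⟨e⟩⟩ := isPi_it p h n
  obtain ⟨H', ⟨e'⟩⟩ := isPi_Cp p (isPi_it p h n)
  let φ := dd p n P
  let X := it p n P
  let R : Sieve U :=
    { arrows := fun U' g => ∃ b, φ.app (op U') b = ((Cp p).obj X).map g.op c
      downward_closed := by
        rintro U' U'' g ⟨b, hb⟩ k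
        refine ⟨X.map k.op b, ?_⟩
        refine (ConcreteCategory.congr_hom (φ.naturality k.op) b).trans ?_
        refine (congrArg (((Cp p).obj X).map k.op) hb).trans ?_
        exact (ConcreteCategory.congr_hom (((Cp p).obj X).map_comp g.op k.op) c).symm }
  refine ⟨R, mem_J_of_nhds R fun z => ?_, fun U' g hg => hg⟩
  obtain ⟨Ω, _, _, s, t, rfl⟩ := exists_geom' (T := U) z
  obtain ⟨y, hy⟩ := p.surjective (s (cpt Ω))
  obtain ⟨⟨l, hl⟩, -⟩ := EtIntegral.exists_lift_of_point p s y hy
  have hct : (dstep p φ).app (op (Over.mk s)) (((Cp p).obj X).map t.op c) = 0 :=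
    (ConcreteCategory.congr_hom ((dstep p φ).naturality t.op) c).trans
      ((congrArg (((Cp p).obj ((Cp p).obj X)).map t.op).hom hc).trans (map_zero _))
  obtain ⟨b, hb⟩ := exists_bd_of_point (p := p) (U := Over.mk s) l hl φ _ hct
  obtain ⟨W, v, σ, hσ⟩ := basic_of_geom H s (e.hom.app (op (Over.mk s)) b)
  haveI : Etale W.hom := W.prop
  let U' : Over T := Over.mk (pullback.fst U.hom W.hom ≫ U.hom)
  let g : U' ⟶ U := Over.homMk (pullback.fst U.hom W.hom)
  let q : U' ⟶ (EtFppf.a T).obj W := Over.homMk (pullback.snd U.hom W.hom) pullback.condition.symm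
  let u : Over.mk s ⟶ U' :=
    Over.homMk (pullback.lift t.left v.left ((Over.w t).trans (Over.w v).symm)) (by
      change pullback.lift _ _ _ ≫ pullback.fst U.hom W.hom ≫ U.hom = s
      rw [pullback.lift_fst_assoc]
      exact Over.w t)
  have hug : u ≫ g = t := Over.OverMorphism.ext (pullback.lift_fst _ _ _)
  have huq : u ≫ q = v := Over.OverMorphism.ext (pullback.lift_snd _ _ _)
  let b' : X.obj (op U') := e.inv.app (op U') (rs H q (eta H W σ))
  have hb' : X.map u.op b' = b := by
    refine (ConcreteCategory.congr_hom (e.inv.naturality u.op) _).symm.trans ?_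
    refine (congrArg (e.inv.app (op (Over.mk s))) ((rs_rs H q u _).trans ((congrArg (fun k => rs H k (eta H W σ)) huq).trans hσ))).trans ?_
    exact ConcreteCategory.congr_hom (e.hom_inv_id_app (op (Over.mk s))) b
  let d := ((Cp p).obj X).map g.op c - φ.app (op U') b'
  have hd : ((Cp p).obj X).map u.op d = 0 := by
    change ((Cp p).obj X).map u.op (((Cp p).obj X).map g.op c - φ.app (op U') b') = 0
    rw [map_sub, sub_eq_zero]
    refine (ConcreteCategory.congr_hom (((Cp p).obj X).map_comp g.op u.op) c).symm.trans ?_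
    rw [← op_comp, hug, ← hb, ← hb']
    exact ConcreteCategory.congr_hom (φ.naturality u.op) b'
  have hz : u.left (cpt Ω) ∈ zeroLocus H' (e'.hom.app (op U') d) :=
    mem_zeroLocus H' u ((ConcreteCategory.congr_hom (e'.hom.naturality u.op) d).symm.trans
      ((congrArg (e'.hom.app (op (Over.mk s))).hom hd).trans (map_zero (e'.hom.app (op (Over.mk s))).hom)))
  obtain ⟨U'', k, hk, ⟨y', hy'⟩, hk0⟩ := hz
  refine ⟨U'', k ≫ g, ⟨X.map k.op b', ?_⟩, ?_, y', ?_⟩
  · have h0 : ((Cp p).obj X).map k.op d = 0 := by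
      apply ((ConcreteCategory.isIso_iff_bijective (e'.hom.app (op U''))).mp inferInstance).1
      exact ((ConcreteCategory.congr_hom (e'.hom.naturality k.op) d).trans hk0).trans (map_zero _).symm
    change ((Cp p).obj X).map k.op (((Cp p).obj X).map g.op c - φ.app (op U') b') = 0 at h0
    rw [map_sub, sub_eq_zero] at h0
    refine (ConcreteCategory.congr_hom (φ.naturality k.op) b').trans (h0.symm.trans ?_)
    exact (ConcreteCategory.congr_hom (((Cp p).obj X).map_comp g.op k.op) c).symm
  · haveI := hk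
    exact inferInstanceAs (Etale (k.left ≫ pullback.fst U.hom W.hom))
  · have eu : u.left ≫ g.left = t.left := congrArg Over.Hom.left hug
    exact (congrArg g.left hy').trans (congr($eu (cpt Ω)))

end Finite

end Groth.Agent.BigSiteLib
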