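import Groth.Prelude.Def_BigSite
import Groth.Agent.AnLib.FlatLan
import Mathlib.CategoryTheory.Abelian.GrothendieckAxioms.Basic

/-!
Exactness of the inverse image from the small etale site and of extension by zero on big sites;
injectives are preserved by restriction.
-/

set_option autoImplicit false
set_option backward.isDefEq.respectTransparency false
set_option backward.defeqAttrib.useBackward true
universe u

noncomputable section

namespace Groth.Agent.BigSiteLib

open CategoryTheory Limits Opposite AlgebraicGeometry
open Groth.Agent.AnLib (Ab' lanEvalIso)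

/-- Left Kan extension with the colimits computed along final discrete categories is left exact. -/
lemma colim_preservesFiniteLimits_of_final {J : Type (u + 1)} [Category.{u} J] {ι : Type (u + 1)}
    (i : Discrete ι ⥤ J) [i.Final] :
    PreservesFiniteLimits (colim : (J ⥤ Ab'.{u}) ⥤ Ab'.{u}) := by
  haveI := AB4.of_AB5.{u + 1} (C := Ab'.{u})
  haveI : HasExactColimitsOfShape (Discrete ι) Ab'.{u} := AB4OfSize.ofShape ι
  haveI : PreservesFiniteLimits ((Functor.whiskeringLeft _ _ Ab'.{u}).obj i ⋙
      (colim : (Discrete ι ⥤ Ab'.{u}) ⥤ _)) := comp_preservesFiniteLimits _ _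
  exact preservesFiniteLimits_of_natIso (Functor.Final.colimIso (E := Ab'.{u}) i)

section Lan

variable {S T : Scheme.{u}} (f : T ⟶ S) (V : (Over S)ᵒᵖ)

/-- The lifts of an object to the source. -/
def lifts : Type u := { k : V.unop.left ⟶ T // k ≫ f = V.unop.hom }

variable {f V}

/-- The universal object over a lift. -/
def liftObj (k : lifts f V) : CostructuredArrow (Over.map f).op V :=
  CostructuredArrow.mk (S := (Over.map f).op) (Y := op (Over.mk k.1)) (Over.homMk (𝟙 _) (by simp [k.2]) : V.unop ⟶ (Over.map f).obj (Over.mk k.1)).op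

/-- The lift of an object of the comma category. -/
def liftOf (j : CostructuredArrow (Over.map f).op V) : lifts f V :=
  ⟨j.hom.unop.left ≫ j.left.unop.hom, (Category.assoc _ _ _).trans (Over.w j.hom.unop)⟩

/-- The inclusion of the lifts. -/
def liftIncl (f : T ⟶ S) (V : (Over S)ᵒᵖ) :
    Discrete (ULift.{u + 1} (lifts f V)) ⥤ CostructuredArrow (Over.map f).op V :=
  Discrete.functor fun k => liftObj k.down

instance final_liftIncl : (liftIncl f V).Final where
  out j := by
    let g₀ : j ⟶ (liftIncl f V).obj ⟨⟨liftOf j⟩⟩ := CostructuredArrow.homMk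
      (Over.homMk j.hom.unop.left rfl : Over.mk (liftOf j).1 ⟶ j.left.unop).op
      (Quiver.Hom.unop_inj (Over.OverMorphism.ext (Category.id_comp _)))
    haveI : Nonempty (StructuredArrow j (liftIncl f V)) := ⟨StructuredArrow.mk g₀⟩
    refine zigzag_isConnected fun a b => ?_
    suffices h : ∀ a : StructuredArrow j (liftIncl f V), a = StructuredArrow.mk g₀ by
      rw [h a, h b]
    intro a
    obtain ⟨⟨⟨⟩⟩, ⟨k⟩, g⟩ := a
    change j ⟶ liftObj k.down at g
    have e := congrArg (fun q => q.unop.left) (CostructuredArrow.w g)
    have e' : g.left.unop.left = j.hom.unop.left := by simpa [liftObj] using e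
    obtain rfl : k = ⟨liftOf j⟩ := by
      refine ULift.ext _ _ (Subtype.ext ?_)
      change k.down.1 = j.hom.unop.left ≫ j.left.unop.hom
      rw [← e']
      exact (Over.w g.left.unop).symm
    have hg : g = g₀ := CostructuredArrow.hom_ext _ _ (Quiver.Hom.unop_inj (Over.OverMorphism.ext e'))
    subst hg
    rfl

theorem lan_map_preservesFiniteLimits :
    PreservesFiniteLimits ((Over.map f).op.lan : ((Over T)ᵒᵖ ⥤ Ab'.{u}) ⥤ (Over S)ᵒᵖ ⥤ Ab'.{u}) := by
  refine ⟨fun J _ _ => preservesLimitsOfShape_of_evaluation _ _ fun K => ?_⟩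
  haveI := colim_preservesFiniteLimits_of_final (liftIncl f K)
  exact preservesLimitsOfShape_of_natIso (lanEvalIso (Over.map f).op K).symm

end Lan

section Shriek

variable (K : Precoverage Scheme.{u}) {S T : Scheme.{u}} (f : T ⟶ S)

instance shriekAb_preservesFiniteLimits : PreservesFiniteLimits (BigSite.shriekAb K f) := by
  haveI := lan_map_preservesFiniteLimits (f := f)
  haveI : PreservesFiniteLimits (Functor.sheafPullbackConstruction.sheafPullback (Over.map f) Ab'.{u}
      (QuotSh.J K T) (QuotSh.J K S)) :=
    haveI : PreservesFiniteLimits ((Over.map f).op.lan ⋙ presheafToSheaf (QuotSh.J K S) Ab'.{u}) :=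
      comp_preservesFiniteLimits _ _
    comp_preservesFiniteLimits _ _
  exact preservesFiniteLimits_of_natIso
    (Functor.sheafPullbackConstruction.sheafPullbackIso (Over.map f) Ab'.{u} (QuotSh.J K T) (QuotSh.J K S)).symm

instance injective_pullBig (I : BigSite.Ab K S) [Injective I] :
    Injective ((BigSite.pullBig K f AddCommGrpCat.{u + 1}).obj I) :=
  haveI : (BigSite.shriekAb K f).IsLeftAdjoint := (BigSite.shriekAbAdj K f).isLeftAdjoint
  haveI : (BigSite.shriekAb K f).PreservesMonomorphisms := inferInstance
  Injective.injective_of_adjoint (BigSite.shriekAbAdj K f) I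

instance preservesFiniteLimits_pullBig : PreservesFiniteLimits (BigSite.pullBig K f AddCommGrpCat.{u + 1}) :=
  ⟨fun _ _ _ => (BigSite.shriekAbAdj K f).rightAdjoint_preservesLimits.preservesLimitsOfShape⟩

instance preservesFiniteColimits_pullBig : PreservesFiniteColimits (BigSite.pullBig K f AddCommGrpCat.{u + 1}) :=
  ⟨fun _ _ _ => (BigSite.bigAdj K f AddCommGrpCat.{u + 1}).leftAdjoint_preservesColimits.preservesColimitsOfShape⟩

end Shriek

section Small

variable (K : Precoverage Scheme.{u}) (S : Scheme.{u}) [BigSite.AEtCont K S]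

instance representablyFlat_a : RepresentablyFlat (EtFppf.a S) :=
  (flat_of_preservesFiniteLimits (Scheme.Etale.forget S) : RepresentablyFlat (Scheme.Etale.forget S))

instance piEtPull_preservesFiniteLimits : PreservesFiniteLimits (BigSite.piEtPull K S) :=
  AnLib.sheafPullback_preservesFiniteLimits (EtFppf.a S) _ _

instance injective_resEt (I : BigSite.Ab K S) [Injective I] : Injective ((BigSite.resEt K S).obj I) :=
  haveI : (BigSite.piEtPull K S).PreservesMonomorphisms := inferInstance
  Injective.injective_of_adjoint (BigSite.piEtAdj K S) I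

instance preservesFiniteLimits_resEt : PreservesFiniteLimits (BigSite.resEt K S) :=
  ⟨fun _ _ _ => (BigSite.piEtAdj K S).rightAdjoint_preservesLimits.preservesLimitsOfShape⟩

instance preservesFiniteColimits_resEt [BigSite.AEtCocont K S] : PreservesFiniteColimits (BigSite.resEt K S) :=
  ⟨fun _ _ _ => (BigSite.iEtAdj K S).leftAdjoint_preservesColimits.preservesColimitsOfShape⟩

variable {S} {T : Scheme.{u}} (f : T ⟶ S) [BigSite.AEtCont K T]

instance injective_resEtAlong (I : BigSite.Ab K S) [Injective I] : Injective ((BigSite.resEtAlong K f).obj I) :=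
  injective_resEt K T ((BigSite.pullBig K f AddCommGrpCat.{u + 1}).obj I)

instance preservesFiniteLimits_resEtAlong : PreservesFiniteLimits (BigSite.resEtAlong K f) :=
  comp_preservesFiniteLimits _ _

instance preservesFiniteColimits_resEtAlong [BigSite.AEtCocont K T] :
    PreservesFiniteColimits (BigSite.resEtAlong K f) :=
  comp_preservesFiniteColimits _ _

end Small

end Groth.Agent.BigSiteLib
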