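import Groth.Agent.BigSiteLib.Commute
import Mathlib.CategoryTheory.Adjunction.Triple
import Mathlib.Algebra.Homology.DerivedCategory.Ext.ExactSequences
import Mathlib.Algebra.Homology.DerivedCategory.Ext.EnoughInjectives
import Mathlib.GroupTheory.QuotientGroup.Basic

/-!
Comparison of the cohomology of big and small sites.
-/

set_option autoImplicit false
set_option backward.isDefEq.respectTransparency false
set_option backward.defeqAttrib.useBackward true
universe w w' v v' u' u'' u

noncomputable section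

namespace Groth.Agent.BigSiteLib

open CategoryTheory Limits Opposite Abelian AlgebraicGeometry

section Ext

variable {A : Type u'} [Category.{v} A] [Abelian A] [HasExt.{w} A]
variable {B : Type u''} [Category.{v'} B] [Abelian B] [HasExt.{w} B] [EnoughInjectives B]

section One

variable {S : ShortComplex A} (hS : S.ShortExact) (P : A)

/-- The connecting map in degree zero. -/
def conn : (P ⟶ S.X₃) →+ Ext.{w} P S.X₁ 1 :=
  (hS.extClass.postcomp P (zero_add 1)).comp Ext.addEquiv₀.symm.toAddMonoidHom

include hS in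
lemma surjective_conn [Subsingleton (Ext.{w} P S.X₂ 1)] : Function.Surjective (conn hS P) := fun x => by
  obtain ⟨x₃, rfl⟩ := Ext.covariant_sequence_exact₁ P hS x (Subsingleton.elim _ _) (zero_add 1)
  exact ⟨Ext.addEquiv₀ x₃, congrArg (fun q => (hS.extClass.postcomp P (zero_add 1)) q) (Ext.addEquiv₀.symm_apply_apply x₃)⟩

lemma conn_eq_zero_iff (φ : P ⟶ S.X₃) : conn hS P φ = 0 ↔ ∃ ψ, ψ ≫ S.g = φ := by
  change (Ext.mk₀ φ).comp hS.extClass (zero_add 1) = 0 ↔ _
  constructor
  · intro h
    obtain ⟨x₂, hx⟩ := Ext.covariant_sequence_exact₃ P hS (Ext.mk₀ φ) (zero_add 1) h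
    obtain ⟨ψ, rfl⟩ := (Ext.mk₀_bijective _ _).2 x₂
    exact ⟨ψ, (Ext.mk₀_bijective _ _).1 (by rw [← hx, Ext.mk₀_comp_mk₀])⟩
  · rintro ⟨ψ, rfl⟩
    rw [← Ext.mk₀_comp_mk₀, Ext.comp_assoc _ _ _ (zero_add 0) (zero_add 1) (by omega), hS.comp_extClass,
      Ext.comp_zero]

end One

/-- Shifting along a short exact sequence with injective middle term. -/
def shift {S : ShortComplex A} (hS : S.ShortExact) (P : A) [Injective S.X₂] (n : ℕ) :
    Ext.{w} P S.X₃ (n + 1) ≃+ Ext.{w} P S.X₁ (n + 2) :=
  AddEquiv.ofBijective (hS.extClass.postcomp P rfl) (by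
    constructor
    · rw [injective_iff_map_eq_zero]
      intro x hx
      obtain ⟨x₂, rfl⟩ := Ext.covariant_sequence_exact₃ P hS x rfl hx
      rw [Ext.eq_zero_of_injective x₂, Ext.zero_comp]
    · intro x
      exact Ext.covariant_sequence_exact₁ P hS x (Ext.eq_zero_of_injective _) rfl)

variable (Φ : B ⥤ A) [Φ.Additive] [PreservesFiniteLimits Φ] [PreservesFiniteColimits Φ]
  (hΦ : ∀ I : B, Injective I → Injective (Φ.obj I)) (P : A) (Q : B)
  (e : ∀ F : B, (P ⟶ Φ.obj F) ≃+ (Q ⟶ F))
  (he : ∀ {F G : B} (g : F ⟶ G) (x : P ⟶ Φ.obj F), e G (x ≫ Φ.map g) = e F x ≫ g)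

include hΦ he in
/-- An exact functor preserving injectives and the maps out of an object preserves `Ext` out of it. -/
theorem nonempty_ext_equiv (p : ℕ) : ∀ F : B, Nonempty (Ext.{w} P (Φ.obj F) p ≃+ Ext.{w} Q F p) := by
  induction p with
  | zero => exact fun F => ⟨Ext.addEquiv₀.trans ((e F).trans Ext.addEquiv₀.symm)⟩
  | succ n ih =>
    intro F
    let S : ShortComplex B := ShortComplex.mk (Injective.ι F) (cokernel.π (Injective.ι F)) (cokernel.condition _)
    have hS : S.ShortExact := { exact := ShortComplex.exact_of_g_is_cokernel _ (cokernelIsCokernel _) }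
    haveI : Injective S.X₂ := inferInstanceAs (Injective (Injective.under F))
    have hS' : (S.map Φ).ShortExact := hS.map_of_exact Φ
    haveI : Injective (S.map Φ).X₂ := hΦ _ inferInstance
    cases n with
    | zero =>
      haveI : Subsingleton (Ext.{w} P (S.map Φ).X₂ 1) := subsingleton_of_forall_eq 0 fun x => Ext.eq_zero_of_injective x
      haveI : Subsingleton (Ext.{w} Q S.X₂ 1) := subsingleton_of_forall_eq 0 fun x => Ext.eq_zero_of_injective x
      have hk : (conn hS' P).ker.map ((e S.X₃) : (P ⟶ Φ.obj S.X₃) →+ (Q ⟶ S.X₃)) = (conn hS Q).ker := by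
        ext φ
        constructor
        · rintro ⟨ψ, hψ, rfl⟩
          obtain ⟨χ, rfl⟩ := (conn_eq_zero_iff hS' P ψ).mp hψ
          exact (conn_eq_zero_iff hS Q _).mpr ⟨e _ χ, (he S.g χ).symm⟩
        · intro hφ
          obtain ⟨χ, rfl⟩ := (conn_eq_zero_iff hS Q φ).mp hφ
          refine ⟨(e _).symm χ ≫ Φ.map S.g, (conn_eq_zero_iff hS' P _).mpr ⟨_, rfl⟩, ?_⟩
          exact (he S.g _).trans (congrArg (· ≫ S.g) ((e _).apply_symm_apply χ))
      exact ⟨((QuotientAddGroup.quotientKerEquivOfSurjective _ (surjective_conn hS' P)).symm.trans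
        (QuotientAddGroup.congr _ _ (e S.X₃) hk)).trans
        (QuotientAddGroup.quotientKerEquivOfSurjective _ (surjective_conn hS Q))⟩
    | succ m =>
      obtain ⟨ee⟩ := ih S.X₃
      exact ⟨((shift hS' P m).symm.trans ee).trans (shift hS Q m)⟩

end Ext

section Sheaf

variable {C : Type u'} [Category.{v} C] {D : Type u''} [Category.{v'} D] {J : GrothendieckTopology C}
  {K : GrothendieckTopology D} [HasSheafify J AddCommGrpCat.{w}] [HasSheafify K AddCommGrpCat.{w}]
  [HasExt.{w'} (Sheaf J AddCommGrpCat.{w})] [HasExt.{w'} (Sheaf K AddCommGrpCat.{w})]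
  [EnoughInjectives (Sheaf K AddCommGrpCat.{w})]

/-- Cohomology along an exact functor preserving injectives and global sections. -/
theorem nonempty_H_equiv (u : C ⥤ D) [u.IsContinuous J K] {tC : C} (hC : IsTerminal tC)
    (hD : IsTerminal (u.obj tC))
    [(u.sheafPushforwardContinuous AddCommGrpCat.{w} J K).Additive]
    [PreservesFiniteLimits (u.sheafPushforwardContinuous AddCommGrpCat.{w} J K)]
    [PreservesFiniteColimits (u.sheafPushforwardContinuous AddCommGrpCat.{w} J K)]
    (hu : ∀ I, Injective I → Injective ((u.sheafPushforwardContinuous AddCommGrpCat.{w} J K).obj I))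
    (F : Sheaf K AddCommGrpCat.{w}) (p : ℕ) :
    Nonempty (Sheaf.H.{w'} ((u.sheafPushforwardContinuous AddCommGrpCat.{w} J K).obj F) p ≃+ Sheaf.H.{w'} F p) := by
  let eC := fun G => AddEquiv.trans ((constantSheafAdj J AddCommGrpCat.{w} hC).homAddEquiv
    (AddCommGrpCat.of (ULift ℤ)) G) (AddCommGrpCat.uliftZMultiplesAddEquiv _)
  let eD := fun G => AddEquiv.trans ((constantSheafAdj K AddCommGrpCat.{w} hD).homAddEquiv
    (AddCommGrpCat.of (ULift ℤ)) G) (AddCommGrpCat.uliftZMultiplesAddEquiv _)
  refine nonempty_ext_equiv _ hu _ _ (fun G => (eC _).trans (eD G).symm) ?_ p F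
  intro G G' g x
  apply (eD G').injective
  have hCg : eC _ (x ≫ (u.sheafPushforwardContinuous AddCommGrpCat.{w} J K).map g) =
      g.hom.app (op (u.obj tC)) (eC _ x) := by
    simp only [eC, AddEquiv.trans_apply]; rfl
  have hDg : ∀ y : _ ⟶ G, eD G' (y ≫ g) = g.hom.app (op (u.obj tC)) (eD G y) := fun y => by
    simp only [eD, AddEquiv.trans_apply]; rfl
  exact ((eD G').apply_symm_apply _).trans (hCg.trans
    ((congrArg (g.hom.app (op (u.obj tC))) ((eD G).apply_symm_apply _)).symm.trans (hDg _).symm))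

end Sheaf

section FullyFaithful

variable {C : Type u'} [Category.{v} C] {D : Type u''} [Category.{v'} D] (J : GrothendieckTopology C)
  (K : GrothendieckTopology D) (u : C ⥤ D) [u.Full] [u.Faithful] [u.IsContinuous J K] [u.IsCocontinuous J K]
  (A : Type w) [Category.{w'} A] [∀ (F : Cᵒᵖ ⥤ A), u.op.HasPointwiseRightKanExtension F]
  [(u.sheafPushforwardContinuous A J K).IsRightAdjoint]

/-- The unit of the inverse image along a fully faithful cocontinuous functor is an isomorphism. -/
theorem isIso_unit_sheafPullback (F : Sheaf J A) :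
    IsIso ((u.sheafAdjunctionContinuous A J K).unit.app F) := by
  haveI : IsIso (u.sheafAdjunctionCocontinuous A J K).counit := by
    haveI : ∀ G, IsIso ((u.sheafAdjunctionCocontinuous A J K).counit.app G) := fun G => by
      refine @isIso_of_fully_faithful _ _ _ _ (sheafToPresheaf _ _) _ _ _ _ _ ?_
      change IsIso ((u.sheafAdjunctionCocontinuous A J K).counit.app G).hom
      rw [u.sheafAdjunctionCocontinuous_counit_app_hom]
      infer_instance
    exact NatIso.isIso_of_isIso_app _
  let t : Adjunction.Triple (u.sheafPullback A J K) (u.sheafPushforwardContinuous A J K)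
      (u.sheafPushforwardCocontinuous A J K) :=
    { adj₁ := u.sheafAdjunctionContinuous A J K, adj₂ := u.sheafAdjunctionCocontinuous A J K }
  let h := t.fullyFaithfulEquiv.symm (u.sheafAdjunctionCocontinuous A J K).fullyFaithfulROfIsIsoCounit
  haveI := h.full
  haveI := h.faithful
  infer_instance

end FullyFaithful

section Pull

instance full_a (S : Scheme.{u}) : (EtFppf.a S).Full := inferInstanceAs (Scheme.Etale.forget S).Full

instance faithful_a (S : Scheme.{u}) : (EtFppf.a S).Faithful := inferInstanceAs (Scheme.Etale.forget S).Faithful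

variable {S T : Scheme.{u}} (f : T ⟶ S)

/-- Base change of small and big sites. -/
def pushSquareIso : BigSite.resEt Scheme.etalePrecoverage T ⋙ EtCoh.push f ≅
    BigSite.pushBig Scheme.etalePrecoverage f AddCommGrpCat.{u + 1} ⋙ BigSite.resEt Scheme.etalePrecoverage S :=
  let e : EtFppf.a S ⋙ Over.pullback f ≅ EtCoh.bc f ⋙ EtFppf.a T :=
    NatIso.ofComponents (fun U => Iso.refl _) (fun {U V} φ => by
      ext : 1
      simp
      rfl)
  NatIso.ofComponents
    (fun F => (fullyFaithfulSheafToPresheaf _ _).preimageIso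
      (Functor.isoWhiskerRight (NatIso.op e) F.obj))
    (fun {F G} φ => Sheaf.hom_ext (by ext U x; exact (ConcreteCategory.congr_hom (φ.hom.naturality _) x).symm))

/-- The restriction of an inverse image along the base. -/
def resPullIso (F : EtCoh.Ab S) :
    (BigSite.resEtAlong Scheme.etalePrecoverage f).obj ((BigSite.piEtPull Scheme.etalePrecoverage S).obj F) ≅
      (EtCoh.pull f).obj F :=
  haveI := fun G => isIso_unit_sheafPullback T.smallEtaleTopology (QuotSh.J Scheme.etalePrecoverage T) (EtFppf.a T)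
    AddCommGrpCat.{u + 1} G
  let e : BigSite.piEtPull Scheme.etalePrecoverage S ⋙ BigSite.pullBig Scheme.etalePrecoverage f AddCommGrpCat.{u + 1} ≅
      EtCoh.pull f ⋙ BigSite.piEtPull Scheme.etalePrecoverage T :=
    Adjunction.leftAdjointUniq
      (((BigSite.piEtAdj Scheme.etalePrecoverage S).comp
        (BigSite.bigAdj Scheme.etalePrecoverage f AddCommGrpCat.{u + 1})).ofNatIsoRight (pushSquareIso f).symm)
      ((EtCoh.pullPushAdj f).comp (BigSite.piEtAdj Scheme.etalePrecoverage T))
  (BigSite.resEt Scheme.etalePrecoverage T).mapIso (e.app F) ≪≫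
    (asIso ((BigSite.piEtAdj Scheme.etalePrecoverage T).unit.app ((EtCoh.pull f).obj F))).symm

/-- Big and small etale cohomology. -/
theorem nonempty_H_resEt_equiv (X : Scheme.{u}) (F : BigSite.Ab Scheme.etalePrecoverage X) (p : ℕ) :
    Nonempty (EtCoh.H X ((BigSite.resEt Scheme.etalePrecoverage X).obj F) p ≃+
      BigSite.H Scheme.etalePrecoverage X F p) := by
  refine nonempty_H_equiv (EtFppf.a X) (tC := EtCoh.top X) ?_ ?_ (fun I hI => injective_resEt _ X I) F p
  · exact MorphismProperty.Over.mkIdTerminal _ X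
  · exact Over.mkIdTerminal

end Pull

end Groth.Agent.BigSiteLib
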