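import Groth.Agent.BigSiteLib.Shriek

/-!
Base change isomorphisms for direct images on big sites and their derived versions.
-/

set_option autoImplicit false
set_option backward.isDefEq.respectTransparency false
set_option backward.defeqAttrib.useBackward true
universe v' u' u

noncomputable section

namespace Groth.Agent.BigSiteLib

open CategoryTheory Limits Opposite AlgebraicGeometry

variable {S T S' T' : Scheme.{u}} {f : T ⟶ S} {g : S' ⟶ S} {g' : T' ⟶ T} {f' : T' ⟶ S'}

/-- Base change commutes with composition in a cartesian square. -/
def squareObjIso (hsq : IsPullback g' f' f g) (U : Over S') :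
    (Over.pullback f).obj ((Over.map g).obj U) ≅ (Over.map g').obj ((Over.pullback f').obj U) :=
  have hc : IsPullback (pullback.fst U.hom f') (pullback.snd U.hom f' ≫ g') (U.hom ≫ g) f :=
    (IsPullback.of_hasPullback U.hom f').paste_vert hsq.flip
  Over.isoMk hc.isoPullback.symm (by
    change hc.isoPullback.inv ≫ pullback.snd U.hom f' ≫ g' = pullback.snd (U.hom ≫ g) f
    exact hc.isoPullback_inv_snd)

lemma squareObjIso_fst (hsq : IsPullback g' f' f g) (U : Over S') :
    (squareObjIso hsq U).hom.left ≫ pullback.fst U.hom f' = pullback.fst (U.hom ≫ g) f :=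
  IsPullback.isoPullback_inv_fst _

lemma squareObjIso_snd (hsq : IsPullback g' f' f g) (U : Over S') :
    (squareObjIso hsq U).hom.left ≫ pullback.snd U.hom f' ≫ g' = pullback.snd (U.hom ≫ g) f :=
  IsPullback.isoPullback_inv_snd _

/-- Base change commutes with composition in a cartesian square. -/
def squareIso (hsq : IsPullback g' f' f g) :
    Over.map g ⋙ Over.pullback f ≅ Over.pullback f' ⋙ Over.map g' :=
  NatIso.ofComponents (squareObjIso hsq) fun {U U'} φ => by
    ext : 1
    have hc : IsPullback (pullback.fst U'.hom f') (pullback.snd U'.hom f' ≫ g') (U'.hom ≫ g) f :=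
      (IsPullback.of_hasPullback U'.hom f').paste_vert hsq.flip
    refine hc.hom_ext ?_ ?_
    · simp only [Functor.comp_obj, Functor.comp_map, Over.comp_left, Category.assoc]
      rw [squareObjIso_fst]
      simp [Over.pullback]
      rw [reassoc_of% squareObjIso_fst hsq U]
    · simp only [Functor.comp_obj, Functor.comp_map, Over.comp_left, Category.assoc]
      rw [squareObjIso_snd]
      simp [Over.pullback]
      rw [squareObjIso_snd]

variable (K : Precoverage Scheme.{u})

/-- Direct image commutes with restriction. -/
def pushPullIso (hsq : IsPullback g' f' f g) (A : Type u') [Category.{v'} A] :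
    BigSite.pushBig K f A ⋙ BigSite.pullBig K g A ≅ BigSite.pullBig K g' A ⋙ BigSite.pushBig K f' A :=
  NatIso.ofComponents
    (fun F => (fullyFaithfulSheafToPresheaf _ _).preimageIso
      (Functor.isoWhiskerRight (NatIso.op (squareIso hsq)).symm F.obj))
    (fun {F G} φ => Sheaf.hom_ext (by ext U; exact (φ.hom.naturality _).symm))

/-- The square of base change functors from the small etale site. -/
def smallSquareIso (hsq : IsPullback g' f' f g) :
    EtFppf.a S' ⋙ Over.map g ⋙ Over.pullback f ≅ EtCoh.bc f' ⋙ EtFppf.a T' ⋙ Over.map g' :=
  Functor.isoWhiskerLeft (EtFppf.a S') (squareIso hsq) ≪≫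
    NatIso.ofComponents (fun U => Iso.refl _) (fun {U V} φ => by
      ext : 1
      simp
      rfl)

/-- Direct image commutes with restriction to the small etale sites. -/
def pushResIso (hsq : IsPullback g' f' f g) [BigSite.AEtCont K S'] [BigSite.AEtCont K T'] :
    BigSite.pushBig K f AddCommGrpCat.{u + 1} ⋙ BigSite.resEtAlong K g ≅
      BigSite.resEtAlong K g' ⋙ EtCoh.push f' :=
  NatIso.ofComponents
    (fun F => (fullyFaithfulSheafToPresheaf _ _).preimageIso
      (Functor.isoWhiskerRight (NatIso.op (smallSquareIso hsq)).symm F.obj))
    (fun {F G} φ => Sheaf.hom_ext (by ext U x; exact (ConcreteCategory.congr_hom (φ.hom.naturality _) x).symm))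

section Derived

variable {C D C' D' : Type*} [Category C] [Category D] [Category C'] [Category D'] [Abelian C] [Abelian D]
  [Abelian C'] [Abelian D'] [HasInjectiveResolutions C] [HasInjectiveResolutions C']

/-- The image of an injective resolution under an exact functor preserving injectives. -/
def mapRes (G : C ⥤ C') [G.Additive] [PreservesFiniteLimits G] [PreservesFiniteColimits G]
    (hG : ∀ I : C, Injective I → Injective (G.obj I)) {X : C} (R : InjectiveResolution X) :
    InjectiveResolution (G.obj X) where
  cocomplex := (G.mapHomologicalComplex _).obj R.cocomplex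
  injective n := hG _ (R.injective n)
  ι := ((HomologicalComplex.singleMapHomologicalComplex G (ComplexShape.up ℕ) 0).inv.app X) ≫
    (G.mapHomologicalComplex _).map R.ι
  quasiIso := inferInstance

/-- Derived functors commute with exact functors preserving injectives. -/
def derivedSquareIso (F : C ⥤ D) [F.Additive] (F' : C' ⥤ D') [F'.Additive] (G : C ⥤ C') [G.Additive]
    [PreservesFiniteLimits G] [PreservesFiniteColimits G] (hG : ∀ I : C, Injective I → Injective (G.obj I))
    (H : D ⥤ D') [H.Additive] [PreservesFiniteLimits H] [PreservesFiniteColimits H] (e : F ⋙ H ≅ G ⋙ F')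
    (X : C) (q : ℕ) : H.obj ((F.rightDerived q).obj X) ≅ (F'.rightDerived q).obj (G.obj X) :=
  let R := Classical.choice (HasInjectiveResolution.out (Z := X))
  H.mapIso (R.isoRightDerivedObj F q) ≪≫
    ((((F.mapHomologicalComplex (ComplexShape.up ℕ)).obj R.cocomplex).sc q).mapHomologyIso H).symm ≪≫
    (HomologicalComplex.homologyFunctor D' (ComplexShape.up ℕ) q).mapIso
      ((NatIso.mapHomologicalComplex e (ComplexShape.up ℕ)).app R.cocomplex) ≪≫
    ((mapRes G hG R).isoRightDerivedObj F' q).symm

end Derived

end Groth.Agent.BigSiteLib
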