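import Groth.Agent.BigSiteLib.AcyclicDerived

/-!
Flat cohomology of acyclic sheaves is etale cohomology.
-/

set_option autoImplicit false
set_option linter.style.haveILetI false
set_option backward.isDefEq.respectTransparency false
set_option backward.defeqAttrib.useBackward true
universe u

noncomputable section

namespace Groth.Agent.BigSiteLib

open CategoryTheory Limits Opposite Abelian AlgebraicGeometry

variable {S : Scheme.{u}}

/-- Fppf cohomology of acyclic sheaves is étale cohomology. -/
theorem nonempty_H_of_acyc [EtFppf.ACont S] (F : EtFppf.AbF S) (hF : Acyc F) (p : ℕ) :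
    Nonempty (EtCoh.H S ((EtFppf.aPush S).obj F) p ≃+ EtFppf.HF S F p) := by
  haveI : (EtFppf.aPush S).IsRightAdjoint := (EtFppf.aAdj S).isRightAdjoint
  have hC : IsTerminal (EtCoh.top S) := MorphismProperty.Over.mkIdTerminal _ S
  have hD : IsTerminal ((EtFppf.a S).obj (EtCoh.top S)) := Over.mkIdTerminal
  let eC := fun G => AddEquiv.trans ((constantSheafAdj S.smallEtaleTopology AddCommGrpCat.{u + 1} hC).homAddEquiv
    (AddCommGrpCat.of (ULift ℤ)) G) (AddCommGrpCat.uliftZMultiplesAddEquiv _)
  let eD := fun G => AddEquiv.trans ((constantSheafAdj (EtFppf.J S) AddCommGrpCat.{u + 1} hD).homAddEquiv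
    (AddCommGrpCat.of (ULift ℤ)) G) (AddCommGrpCat.uliftZMultiplesAddEquiv _)
  refine nonempty_ext_equiv_of_class (EtFppf.aPush S) Acyc aPush_step
    (fun I hI => haveI := hI; injective_resEt Scheme.fppfPrecoverage S I) _ _
    (fun G => (eC _).trans (eD G).symm) ?_ p _ hF
  intro G G' g x
  apply (eD G').injective
  have hCg : eC _ (x ≫ (EtFppf.aPush S).map g) =
      g.hom.app (op ((EtFppf.a S).obj (EtCoh.top S))) (eC _ x) := by
    simp only [eC, AddEquiv.trans_apply]; rfl
  have hDg : ∀ y : _ ⟶ G, eD G' (y ≫ g) = g.hom.app (op ((EtFppf.a S).obj (EtCoh.top S))) (eD G y) := fun y => by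
    simp only [eD, AddEquiv.trans_apply]; rfl
  exact ((eD G').apply_symm_apply _).trans (hCg.trans
    ((congrArg (g.hom.app (op ((EtFppf.a S).obj (EtCoh.top S)))) ((eD G).apply_symm_apply _)).symm.trans (hDg _).symm))

end Groth.Agent.BigSiteLib
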