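import Groth.Agent.BigSiteLib.GmElem
import Groth.Agent.SmSect.Basic

/-!
Systems of equations over an affine object: etale local solutions from infinitesimal lifting and geometric points.
-/

set_option autoImplicit false
set_option linter.style.haveILetI false
set_option backward.isDefEq.respectTransparency false
set_option backward.defeqAttrib.useBackward true
universe u

noncomputable section

namespace Groth.Agent.BigSiteLib

open CategoryTheory Limits Opposite AlgebraicGeometry MvPolynomial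

variable {T : Scheme.{u}} (Y₀ : Over T) [IsAffine Y₀.left]

/-- The object of an algebra over the functions. -/
abbrev algObj (B : Type u) [CommRing B] [Algebra (Gam Y₀) B] : Over T :=
  Over.mk ((Spec.map (CommRingCat.ofHom (algebraMap (Gam Y₀) B)) ≫ Y₀.left.isoSpec.inv) ≫ Y₀.hom)

instance (B : Type u) [CommRing B] [Algebra (Gam Y₀) B] : IsAffine (algObj Y₀ B).left :=
  inferInstanceAs (IsAffine (Spec _))

/-- Its structure map. -/
abbrev algStr (B : Type u) [CommRing B] [Algebra (Gam Y₀) B] : algObj Y₀ B ⟶ Y₀ :=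
  Over.homMk (Spec.map (CommRingCat.ofHom (algebraMap (Gam Y₀) B)) ≫ Y₀.left.isoSpec.inv)

/-- Functoriality in the algebra. -/
def algMap {B B' : Type u} [CommRing B] [Algebra (Gam Y₀) B] [CommRing B'] [Algebra (Gam Y₀) B']
    (φ : B →ₐ[Gam Y₀] B') : algObj Y₀ B' ⟶ algObj Y₀ B :=
  Over.homMk (Spec.map (CommRingCat.ofHom (φ : B →+* B'))) (by
    change Spec.map _ ≫ (Spec.map _ ≫ _) ≫ Y₀.hom = (Spec.map _ ≫ _) ≫ Y₀.hom
    rw [← Category.assoc (Spec.map (CommRingCat.ofHom (φ : B →+* B'))), ← Category.assoc (Spec.map _),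
      ← Spec.map_comp, ← CommRingCat.ofHom_comp, φ.comp_algebraMap])

lemma algMap_str {B B' : Type u} [CommRing B] [Algebra (Gam Y₀) B] [CommRing B'] [Algebra (Gam Y₀) B']
    (φ : B →ₐ[Gam Y₀] B') : algMap Y₀ φ ≫ algStr Y₀ B = algStr Y₀ B' := by
  refine Over.OverMorphism.ext ?_
  change Spec.map _ ≫ Spec.map _ ≫ _ = Spec.map _ ≫ _
  rw [← Spec.map_comp_assoc, ← CommRingCat.ofHom_comp, φ.comp_algebraMap]

/-- Its functions. -/
def pig (B : Type u) [CommRing B] [Algebra (Gam Y₀) B] : Gam (algObj Y₀ B) ≃+* B :=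
  (Scheme.ΓSpecIso (CommRingCat.of B)).commRingCatIsoToRingEquiv

lemma pig_natural {B B' : Type u} [CommRing B] [Algebra (Gam Y₀) B] [CommRing B'] [Algebra (Gam Y₀) B']
    (φ : B →ₐ[Gam Y₀] B') (x : Gam (algObj Y₀ B)) :
    pig Y₀ B' (rg (algMap Y₀ φ) x) = φ (pig Y₀ B x) :=
  congr($(Scheme.ΓSpecIso_naturality (CommRingCat.ofHom (φ : B →+* B'))) x)

lemma pig_symm_natural {B B' : Type u} [CommRing B] [Algebra (Gam Y₀) B] [CommRing B'] [Algebra (Gam Y₀) B']
    (φ : B →ₐ[Gam Y₀] B') (x : B) :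
    rg (algMap Y₀ φ) ((pig Y₀ B).symm x) = (pig Y₀ B').symm (φ x) := by
  rw [RingEquiv.eq_symm_apply, pig_natural, RingEquiv.apply_symm_apply]

variable {σ J : Type u} [Finite σ] [Finite J]
  (rel : ∀ Y : Over T, IsAffine Y.left → (Y ⟶ Y₀) → (σ → Gam Y) → (J → Gam Y))
  (hnat : ∀ (Y Y' : Over T) (hY : IsAffine Y.left) (hY' : IsAffine Y'.left) (a : Y ⟶ Y₀) (g : Y' ⟶ Y)
    (w : σ → Gam Y) (j : J), rg g (rel Y hY a w j) = rel Y' hY' (g ≫ a) (fun s => rg g (w s)) j)
  (hlift : ∀ (Y Y' : Over T) (hY : IsAffine Y.left) (hY' : IsAffine Y'.left) (a : Y ⟶ Y₀) (g : Y' ⟶ Y),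
    SqZero g → ∀ w' : σ → Gam Y', rel Y' hY' (g ≫ a) w' = 0 →
      ∃ w, rel Y hY a w = 0 ∧ (fun s => rg g (w s)) = w')
  (hpt : ∀ (K : Type u) [Field K] [IsAlgClosed K] (a : Spec (CommRingCat.of K) ⟶ Y₀.left),
    ∃ w, rel (Over.mk (a ≫ Y₀.hom)) (inferInstanceAs (IsAffine (Spec _))) (Over.homMk a) w = 0)

/-- The equations. -/
def locusEq (j : J) : MvPolynomial σ (Gam Y₀) :=
  pig Y₀ _ (rel _ inferInstance (algStr Y₀ _) (fun s => (pig Y₀ _).symm (X s)) j)

/-- The algebra of solutions. -/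
abbrev LocusRing : Type u := MvPolynomial σ (Gam Y₀) ⧸ Ideal.span (Set.range (locusEq Y₀ rel))

include hnat

lemma eval_locusEq {B : Type u} [CommRing B] [Algebra (Gam Y₀) B] (φ : MvPolynomial σ (Gam Y₀) →ₐ[Gam Y₀] B) (j : J) :
    φ (locusEq Y₀ rel j) =
      pig Y₀ B (rel _ inferInstance (algStr Y₀ B) (fun s => (pig Y₀ B).symm (φ (X s))) j) := by
  rw [locusEq, ← pig_natural, hnat _ _ inferInstance inferInstance (algStr Y₀ _) (algMap Y₀ φ), algMap_str]
  simp only [pig_symm_natural]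

lemma rel_eq_zero_of_algHom {B : Type u} [CommRing B] [Algebra (Gam Y₀) B] (f : LocusRing Y₀ rel →ₐ[Gam Y₀] B) :
    rel _ inferInstance (algStr Y₀ B) (fun s => (pig Y₀ B).symm (f (Ideal.Quotient.mk _ (X s)))) = 0 := by
  funext j
  apply (pig Y₀ B).injective
  rw [Pi.zero_apply, map_zero]
  refine (eval_locusEq Y₀ rel hnat (f.comp (Ideal.Quotient.mkₐ _ _)) j).symm.trans ?_
  change f (Ideal.Quotient.mk _ (locusEq Y₀ rel j)) = 0
  rw [Ideal.Quotient.eq_zero_iff_mem.mpr (Ideal.subset_span (Set.mem_range_self j)), map_zero]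

lemma exists_algHom {B : Type u} [CommRing B] [Algebra (Gam Y₀) B] (w : σ → Gam (algObj Y₀ B))
    (hw : rel _ inferInstance (algStr Y₀ B) w = 0) :
    ∃ f : LocusRing Y₀ rel →ₐ[Gam Y₀] B, ∀ s, f (Ideal.Quotient.mk _ (X s)) = pig Y₀ B (w s) := by
  let φ : MvPolynomial σ (Gam Y₀) →ₐ[Gam Y₀] B := aeval fun s => pig Y₀ B (w s)
  have hφ : ∀ j, φ (locusEq Y₀ rel j) = 0 := fun j => by
    rw [eval_locusEq Y₀ rel hnat φ j]
    simp only [φ, aeval_X, RingEquiv.symm_apply_apply]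
    rw [hw, Pi.zero_apply, map_zero]
  have hle : Ideal.span (Set.range (locusEq Y₀ rel)) ≤ RingHom.ker φ := by
    rw [Ideal.span_le]
    rintro _ ⟨j, rfl⟩
    exact hφ j
  refine ⟨Ideal.Quotient.liftₐ _ φ fun a ha => hle ha, fun s => ?_⟩
  change φ (X s) = _
  exact aeval_X _ _

include hlift in
lemma smooth_locusRing : Algebra.Smooth (Gam Y₀) (LocusRing Y₀ rel) := by
  refine { formallySmooth := Algebra.FormallySmooth.of_comp_surjective fun B _ _ I hI f => ?_,
           finitePresentation := Algebra.FinitePresentation.quotient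
             (Submodule.fg_span (Set.finite_range _)) }
  have hs : SqZero (algMap Y₀ (Ideal.Quotient.mkₐ (Gam Y₀) I)) := by
    refine ⟨fun y => ?_, fun a b ha hb => ?_⟩
    · obtain ⟨x, hx⟩ := Ideal.Quotient.mk_surjective (pig Y₀ _ y)
      refine ⟨(pig Y₀ B).symm x, ?_⟩
      apply (pig Y₀ (B ⧸ I)).injective
      rw [pig_natural, RingEquiv.apply_symm_apply]
      exact hx
    · have h : ∀ c, rg (algMap Y₀ (Ideal.Quotient.mkₐ (Gam Y₀) I)) c = 0 → pig Y₀ B c ∈ I := fun c hc => by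
        rw [← Ideal.Quotient.eq_zero_iff_mem]
        have := pig_natural Y₀ (Ideal.Quotient.mkₐ (Gam Y₀) I) c
        rw [hc, map_zero] at this
        exact this.symm
      apply (pig Y₀ B).injective
      rw [map_mul, map_zero, ← Ideal.mem_bot, ← hI, pow_two]
      exact Ideal.mul_mem_mul (h a ha) (h b hb)
  obtain ⟨w, hw, hwf⟩ := hlift _ _ inferInstance inferInstance (algStr Y₀ B) _ hs
    (fun s => (pig Y₀ (B ⧸ I)).symm (f (Ideal.Quotient.mk _ (X s)))) (by
      rw [algMap_str]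
      exact rel_eq_zero_of_algHom Y₀ rel hnat f)
  obtain ⟨g, hg⟩ := exists_algHom Y₀ rel hnat w hw
  refine ⟨g, Ideal.Quotient.algHom_ext _ (MvPolynomial.algHom_ext fun s => ?_)⟩
  change Ideal.Quotient.mkₐ (Gam Y₀) I (g (Ideal.Quotient.mk _ (X s))) = f (Ideal.Quotient.mk _ (X s))
  rw [hg, ← pig_natural, congrFun hwf s, RingEquiv.apply_symm_apply]

include hlift hpt in
/-- Solutions exist etale locally. -/
theorem exists_etale_zero (z : Y₀.left) : ∃ (Y : Over T) (hY : IsAffine Y.left) (a : Y ⟶ Y₀) (w : σ → Gam Y),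
    rel Y hY a w = 0 ∧
      ∃ (U : Over T) (k : U ⟶ Y₀) (h : U ⟶ Y), h ≫ a = k ∧ Etale k.left ∧ z ∈ Set.range k.left := by
  let Q := LocusRing Y₀ rel
  haveI := smooth_locusRing Y₀ rel hnat hlift
  haveI : Smooth (Spec.map (CommRingCat.ofHom (algebraMap (Gam Y₀) Q))) := by
    rw [HasRingHomProperty.Spec_iff (P := @Smooth)]
    exact RingHom.smooth_algebraMap.mpr inferInstance
  let a := algStr Y₀ Q
  haveI : Smooth a.left := inferInstanceAs (Smooth (Spec.map _ ≫ Y₀.left.isoSpec.inv))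
  let q : PrimeSpectrum (Gam Y₀) := Y₀.left.isoSpec.hom z
  let K := AlgebraicClosure q.asIdeal.ResidueField
  obtain ⟨w, hw⟩ := hpt K (Spec.map (CommRingCat.ofHom (algebraMap (Gam Y₀) K)) ≫ Y₀.left.isoSpec.inv)
  obtain ⟨f, -⟩ := exists_algHom Y₀ rel hnat (B := K) w hw
  let x : PrimeSpectrum Q := ⟨RingHom.ker (f : Q →+* K), RingHom.ker_isPrime _⟩
  have hx : a.left x = z := by
    have e : Spec.map (CommRingCat.ofHom (algebraMap (Gam Y₀) Q)) x = q := by
      refine PrimeSpectrum.ext ?_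
      change (RingHom.ker (f : Q →+* K)).comap (algebraMap (Gam Y₀) Q) = q.asIdeal
      rw [RingHom.comap_ker, f.comp_algebraMap,
        IsScalarTower.algebraMap_eq (Gam Y₀) q.asIdeal.ResidueField K,
        RingHom.ker_comp_of_injective _ (algebraMap q.asIdeal.ResidueField K).injective,
        Ideal.ker_algebraMap_residueField]
    change Y₀.left.isoSpec.inv (Spec.map (CommRingCat.ofHom (algebraMap (Gam Y₀) Q)) x) = z
    rw [e]
    exact congr($(Y₀.left.isoSpec.hom_inv_id) z)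
  obtain ⟨S', g, s', hg, hs', h, hh⟩ := Groth.Agent.SmSect.exists_etale_section a.left x
  refine ⟨algObj Y₀ Q, inferInstance, a, _, rel_eq_zero_of_algHom Y₀ rel hnat (AlgHom.id _ _),
    Over.mk (g ≫ Y₀.hom), Over.homMk g, Over.homMk h ?_, ?_, hg, s', hs'.trans hx⟩
  · change h ≫ a.left ≫ Y₀.hom = g ≫ Y₀.hom
    rw [reassoc_of% hh]
  · exact Over.OverMorphism.ext hh

end Groth.Agent.BigSiteLib
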