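import Groth.Prelude.Def_BigSite
import Groth.Agent.EtPushStalk.Lift
import Groth.Agent.SmSect.Basic

/-!
Base change along a closed immersion is almost cocontinuous on big etale and smooth sites.
-/

set_option autoImplicit false
set_option backward.isDefEq.respectTransparency false
universe u

noncomputable section

namespace Groth.Agent.BigSiteLib

open CategoryTheory Limits AlgebraicGeometry

variable (P : MorphismProperty Scheme.{u}) [P.IsStableUnderBaseChange] [P.IsMultiplicative]

lemma bot_mem_of_isEmpty {X : Scheme.{u}} (U : Over X) [IsEmpty U.left] :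
    (⊥ : Sieve U) ∈ QuotSh.J (Scheme.precoverage P) X U := by
  rw [GrothendieckTopology.mem_over_iff]
  refine GrothendieckTopology.superset_covering _ ?_ (Precoverage.generate_mem_toGrothendieck
    (R := Presieve.ofArrows (fun i : PEmpty.{u + 1} => i.elim) (fun i => i.elim)) ?_)
  · rw [Sieve.generate_le_iff]
    rintro _ _ ⟨i⟩
    exact i.elim
  · exact Scheme.ofArrows_mem_precoverage_iff _ |>.mpr ⟨fun x => isEmptyElim x, fun i => i.elim⟩

variable {X Y : Scheme.{u}} (f : X ⟶ Y) [IsClosedImmersion f]

theorem almostCocontinuous_of_sections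
    (hEt : ∀ ⦃A B : Scheme.{u}⦄ (g : A ⟶ B), Etale g → P g) (hSm : ∀ ⦃A B : Scheme.{u}⦄ (g : A ⟶ B), P g → Smooth g) :
    BigSite.IsAlmostCocontinuous (Over.pullback f) (QuotSh.J (Scheme.precoverage P) Y)
      (QuotSh.J (Scheme.precoverage P) X) := by
  intro V R hR
  let L := QuotSh.J (Scheme.precoverage P) X
  let F := Over.pullback f
  let R' : Sieve V :=
    { arrows := fun Z g => (⊥ : Sieve (F.obj Z)) ∈ L (F.obj Z) ∨ R (F.map g)
      downward_closed := by
        rintro Z Z' g (h | h) k
        · exact Or.inl (by simpa using L.pullback_stable (F.map k) h)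
        · exact Or.inr (by rw [F.map_comp]; exact R.downward_closed h _) }
  refine ⟨R', ?_, fun Z g hg => hg⟩
  let p : pullback V.hom f ⟶ V.left := pullback.fst V.hom f
  haveI : IsClosedImmersion p := MorphismProperty.pullback_fst _ _ ‹_›
  have key : ∀ v : V.left, ∃ (V' : Scheme.{u}) (b : V' ⟶ V.left),
      P b ∧ v ∈ Set.range b ∧ R' (Over.homMk b : Over.mk (b ≫ V.hom) ⟶ V) := by
    intro v
    by_cases hv : v ∈ Set.range p
    · obtain ⟨z, rfl⟩ := hv
      rw [GrothendieckTopology.mem_over_iff] at hR
      obtain ⟨𝒰, hle⟩ := (Scheme.mem_grothendieckTopology_iff (P := P)).mp hR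
      obtain ⟨i, x, hx⟩ := 𝒰.exists_eq z
      let U : Scheme.{u} := 𝒰.X i
      let u : U ⟶ pullback V.hom f := 𝒰.f i
      haveI : Smooth u := hSm _ (𝒰.map_prop i)
      obtain ⟨W, w, y, hw, hy, l, hl⟩ := SmSect.exists_etale_section u x
      haveI := hw
      obtain ⟨T, h, -, ⟨o, ho⟩⟩ := EtPushStalk.liftProp_of_closedImmersion p (Scheme.Etale.mk w) y
      let b : T.left ⟶ V.left := T.hom
      haveI : Etale b := T.prop
      let hh : pullback b p ⟶ W := h.left
      have hh' : hh ≫ w = pullback.snd b p := MorphismProperty.Over.w h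
      refine ⟨T.left, b, hEt b inferInstance, ⟨pullback.fst b p o, ?_⟩, Or.inr ?_⟩
      · have e1 : b (pullback.fst b p o) = p (pullback.snd b p o) :=
          congrArg (fun q : pullback b p ⟶ V.left => q o) pullback.condition
        have e2 : pullback.snd b p o = z := by
          rw [← hh']
          exact (congrArg w ho).trans (hy.trans hx)
        exact e1.trans (congrArg p e2)
      · let Q : Over X := F.obj (Over.mk (b ≫ V.hom))
        let m : pullback (b ≫ V.hom) f ⟶ pullback V.hom f :=
          (F.map (Over.homMk b : Over.mk (b ≫ V.hom) ⟶ V)).left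
        have hm : m ≫ p = pullback.fst (b ≫ V.hom) f ≫ b := pullback.lift_fst _ _ _
        let t : pullback (b ≫ V.hom) f ⟶ pullback b p := pullback.lift (pullback.fst _ _) m hm.symm
        have ht : (t ≫ hh ≫ l) ≫ u = m := by
          simp only [Category.assoc, hl, hh']
          exact pullback.lift_snd _ _ _
        have h1 := (Sieve.overEquiv_iff _ _).mp (hle _ _ ⟨i⟩)
        have wa : (t ≫ hh ≫ l) ≫ u ≫ (F.obj V).hom = Q.hom := by
          rw [← Category.assoc, ht]
          exact Over.w (F.map (Over.homMk b : Over.mk (b ≫ V.hom) ⟶ V))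
        let a : Q ⟶ Over.mk (u ≫ (F.obj V).hom) := Over.homMk (t ≫ hh ≫ l) wa
        have e : F.map (Over.homMk b : Over.mk (b ≫ V.hom) ⟶ V) = a ≫ (Over.homMk u : Over.mk (u ≫ (F.obj V).hom) ⟶ F.obj V) :=
          Over.OverMorphism.ext ht.symm
        rw [e]
        exact R.downward_closed h1 a
    · have hc : IsClosed (Set.range p) := p.isClosedEmbedding.isClosed_range
      let O : V.left.Opens := ⟨(Set.range p)ᶜ, hc.isOpen_compl⟩
      refine ⟨O, O.ι, hEt O.ι inferInstance, ?_, Or.inl ?_⟩
      · rw [Scheme.Opens.range_ι]; exact hv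
      · haveI : IsEmpty (F.obj (Over.mk (O.ι ≫ V.hom))).left := ⟨fun q => by
          let m : pullback (O.ι ≫ V.hom) f ⟶ pullback V.hom f :=
            (F.map (Over.homMk O.ι : Over.mk (O.ι ≫ V.hom) ⟶ V)).left
          have hm : m ≫ p = pullback.fst (O.ι ≫ V.hom) f ≫ O.ι := pullback.lift_fst _ _ _
          let c : O.toScheme := pullback.fst (O.ι ≫ V.hom) f q
          exact c.2 ⟨m q, congrArg (fun r : pullback (O.ι ≫ V.hom) f ⟶ V.left => r q) hm⟩⟩
        exact bot_mem_of_isEmpty P _
  choose V' b hb hv hR' using key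
  rw [GrothendieckTopology.mem_over_iff]
  refine GrothendieckTopology.superset_covering _ ?_ (Precoverage.generate_mem_toGrothendieck
    (R := Presieve.ofArrows V' b) ?_)
  · rw [Sieve.generate_le_iff]
    rintro _ _ ⟨v⟩
    exact (Sieve.overEquiv_iff _ _).mpr (hR' v)
  · exact Scheme.ofArrows_mem_precoverage_iff _ |>.mpr ⟨fun v => ⟨v, hv v⟩, hb⟩

theorem almostCocontinuous_etale :
    BigSite.IsAlmostCocontinuous (Over.pullback f) (QuotSh.J Scheme.etalePrecoverage Y)
      (QuotSh.J Scheme.etalePrecoverage X) :=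
  almostCocontinuous_of_sections @Etale f (fun _ _ _ h => h) (fun _ _ g h => by haveI := h; infer_instance)

theorem almostCocontinuous_smooth :
    BigSite.IsAlmostCocontinuous (Over.pullback f) (QuotSh.J (Scheme.precoverage @Smooth) Y)
      (QuotSh.J (Scheme.precoverage @Smooth) X) :=
  haveI : MorphismProperty.IsMultiplicative @Smooth.{u} :=
    { id_mem := fun _ => inferInstance, comp_mem := fun f g hf hg => by haveI := hf; haveI := hg; infer_instance }
  almostCocontinuous_of_sections @Smooth f (fun _ _ g h => by haveI := h; infer_instance) (fun _ _ _ h => h)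

end Groth.Agent.BigSiteLib
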