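import Mathlib
import Groth.Prelude.Def_BigSite

set_option backward.isDefEq.respectTransparency false
set_option backward.isDefEq.respectTransparency.types false
set_option linter.style.haveILetI false
set_option autoImplicit false

universe u


open CategoryTheory Category Limits Opposite

namespace Groth.Agent.BigSiteLib.AlmostCocont

variable {C D : Type (u + 1)} [Category.{u} C] [Category.{u} D] (J : GrothendieckTopology C) (K : GrothendieckTopology D)
  (u : C ⥤ D)

theorem subsingleton_of_bot {G : Sheaf K (Type (u + 1))} {V : D} (h : (⊥ : Sieve V) ∈ K V) :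
    Subsingleton (G.obj.obj (op V)) :=
  ⟨fun a b => ((isSheaf_iff_isSheaf_of_type K G.obj).1 G.property _ h).isSeparatedFor.ext
    fun _ f hf => absurd hf (by simp)⟩

theorem W_whiskerLeft (hu : BigSite.IsAlmostCocontinuous u J K) (G : Dᵒᵖ ⥤ Type (u + 1))
    (hG : ∀ V : D, (⊥ : Sieve V) ∈ K V → Nonempty (Unique (G.obj (op V)))) :
    J.W (Functor.whiskerLeft u.op (toSheafify K G)) := by
  have hW := (K.W_iff_isLocallyBijective _).1 (K.W_toSheafify G)
  haveI := hW.1
  haveI := hW.2
  refine (J.W_iff_isLocallyBijective _).2 ⟨⟨fun {U} x y h => ?_⟩, ⟨fun {U} s => ?_⟩⟩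
  · obtain ⟨R', hR', hg⟩ := hu U.unop _ (Presheaf.equalizerSieve_mem K (toSheafify K G) (X := op (u.obj U.unop)) x y h)
    refine J.superset_covering ?_ hR'
    intro V g hg'
    rcases hg g hg' with h0 | h1
    · obtain ⟨e⟩ := hG _ h0
      exact e.instSubsingleton.elim _ _
    · exact h1
  · obtain ⟨R', hR', hg⟩ := hu U _ (Presheaf.imageSieve_mem K (toSheafify K G) (U := op (u.obj U)) s)
    refine J.superset_covering ?_ hR'
    intro V g hg'
    rcases hg g hg' with h0 | h1
    · obtain ⟨e⟩ := hG _ h0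
      exact ⟨e.default, (subsingleton_of_bot (G := (presheafToSheaf K (Type (u + 1))).obj G) K h0).elim _ _⟩
    · exact h1

theorem isIso_mate [u.IsContinuous J K] (hu : BigSite.IsAlmostCocontinuous u J K) (G : Dᵒᵖ ⥤ Type (u + 1))
    (hG : ∀ V : D, (⊥ : Sieve V) ∈ K V → Nonempty (Unique (G.obj (op V)))) :
    IsIso (((sheafificationAdjunction J (Type (u + 1))).homEquiv (u.op ⋙ G)
      ((u.sheafPushforwardContinuous (Type (u + 1)) J K).obj ((presheafToSheaf K (Type (u + 1))).obj G))).symm
        (Functor.whiskerLeft u.op (toSheafify K G))) := by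
  rw [Adjunction.homEquiv_counit]
  haveI := (J.W_iff _).1 (W_whiskerLeft J K u hu G hG)
  infer_instance

theorem preservesColimitsOfShape [u.IsContinuous J K] (hu : BigSite.IsAlmostCocontinuous u J K) (I : Type)
    [SmallCategory I] [IsConnected I] :
    PreservesColimitsOfShape I (u.sheafPushforwardContinuous (Type (u + 1)) J K) := by
  refine ⟨fun {F} => preservesColimit_of_preserves_colimit_cocone
    (Sheaf.isColimitSheafifyCocone _ (colimit.isColimit (F ⋙ sheafToPresheaf K (Type (u + 1))))) ?_⟩
  let E := colimit.cocone (F ⋙ sheafToPresheaf K (Type (u + 1)))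
  have hE : IsColimit E := colimit.isColimit _
  let R := (Functor.whiskeringLeft Cᵒᵖ Dᵒᵖ (Type (u + 1))).obj u.op
  haveI : PreservesColimitsOfShape I R := inferInstance
  have hG : ∀ V : D, (⊥ : Sieve V) ∈ K V → Nonempty (Unique (E.pt.obj (op V))) := by
    intro V hV
    have hc := isColimitOfPreserves ((evaluation Dᵒᵖ (Type (u + 1))).obj (op V)) hE
    let pt : ∀ j, (F.obj j).obj.obj (op V) := fun j =>
      ((isSheaf_iff_isSheaf_of_type K (F.obj j).obj).1 (F.obj j).property _ hV
        (fun _ f hf => absurd hf (by simp)) (fun _ _ _ _ _ _ _ hf => absurd hf (by simp))).choose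
    have hs := fun j => subsingleton_of_bot K (G := F.obj j) hV
    have hconst : ∀ j j' : I, (E.ι.app j).app (op V) (pt j) = (E.ι.app j').app (op V) (pt j') :=
      constant_of_preserves_morphisms (α := E.pt.obj (op V)) (fun j => (E.ι.app j).app (op V) (pt j)) fun j₁ j₂ f => by
        refine Eq.trans ?_ (congrArg ((E.ι.app j₂).app (op V)) ((hs j₂).elim ((F.map f).hom.app (op V) (pt j₁)) (pt j₂)))
        exact (congrArg (fun α : (F ⋙ sheafToPresheaf K (Type (u + 1))).obj j₁ ⟶ E.pt => α.app (op V) (pt j₁)) (E.w f)).symm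
    obtain ⟨j0⟩ := ‹IsConnected I›.is_nonempty
    refine ⟨⟨⟨(E.ι.app j0).app (op V) (pt j0)⟩, fun x => ?_⟩⟩
    obtain ⟨j, y, hy⟩ := Types.jointly_surjective_of_isColimit hc x
    rw [← hy, ← hconst j j0]
    exact congrArg _ ((hs j).elim y (pt j))
  have hW := W_whiskerLeft J K u hu E.pt hG
  have hb := fun H : Sheaf J (Type (u + 1)) => hW H.obj H.property
  have hR : IsColimit (R.mapCocone E) := isColimitOfPreserves R hE
  refine IsColimit.ofExistsUnique fun s => ?_
  let t : Cocone ((F ⋙ sheafToPresheaf K (Type (u + 1))) ⋙ R) :=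
    { pt := s.pt.obj
      ι := { app := fun j => (s.ι.app j).hom
             naturality := fun j k f => by
               exact (congrArg InducedCategory.Hom.hom (s.ι.naturality f)) } }
  obtain ⟨d, hd⟩ := (hb s.pt).2 (hR.desc t)
  have hι : ∀ j, ((Sheaf.sheafifyCocone E).ι.app j).hom = E.ι.app j ≫ toSheafify K E.pt :=
    Sheaf.sheafifyCocone_ι_app_val E
  refine ⟨⟨d⟩, fun j => ?_, fun d' hd' => ?_⟩
  · apply InducedCategory.hom_ext
    change R.map ((Sheaf.sheafifyCocone E).ι.app j).hom ≫ d = (s.ι.app j).hom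
    rw [hι, R.map_comp, Category.assoc]
    refine Eq.trans ?_ (hR.fac t j)
    exact congrArg (fun x => R.map (E.ι.app j) ≫ x) hd
  · apply InducedCategory.hom_ext
    apply (hb s.pt).1
    refine Eq.trans ?_ hd.symm
    refine hR.hom_ext fun j => ?_
    rw [hR.fac t j]
    change R.map (E.ι.app j) ≫ R.map (toSheafify K E.pt) ≫ d'.hom = _
    rw [← Category.assoc, ← R.map_comp, ← hι]
    exact congrArg InducedCategory.Hom.hom (hd' j)

end Groth.Agent.BigSiteLib.AlmostCocont
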