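import Groth.Agent.BigSiteLib.AlmostCoc
import Groth.Agent.BigSiteLib.AlmostCocontBig
import Mathlib.CategoryTheory.Sites.EpiMono

/-!
Exactness of direct image along an almost cocontinuous functor.
-/

set_option autoImplicit false
set_option backward.isDefEq.respectTransparency false
universe u

open CategoryTheory Limits Opposite

namespace Groth.Agent.BigSiteLib

variable {C D : Type (u + 1)} [Category.{u} C] [Category.{u} D] (J : GrothendieckTopology C)
  (K : GrothendieckTopology D) (v : C ⥤ D) [v.IsContinuous J K]
  [HasSheafify J AddCommGrpCat.{u + 1}] [HasSheafify K AddCommGrpCat.{u + 1}]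

theorem epi_map_of_almostCocontinuous (hv : BigSite.IsAlmostCocontinuous v J K)
    {F G : Sheaf K AddCommGrpCat.{u + 1}} (φ : F ⟶ G) [Epi φ] :
    Epi ((v.sheafPushforwardContinuous AddCommGrpCat.{u + 1} J K).map φ) := by
  haveI : Sheaf.IsLocallySurjective φ := (Sheaf.isLocallySurjective_iff_epi' _ φ).2 inferInstance
  refine (Sheaf.isLocallySurjective_iff_epi' _ _).1 ⟨fun {U} s => ?_⟩
  obtain ⟨R', hR', hg⟩ := hv U _ (Presheaf.imageSieve_mem K φ.hom (U := op (v.obj U)) s)
  refine J.superset_covering ?_ hR'
  intro V g hg'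
  rcases hg g hg' with h0 | h1
  · haveI : Subsingleton (G.obj.obj (op (v.obj V))) :=
      ⟨fun a b => ((isSheaf_iff_isSheaf_of_type K _).1
        ((sheafCompose K (forget AddCommGrpCat.{u + 1})).obj G).property _ h0).isSeparatedFor.ext
          fun _ f hf => absurd hf (by simp)⟩
    exact ⟨0, (map_zero _).trans (Subsingleton.elim (α := G.obj.obj (op (v.obj V))) _ _)⟩
  · exact h1

theorem preservesFiniteColimits_of_almostCocontinuous (hv : BigSite.IsAlmostCocontinuous v J K)
    [(v.sheafPushforwardContinuous AddCommGrpCat.{u + 1} J K).Additive]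
    [PreservesFiniteLimits (v.sheafPushforwardContinuous AddCommGrpCat.{u + 1} J K)] :
    PreservesFiniteColimits (v.sheafPushforwardContinuous AddCommGrpCat.{u + 1} J K) := by
  haveI : (v.sheafPushforwardContinuous AddCommGrpCat.{u + 1} J K).PreservesEpimorphisms :=
    ⟨fun φ _ => epi_map_of_almostCocontinuous J K v hv φ⟩
  haveI := Functor.preservesHomology_of_preservesEpis_and_kernels
    (v.sheafPushforwardContinuous AddCommGrpCat.{u + 1} J K)
  exact Functor.preservesFiniteColimits_of_preservesHomology _

end Groth.Agent.BigSiteLib
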