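import Mathlib.AlgebraicGeometry.Morphisms.Basic
import Mathlib.AlgebraicGeometry.Pullbacks
import Mathlib.CategoryTheory.Adjunction.Whiskering
import Mathlib.CategoryTheory.Adjunction.Opposites
import Mathlib.CategoryTheory.Comma.Over.Pullback
import Mathlib.Algebra.Category.Grp.Abelian
import Mathlib.CategoryTheory.Preadditive.FunctorCategory

/-!
The Amitsur complex of a morphism of schemes, for presheaves of abelian groups on schemes over the base.
-/

set_option autoImplicit false
set_option backward.isDefEq.respectTransparency false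
set_option backward.defeqAttrib.useBackward true
universe u

noncomputable section

namespace Groth.Agent.BigSiteLib

open CategoryTheory Limits Opposite AlgebraicGeometry

/-- Presheaves on schemes over a base. -/
abbrev Psh (T : Scheme.{u}) : Type (u + 2) := (Over T)ᵒᵖ ⥤ AddCommGrpCat.{u + 1}

variable {T V : Scheme.{u}} (p : V ⟶ T)

/-- Restriction along the map. -/
abbrev Lp : Psh T ⥤ Psh V := (Functor.whiskeringLeft _ _ _).obj (Over.map p).op

/-- Direct image along the map. -/
abbrev Rp : Psh V ⥤ Psh T := (Functor.whiskeringLeft _ _ _).obj (Over.pullback p).op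

/-- Their adjunction. -/
abbrev lrAdj : Lp p ⊣ Rp p := Adjunction.whiskerLeft _ (Over.mapPullbackAdj p).op

/-- Sections after base change. -/
abbrev Cp : Psh T ⥤ Psh T := Lp p ⋙ Rp p

/-- The unit. -/
abbrev etaP (X : Psh T) : X ⟶ (Cp p).obj X := (lrAdj p).unit.app X

/-- Base change of a map. -/
abbrev mapC {X Y : Psh T} (φ : X ⟶ Y) : (Cp p).obj X ⟶ (Cp p).obj Y := (Cp p).map φ

/-- One step of the differential. -/
abbrev dstep {X : Psh T} (φ : X ⟶ (Cp p).obj X) : (Cp p).obj X ⟶ (Cp p).obj ((Cp p).obj X) :=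
  etaP p _ - mapC p φ

instance : (Lp p).Additive where

instance : (Rp p).Additive where

/-- Iterates of base change. -/
def it : ℕ → Psh T → Psh T
  | 0, P => P
  | n + 1, P => (Cp p).obj (it n P)

/-- Functoriality of the iterates. -/
def itMap : (n : ℕ) → {P Q : Psh T} → (P ⟶ Q) → (it p n P ⟶ it p n Q)
  | 0, _, _, φ => φ
  | n + 1, _, _, φ => mapC p (itMap n φ)

lemma itMap_comp : ∀ (n : ℕ) {P Q R : Psh T} (φ : P ⟶ Q) (ψ : Q ⟶ R),
    itMap p n (φ ≫ ψ) = itMap p n φ ≫ itMap p n ψ
  | 0, _, _, _, _, _ => rfl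
  | n + 1, _, _, _, φ, ψ => (congrArg (mapC p) (itMap_comp n φ ψ)).trans ((Cp p).map_comp _ _)

lemma itMap_id : ∀ (n : ℕ) (P : Psh T), itMap p n (𝟙 P) = 𝟙 _
  | 0, _ => rfl
  | n + 1, P => (congrArg (mapC p) (itMap_id n P)).trans ((Cp p).map_id _)

/-- The differentials. -/
def dd : (n : ℕ) → (P : Psh T) → (it p n P ⟶ (Cp p).obj (it p n P))
  | 0, P => etaP p P
  | n + 1, P => dstep p (dd n P)

lemma unit_naturality {P Q : Psh T} (φ : P ⟶ Q) :
    φ ≫ etaP p Q = etaP p P ≫ mapC p φ := (lrAdj p).unit.naturality φ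

lemma dstep_natural {X Y : Psh T} {φ : X ⟶ (Cp p).obj X} {ψ : Y ⟶ (Cp p).obj Y} {f : X ⟶ Y}
    (h : f ≫ ψ = φ ≫ mapC p f) : mapC p f ≫ dstep p ψ = dstep p φ ≫ mapC p (mapC p f) := by
  rw [Preadditive.comp_sub, Preadditive.sub_comp, unit_naturality, ← Functor.map_comp, h, Functor.map_comp]

lemma dd_natural : ∀ (n : ℕ) {P Q : Psh T} (f : P ⟶ Q),
    itMap p n f ≫ dd p n Q = dd p n P ≫ mapC p (itMap p n f)
  | 0, _, _, f => unit_naturality p f
  | n + 1, _, _, f => dstep_natural p (dd_natural n f)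

lemma dd_dd : ∀ (n : ℕ) (P : Psh T), dd p n P ≫ dstep p (dd p n P) = 0
  | 0, P => by
    change etaP p P ≫ dstep p (etaP p P) = 0
    rw [Preadditive.comp_sub, sub_eq_zero]
    exact unit_naturality p _
  | n + 1, P => by
    have h := dd_dd n P
    change dstep p (dd p n P) ≫ dstep p (dstep p (dd p n P)) = 0
    generalize dd p n P = φ at h ⊢
    rw [Preadditive.comp_sub (dstep p φ), unit_naturality p (dstep p φ), sub_eq_zero]
    conv_rhs => rw [Preadditive.sub_comp (etaP p _), ← Functor.map_comp, h, Functor.map_zero, sub_zero]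

/-- The contraction on presheaves that are direct images. -/
def hmt (J : Psh T) : (n : ℕ) → ((Cp p).obj (it p n ((Cp p).obj J)) ⟶ it p n ((Cp p).obj J))
  | 0 => (Rp p).map ((lrAdj p).counit.app ((Lp p).obj J))
  | n + 1 => -mapC p (hmt J n)

lemma dstep_hmt {X : Psh T} (φ' : X ⟶ (Cp p).obj X) (h' : (Cp p).obj X ⟶ X)
    (ih : dstep p φ' ≫ (-mapC p h') + h' ≫ φ' = 𝟙 _) :
    dstep p (dstep p φ') ≫ (-mapC p (-mapC p h')) + (-mapC p h') ≫ dstep p φ' = 𝟙 _ := by
  have e := congrArg (Cp p).map ih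
  rw [Functor.map_add, CategoryTheory.Functor.map_id] at e
  refine Eq.trans ?_ e
  rw [Preadditive.sub_comp (etaP p _), Preadditive.comp_neg, Preadditive.comp_neg, ← unit_naturality,
    ← Functor.map_comp, Preadditive.comp_sub (-mapC p h'), Preadditive.neg_comp, Preadditive.neg_comp,
    ← Functor.map_comp]
  abel

lemma hmt_spec (J : Psh T) : ∀ n : ℕ, dstep p (dd p n ((Cp p).obj J)) ≫ (-mapC p (hmt p J n)) +
    hmt p J n ≫ dd p n ((Cp p).obj J) = 𝟙 _
  | 0 => by
    let h : (Cp p).obj ((Cp p).obj J) ⟶ (Cp p).obj J := hmt p J 0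
    change dstep p (etaP p ((Cp p).obj J)) ≫ (-mapC p h) + h ≫ etaP p ((Cp p).obj J) = 𝟙 _
    have h0 : etaP p ((Cp p).obj J) ≫ h = 𝟙 _ := (lrAdj p).right_triangle_components ((Lp p).obj J)
    rw [Preadditive.sub_comp (etaP p _), Preadditive.comp_neg, Preadditive.comp_neg, ← Functor.map_comp, h0,
      ← unit_naturality, CategoryTheory.Functor.map_id]
    exact (add_comm _ _).trans (by abel)
  | n + 1 => dstep_hmt p _ _ (hmt_spec J n)

variable {p}

/-- The unit in terms of restriction. -/
lemma unit_app_apply {P : Psh T} (U : Over T) (x : P.obj (op U)) :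
    ((lrAdj p).unit.app P).app (op U) x = P.map ((Over.mapPullbackAdj p).counit.app U).op x := rfl

variable {U : Over T} (l : U.left ⟶ V) (hl : l ≫ p = U.hom)

/-- The graph of a point. -/
def graph : U ⟶ (Over.map p).obj ((Over.pullback p).obj U) :=
  Over.homMk (pullback.lift (𝟙 _) l ((Category.id_comp _).trans hl.symm)) (by
    change pullback.lift _ _ _ ≫ pullback.snd U.hom p ≫ p = U.hom
    rw [pullback.lift_snd_assoc, hl])

/-- Evaluation at a point. -/
def evalPt (P : Psh T) : ((Cp p).obj P).obj (op U) →+ P.obj (op U) := (P.map (graph l hl).op).hom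

lemma evalPt_unit (P : Psh T) (x : P.obj (op U)) :
    evalPt l hl P (((lrAdj p).unit.app P).app (op U) x) = x := by
  change P.map (graph l hl).op (((lrAdj p).unit.app P).app (op U) x) = x
  rw [unit_app_apply]
  refine (ConcreteCategory.congr_hom (P.map_comp ((Over.mapPullbackAdj p).counit.app U).op (graph l hl).op) x).symm.trans ?_
  rw [← op_comp]
  have e : graph l hl ≫ (Over.mapPullbackAdj p).counit.app U = 𝟙 U :=
    Over.OverMorphism.ext (pullback.lift_fst _ _ _)
  rw [e, op_id]
  exact ConcreteCategory.congr_hom (P.map_id _) x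

lemma evalPt_etaP (P : Psh T) (x : P.obj (op U)) :
    evalPt l hl P ((etaP p P).app (op U) x) = x := evalPt_unit l hl P x

lemma evalPt_natural {P Q : Psh T} (φ : P ⟶ Q) (x : ((Cp p).obj P).obj (op U)) :
    evalPt l hl Q (((Cp p).map φ).app (op U) x) = φ.app (op U) (evalPt l hl P x) :=
  (ConcreteCategory.congr_hom (φ.naturality (graph l hl).op) x).symm

include hl in
/-- Over an object with a point in the cover every cocycle is a coboundary. -/
theorem exists_bd_of_point {X : Psh T} (φ : X ⟶ (Cp p).obj X) (c : ((Cp p).obj X).obj (op U))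
    (hc : (dstep p φ).app (op U) c = 0) : ∃ b, φ.app (op U) b = c := by
  refine ⟨evalPt l hl _ c, ?_⟩
  have h := congrArg (evalPt l hl ((Cp p).obj X)) hc
  rw [map_zero] at h
  change evalPt l hl _ ((etaP p ((Cp p).obj X)).app (op U) c - (mapC p φ).app (op U) c) = 0 at h
  rw [map_sub, sub_eq_zero] at h
  erw [evalPt_etaP l hl, evalPt_natural l hl φ] at h
  exact h.symm

omit l hl

/-- A retract of a direct image has exact Amitsur complex. -/
theorem exists_bd_of_retract (P : Psh T) (ρ : (Cp p).obj P ⟶ P) (hρ : etaP p P ≫ ρ = 𝟙 P) (n : ℕ)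
    {U : Over T} (c : ((Cp p).obj (it p n P)).obj (op U))
    (hc : (dstep p (dd p n P)).app (op U) c = 0) : ∃ b, (dd p n P).app (op U) b = c := by
  let i := etaP p P
  let c' := (mapC p (itMap p n i)).app (op U) c
  have hc' : (dstep p (dd p n ((Cp p).obj P))).app (op U) c' = 0 := by
    refine (ConcreteCategory.congr_hom (NatTrans.congr_app (dstep_natural p (dd_natural p n i)) (op U)) c).trans ?_
    exact (congrArg ((mapC p (mapC p (itMap p n i))).app (op U)) hc).trans (map_zero _)
  refine ⟨(itMap p n ρ).app (op U) ((hmt p P n).app (op U) c'), ?_⟩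
  have e₁ := ConcreteCategory.congr_hom (NatTrans.congr_app (hmt_spec p P n) (op U)) c'
  change (-mapC p (hmt p P n)).app (op U) ((dstep p (dd p n ((Cp p).obj P))).app (op U) c') +
    (dd p n ((Cp p).obj P)).app (op U) ((hmt p P n).app (op U) c') = c' at e₁
  rw [hc', map_zero, zero_add] at e₁
  refine (ConcreteCategory.congr_hom (NatTrans.congr_app (dd_natural p n ρ) (op U)) _).trans ?_
  change (mapC p (itMap p n ρ)).app (op U) ((dd p n ((Cp p).obj P)).app (op U) ((hmt p P n).app (op U) c')) = c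
  rw [e₁]
  have e₃ : mapC p (itMap p n i) ≫ mapC p (itMap p n ρ) = 𝟙 _ := by
    rw [← Functor.map_comp, ← itMap_comp, hρ, itMap_id, CategoryTheory.Functor.map_id]
  exact ConcreteCategory.congr_hom (NatTrans.congr_app e₃ (op U)) c

end Groth.Agent.BigSiteLib
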