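import Mathlib

/-!
Coproduct gymnastics for a class of morphisms of schemes.
-/

set_option autoImplicit false
universe u

noncomputable section

namespace Groth.Agent.BigSiteLib

open CategoryTheory Limits AlgebraicGeometry

variable (C : MorphismProperty Scheme.{u}) [C.IsStableUnderBaseChange]

lemma cTop_single {A B : Scheme.{u}} (g : A ⟶ B) :
    C (Sigma.desc fun _ : PUnit.{u + 1} => g) ↔ C g := by
  haveI : IsIso (Sigma.desc fun _ : PUnit.{u + 1} => 𝟙 A) := by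
    refine ⟨Sigma.ι (fun _ : PUnit.{u + 1} => A) PUnit.unit, ?_, Sigma.ι_desc _ _⟩
    exact Sigma.hom_ext _ _ fun i => by simp
  have e : (Sigma.desc fun _ : PUnit.{u + 1} => g) = (Sigma.desc fun _ : PUnit.{u + 1} => 𝟙 A) ≫ g :=
    Sigma.hom_ext _ _ fun i => by simp
  rw [e, C.cancel_left_of_respectsIso]

lemma cTop_reindex {κ κ' : Type u} (e : κ' ≃ κ) {V : κ → Scheme.{u}} {B : Scheme.{u}} (g : ∀ k, V k ⟶ B) :
    C (Sigma.desc fun k => g (e k)) ↔ C (Sigma.desc g) := by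
  have h : (Sigma.desc fun k => g (e k)) = (Sigma.whiskerEquiv (f := fun k => V (e k)) (g := V) e fun _ => Iso.refl _).hom ≫ Sigma.desc g :=
    Sigma.hom_ext _ _ fun i => by simp [Sigma.whiskerEquiv]
  rw [h, C.cancel_left_of_respectsIso]

theorem cTop_baseChange {κ : Type u} [Finite κ] {V : κ → Scheme.{u}} {B W : Scheme.{u}} (g : ∀ k, V k ⟶ B)
    (hg : C (Sigma.desc g)) (a : W ⟶ B) : C (Sigma.desc fun k => pullback.fst a (g k)) := by
  have h := MorphismProperty.of_isPullback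
    (FinitaryPreExtensive.isPullback_sigmaDesc (fun _ : PUnit.{u + 1} => a) g).flip hg
  haveI : IsIso (Sigma.desc fun _ : PUnit.{u + 1} => 𝟙 W) := by
    refine ⟨Sigma.ι (fun _ : PUnit.{u + 1} => W) PUnit.unit, ?_, Sigma.ι_desc _ _⟩
    exact Sigma.hom_ext _ _ fun i => by simp
  rw [← C.cancel_right_of_respectsIso _ (Sigma.desc fun _ : PUnit.{u + 1} => 𝟙 W)] at h
  have e : (Sigma.desc fun p : PUnit.{u + 1} × κ => pullback.fst a (g p.2) ≫ Sigma.ι (fun _ => W) p.1) ≫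
      (Sigma.desc fun _ : PUnit.{u + 1} => 𝟙 W) = Sigma.desc fun p : PUnit.{u + 1} × κ => pullback.fst a (g p.2) :=
    Sigma.hom_ext _ _ fun p => by simp
  rw [e] at h
  exact (cTop_reindex C (Equiv.punitProd κ) fun k => pullback.fst a (g k)).mp h

theorem cTop_comp [C.IsStableUnderComposition]
    (hcoprod : ∀ (κ : Type u) [Finite κ] (A B : κ → Scheme.{u}) (f : ∀ j, A j ⟶ B j),
      (∀ j, C (f j)) → C (Limits.Sigma.map f))
    {κ : Type u} [Finite κ] {lam : κ → Type u} [∀ k, Finite (lam k)] {Z : ∀ k, lam k → Scheme.{u}}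
    {B : κ → Scheme.{u}} {U : Scheme.{u}} (α : ∀ k m, Z k m ⟶ B k) (hα : ∀ k, C (Sigma.desc (α k)))
    (β : ∀ k, B k ⟶ U) (hβ : C (Sigma.desc β)) :
    C (Sigma.desc fun p : Σ k, lam k => α p.1 p.2 ≫ β p.1) := by
  have e : (Sigma.desc fun p : Σ k, lam k => α p.1 p.2 ≫ β p.1) =
      (sigmaSigmaIso lam Z).inv ≫ (Limits.Sigma.map fun k => Sigma.desc (α k)) ≫ Sigma.desc β :=
    Sigma.hom_ext _ _ fun p => by simp [sigmaSigmaIso]
  rw [e, C.cancel_left_of_respectsIso]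
  exact C.comp_mem _ _ (hcoprod κ _ _ _ hα) hβ

end Groth.Agent.BigSiteLib
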