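import Groth.Agent.BigSiteLib.CTopology

/-!
Sheaves for the topology attached to a class of quasi-compact morphisms.
-/

set_option autoImplicit false
universe v u

noncomputable section

namespace Groth.Agent.BigSiteLib

open CategoryTheory Limits AlgebraicGeometry TopologicalSpace Opposite

variable {S : Scheme.{u}} (C : MorphismProperty Scheme.{u}) [C.IsStableUnderBaseChange]

lemma singleton_pullback {X X' Y : Over S} (f : X' ⟶ X) (g : Y ⟶ X) :
    (Sieve.generate (Presieve.singleton f)).pullback g = Sieve.generate (Presieve.singleton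
      (Over.homMk (pullback.snd f.left g.left) rfl : Over.mk (pullback.snd f.left g.left ≫ Y.hom) ⟶ Y)) := by
  let Y' : Over S := Over.mk (pullback.snd f.left g.left ≫ Y.hom)
  let p : Y' ⟶ Y := Over.homMk (pullback.snd f.left g.left) rfl
  have wq : pullback.fst f.left g.left ≫ X'.hom = Y'.hom := by
    change pullback.fst f.left g.left ≫ X'.hom = pullback.snd f.left g.left ≫ Y.hom
    rw [← Over.w f, ← Category.assoc, pullback.condition, Category.assoc, Over.w]
  let q : Y' ⟶ X' := Over.homMk (pullback.fst f.left g.left) wq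
  have sq : q ≫ f = p ≫ g := Over.OverMorphism.ext pullback.condition
  refine Sieve.ext fun Z h => ⟨fun hh => ?_, fun hh => ?_⟩
  · change ∃ (W : Over S) (k : Z ⟶ W) (m : W ⟶ X), Presieve.singleton f m ∧ k ≫ m = h ≫ g at hh
    obtain ⟨W, k, m, hm, hk⟩ := hh
    cases hm
    have hk' : k.left ≫ f.left = h.left ≫ g.left := congrArg (fun r => r.left) hk
    have wl : pullback.lift k.left h.left hk' ≫ Y'.hom = Z.hom :=
      (pullback.lift_snd_assoc _ _ _ _).trans (Over.w h)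
    let l : Z ⟶ Y' := Over.homMk (pullback.lift k.left h.left hk') wl
    exact ⟨Y', l, p, Presieve.singleton_self p, Over.OverMorphism.ext (pullback.lift_snd _ _ _)⟩
  · change ∃ (W : Over S) (k : Z ⟶ W) (m : W ⟶ Y), Presieve.singleton p m ∧ k ≫ m = h at hh
    obtain ⟨W, k, m, hm, hk⟩ := hh
    cases hm
    subst hk
    exact ⟨X', k ≫ q, f, Presieve.singleton_self f, by rw [Category.assoc, sq, Category.assoc]⟩

lemma singleton_mem_finest (F : (Over S)ᵒᵖ ⥤ Type v)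
    (hsing : ∀ (X X' : Over S) (f : X' ⟶ X), C f.left → Presieve.IsSheafFor F (Presieve.singleton f))
    {X X' : Over S} (f : X' ⟶ X) (hf : C f.left) :
    Sieve.generate (Presieve.singleton f) ∈ Sheaf.finestTopologySingle F X := by
  intro Y g
  rw [singleton_pullback, ← Presieve.isSheafFor_iff_generate]
  exact hsing _ _ _ (C.pullback_snd _ _ hf)

theorem isSheaf_of_zariski (J : GrothendieckTopology (Over S))
    (hJ : ∀ (X : Over S) (R : Sieve X), R ∈ J X ↔ CCov C X R) (F : (Over S)ᵒᵖ ⥤ Type v)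
    (hZ : Presieve.IsSheaf (Scheme.zariskiTopology.over S) F)
    (hsing : ∀ (X X' : Over S) (f : X' ⟶ X), C f.left → Presieve.IsSheafFor F (Presieve.singleton f)) :
    Presieve.IsSheaf J F := by
  let T := Sheaf.finestTopologySingle F
  have hT : ∀ {X : Over S} {R : Sieve X}, R ∈ Scheme.zariskiTopology.over S X → R ∈ T X :=
    fun {X R} hR Y f => hZ _ ((Scheme.zariskiTopology.over S).pullback_stable f hR)
  intro X R hR
  obtain ⟨ι, U, hU, hsup, hd⟩ := (hJ X R).mp hR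
  suffices h : R ∈ T X by simpa using h X (𝟙 X)
  let Ut : ι → Over S := fun i => Over.mk ((U i).ι ≫ X.hom)
  let ut : ∀ i, Ut i ⟶ X := fun i => Over.homMk (U i).ι rfl
  have hUt : Sieve.ofArrows Ut ut ∈ Scheme.zariskiTopology.over S X := by
    rw [GrothendieckTopology.mem_over_iff]
    refine (Scheme.mem_grothendieckTopology_iff (P := @IsOpenImmersion)).mpr
      ⟨X.left.openCoverOfIsOpenCover U hsup, ?_⟩
    rintro _ _ ⟨i⟩
    exact (Sieve.overEquiv_iff _ _).mpr ⟨_, 𝟙 _, ut i, ⟨i⟩, Over.OverMorphism.ext (Category.id_comp _)⟩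
  refine T.transitive (hT hUt) R ?_
  rintro Z _ ⟨_, a, _, ⟨i⟩, rfl⟩
  rw [Sieve.pullback_comp]
  refine T.pullback_stable a ?_
  obtain ⟨κ, hκ, V, φ, ψ, h₁, h₂, h₃, h₄⟩ := hd i
  let Q : Over S := Over.mk (Limits.Sigma.desc ψ ≫ (U i).ι ≫ X.hom)
  let q : Q ⟶ Ut i := Over.homMk (Limits.Sigma.desc ψ) rfl
  refine T.transitive (singleton_mem_finest C F hsing q h₄) _ ?_
  rintro Z' _ ⟨_, b, _, ⟨⟩, rfl⟩
  rw [Sieve.pullback_comp]
  refine T.pullback_stable b (hT ?_)
  rw [GrothendieckTopology.mem_over_iff]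
  refine (Scheme.mem_grothendieckTopology_iff (P := @IsOpenImmersion)).mpr
    ⟨sigmaOpenCover (fun j => (V j).left), ?_⟩
  rintro _ _ ⟨(j : κ)⟩
  refine (Sieve.overEquiv_iff _ _).mpr ?_
  let g₀ : (V j).left ⟶ ∐ (fun j => (V j).left) := Limits.Sigma.ι (fun j => (V j).left) j
  have e₀ : g₀ ≫ Limits.Sigma.desc ψ = ψ j := Limits.Sigma.ι_desc _ _
  have wl : 𝟙 (V j).left ≫ (V j).hom = g₀ ≫ Q.hom := by
    change 𝟙 _ ≫ (V j).hom = g₀ ≫ Limits.Sigma.desc ψ ≫ (U i).ι ≫ X.hom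
    rw [← Category.assoc g₀, e₀, ← Category.assoc, h₃, Category.id_comp, Over.w]
  let l : Over.mk (g₀ ≫ Q.hom) ⟶ V j := Over.homMk (𝟙 _) wl
  let hg : Over.mk (g₀ ≫ Q.hom) ⟶ Q := Over.homMk g₀ rfl
  change R.arrows (hg ≫ q ≫ ut i)
  have e : hg ≫ q ≫ ut i = l ≫ φ j := Over.OverMorphism.ext (by
    change g₀ ≫ Limits.Sigma.desc ψ ≫ (U i).ι = 𝟙 _ ≫ (φ j).left
    rw [← Category.assoc, e₀, h₃, Category.id_comp])
  rw [e]
  exact R.downward_closed (h₂ j) l

variable (hqc : ∀ {A B : Scheme.{u}} (f : A ⟶ B), C f → QuasiCompact f)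
  (haff : ∀ (U : Scheme.{u}) [IsAffine U] (κ : Type u) [Finite κ] (V : κ → U.Opens),
      (∀ j, IsAffineOpen (V j)) → ⨆ j, V j = ⊤ → C (Limits.Sigma.desc fun j => (V j).ι))
  (hres : ∀ (W X' : Scheme.{u}) [IsAffine W] (f : X' ⟶ W), C f →
      ∀ (κ : Type u) [Finite κ] (A : κ → X'.Opens), (∀ l, IsAffineOpen (A l)) → ⨆ l, A l = ⊤ →
        C (Limits.Sigma.desc fun l => (A l).ι ≫ f))

include haff in
lemma cCov_of_zariski [C.IsStableUnderComposition] {X : Over S} {R : Sieve X} (hR : R ∈ Scheme.zariskiTopology.over S X) : CCov C X R := by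
  rw [GrothendieckTopology.mem_over_iff] at hR
  obtain ⟨𝒰, hle⟩ := (Scheme.mem_grothendieckTopology_iff (P := @IsOpenImmersion)).mp hR
  have hop : ∀ i, IsOpenImmersion (𝒰.f i) := fun i => 𝒰.map_prop i
  refine ⟨{W : X.left.Opens // IsAffineOpen W ∧ ∃ i, (W : Set X.left) ⊆ Set.range (𝒰.f i)}, fun W => W.1,
    fun W => W.2.1, ?_, fun W => ?_⟩
  · refine top_unique fun x _ => ?_
    obtain ⟨i, y, hy⟩ := 𝒰.exists_eq x
    haveI := hop i
    obtain ⟨W, hW, hxW, hWi⟩ := Opens.isBasis_iff_nbhd.mp X.left.isBasis_affineOpens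
      (U := (𝒰.f i).opensRange) (⟨y, hy⟩ : x ∈ (𝒰.f i).opensRange)
    exact Opens.mem_iSup.mpr ⟨⟨W, hW, i, hWi⟩, hxW⟩
  · obtain ⟨i, hi⟩ := W.2.2
    haveI := hop i
    haveI : IsAffine W.1 := W.2.1
    have h1 := (Sieve.overEquiv_iff _ _).mp (hle _ _ ⟨i⟩)
    let l : Over.mk (W.1.ι ≫ X.hom) ⟶ Over.mk (𝒰.f i ≫ X.hom) :=
      Over.homMk (IsOpenImmersion.lift (𝒰.f i) W.1.ι (by rw [Scheme.Opens.range_ι]; exact hi))
        (IsOpenImmersion.lift_fac_assoc _ _ _ _)
    refine ⟨PUnit.{u + 1}, inferInstance, fun _ => Over.mk (W.1.ι ≫ X.hom), fun _ => Over.homMk W.1.ι rfl,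
      fun _ => 𝟙 (W.1 : Scheme.{u}), fun _ => (W.2.1 : IsAffine (Over.mk (W.1.ι ≫ X.hom)).left), fun _ => ?_,
      fun _ => Category.id_comp _, (cTop_single C _).mpr (c_id haff _)⟩
    convert R.downward_closed h1 l using 1
    ext : 1
    exact (IsOpenImmersion.lift_fac _ _ _).symm

include hqc hres in
lemma cCov_singleton {X X' : Over S} (f : X' ⟶ X) (hf : C f.left) :
    CCov C X (Sieve.generate (Presieve.singleton f)) := by
  refine ⟨{W : X.left.Opens // IsAffineOpen W}, fun W => W.1, fun W => W.2,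
    iSup_affineOpens_eq_top X.left, fun W => ?_⟩
  haveI : IsAffine W.1 := W.2
  let p : pullback W.1.ι f.left ⟶ W.1 := pullback.fst W.1.ι f.left
  have hp : C p := C.pullback_fst _ _ hf
  haveI := hqc p hp
  haveI : CompactSpace ↥(pullback W.1.ι f.left) := QuasiCompact.compactSpace_of_compactSpace p
  obtain ⟨t, ht⟩ := (isCompact_univ (X := ↥(pullback W.1.ι f.left))).elim_finite_subcover
    (fun A : {A : (pullback W.1.ι f.left).Opens // IsAffineOpen A} => (A.1 : Set ↥(pullback W.1.ι f.left)))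
    (fun A => A.1.2) (fun x _ => by
      have : x ∈ (⨆ A : {A : (pullback W.1.ι f.left).Opens // IsAffineOpen A}, A.1) := by
        rw [show (⨆ A : {A : (pullback W.1.ι f.left).Opens // IsAffineOpen A}, A.1) = ⊤ from
          iSup_affineOpens_eq_top _]
        trivial
      rw [Opens.mem_iSup] at this
      exact Set.mem_iUnion.mpr this)
  refine ⟨{A // A ∈ t}, inferInstance, fun A => Over.mk ((A.1.1.ι ≫ p ≫ W.1.ι) ≫ X.hom),
    fun A => Over.homMk (A.1.1.ι ≫ p ≫ W.1.ι) rfl, fun A => A.1.1.ι ≫ p,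
    fun A => (A.1.2 : IsAffine (Over.mk ((A.1.1.ι ≫ p ≫ W.1.ι) ≫ X.hom)).left), fun A => ?_,
    fun A => Category.assoc _ _ _, hres _ _ p hp {A // A ∈ t} (fun A : {A // A ∈ t} => A.1.1) (fun A : {A // A ∈ t} => A.1.2) (top_unique fun x _ => ?_)⟩
  · refine ⟨X', Over.homMk (A.1.1.ι ≫ pullback.snd W.1.ι f.left) ?_, f, ⟨⟩, ?_⟩
    · change (A.1.1.ι ≫ pullback.snd W.1.ι f.left) ≫ X'.hom = (A.1.1.ι ≫ p ≫ W.1.ι) ≫ X.hom
      simp only [p, pullback.condition, Category.assoc, Over.w f]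
    · ext : 1
      change (A.1.1.ι ≫ pullback.snd W.1.ι f.left) ≫ f.left = A.1.1.ι ≫ p ≫ W.1.ι
      simp only [p, pullback.condition, Category.assoc]
  · obtain ⟨A, hA, hxA⟩ := Set.mem_iUnion₂.mp (ht (Set.mem_univ x))
    exact Opens.mem_iSup.mpr ⟨⟨A, hA⟩, hxA⟩

end Groth.Agent.BigSiteLib
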