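import Groth.Agent.BigSiteLib.CTop

/-!
The topology attached to a class of quasi-compact morphisms, with affine covering data.
-/

set_option autoImplicit false
universe u

noncomputable section

namespace Groth.Agent.BigSiteLib

open CategoryTheory Limits AlgebraicGeometry TopologicalSpace

variable {S : Scheme.{u}} (C : MorphismProperty Scheme.{u})

/-- Covering data over one affine open. -/
def CData (X : Over S) (R : Sieve X) (U : X.left.Opens) : Prop :=
  ∃ (κ : Type u) (_ : Finite κ) (V : κ → Over S) (φ : ∀ j, V j ⟶ X) (ψ : ∀ j, (V j).left ⟶ (U : Scheme.{u})),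
    (∀ j, IsAffine (V j).left) ∧ (∀ j, R.arrows (φ j)) ∧ (∀ j, ψ j ≫ U.ι = (φ j).left) ∧
      C (Limits.Sigma.desc ψ)

/-- Covering sieves. -/
def CCov (X : Over S) (R : Sieve X) : Prop :=
  ∃ (ι : Type u) (U : ι → X.left.Opens), (∀ i, IsAffineOpen (U i)) ∧ ⨆ i, U i = ⊤ ∧ ∀ i, CData C X R (U i)

variable {C}

lemma cData_mono {X : Over S} {R R' : Sieve X} (h : R ≤ R') {U : X.left.Opens} (hU : CData C X R U) :
    CData C X R' U := by
  obtain ⟨κ, hκ, V, φ, ψ, h₁, h₂, h₃, h₄⟩ := hU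
  exact ⟨κ, hκ, V, φ, ψ, h₁, fun j => h _ (h₂ j), h₃, h₄⟩

variable [C.IsStableUnderBaseChange] [C.IsStableUnderComposition]
  (hcoprod : ∀ (κ : Type u) [Finite κ] (A B : κ → Scheme.{u}) (f : ∀ j, A j ⟶ B j),
      (∀ j, C (f j)) → C (Limits.Sigma.map f))
  (haff : ∀ (U : Scheme.{u}) [IsAffine U] (κ : Type u) [Finite κ] (V : κ → U.Opens),
      (∀ j, IsAffineOpen (V j)) → ⨆ j, V j = ⊤ → C (Limits.Sigma.desc fun j => (V j).ι))

include haff in
lemma c_id (U : Scheme.{u}) [IsAffine U] : C (𝟙 U) := by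
  have h := (cTop_single C _).mp (haff U PUnit.{u + 1} (fun _ => ⊤) (fun _ => isAffineOpen_top U) (by simp))
  haveI : IsIso (⊤ : U.Opens).ι := (Scheme.topIso U).isIso_hom
  rw [← C.cancel_left_of_respectsIso (⊤ : U.Opens).ι, Category.comp_id]
  exact h

include haff in
lemma cData_top (X : Over S) {U : X.left.Opens} (hU : IsAffineOpen U) : CData C X ⊤ U := by
  haveI : IsAffine U := hU
  refine ⟨PUnit.{u + 1}, inferInstance, fun _ => Over.mk (U.ι ≫ X.hom), fun _ => Over.homMk U.ι rfl,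
    fun _ => 𝟙 (U : Scheme.{u}), fun _ => (hU : IsAffine (Over.mk (U.ι ≫ X.hom)).left), fun _ => trivial, fun _ => Category.id_comp _, ?_⟩
  exact (cTop_single C _).mpr (c_id haff _)

lemma cData_pullback {X Y : Over S} (f : Y ⟶ X) {R : Sieve X} {U : X.left.Opens} (hUa : IsAffineOpen U)
    (hU : CData C X R U) {W : Y.left.Opens} (hW : IsAffineOpen W) (hWU : W ≤ f.left ⁻¹ᵁ U) :
    CData C Y (R.pullback f) W := by
  obtain ⟨κ, hκ, V, φ, ψ, h₁, h₂, h₃, h₄⟩ := hU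
  haveI : IsAffine U := hUa
  haveI : IsAffine W := hW
  have := h₁
  let a : (W : Scheme.{u}) ⟶ U := f.left.resLE U W hWU
  have key : ∀ j, pullback.snd a (ψ j) ≫ (φ j).left = (pullback.fst a (ψ j) ≫ W.ι) ≫ f.left := fun j => by
    rw [← h₃ j, ← Category.assoc, ← pullback.condition, Category.assoc, Category.assoc, Scheme.Hom.resLE_comp_ι]
  refine ⟨κ, hκ, fun j => Over.mk ((pullback.fst a (ψ j) ≫ W.ι) ≫ Y.hom),
    fun j => Over.homMk (pullback.fst a (ψ j) ≫ W.ι) rfl,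
    fun j => pullback.fst a (ψ j), fun j => ?_, fun j => ?_, fun j => rfl, cTop_baseChange C ψ h₄ a⟩
  · change IsAffine (pullback a (ψ j))
    infer_instance
  · let l : Over.mk ((pullback.fst a (ψ j) ≫ W.ι) ≫ Y.hom) ⟶ V j := Over.homMk (pullback.snd a (ψ j)) (by
      change pullback.snd a (ψ j) ≫ (V j).hom = _
      rw [← Over.w (φ j), ← Category.assoc, key, Category.assoc, Over.w]
      rfl)
    have e : (Over.homMk (pullback.fst a (ψ j) ≫ W.ι) rfl : Over.mk ((pullback.fst a (ψ j) ≫ W.ι) ≫ Y.hom) ⟶ Y) ≫ f =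
        l ≫ φ j := by
      ext : 1
      exact (key j).symm
    change R.arrows (_ ≫ f)
    rw [e]
    exact R.downward_closed (h₂ j) l

include hcoprod haff in
lemma cData_trans {X : Over S} {R R' : Sieve X} {U : X.left.Opens} (hU : CData C X R U)
    (hR' : ∀ ⦃Y : Over S⦄ (f : Y ⟶ X), R f → CCov C Y (R'.pullback f)) : CData C X R' U := by
  obtain ⟨κ, hκ, V, φ, ψ, h₁, h₂, h₃, h₄⟩ := hU
  have fin : ∀ j, ∃ (n : Type u) (_ : Finite n) (A : n → (V j).left.Opens), (∀ l, IsAffineOpen (A l)) ∧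
      ⨆ l, A l = ⊤ ∧ ∀ l, CData C (V j) (R'.pullback (φ j)) (A l) := fun j => by
    obtain ⟨ι', A, hA, hsup, hd⟩ := hR' (φ j) (h₂ j)
    haveI := h₁ j
    obtain ⟨t, ht⟩ := (isCompact_univ (X := (V j).left)).elim_finite_subcover (fun l => (A l : Set (V j).left))
      (fun l => (A l).2) (fun x _ => by
        have : x ∈ (⨆ l, A l : (V j).left.Opens) := by rw [hsup]; trivial
        rw [Opens.mem_iSup] at this
        exact Set.mem_iUnion.mpr this)
    refine ⟨{l // l ∈ t}, inferInstance, fun l => A l.1, fun l => hA _, ?_, fun l => hd _⟩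
    refine top_unique fun x _ => ?_
    obtain ⟨l, hl, hxl⟩ := Set.mem_iUnion₂.mp (ht (Set.mem_univ x))
    exact Opens.mem_iSup.mpr ⟨⟨l, hl⟩, hxl⟩
  choose n hn A hA hsup hd using fin
  choose lam hlam Z φ' ψ' hZ hφ' hψ' hC using hd
  haveI := hκ
  haveI := hn
  haveI : ∀ p : Σ j, n j, Finite (lam p.1 p.2) := fun p => hlam _ _
  refine ⟨Σ p : Σ j, n j, lam p.1 p.2, inferInstance, fun q => Z q.1.1 q.1.2 q.2,
    fun q => φ' q.1.1 q.1.2 q.2 ≫ φ q.1.1,
    fun q => ψ' q.1.1 q.1.2 q.2 ≫ (A q.1.1 q.1.2).ι ≫ ψ q.1.1,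
    fun q => hZ _ _ _, fun q => hφ' q.1.1 q.1.2 q.2, fun q => ?_, ?_⟩
  · rw [Category.assoc, Category.assoc, h₃, ← Category.assoc, hψ']
    rfl
  · refine cTop_comp C hcoprod (fun (p : Σ j, n j) m => ψ' p.1 p.2 m) (fun p => hC p.1 p.2)
      (fun p : Σ j, n j => (A p.1 p.2).ι ≫ ψ p.1) ?_
    exact cTop_comp C hcoprod (fun j l => (A j l).ι)
      (fun j => haveI := h₁ j; haff _ _ (A j) (hA j) (hsup j)) ψ h₄

include hcoprod haff in
/-- The topology. -/
def cTopology : GrothendieckTopology (Over S) where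
  sieves X := {R | CCov C X R}
  top_mem' X := by
    obtain ⟨ι, U, hU, hsup⟩ : ∃ (ι : Type u) (U : ι → X.left.Opens), (∀ i, IsAffineOpen (U i)) ∧ ⨆ i, U i = ⊤ :=
      ⟨{U : X.left.Opens // IsAffineOpen U}, fun U => U.1, fun U => U.2, iSup_affineOpens_eq_top X.left⟩
    exact ⟨ι, U, hU, hsup, fun i => cData_top haff X (hU i)⟩
  pullback_stable' X Y R f hR := by
    obtain ⟨ι, U, hU, hsup, hd⟩ := hR
    refine ⟨{W : Y.left.Opens // IsAffineOpen W ∧ ∃ i, W ≤ f.left ⁻¹ᵁ U i}, fun W => W.1, fun W => W.2.1, ?_,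
      fun W => cData_pullback f (hU W.2.2.choose) (hd _) W.2.1 W.2.2.choose_spec⟩
    refine top_unique fun y _ => ?_
    have hy : f.left y ∈ (⨆ i, U i : X.left.Opens) := by rw [hsup]; trivial
    obtain ⟨i, hi⟩ := Opens.mem_iSup.mp hy
    obtain ⟨W, hW, hyW, hWi⟩ := Opens.isBasis_iff_nbhd.mp Y.left.isBasis_affineOpens (U := f.left ⁻¹ᵁ U i) hi
    exact Opens.mem_iSup.mpr ⟨⟨W, hW, i, hWi⟩, hyW⟩
  transitive' X R hR R' hR' := by
    obtain ⟨ι, U, hU, hsup, hd⟩ := hR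
    exact ⟨ι, U, hU, hsup, fun i => cData_trans hcoprod haff (hd i) hR'⟩

end Groth.Agent.BigSiteLib
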