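import Mathlib
import Groth.Agent.QFDom.Basic
import Groth.Agent.LqfRep.Ring
import Groth.Agent.FpqcDescent.Sep

/-!
Flat morphisms locally of finite presentation have finite flat quasi-sections over étale neighbourhoods.
-/

set_option autoImplicit false
set_option linter.style.haveILetI false

universe u

open CategoryTheory AlgebraicGeometry Limits TopologicalSpace
open scoped TensorProduct

namespace Groth.Agent.BigSiteLib

variable {S : Scheme.{u}}

/-- A surjective finite flat quasi-section over an étale neighbourhood of the image of a point. -/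
theorem exists_finite_flat_nhd {T : Scheme.{u}} (f : T ⟶ S) [Flat f]
    [LocallyOfFinitePresentation f] (t : T) :
    ∃ (U V' : Scheme.{u}) (p : V' ⟶ U) (v : U ⟶ S) (b : V' ⟶ T) (u₀ : U),
      Etale v ∧ v u₀ = f t ∧ IsFinite p ∧ Flat p ∧ LocallyOfFinitePresentation p ∧ Surjective p ∧
        b ≫ f = p ≫ v := by
  obtain ⟨V, hV, hsV, -⟩ := exists_isAffineOpen_mem_and_subset (U := ⊤) (x := f t) trivial
  obtain ⟨W, hW, htW, hWV⟩ := exists_isAffineOpen_mem_and_subset (U := f ⁻¹ᵁ V) (x := t) hsV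
  have hfl : (f.appLE V W hWV).hom.Flat := f.flat_appLE hV hW hWV
  have hfp : (f.appLE V W hWV).hom.FinitePresentation := f.finitePresentation_appLE hV hW hWV
  letI := (f.appLE V W hWV).hom.toAlgebra
  haveI : Module.Flat Γ(S, V) Γ(T, W) := hfl
  haveI : Algebra.FinitePresentation Γ(S, V) Γ(T, W) := hfp
  obtain ⟨T', _, _, hqf, hfl', hfp', ⟨h⟩, Q, hQ, hQp⟩ :=
    QFDom.exists_dominating_at Γ(S, V) Γ(T, W) (hW.primeIdealOf ⟨t, htW⟩).asIdeal
  haveI := hQ
  haveI := hqf
  haveI := hfl'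
  haveI := hfp'
  obtain ⟨A', _, _, hA', P, hP, e, he, P', hP', hP'o, hP'q, heP', hfin, huniq, hrad⟩ :=
    LqfRep.exists_etale_piece (A := Γ(S, V)) (B := T') Q
  haveI := hA'
  haveI := hfin
  haveI := hP
  haveI := hP'
  let B' := Localization.Away e
  haveI : Module.Flat (A' ⊗[Γ(S, V)] T') B' := IsLocalization.flat B' (Submonoid.powers e)
  haveI : Module.Flat A' B' := Module.Flat.trans A' (A' ⊗[Γ(S, V)] T') B'
  haveI : Algebra.FinitePresentation (A' ⊗[Γ(S, V)] T') B' := IsLocalization.Away.finitePresentation e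
  haveI : Algebra.FinitePresentation A' B' := Algebra.FinitePresentation.trans A' (A' ⊗[Γ(S, V)] T') B'
  let g : Spec (CommRingCat.of B') ⟶ Spec (CommRingCat.of A') :=
    Spec.map (CommRingCat.ofHom (algebraMap A' B'))
  let ψ : T' →+* B' := (algebraMap (A' ⊗[Γ(S, V)] T') B').comp Algebra.TensorProduct.includeRight.toRingHom
  let v : Spec (CommRingCat.of A') ⟶ S := Spec.map (CommRingCat.ofHom (algebraMap Γ(S, V) A')) ≫ hV.fromSpec
  let b : Spec (CommRingCat.of B') ⟶ T :=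
    Spec.map (CommRingCat.ofHom ψ) ≫ Spec.map (CommRingCat.ofHom h.toRingHom) ≫ hW.fromSpec
  haveI : Etale v := by
    haveI : Etale (Spec.map (CommRingCat.ofHom (algebraMap Γ(S, V) A'))) := by
      rw [HasRingHomProperty.Spec_iff (P := @Etale)]
      exact RingHom.etale_algebraMap.2 hA'
    exact inferInstanceAs (Etale (_ ≫ hV.fromSpec))
  have hb : b ≫ f = g ≫ v := by
    simp only [b, g, v, Category.assoc, ← IsAffineOpen.SpecMap_appLE_fromSpec f hV hW hWV]
    simp only [← Category.assoc, ← Spec.map_comp]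
    congr 2
    refine CommRingCat.hom_ext (RingHom.ext fun r => ?_)
    change algebraMap (A' ⊗[Γ(S, V)] T') B' (Algebra.TensorProduct.includeRight (h (algebraMap Γ(S, V) Γ(T, W) r))) =
      algebraMap A' B' (algebraMap Γ(S, V) A' r)
    rw [AlgHom.commutes, AlgHom.commutes, IsScalarTower.algebraMap_apply A' (A' ⊗[Γ(S, V)] T') B',
      IsScalarTower.algebraMap_apply Γ(S, V) A' (A' ⊗[Γ(S, V)] T')]
  obtain ⟨b₀, hb₀⟩ : (⟨P', hP'⟩ : PrimeSpectrum (A' ⊗[Γ(S, V)] T')) ∈
      Set.range (PrimeSpectrum.comap (algebraMap (A' ⊗[Γ(S, V)] T') B')) := by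
    rw [PrimeSpectrum.localization_away_comap_range B' e]
    exact heP'
  have hb₀' : b₀.asIdeal.comap (algebraMap (A' ⊗[Γ(S, V)] T') B') = P' := congrArg PrimeSpectrum.asIdeal hb₀
  have hgb₀ : g b₀ = (⟨P, hP⟩ : PrimeSpectrum A') := by
    refine PrimeSpectrum.ext ?_
    change b₀.asIdeal.comap (algebraMap A' B') = P
    rw [IsScalarTower.algebraMap_eq A' (A' ⊗[Γ(S, V)] T') B', ← Ideal.comap_comap, hb₀']
    exact hP'o.over.symm
  have hv₀ : v (⟨P, hP⟩ : PrimeSpectrum A') = f t := by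
    have hcomap : P.comap (algebraMap Γ(S, V) A') = (hV.primeIdealOf ⟨f t, hsV⟩).asIdeal := by
      have h1 := congrArg PrimeSpectrum.asIdeal
        (IsAffineOpen.comap_primeIdealOf_appLE V hV W hW hWV htW)
      refine Eq.trans ?_ h1
      change _ = (hW.primeIdealOf ⟨t, htW⟩).asIdeal.comap (algebraMap Γ(S, V) Γ(T, W))
      rw [← hQp, ← hP'q, Ideal.comap_comap, hP'o.over, Ideal.under_def, Ideal.comap_comap]
      congr 1
      refine RingHom.ext fun r => ?_
      change algebraMap A' (A' ⊗[Γ(S, V)] T') (algebraMap Γ(S, V) A' r) = Algebra.TensorProduct.includeRight (algebraMap Γ(S, V) T' r)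
      rw [AlgHom.commutes, ← IsScalarTower.algebraMap_apply]
    change hV.fromSpec (Spec.map (CommRingCat.ofHom (algebraMap Γ(S, V) A')) ⟨P, hP⟩) = f t
    refine Eq.trans (congrArg hV.fromSpec (PrimeSpectrum.ext hcomap)) ?_
    exact hV.fromSpec_primeIdealOf _
  haveI : IsFinite g := (IsFinite.SpecMap_iff _).2 (RingHom.finite_algebraMap.2 inferInstance)
  haveI : Flat g := Flat.SpecMap_iff.2 (RingHom.flat_algebraMap_iff.2 inferInstance)
  haveI : LocallyOfFinitePresentation g :=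
    (LocallyOfFinitePresentation.SpecMap_iff _).2 (RingHom.finitePresentation_algebraMap.2 inferInstance)
  let O : (Spec (CommRingCat.of A')).Opens := ⟨Set.range g, g.isOpenMap.isOpen_range⟩
  refine ⟨O, g ⁻¹ᵁ O, g ∣_ O, O.ι ≫ v, (g ⁻¹ᵁ O).ι ≫ b, ⟨⟨P, hP⟩, ⟨b₀, hgb₀⟩⟩, inferInstance, ?_, inferInstance,
    inferInstance, inferInstance, ⟨fun y => ?_⟩, ?_⟩
  · exact hv₀
  · obtain ⟨x, hx⟩ := y.2
    refine ⟨(⟨x, ⟨x, rfl⟩⟩ : (g ⁻¹ᵁ O).toScheme), Subtype.ext ?_⟩
    exact (congr($(morphismRestrict_ι g O) (⟨x, ⟨x, rfl⟩⟩ : (g ⁻¹ᵁ O).toScheme))).trans hx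
  · rw [Category.assoc, hb, morphismRestrict_ι_assoc]

/-- A quasi-finite flat affine quasi-section through a given fibre. -/
theorem exists_qf_nhd {T : Scheme.{u}} (f : T ⟶ S) [Flat f] [LocallyOfFinitePresentation f] (t : T) :
    ∃ (W : Scheme.{u}) (b : W ⟶ T) (w : W), IsAffine W ∧ Flat (b ≫ f) ∧ LocallyOfFinitePresentation (b ≫ f) ∧
      LocallyQuasiFinite (b ≫ f) ∧ (b ≫ f) w = f t := by
  obtain ⟨U, V', p, v, b, u₀, hv, hu₀, hp, hpf, hpl, hps, hb⟩ := exists_finite_flat_nhd f t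
  obtain ⟨w, hw⟩ := hps.surj u₀
  obtain ⟨W, hW, hwW, -⟩ := exists_isAffineOpen_mem_and_subset (U := ⊤) (x := w) trivial
  refine ⟨W, W.ι ≫ b, (⟨w, hwW⟩ : W.toScheme), hW, ?_⟩
  haveI := hv
  haveI := hp
  haveI := hpf
  haveI := hpl
  haveI : LocallyQuasiFinite v := FpqcDescent.locallyQuasiFinite_of_etale v
  rw [Category.assoc, hb]
  refine ⟨inferInstance, inferInstance, inferInstance, ?_⟩
  rw [← hu₀, ← hw]
  rfl

end Groth.Agent.BigSiteLib

namespace Groth.Agent.BigSiteLib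

variable {S : Scheme.{u}}

set_option backward.isDefEq.respectTransparency.types false in
/-- A surjective quasi-finite flat cover factoring through a given one. -/
theorem exists_qf_cover {X : Scheme.{u}} (f : X ⟶ S) [Flat f] [LocallyOfFinitePresentation f] [Surjective f] :
    ∃ (S' : Scheme.{u}) (g : S' ⟶ S) (h : S' ⟶ X), h ≫ f = g ∧ Flat g ∧ LocallyOfFinitePresentation g ∧
      LocallyQuasiFinite g ∧ Surjective g ∧ (CompactSpace S → IsAffine S') := by
  classical
  choose t ht using f.surjective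
  choose W b w hW hfl hfp hqf hw using fun s : S => exists_qf_nhd f (t s)
  have hopen : ∀ s, IsOpen (Set.range (b s ≫ f)) := fun s =>
    haveI := hfl s; haveI := hfp s; (b s ≫ f).isOpenMap.isOpen_range
  obtain ⟨J, hJ, hJc⟩ : ∃ J : Set S, (CompactSpace S → J.Finite) ∧ ∀ x, ∃ s ∈ J, x ∈ Set.range (b s ≫ f) := by
    by_cases hc : CompactSpace S
    · obtain ⟨J, hJ⟩ := isCompact_univ.elim_finite_subcover (fun s => Set.range (b s ≫ f)) hopen
        fun x _ => Set.mem_iUnion.mpr ⟨x, w x, (hw x).trans (ht x)⟩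
      exact ⟨J, fun _ => J.finite_toSet, fun x => by
        obtain ⟨s, hs, hx⟩ := Set.mem_iUnion₂.mp (hJ trivial)
        exact ⟨s, hs, hx⟩⟩
    · exact ⟨Set.univ, fun h => absurd h hc, fun x => ⟨x, trivial, w x, (hw x).trans (ht x)⟩⟩
  let h : (∐ fun s : J => W s) ⟶ X := Sigma.desc fun s => b s
  have hι : ∀ s : J, Sigma.ι (fun s : J => W s) s ≫ h = b s := fun s => Sigma.ι_desc _ _
  have hg : h ≫ f = Sigma.desc fun s : J => b s ≫ f := by
    apply Limits.Sigma.hom_ext
    intro s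
    rw [Sigma.ι_desc, ← Category.assoc, hι]
  refine ⟨_, h ≫ f, h, rfl, ?_, ?_, ?_, ⟨fun x => ?_⟩, fun hc => ?_⟩
  · rw [hg]; exact IsZariskiLocalAtSource.sigmaDesc (P := (@Flat : MorphismProperty Scheme.{u})) fun s => hfl s
  · rw [hg]; exact IsZariskiLocalAtSource.sigmaDesc (P := (@LocallyOfFinitePresentation : MorphismProperty Scheme.{u})) fun s => hfp s
  · rw [hg]; exact IsZariskiLocalAtSource.sigmaDesc (P := (@LocallyQuasiFinite : MorphismProperty Scheme.{u})) fun s => hqf s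
  · obtain ⟨s, hs, y, hy⟩ := hJc x
    refine ⟨Sigma.ι (fun s : J => W s) ⟨s, hs⟩ y, ?_⟩
    rw [← Scheme.Hom.comp_apply, ← Category.assoc, hι]
    exact hy
  · haveI := (hJ hc).to_subtype
    haveI : ∀ s : J, IsAffine (W s) := fun s => hW s
    infer_instance

end Groth.Agent.BigSiteLib
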