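import Groth.Agent.BigSiteLib.GmAcyclic
import Groth.Agent.BigSiteLib.AcycCompareH
import Groth.Agent.SpQS.FieldImm
import Groth.Prelude.Def_Frob
import Mathlib

/-!
The Kummer sequence on the fppf site.
-/

set_option autoImplicit false
set_option linter.style.haveILetI false
set_option backward.isDefEq.respectTransparency false
set_option backward.defeqAttrib.useBackward true
universe w u

noncomputable section

namespace Groth.Agent.BigSiteLib

open CategoryTheory Limits Opposite Abelian AlgebraicGeometry Polynomial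

lemma exists_finite_flat_root (A : CommRingCat.{u}) (n : ℕ) (hn : 0 < n) (a : Aˣ) :
    ∃ (B : CommRingCat.{u}) (φ : A ⟶ B) (b : Bˣ), b.val ^ n = φ a.val ∧
      Surjective (Spec.map φ) ∧ Flat (Spec.map φ) ∧ LocallyOfFinitePresentation (Spec.map φ) := by
  cases subsingleton_or_nontrivial A with
  | inl h =>
    refine ⟨A, 𝟙 A, 1, Subsingleton.elim _ _, ?_⟩
    rw [Spec.map_id]
    exact ⟨inferInstance, inferInstance, inferInstance⟩
  | inr h =>
    let f : A[X] := X ^ n - C a.val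
    have hf : f.Monic := monic_X_pow_sub_C _ hn.ne'
    haveI : Module.Free A (AdjoinRoot f) := hf.free_adjoinRoot
    haveI : Module.Finite A (AdjoinRoot f) := hf.finite_adjoinRoot
    haveI : Algebra.FinitePresentation A (AdjoinRoot f) :=
      Algebra.FinitePresentation.quotient (R := A) (A := A[X]) (Submodule.fg_span_singleton f)
    haveI : Nontrivial (AdjoinRoot f) := by
      have hd : 0 < f.natDegree := by simp only [f, natDegree_X_pow_sub_C]; exact hn
      exact ⟨⟨_, 0, (AdjoinRoot.powerBasis' hf).basis.ne_zero ⟨0, hd⟩⟩⟩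
    haveI : Module.FaithfullyFlat A (AdjoinRoot f) := inferInstance
    have hr : AdjoinRoot.root f ^ n = algebraMap A (AdjoinRoot f) a.val := by
      have := AdjoinRoot.eval₂_root f
      simp only [f, eval₂_sub, eval₂_pow, eval₂_X, eval₂_C, sub_eq_zero] at this
      exact this
    have hu : IsUnit (AdjoinRoot.root f) := by
      refine (isUnit_pow_iff hn.ne').mp ?_
      rw [hr]
      exact a.isUnit.map _
    refine ⟨CommRingCat.of (AdjoinRoot f), CommRingCat.ofHom (algebraMap A (AdjoinRoot f)), hu.unit, hr, ?_, ?_, ?_⟩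
    · exact ⟨PrimeSpectrum.comap_surjective_of_faithfullyFlat⟩
    · rw [HasRingHomProperty.Spec_iff (P := @Flat)]
      exact RingHom.flat_algebraMap_iff.mpr inferInstance
    · rw [HasRingHomProperty.Spec_iff (P := @LocallyOfFinitePresentation)]
      exact RingHom.finitePresentation_algebraMap.mpr inferInstance

/-- Powers are locally surjective on units. -/
theorem epi_nsmul_GmF (S : Scheme.{u}) (n : ℕ) (hn : 0 < n) : Epi (n • 𝟙 (EtDl.GmF S)) := by
  haveI : Sheaf.IsLocallySurjective (n • 𝟙 (EtDl.GmF S)) := by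
    refine ⟨fun {U} s => ?_⟩
    let a : (Γ(U.left, ⊤))ˣ := Additive.toMul s.down
    have h : ∀ z : U.left, ∃ (U' : Over S) (g : U' ⟶ U) (b : (Γ(U'.left, ⊤))ˣ), b ^ n = Units.map g.left.appTop.hom.toMonoidHom a ∧
        Flat g.left ∧ LocallyOfFinitePresentation g.left ∧ z ∈ Set.range g.left := by
      intro z
      obtain ⟨_, ⟨(W : U.left.Opens), hW, rfl⟩, hzW, -⟩ :=
        U.left.isBasis_affineOpens.exists_subset_of_mem_open (Set.mem_univ z) isOpen_univ
      let r : Γ(U.left, ⊤) ⟶ Γ(W.toScheme, ⊤) := W.ι.appTop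
      obtain ⟨B, φ, b, hb, hs, hfl, hfp⟩ := exists_finite_flat_root Γ(W.toScheme, ⊤) n hn (Units.map r.hom.toMonoidHom a)
      haveI := hs
      haveI := hfl
      haveI := hfp
      haveI : IsAffine W.toScheme := hW
      let g : Spec B ⟶ U.left := (Spec.map φ ≫ W.toScheme.isoSpec.inv) ≫ W.ι
      haveI : Surjective (Spec.map φ ≫ W.toScheme.isoSpec.inv) := inferInstance
      obtain ⟨y, hy⟩ := (Spec.map φ ≫ W.toScheme.isoSpec.inv).surjective ⟨z, hzW⟩
      refine ⟨Over.mk (g ≫ U.hom), (Over.homMk g rfl : Over.mk (g ≫ U.hom) ⟶ U), Units.map (Scheme.ΓSpecIso B).inv.hom.toMonoidHom b, Units.ext ?_,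
        inferInstanceAs (Flat g), inferInstanceAs (LocallyOfFinitePresentation g), y, congrArg W.ι hy⟩
      have e : g.appTop = r ≫ φ ≫ (Scheme.ΓSpecIso B).inv := by
        have e' : W.toScheme.isoSpec.inv.appTop = (Scheme.ΓSpecIso Γ(W.toScheme, ⊤)).inv := by
          rw [← cancel_mono W.toScheme.isoSpec.hom.appTop, ← Scheme.Hom.comp_appTop, Iso.hom_inv_id,
            show W.toScheme.isoSpec.hom.appTop = (Scheme.ΓSpecIso _).hom from Scheme.toSpecΓ_appTop _,
            Iso.inv_hom_id]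
          rfl
        simp only [g, r, Scheme.Hom.comp_appTop, e', Scheme.ΓSpecIso_inv_naturality, Category.assoc]
        rw [← Category.assoc, ← Scheme.ΓSpecIso_inv_naturality, Category.assoc]
      change ((Scheme.ΓSpecIso B).inv b.val) ^ n = g.appTop a.val
      rw [← map_pow, hb, e]
      rfl
    choose U' g b hb hfl hfp hz using h
    have hmem : Presieve.ofArrows (fun z => (U' z).left) (fun z => (g z).left) ∈ Scheme.fppfPrecoverage U.left :=
      (Scheme.ofArrows_mem_precoverage_iff _).2 ⟨fun z => ⟨z, (hz z).choose, (hz z).choose_spec⟩,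
        fun z => ⟨hfl z, hfp z⟩⟩
    rw [GrothendieckTopology.mem_over_iff]
    refine GrothendieckTopology.superset_covering _ ?_ (Precoverage.generate_mem_toGrothendieck hmem)
    rw [Sieve.generate_le_iff]
    rintro _ _ ⟨z⟩
    refine ⟨U' z, g z, 𝟙 _, ⟨⟨Additive.ofMul (b z)⟩, ?_⟩, (Category.id_comp _).symm⟩
    change (n • (𝟙 (EtDl.GmF S) : _ ⟶ _)).hom.app (op (U' z)) _ = _
    have e : ∀ m : ℕ, (m • 𝟙 (EtDl.GmF S)).hom.app (op (U' z)) ⟨Additive.ofMul (b z)⟩ =
        (m • (⟨Additive.ofMul (b z)⟩ : ULift.{u + 1} _)) := fun m => by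
      induction m with
      | zero => simp only [zero_smul]; rfl
      | succ m ih =>
        rw [succ_nsmul, succ_nsmul]
        exact congrArg (· + _) ih
    refine (e n).trans ?_
    exact congrArg (fun x => (⟨Additive.ofMul x⟩ : ULift.{u + 1} _)) (hb z)
  infer_instance

section Algebra

variable {p : ℕ} [hp : Fact p.Prime]

/-- Surjections of groups of exponent `p` split. -/
theorem exists_addMonoidHom_section {A : Type*} {K : Type*} [AddCommGroup A] [AddCommGroup K]
    (hA : ∀ a : A, p • a = 0) (hK : ∀ k : K, p • k = 0) (π : A →+ K) (hπ : Function.Surjective π) :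
    ∃ s : K →+ A, ∀ k, π (s k) = k := by
  have hmA : Nonempty (Module (ZMod p) A) := ⟨AddCommGroup.zmodModule hA⟩
  have hmK : Nonempty (Module (ZMod p) K) := ⟨AddCommGroup.zmodModule hK⟩
  obtain ⟨iA⟩ := hmA
  obtain ⟨iK⟩ := hmK
  let b := Module.Basis.ofVectorSpace (ZMod p) K
  let s : K →ₗ[ZMod p] A := b.constr ℕ fun i => Function.surjInv hπ (b i)
  have : (π.toZModLinearMap p).comp s = LinearMap.id :=
    b.ext fun i => by simp [s, Function.surjInv_eq hπ]
  exact ⟨s.toAddMonoidHom, fun k => congr($this k)⟩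

/-- Groups of exponent `p` are determined by a two step filtration. -/
theorem nonempty_addEquiv_of_exact {G' A G : Type*} [AddCommGroup G'] [AddCommGroup A] [AddCommGroup G]
    (hA : ∀ a : A, p • a = 0) (δ : G' →+ A) (ι : A →+ G) (h1 : ∀ x, δ x = 0 ↔ ∃ y, p • y = x)
    (h2 : ∀ a, ι a = 0 ↔ ∃ x, δ x = a) (h3 : ∀ g, p • g = 0 ↔ ∃ a, ι a = g) :
    Nonempty (A ≃+ (G' ⧸ (nsmulAddMonoidHom p : G' →+ G').range) × (nsmulAddMonoidHom p : G →+ G).ker) := by
  let K := (nsmulAddMonoidHom p : G →+ G).ker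
  have hK : ∀ k : K, p • k = 0 := fun k => Subtype.ext (k.2 : p • k.1 = 0)
  let π : A →+ K := ι.codRestrict K fun a => (h3 _).mpr ⟨a, rfl⟩
  have hπ : Function.Surjective π := fun k => by
    obtain ⟨a, ha⟩ := (h3 k.1).mp k.2
    exact ⟨a, Subtype.ext ha⟩
  obtain ⟨s, hs'⟩ := exists_addMonoidHom_section hA hK π hπ
  let d : G' ⧸ (nsmulAddMonoidHom p : G' →+ G').range →+ A := QuotientAddGroup.lift _ δ (by
    rintro _ ⟨y, rfl⟩
    exact (h1 _).mpr ⟨y, rfl⟩)
  let F : (G' ⧸ (nsmulAddMonoidHom p : G' →+ G').range) × K →+ A := d.coprod s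
  have hd : ∀ x, π (d x) = 0 := fun x => by
    obtain ⟨y, rfl⟩ := QuotientAddGroup.mk_surjective x
    exact Subtype.ext ((h2 _).mpr ⟨y, rfl⟩)
  refine ⟨(AddEquiv.ofBijective F ⟨(injective_iff_map_eq_zero F).mpr fun ⟨x, k⟩ hF => ?_, fun a => ?_⟩).symm⟩
  · change d x + s k = 0 at hF
    have hk : k = 0 := by
      have := congrArg π hF
      rwa [map_add, hd, hs', zero_add, map_zero] at this
    subst hk
    rw [map_zero, add_zero] at hF
    obtain ⟨y, rfl⟩ := QuotientAddGroup.mk_surjective x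
    refine Prod.ext ((QuotientAddGroup.eq_zero_iff _).mpr ?_) rfl
    exact (h1 y).mp hF
  · have : ι (a - s (π a)) = 0 := by
      have := congrArg Subtype.val (hs' (π a))
      change ι (s (π a)) = ι a at this
      rw [map_sub, this, sub_self]
    obtain ⟨x, hx⟩ := (h2 _).mp this
    exact ⟨(QuotientAddGroup.mk x, π a), by change δ x + s (π a) = a; rw [hx, sub_add_cancel]⟩

/-- Two such groups are isomorphic. -/
theorem nonempty_addEquiv_of_congr {G' G : Type*} [AddCommGroup G'] [AddCommGroup G] {H' H : Type*} [AddCommGroup H']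
    [AddCommGroup H] (e' : G' ≃+ H') (e : G ≃+ H) :
    Nonempty ((G' ⧸ (nsmulAddMonoidHom p : G' →+ G').range) × (nsmulAddMonoidHom p : G →+ G).ker ≃+
      (H' ⧸ (nsmulAddMonoidHom p : H' →+ H').range) × (nsmulAddMonoidHom p : H →+ H).ker) := by
  refine ⟨AddEquiv.prodCongr (QuotientAddGroup.congr _ _ e' ?_) ?_⟩
  · ext x
    constructor
    · rintro ⟨_, ⟨y, rfl⟩, rfl⟩
      exact ⟨e' y, (map_nsmul e' p y).symm⟩
    · rintro ⟨y, rfl⟩
      exact ⟨p • e'.symm y, ⟨e'.symm y, rfl⟩, (map_nsmul e' p _).trans (congrArg (p • ·) (e'.apply_symm_apply y))⟩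
  · exact
      { toFun := fun x => ⟨e x.1, by change p • e x.1 = 0; rw [← map_nsmul, show p • x.1 = 0 from x.2, map_zero]⟩
        invFun := fun x => ⟨e.symm x.1, by change p • e.symm x.1 = 0; rw [← map_nsmul, show p • x.1 = 0 from x.2, map_zero]⟩
        left_inv := fun x => Subtype.ext (e.symm_apply_apply x.1)
        right_inv := fun x => Subtype.ext (e.apply_symm_apply x.1)
        map_add' := fun x y => Subtype.ext (map_add e x.1 y.1) }

variable {A : Type*} [Category A] [Abelian A] [HasExt.{w} A] (M : A)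

omit hp in
lemma comp_mk₀_nsmul {X : A} {n : ℕ} (x : Ext.{w} M X n) (m : ℕ) :
    x.comp (Ext.mk₀ (m • 𝟙 X)) (add_zero n) = m • x := by
  induction m with
  | zero => rw [zero_smul, zero_smul, Ext.mk₀_zero, Ext.comp_zero]
  | succ m ih => rw [succ_nsmul, succ_nsmul, Ext.mk₀_add, Ext.comp_add, ih, Ext.comp_mk₀_id]

/-- Cohomology of a kernel of multiplication by a prime. -/
theorem nonempty_ext_kernel {K X : A} (f : K ⟶ X) (w : f ≫ (p • 𝟙 X) = 0)
    (hS : (ShortComplex.mk f (p • 𝟙 X) w).ShortExact) (n : ℕ) (hX : p • 𝟙 K = 0) :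
    Nonempty (Ext.{w} M K (n + 1) ≃+ (Ext.{w} M X n ⧸ (nsmulAddMonoidHom p).range) ×
      (nsmulAddMonoidHom p : Ext.{w} M X (n + 1) →+ _).ker) := by
  refine nonempty_addEquiv_of_exact (fun a => ?_) (hS.extClass.postcomp M rfl) ((Ext.mk₀ f).postcomp M (add_zero _))
    (fun x => ⟨fun hx => ?_, ?_⟩) (fun a => ⟨fun ha => ?_, ?_⟩) (fun y => ⟨fun hy => ?_, ?_⟩)
  · rw [← comp_mk₀_nsmul M a p, hX, Ext.mk₀_zero, Ext.comp_zero]
  · obtain ⟨y, hy⟩ := Ext.covariant_sequence_exact₃ M hS x rfl hx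
    exact ⟨y, by rw [← hy, ← comp_mk₀_nsmul M y p]⟩
  · rintro ⟨y, rfl⟩
    change Ext.comp (p • y) hS.extClass rfl = 0
    rw [← comp_mk₀_nsmul M y p, Ext.comp_assoc_of_second_deg_zero]
    exact (congrArg (fun z => y.comp z rfl) hS.comp_extClass).trans (Ext.comp_zero _ _ _ _ _)
  · exact Ext.covariant_sequence_exact₁ M hS a ha rfl
  · rintro ⟨y, rfl⟩
    change (Ext.comp y hS.extClass rfl).comp (Ext.mk₀ f) (add_zero _) = 0
    rw [Ext.comp_assoc_of_third_deg_zero]
    exact (congrArg (fun z => y.comp z rfl) hS.extClass_comp).trans (Ext.comp_zero _ _ _ _ _)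
  · refine Ext.covariant_sequence_exact₂ M hS y ?_
    rw [comp_mk₀_nsmul]
    exact hy
  · rintro ⟨a, rfl⟩
    rw [← comp_mk₀_nsmul M _ p]
    change (Ext.comp a (Ext.mk₀ f) (add_zero _)).comp (Ext.mk₀ (p • 𝟙 X)) (add_zero _) = 0
    rw [Ext.comp_assoc_of_third_deg_zero, Ext.mk₀_comp_mk₀, w, Ext.mk₀_zero, Ext.comp_zero]

/-- Cohomology of a cokernel of multiplication by a prime. -/
theorem nonempty_ext_cokernel {K X : A} (g : X ⟶ K) (w : (p • 𝟙 X) ≫ g = 0)
    (hS : (ShortComplex.mk (p • 𝟙 X) g w).ShortExact) (n : ℕ) (hX : p • 𝟙 K = 0) :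
    Nonempty (Ext.{w} M K n ≃+ (Ext.{w} M X n ⧸ (nsmulAddMonoidHom p).range) ×
      (nsmulAddMonoidHom p : Ext.{w} M X (n + 1) →+ _).ker) := by
  refine nonempty_addEquiv_of_exact (fun a => ?_) ((Ext.mk₀ g).postcomp M (add_zero _)) (hS.extClass.postcomp M rfl)
    (fun x => ⟨fun hx => ?_, ?_⟩) (fun a => ⟨fun ha => ?_, ?_⟩) (fun y => ⟨fun hy => ?_, ?_⟩)
  · rw [← comp_mk₀_nsmul M a p, hX, Ext.mk₀_zero, Ext.comp_zero]
  · obtain ⟨y, hy⟩ := Ext.covariant_sequence_exact₂ M hS x hx
    exact ⟨y, by rw [← hy, ← comp_mk₀_nsmul M y p]⟩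
  · rintro ⟨y, rfl⟩
    change Ext.comp (p • y) (Ext.mk₀ g) (add_zero _) = 0
    rw [← comp_mk₀_nsmul M y p]
    change (Ext.comp y (Ext.mk₀ (p • 𝟙 X)) (add_zero _)).comp (Ext.mk₀ g) (add_zero _) = 0
    rw [Ext.comp_assoc_of_third_deg_zero, Ext.mk₀_comp_mk₀, w, Ext.mk₀_zero, Ext.comp_zero]
  · exact Ext.covariant_sequence_exact₃ M hS a rfl ha
  · rintro ⟨y, rfl⟩
    change (Ext.comp y (Ext.mk₀ g) (add_zero _)).comp hS.extClass rfl = 0
    rw [Ext.comp_assoc_of_second_deg_zero]
    exact (congrArg (fun z => y.comp z rfl) hS.comp_extClass).trans (Ext.comp_zero _ _ _ _ _)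
  · refine Ext.covariant_sequence_exact₁ M hS y ?_ rfl
    rw [comp_mk₀_nsmul]
    exact hy
  · rintro ⟨a, rfl⟩
    rw [← comp_mk₀_nsmul M _ p]
    change (Ext.comp a hS.extClass rfl).comp (Ext.mk₀ (p • 𝟙 X)) (add_zero _) = 0
    rw [Ext.comp_assoc_of_third_deg_zero]
    exact (congrArg (fun z => a.comp z rfl) hS.extClass_comp).trans (Ext.comp_zero _ _ _ _ _)

end Algebra

/-- Roots of unity of exponent the characteristic are trivial on the small site of a reduced scheme. -/
theorem mono_powMap (p : ℕ) [Fact p.Prime] (X : Scheme.{u}) [FrobSch.IsCharP X p] [IsReduced X] :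
    Mono (EtCoh.powMap X p) := by
  haveI : ∀ U, Mono ((EtCoh.powMap X p).hom.app U) := fun U => by
    obtain ⟨U⟩ := U
    haveI : Etale U.hom := U.prop
    haveI : Etale (X := U.left) (Y := X) U.hom := U.prop
    haveI : IsReduced U.left := SpQS.isReduced_of_etale_reduced (X := U.left) (Y := X) U.hom
    haveI : FrobSch.IsCharP U.left p := FrobSch.IsCharP.of_hom (X := U.left) (Y := X) U.hom p
    refine (AddCommGrpCat.mono_iff_injective _).mpr ((injective_iff_map_eq_zero _).mpr fun x hx => ?_)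
    let a : (Γ(U.left, ⊤))ˣ := Additive.toMul x.down
    have e : ∀ m : ℕ, (m • 𝟙 (EtCoh.Gm X)).hom.app (op U) x = m • x := fun m => by
      induction m with
      | zero => simp only [zero_smul]; rfl
      | succ m ih =>
        rw [succ_nsmul, succ_nsmul]
        exact congrArg (· + _) ih
    have h0 : a.val ^ p = 1 := congrArg (fun y => (Additive.toMul (ULift.down y)).val) ((e p).symm.trans hx)
    have h1 : a = 1 := by
      refine Units.ext ?_
      cases subsingleton_or_nontrivial Γ(U.left, ⊤) with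
      | inl h => exact Subsingleton.elim _ _
      | inr h =>
        haveI : CharP Γ(U.left, ⊤) p :=
          (CharP.charP_iff_prime_eq_zero Fact.out).mpr FrobSch.IsCharP.natCast_eq_zero
        refine sub_eq_zero.mp (IsNilpotent.eq_zero ⟨p, ?_⟩)
        rw [sub_pow_char, h0, Units.val_one, one_pow, sub_self]
    exact congrArg (fun y => (⟨Additive.ofMul y⟩ : ULift.{u + 1} _)) h1
  haveI := NatTrans.mono_of_mono_app (EtCoh.powMap X p).hom
  exact (sheafToPresheaf _ _).mono_of_mono_map this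

/-- Flat cohomology of roots of unity of exponent the characteristic. -/
theorem nonempty_HF_mu (p : ℕ) [Fact p.Prime] (X : Scheme.{u}) [FrobSch.IsCharP X p] [IsReduced X] [EtFppf.ACont X]
    (n : ℕ) : Nonempty (EtFppf.HF X (kernel (p • 𝟙 (EtDl.GmF X))) (n + 1) ≃+
      EtCoh.H X (cokernel (EtCoh.powMap X p)) n) := by
  haveI := mono_powMap p X
  haveI := epi_nsmul_GmF X p (Fact.out : p.Prime).pos
  let S₁ : ShortComplex (EtFppf.AbF X) := ShortComplex.mk _ _ (kernel.condition (p • 𝟙 (EtDl.GmF X)))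
  have h₁ : S₁.ShortExact := { exact := ShortComplex.exact_of_f_is_kernel _ (kernelIsKernel _) }
  let S₂ : ShortComplex (EtCoh.Ab X) := ShortComplex.mk _ _ (cokernel.condition (EtCoh.powMap X p))
  have h₂ : S₂.ShortExact :=
    { exact := ShortComplex.exact_of_g_is_cokernel _ (cokernelIsCokernel _),
      mono_f := inferInstanceAs (Mono (EtCoh.powMap X p)) }
  have hK : p • 𝟙 (kernel (p • 𝟙 (EtDl.GmF X))) = 0 := by
    rw [← cancel_mono (kernel.ι (p • 𝟙 (EtDl.GmF X))), Preadditive.nsmul_comp, Category.id_comp, Limits.zero_comp]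
    exact ((Preadditive.comp_nsmul _ _ _).trans (congrArg (p • ·) (Category.comp_id _))).symm.trans (kernel.condition _)
  have hC : p • 𝟙 (cokernel (EtCoh.powMap X p)) = 0 := by
    rw [← cancel_epi (cokernel.π (EtCoh.powMap X p)), Preadditive.comp_nsmul, Category.comp_id, Limits.comp_zero]
    exact ((Preadditive.nsmul_comp _ _ _).trans (congrArg (p • ·) (Category.id_comp _))).symm.trans (cokernel.condition _)
  obtain ⟨a⟩ := nonempty_ext_kernel (p := p) ((constantSheaf (EtFppf.J X) AddCommGrpCat.{u + 1}).obj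
    (AddCommGrpCat.of (ULift ℤ))) _ _ h₁ n hK
  obtain ⟨b⟩ := nonempty_ext_cokernel (p := p) ((constantSheaf X.smallEtaleTopology AddCommGrpCat.{u + 1}).obj
    (AddCommGrpCat.of (ULift ℤ))) _ _ h₂ n hC
  obtain ⟨e₀⟩ := nonempty_H_of_acyc (EtDl.GmF X) (acyc_GmF X) n
  obtain ⟨e₁⟩ := nonempty_H_of_acyc (EtDl.GmF X) (acyc_GmF X) (n + 1)
  obtain ⟨c⟩ := nonempty_addEquiv_of_congr (p := p) e₀.symm e₁.symm
  exact ⟨(a.trans c).trans b.symm⟩

end Groth.Agent.BigSiteLib
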