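import Groth.Agent.BigSiteLib.FpqcSheaf
import Groth.Agent.BigSiteLib.Compare

/-!
Sections of inverse images on big sites.
-/

set_option autoImplicit false
set_option backward.isDefEq.respectTransparency false
set_option backward.defeqAttrib.useBackward true
universe u

noncomputable section

namespace Groth.Agent.BigSiteLib

open CategoryTheory Limits Opposite AlgebraicGeometry

variable {S : Scheme.{u}}

/-- Sections of the inverse image over an object. -/
def piSectIso (F : EtCoh.Ab S) (T : Over S) :
    (Pi F).obj.obj (op T) ≅ ((EtCoh.pull T.hom).obj F).obj.obj (op (EtCoh.top T.left)) :=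
  (Pi F).obj.mapIso (Iso.op (Over.isoMk (Iso.refl _) (by
      change 𝟙 _ ≫ T.hom = 𝟙 _ ≫ T.hom; rfl) :
    (Over.map T.hom).obj ((EtFppf.a T.left).obj (EtCoh.top T.left)) ≅ T)) ≪≫
  ((sheafToPresheaf _ _).mapIso (resPullIso T.hom F)).app (op (EtCoh.top T.left))

lemma fppfLe (S : Scheme.{u}) : QuotSh.J Scheme.fppfPrecoverage S ≤ QuotSh.J Scheme.fpqcPrecoverage S :=
  BigSite.J_mono Scheme.fppfPrecoverage_le_fpqcPrecoverage S

lemma isSheaf_fppf_Pi (F : EtCoh.Ab S) : Presheaf.IsSheaf (EtFppf.J S) (Pi F).obj :=
  fun A => Presieve.isSheaf_of_le _ (fppfLe S) (isSheaf_fpqc_Pi F A)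

/-- The inverse image on the big étale site, as a functor to fppf sheaves. -/
def piF (S : Scheme.{u}) : EtCoh.Ab S ⥤ EtFppf.AbF S :=
  ObjectProperty.lift _ (BigSite.piEtPull Scheme.etalePrecoverage S ⋙ sheafToPresheaf _ _) fun F => isSheaf_fppf_Pi F

/-- It is left adjoint to restriction. -/
def piFAdj (S : Scheme.{u}) [EtFppf.ACont S] : piF S ⊣ EtFppf.aPush S :=
  Adjunction.restrictFullyFaithful (iC := 𝟭 (EtCoh.Ab S))
    (iD := BigSite.eps Scheme.etalePrecoverage Scheme.fppfPrecoverage S AddCommGrpCat.{u + 1})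
    (BigSite.piEtAdj Scheme.etalePrecoverage S) (Functor.FullyFaithful.id _)
    { preimage := fun {F G} φ => ⟨φ.hom⟩
      map_preimage := fun _ => rfl
      preimage_map := fun _ => rfl }
    (NatIso.ofComponents (fun F => Iso.refl _) (by
      intro F G φ
      exact (Category.comp_id _).trans (Category.id_comp _).symm))
    (NatIso.ofComponents (fun G => Iso.refl _) (by
      intro F G φ
      exact (Category.comp_id _).trans (Category.id_comp _).symm))

/-- The pullback to the big fppf site is the pullback to the big étale site. -/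
def piFIso (S : Scheme.{u}) [EtFppf.ACont S] : EtFppf.aPull S ≅ piF S :=
  (EtFppf.aAdj S).leftAdjointUniq (piFAdj S)

end Groth.Agent.BigSiteLib
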