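import Groth.Agent.BigSiteLib.EtExact
import Groth.Agent.BigSiteLib.PiSections
import Groth.Agent.BigSiteLib.Shriek
import Groth.Agent.BigSiteLib.FiniteNhd

/-!
Fppf sheaves with étale-locally exact Amitsur complexes along finite flat coverings.
-/

set_option autoImplicit false
set_option linter.style.haveILetI false
set_option backward.isDefEq.respectTransparency false
set_option backward.defeqAttrib.useBackward true
universe u

noncomputable section

namespace Groth.Agent.BigSiteLib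

open CategoryTheory Limits Opposite AlgebraicGeometry

variable {S : Scheme.{u}}

set_option backward.isDefEq.respectTransparency.types false in
lemma hasIsos_fppf : Scheme.fppfPrecoverage.{u}.HasIsos :=
  haveI : MorphismProperty.ContainsIdentities (@Flat ⊓ @LocallyOfFinitePresentation : MorphismProperty Scheme.{u}) :=
    ⟨fun X => ⟨inferInstanceAs (Flat (𝟙 X)), inferInstanceAs (LocallyOfFinitePresentation (𝟙 X))⟩⟩
  inferInstanceAs (Scheme.precoverage (@Flat ⊓ @LocallyOfFinitePresentation : MorphismProperty Scheme.{u})).HasIsos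

/-- The restriction of an fppf sheaf to schemes over an `S`-scheme, as a presheaf. -/
abbrev resPsh {T : Scheme.{u}} (t : T ⟶ S) (G : EtFppf.AbF S) : Psh T :=
  ((BigSite.pullBig Scheme.fppfPrecoverage t AddCommGrpCat.{u + 1}).obj G).obj

/-- Restriction of maps. -/
abbrev resPshMap {T : Scheme.{u}} (t : T ⟶ S) {G G' : EtFppf.AbF S} (φ : G ⟶ G') : resPsh t G ⟶ resPsh t G' :=
  ((BigSite.pullBig Scheme.fppfPrecoverage t AddCommGrpCat.{u + 1}).map φ).hom

/-- Fppf sheaves as étale sheaves. -/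
abbrev toEt (S : Scheme.{u}) : EtFppf.AbF S ⥤ BigSite.Ab Scheme.etalePrecoverage S :=
  BigSite.eps Scheme.etalePrecoverage Scheme.fppfPrecoverage S AddCommGrpCat.{u + 1}

/-- All Amitsur complexes of finite flat coverings are étale locally exact. -/
def Acyc (G : EtFppf.AbF S) : Prop :=
  ∀ (T : Scheme.{u}) (t : T ⟶ S) (V : Scheme.{u}) (p : V ⟶ T) [IsFinite p] [Flat p]
    [LocallyOfFinitePresentation p] [Surjective p], LocExact p (resPsh t G)

/-- Inverse images of small étale sheaves are acyclic. -/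
theorem acyc_piF (F : EtCoh.Ab S) : Acyc ((piF S).obj F) := fun T t V p _ _ _ _ =>
  locExact_of_isPi p ⟨(EtCoh.pull t).obj F, ⟨(sheafToPresheaf _ _).mapIso ((piPullIso t).app F)⟩⟩

/-- An fppf sheaf is separated for a finite flat covering. -/
lemma injective_etaP {T V : Scheme.{u}} (p : V ⟶ T) [Flat p] [LocallyOfFinitePresentation p] [Surjective p]
    (t : T ⟶ S) (G : EtFppf.AbF S) (U : Over T) : Function.Injective ((etaP p (resPsh t G)).app (op U)) := by
  intro x y h
  let k := (Over.mapPullbackAdj p).counit.app U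
  let fst : pullback U.hom p ⟶ U.left := pullback.fst U.hom p
  let R : Sieve U := Sieve.generate (Presieve.singleton k)
  have hR : R ∈ QuotSh.J Scheme.fppfPrecoverage T U := by
    rw [GrothendieckTopology.mem_over_iff]
    have h1 : Sieve.generate (Presieve.singleton fst) ∈ Scheme.fppfPrecoverage.toGrothendieck U.left := by
      refine Precoverage.generate_mem_toGrothendieck ?_
      exact (Scheme.singleton_mem_precoverage_iff _ fst).2 ⟨fst.surjective, inferInstance, inferInstance⟩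
    refine GrothendieckTopology.superset_covering _ ?_ h1
    rw [Sieve.generate_le_iff]
    rintro _ _ ⟨⟩
    exact ⟨_, k, 𝟙 _, ⟨_, 𝟙 _, k, ⟨⟩, Category.id_comp _⟩, (Category.id_comp _).symm⟩
  refine ((isSheaf_iff_isSheaf_of_type _ _).mp
    ((Presheaf.isSheaf_iff_isSheaf_forget _ _ (forget AddCommGrpCat.{u + 1})).mp
      ((BigSite.pullBig Scheme.fppfPrecoverage t AddCommGrpCat.{u + 1}).obj G).property) R hR).isSeparatedFor.ext ?_
  rintro Z _ ⟨_, a, _, ⟨⟩, rfl⟩
  change (resPsh t G).map (a ≫ k).op x = (resPsh t G).map (a ≫ k).op y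
  rw [op_comp, Functor.map_comp]
  exact congrArg ((resPsh t G).map a.op) h

/-- Injective fppf sheaves are acyclic. -/
theorem acyc_injective (I : EtFppf.AbF S) [Injective I] : Acyc I := by
  intro T t V p _ _ _ _ n U c hc
  let A := BigSite.bigAdj Scheme.fppfPrecoverage p AddCommGrpCat.{u + 1}
  let IT := (BigSite.pullBig Scheme.fppfPrecoverage t AddCommGrpCat.{u + 1}).obj I
  haveI : Injective IT := injective_pullBig Scheme.fppfPrecoverage t I
  haveI : ∀ W, Mono ((A.unit.app IT).hom.app W) := fun W =>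
    (AddCommGrpCat.mono_iff_injective _).mpr (injective_etaP p t I W.unop)
  haveI : Mono (A.unit.app IT) :=
    (sheafToPresheaf _ _).mono_of_mono_map (NatTrans.mono_of_mono_app (A.unit.app IT).hom)
  let ρ := Injective.factorThru (𝟙 IT) (A.unit.app IT)
  have hρ : A.unit.app IT ≫ ρ = 𝟙 IT := Injective.comp_factorThru _ _
  obtain ⟨b, hb⟩ := exists_bd_of_retract (p := p) (resPsh t I) ρ.hom
    (congrArg (sheafToPresheaf _ _).map hρ) n c hc
  refine ⟨⊤, GrothendieckTopology.top_mem _ _, fun U' g _ => ⟨(it p n (resPsh t I)).map g.op b, ?_⟩⟩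
  rw [← hb]
  exact ConcreteCategory.congr_hom ((dd p n (resPsh t I)).naturality g.op) b

section Exact

variable {T V : Scheme.{u}} (p : V ⟶ T)

/-- Exactness on all sections. -/
def SecExact {X Y Z : Psh T} (i : X ⟶ Y) (π : Y ⟶ Z) : Prop :=
  ∀ U : Over T, Function.Injective (i.app (op U)) ∧
    ∀ y, π.app (op U) y = 0 ↔ ∃ x, i.app (op U) x = y

variable {p}

lemma SecExact.cp {X Y Z : Psh T} {i : X ⟶ Y} {π : Y ⟶ Z} (h : SecExact i π) :
    SecExact (mapC p i) (mapC p π) := fun U => h _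

lemma SecExact.it {X Y Z : Psh T} {i : X ⟶ Y} {π : Y ⟶ Z} (h : SecExact i π) :
    ∀ n, SecExact (itMap p n i) (itMap p n π)
  | 0 => h
  | n + 1 => (SecExact.it h n).cp

/-- Compatibility of the differentials with a map. -/
lemma dd_apply {P Q : Psh T} (φ : P ⟶ Q) (n : ℕ) (U : Over T) (x : (it p n P).obj (op U)) :
    (dd p n Q).app (op U) ((itMap p n φ).app (op U) x) =
      (mapC p (itMap p n φ)).app (op U) ((dd p n P).app (op U) x) :=
  ConcreteCategory.congr_hom (NatTrans.congr_app (dd_natural p n φ) (op U)) x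

/-- Compatibility of the next differentials with a map. -/
lemma dstep_apply {P Q : Psh T} (φ : P ⟶ Q) (n : ℕ) (U : Over T) (x : ((Cp p).obj (it p n P)).obj (op U)) :
    (dstep p (dd p n Q)).app (op U) ((mapC p (itMap p n φ)).app (op U) x) =
      (mapC p (mapC p (itMap p n φ))).app (op U) ((dstep p (dd p n P)).app (op U) x) :=
  ConcreteCategory.congr_hom (NatTrans.congr_app (dstep_natural p (dd_natural p n φ)) (op U)) x

lemma dstep_dd_apply {P : Psh T} (n : ℕ) (U : Over T) (x : (it p n P).obj (op U)) :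
    (dstep p (dd p n P)).app (op U) ((dd p n P).app (op U) x) = 0 :=
  ConcreteCategory.congr_hom (NatTrans.congr_app (dd_dd p n P) (op U)) x

/-- Correct a lift of a cocycle to a cocycle, locally. -/
lemma exists_cocycle_lift {X Y Z : Psh T} {i : X ⟶ Y} {π : Y ⟶ Z} (h : SecExact i π) (hX : LocExact p X)
    (n : ℕ) {U : Over T} (a : ((Cp p).obj (it p n Y)).obj (op U))
    (ha : (dstep p (dd p n Z)).app (op U) ((mapC p (itMap p n π)).app (op U) a) = 0) :
    ∃ R ∈ QuotSh.J Scheme.etalePrecoverage T U, ∀ ⦃U' : Over T⦄ (g : U' ⟶ U), R.arrows g →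
      ∃ a', (dstep p (dd p n Y)).app (op U') a' = 0 ∧
        (mapC p (itMap p n π)).app (op U') a' =
          ((Cp p).obj (it p n Z)).map g.op ((mapC p (itMap p n π)).app (op U) a) := by
  let e := (dstep p (dd p n Y)).app (op U) a
  have he : (mapC p (mapC p (itMap p n π))).app (op U) e = 0 := (dstep_apply π n U a).symm.trans ha
  obtain ⟨g, hg⟩ := (((h.it n).cp.cp U).2 e).mp he
  have hg0 : (dstep p (dd p (n + 1) X)).app (op U) g = 0 := by
    apply (((h.it (p := p) n).cp.cp.cp) U).1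
    refine ((dstep_apply i (n + 1) U g).symm.trans ?_).trans (map_zero _).symm
    exact (congrArg ((dstep p (dd p (n + 1) Y)).app (op U)) hg).trans (dstep_dd_apply (n + 1) U a)
  obtain ⟨R, hR, hb⟩ := hX (n + 1) U g hg0
  refine ⟨R, hR, fun U' k hk => ?_⟩
  obtain ⟨b, hb⟩ := hb k hk
  let bY : ((Cp p).obj (it p n Y)).obj (op U') := (itMap p (n + 1) i).app (op U') b
  let aU : ((Cp p).obj (it p n Y)).obj (op U') := ((Cp p).obj (it p n Y)).map k.op a
  let a' : ((Cp p).obj (it p n Y)).obj (op U') := aU - bY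
  refine ⟨a', ?_, ?_⟩
  · refine (map_sub ((dstep p (dd p n Y)).app (op U')).hom aU bY).trans (sub_eq_zero.mpr ?_)
    refine (ConcreteCategory.congr_hom ((dstep p (dd p n Y)).naturality k.op) a).trans ?_
    refine Eq.trans ?_ (dd_apply i (n + 1) U' b).symm
    rw [hb]
    refine Eq.trans ?_ (ConcreteCategory.congr_hom ((mapC p (itMap p (n + 1) i)).naturality k.op) g).symm
    exact congrArg (((Cp p).obj ((Cp p).obj (it p n Y))).map k.op) hg.symm
  · refine (map_sub ((mapC p (itMap p n π)).app (op U')).hom aU bY).trans ?_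
    have hz : (mapC p (itMap p n π)).app (op U') ((itMap p (n + 1) i).app (op U') b) = 0 :=
      (((h.it n).cp U').2 _).mpr ⟨b, rfl⟩
    refine (sub_eq_self.mpr hz).trans ?_
    exact ConcreteCategory.congr_hom ((mapC p (itMap p n π)).naturality k.op) a

/-- Cohomological descent passes to quotients. -/
lemma locExact_quotient {X Y Z : Psh T} {i : X ⟶ Y} {π : Y ⟶ Z} (h : SecExact i π) (hX : LocExact p X)
    (hY : LocExact p Y) (hπ : ∀ n, Presheaf.IsLocallySurjective (QuotSh.J Scheme.etalePrecoverage T)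
      (mapC p (itMap p n π))) : LocExact p Z := by
  intro n U c hc
  let R : Sieve U :=
    { arrows := fun U' g => ∃ b, (dd p n Z).app (op U') b = ((Cp p).obj (it p n Z)).map g.op c
      downward_closed := by
        rintro U' U'' g ⟨b, hb⟩ k
        refine ⟨(it p n Z).map k.op b, ?_⟩
        refine (ConcreteCategory.congr_hom ((dd p n Z).naturality k.op) b).trans ?_
        refine (congrArg (((Cp p).obj (it p n Z)).map k.op) hb).trans ?_
        exact (ConcreteCategory.congr_hom (((Cp p).obj (it p n Z)).map_comp g.op k.op) c).symm }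
  refine ⟨R, GrothendieckTopology.transitive _ ((hπ n).imageSieve_mem c) R fun U₁ g₁ hg₁ => ?_,
    fun U' g hg => hg⟩
  obtain ⟨a, ha⟩ := hg₁
  have h0 : (dstep p (dd p n Z)).app (op U₁) ((mapC p (itMap p n π)).app (op U₁) a) = 0 := by
    rw [show (mapC p (itMap p n π)).app (op U₁) a = _ from ha]
    exact (ConcreteCategory.congr_hom ((dstep p (dd p n Z)).naturality g₁.op) c).trans
      ((congrArg (((Cp p).obj ((Cp p).obj (it p n Z))).map g₁.op).hom hc).trans (map_zero _))
  obtain ⟨R₁, hR₁, hlift⟩ := exists_cocycle_lift h hX n a h0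
  refine GrothendieckTopology.transitive _ hR₁ _ fun U₂ g₂ hg₂ => ?_
  obtain ⟨a', ha', hπa'⟩ := hlift g₂ hg₂
  obtain ⟨R₂, hR₂, hb⟩ := hY n U₂ a' ha'
  refine GrothendieckTopology.superset_covering _ ?_ hR₂
  intro U₃ g₃ hg₃
  obtain ⟨b, hb⟩ := hb g₃ hg₃
  change ∃ b', (dd p n Z).app (op U₃) b' = ((Cp p).obj (it p n Z)).map ((g₃ ≫ g₂) ≫ g₁).op c
  refine ⟨(itMap p n π).app (op U₃) b, ?_⟩
  refine (dd_apply π n U₃ b).trans ?_
  rw [hb]
  refine (ConcreteCategory.congr_hom ((mapC p (itMap p n π)).naturality g₃.op) a').trans ?_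
  refine (congrArg (((Cp p).obj (it p n Z)).map g₃.op) (hπa'.trans (congrArg _ ha))).trans ?_
  simp only [op_comp, Functor.map_comp]
  rfl

end Exact

/-- Restrictions of short exact sequences are exact on sections. -/
lemma secExact_of_shortExact {X : ShortComplex (EtFppf.AbF S)} (hX : X.ShortExact) {T : Scheme.{u}} (t : T ⟶ S) :
    SecExact (resPshMap t X.f) (resPshMap t X.g) := by
  intro U
  let W := (Over.map t).obj U
  let ev : EtFppf.AbF S ⥤ AddCommGrpCat.{u + 1} := sheafToPresheaf _ _ ⋙ (evaluation _ _).obj (op W)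
  haveI : ev.Additive := { map_add := rfl }
  haveI := hX.mono_f
  haveI : PreservesFiniteLimits ev := inferInstance
  have h := (hX.exact.map_of_mono_of_preservesKernel ev inferInstance inferInstance)
  have hm : Mono (ev.map X.f) := inferInstance
  refine ⟨(AddCommGrpCat.mono_iff_injective _).mp hm, fun y => ⟨fun hy => ?_, ?_⟩⟩
  · exact (ShortComplex.ab_exact_iff _).mp h y hy
  · rintro ⟨x, rfl⟩
    exact ConcreteCategory.congr_hom ((X.map ev).zero) x

variable {X : ShortComplex (EtFppf.AbF S)}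

/-- A surjection of fppf sheaves with acyclic kernel is surjective étale locally. -/
theorem isLocallySurjective_of_acyc (hX : X.ShortExact) (h₁ : Acyc X.X₁) (h₂ : Acyc X.X₂) :
    Presheaf.IsLocallySurjective (QuotSh.J Scheme.etalePrecoverage S) X.g.hom := by
  haveI := hX.epi_g
  haveI : Scheme.fppfPrecoverage.{u}.HasIsos := hasIsos_fppf
  have hls : Sheaf.IsLocallySurjective X.g := (Sheaf.isLocallySurjective_iff_epi' _ _).mpr inferInstance
  refine ⟨fun {U} q => mem_J_of_nhds _ fun z => ?_⟩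
  have hR := hls.imageSieve_mem q
  rw [GrothendieckTopology.mem_over_iff,
    Precoverage.mem_toGrothendieck_iff_of_isStableUnderComposition] at hR
  obtain ⟨R₀, hR₀, hle⟩ := hR
  obtain ⟨ι, Y, f, rfl⟩ := R₀.exists_eq_ofArrows
  obtain ⟨hsurj, hprop⟩ := (Scheme.ofArrows_mem_precoverage_iff _).1 hR₀
  obtain ⟨j, w, rfl⟩ := hsurj z
  obtain ⟨a, ha⟩ := (Sieve.overEquiv_iff _ (f j)).mp (hle _ _ (Presieve.ofArrows.mk j))
  haveI : Flat (f j) := (hprop j).1
  haveI : LocallyOfFinitePresentation (f j) := (hprop j).2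
  obtain ⟨U₁, V₁, p, v, b, u₀, hv, hu₀, hp, hpf, hpl, hps, hb⟩ := exists_finite_flat_nhd (f j) w
  haveI := hv
  haveI := hp
  haveI := hpf
  haveI := hpl
  haveI := hps
  let t : U₁ ⟶ S := v ≫ U.hom
  let top : Over U₁ := Over.mk (𝟙 U₁)
  let μ : (Over.map t).obj top ⟶ U := Over.homMk v (by change v ≫ U.hom = 𝟙 _ ≫ t; rw [Category.id_comp])
  let W : Over S := (Over.map t).obj ((Over.map p).obj ((Over.pullback p).obj top))
  let κ : W ⟶ Over.mk (f j ≫ U.hom) := Over.homMk (pullback.snd (𝟙 U₁) p ≫ b) (by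
    change (pullback.snd (𝟙 U₁) p ≫ b) ≫ f j ≫ U.hom = (pullback.snd (𝟙 U₁) p ≫ p) ≫ v ≫ U.hom
    simp only [Category.assoc]
    rw [reassoc_of% hb])
  let i₀ : ((Cp p).obj (resPsh t X.X₂)).obj (op top) := X.X₂.obj.map κ.op a
  let qT : (resPsh t X.X₃).obj (op top) := X.X₃.obj.map μ.op q
  let π := resPshMap t X.g
  have hπ : (mapC p π).app (op top) i₀ = (etaP p (resPsh t X.X₃)).app (op top) qT := by
    change X.g.hom.app (op W) (X.X₂.obj.map κ.op a) =
      X.X₃.obj.map ((Over.map t).map ((Over.mapPullbackAdj p).counit.app top)).op (X.X₃.obj.map μ.op q)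
    refine (ConcreteCategory.congr_hom (X.g.hom.naturality κ.op) a).trans ?_
    refine (congrArg (X.X₃.obj.map κ.op) ha).trans ?_
    refine (ConcreteCategory.congr_hom (X.X₃.obj.map_comp _ _) q).symm.trans ?_
    refine Eq.trans ?_ (ConcreteCategory.congr_hom (X.X₃.obj.map_comp μ.op _) q)
    rw [← op_comp, ← op_comp]
    refine congrArg (fun m : W ⟶ U => X.X₃.obj.map m.op q) (Over.OverMorphism.ext ?_)
    change (pullback.snd (𝟙 U₁) p ≫ b) ≫ f j = pullback.fst (𝟙 U₁) p ≫ v
    rw [Category.assoc, hb, ← Category.assoc, ← pullback.condition, Category.comp_id]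
  have hexact := secExact_of_shortExact hX t
  have h0 : (dstep p (dd p 0 (resPsh t X.X₃))).app (op top) ((mapC p (itMap p 0 π)).app (op top) i₀) = 0 :=
    (congrArg ((dstep p (dd p 0 (resPsh t X.X₃))).app (op top)) hπ).trans (dstep_dd_apply 0 top qT)
  obtain ⟨R₁, hR₁, hlift⟩ := exists_cocycle_lift hexact (h₁ U₁ t V₁ p) 0 i₀ h0
  obtain ⟨Ω, _, _, s, t₀, ht₀⟩ := exists_geom (T := top) u₀
  obtain ⟨T₁, g₁, hg₁, he₁, l₁, hl₁⟩ := exists_etale_lift hR₁ t₀.left
  obtain ⟨a', ha', hπa'⟩ := hlift g₁ hg₁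
  obtain ⟨R₂, hR₂, hb₂⟩ := h₂ U₁ t V₁ p 0 T₁ a' ha'
  obtain ⟨T₂, g₂, hg₂, he₂, l₂, hl₂⟩ := exists_etale_lift hR₂ l₁
  obtain ⟨θ, hθ⟩ := hb₂ g₂ hg₂
  refine ⟨_, (Over.map t).map (g₂ ≫ g₁) ≫ μ, ⟨θ, ?_⟩, ?_, l₂ (cpt Ω), ?_⟩
  · refine Eq.trans ?_ (ConcreteCategory.congr_hom (X.X₃.obj.map_comp μ.op ((Over.map t).map (g₂ ≫ g₁)).op) q).symm
    change π.app (op T₂) θ = (resPsh t X.X₃).map (g₂ ≫ g₁).op qT
    apply injective_etaP p t X.X₃ T₂
    refine (dd_apply (p := p) π 0 T₂ θ).trans ?_
    refine (congrArg ((mapC p π).app (op T₂)) hθ).trans ?_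
    refine (ConcreteCategory.congr_hom ((mapC p π).naturality g₂.op) a').trans ?_
    refine (congrArg (((Cp p).obj (resPsh t X.X₃)).map g₂.op)
      (hπa'.trans (congrArg (((Cp p).obj (resPsh t X.X₃)).map g₁.op) hπ))).trans ?_
    refine (ConcreteCategory.congr_hom (((Cp p).obj (resPsh t X.X₃)).map_comp g₁.op g₂.op) _).symm.trans ?_
    exact (ConcreteCategory.congr_hom ((etaP p (resPsh t X.X₃)).naturality (g₂ ≫ g₁).op) qT).symm
  · haveI := he₁
    haveI := he₂
    exact inferInstanceAs (Etale ((g₂.left ≫ g₁.left) ≫ v))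
  · change ((g₂.left ≫ g₁.left) ≫ v) (l₂ (cpt Ω)) = f j w
    rw [← hu₀, ← ht₀]
    have e : l₂ ≫ g₂.left ≫ g₁.left = t₀.left := by rw [reassoc_of% hl₂, hl₁]
    exact congr($(congrArg (· ≫ v) e) (cpt Ω))

/-- Restriction to étale sheaves preserves the surjection. -/
theorem epi_toEt_map (hX : X.ShortExact) (h₁ : Acyc X.X₁) (h₂ : Acyc X.X₂) : Epi ((toEt S).map X.g) := by
  haveI : Sheaf.IsLocallySurjective ((toEt S).map X.g) := isLocallySurjective_of_acyc hX h₁ h₂
  infer_instance

/-- Quotients of acyclic sheaves are acyclic. -/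
theorem acyc_of_shortExact (hX : X.ShortExact) (h₁ : Acyc X.X₁) (h₂ : Acyc X.X₂) : Acyc X.X₃ := by
  intro T t V p _ _ _ _
  haveI hepi := epi_toEt_map hX h₁ h₂
  haveI : (BigSite.pullBig Scheme.etalePrecoverage t AddCommGrpCat.{u + 1}).IsLeftAdjoint :=
    (BigSite.bigAdj Scheme.etalePrecoverage t AddCommGrpCat.{u + 1}).isLeftAdjoint
  haveI : (BigSite.pullBig Scheme.etalePrecoverage p AddCommGrpCat.{u + 1}).IsLeftAdjoint :=
    (BigSite.bigAdj Scheme.etalePrecoverage p AddCommGrpCat.{u + 1}).isLeftAdjoint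
  let π := resPshMap t X.g
  have hsheaf : ∀ G : EtFppf.AbF S, EtSheaf (resPsh t G) := fun G =>
    ((BigSite.pullBig Scheme.etalePrecoverage t AddCommGrpCat.{u + 1}).obj ((toEt S).obj G)).property
  let Φ : ∀ n, (⟨_, etSheaf_it p (hsheaf X.X₂) n⟩ : BigSite.Ab Scheme.etalePrecoverage T) ⟶
      ⟨_, etSheaf_it p (hsheaf X.X₃) n⟩ := fun n => ⟨itMap p n π⟩
  have hC : ∀ n, Epi (Φ n) → Presheaf.IsLocallySurjective (QuotSh.J Scheme.etalePrecoverage T)
      (mapC p (itMap p n π)) := fun n h => by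
    haveI := h
    haveI := (BigSite.pullBig Scheme.etalePrecoverage p AddCommGrpCat.{u + 1}).map_epi (Φ n)
    exact isLocallySurjective_pushBig p ((BigSite.pullBig Scheme.etalePrecoverage p AddCommGrpCat.{u + 1}).map (Φ n))
  have hΦ : ∀ n, Epi (Φ n) := fun n => by
    induction n with
    | zero => exact (BigSite.pullBig Scheme.etalePrecoverage t AddCommGrpCat.{u + 1}).map_epi ((toEt S).map X.g)
    | succ n ih =>
      haveI : Sheaf.IsLocallySurjective (Φ (n + 1)) := hC n ih
      infer_instance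
  exact locExact_quotient (secExact_of_shortExact hX t) (h₁ T t V p) (h₂ T t V p) fun n => hC n (hΦ n)

/-- Sheaves whose resolutions stay exact on the étale site. -/
theorem acyc_step (hX : X.ShortExact) [Injective X.X₂] (h : Acyc X.X₁) : Epi ((toEt S).map X.g) ∧ Acyc X.X₃ :=
  ⟨epi_toEt_map hX h (acyc_injective X.X₂), acyc_of_shortExact hX h (acyc_injective X.X₂)⟩

end Groth.Agent.BigSiteLib
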