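import Groth.Agent.BigSiteLib.GmSol
import Groth.Agent.BigSiteLib.Commute
import Groth.Prelude.Def_EtDlF

/-!
The multiplicative group has étale locally exact Amitsur complexes.
-/

set_option autoImplicit false
set_option linter.style.haveILetI false
set_option backward.isDefEq.respectTransparency false
set_option backward.defeqAttrib.useBackward true
universe u

noncomputable section

namespace Groth.Agent.BigSiteLib

open CategoryTheory Limits Opposite AlgebraicGeometry

section Bridge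

variable {S T V : Scheme.{u}} (p : V ⟶ T) (t : T ⟶ S)

/-- A section of the multiplicative group as a unit. -/
def valU (Y : Over T) (x : (resPsh t (EtDl.GmF S)).obj (op Y)) : (Gam Y)ˣ := Additive.toMul x.down

/-- A unit as a section of the multiplicative group. -/
def mkU (Y : Over T) (x : (Gam Y)ˣ) : (resPsh t (EtDl.GmF S)).obj (op Y) := ⟨Additive.ofMul x⟩

lemma valU_sub (Y : Over T) (x y : (resPsh t (EtDl.GmF S)).obj (op Y)) :
    valU t Y (x - y) = valU t Y x / valU t Y y := rfl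

lemma valU_zero (Y : Over T) : valU t Y 0 = 1 := rfl

lemma valU_map {Y Y' : Over T} (g : Y' ⟶ Y) (x : (resPsh t (EtDl.GmF S)).obj (op Y)) :
    valU t Y' ((resPsh t (EtDl.GmF S)).map g.op x) = rgu g (valU t Y x) := rfl

/-- Sections of iterates as units. -/
def tU : (n : ℕ) → (Y : Over T) → (it p n (resPsh t (EtDl.GmF S))).obj (op Y) → (Gam (pbn p n Y))ˣ
  | 0, Y, x => valU t Y x
  | n + 1, Y, x => tU n ((pbF p).obj Y) x

lemma tU_zero : ∀ (n : ℕ) (Y : Over T), tU p t n Y 0 = 1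
  | 0, _ => rfl
  | n + 1, Y => tU_zero n ((pbF p).obj Y)

lemma tU_sub : ∀ (n : ℕ) (Y : Over T) (x y : (it p n (resPsh t (EtDl.GmF S))).obj (op Y)),
    tU p t n Y (x - y) = tU p t n Y x / tU p t n Y y
  | 0, _, _, _ => rfl
  | n + 1, Y, x, y => tU_sub n ((pbF p).obj Y) x y

lemma tU_bijective : ∀ (n : ℕ) (Y : Over T), Function.Bijective (tU p t n Y)
  | 0, Y => ⟨fun x y h => congrArg (mkU t Y) h, fun x => ⟨mkU t Y x, rfl⟩⟩
  | n + 1, Y => tU_bijective n ((pbF p).obj Y)

lemma tU_map : ∀ (n : ℕ) {Y Y' : Over T} (g : Y' ⟶ Y) (x : (it p n (resPsh t (EtDl.GmF S))).obj (op Y)),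
    tU p t n Y' ((it p n (resPsh t (EtDl.GmF S))).map g.op x) = rgu (pbnMap p n g) (tU p t n Y x)
  | 0, _, _, g, x => valU_map t g x
  | n + 1, _, _, g, x => tU_map n ((pbF p).map g) x

lemma tU_dd : ∀ (n : ℕ) (Y : Over T) (x : (it p n (resPsh t (EtDl.GmF S))).obj (op Y)),
    tU p t (n + 1) Y ((dd p n (resPsh t (EtDl.GmF S))).app (op Y) x) = dU p n Y (tU p t n Y x)
  | 0, Y, x => by
    change valU t _ ((etaP p (resPsh t (EtDl.GmF S))).app (op Y) x) = _
    rw [show (etaP p (resPsh t (EtDl.GmF S))).app (op Y) x = _ from unit_app_apply Y x]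
    exact valU_map t (kap p Y) x
  | n + 1, Y, x => by
    let X := it p n (resPsh t (EtDl.GmF S))
    let z : X.obj (op ((pbF p).obj Y)) := x
    let a : ((Cp p).obj ((Cp p).obj X)).obj (op Y) := X.map ((pbF p).map (kap p Y)).op z
    let b : ((Cp p).obj ((Cp p).obj X)).obj (op Y) := (dd p n (resPsh t (EtDl.GmF S))).app (op ((pbF p).obj Y)) z
    have h : (dd p (n + 1) (resPsh t (EtDl.GmF S))).app (op Y) x = a - b := by
      let e : ((Cp p).obj ((Cp p).obj X)).obj (op Y) := (etaP p ((Cp p).obj X)).app (op Y) z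
      have he : e = a := unit_app_apply (P := (Cp p).obj X) Y z
      change e - b = a - b
      rw [he]
    rw [h]
    refine (tU_sub p t (n + 2) Y a b).trans ?_
    let w : (Gam (pbn p n ((pbF p).obj Y)))ˣ := tU p t n ((pbF p).obj Y) z
    let w' : (Gam (pbn p (n + 1) ((pbF p).obj Y)))ˣ := Units.map (stepR p n Y).toMonoidHom w
    change tU p t (n + 2) Y a / tU p t (n + 2) Y b = w' / dU p n ((pbF p).obj Y) w
    exact congrArg₂ (· / ·) (tU_map p t n _ z) (tU_dd n ((pbF p).obj Y) z)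

end Bridge

section Change

variable {T V W : Scheme.{u}} (p : V ⟶ T) (v : W ⟶ T)

/-- The covering over the new base. -/
abbrev pb' : pullback v p ⟶ W := pullback.fst v p

/-- Base change commutes with changing the base. -/
def sigma (Y : Over W) : (pbF p).obj ((Over.map v).obj Y) ⟶ (Over.map v).obj ((pbF (pb' p v)).obj Y) :=
  Over.homMk (squareObjIso (IsPullback.of_hasPullback v p).flip Y).hom.left (by
    change _ ≫ (pullback.snd Y.hom (pb' p v) ≫ pullback.fst v p) ≫ v = pullback.snd (Y.hom ≫ v) p ≫ p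
    rw [← squareObjIso_snd (IsPullback.of_hasPullback v p).flip Y]
    simp only [Category.assoc, pullback.condition])

instance (Y : Over W) : IsIso (sigma p v Y) := by
  haveI : IsIso ((Over.forget T).map (sigma p v Y)) :=
    inferInstanceAs (IsIso ((Over.forget V).map (squareObjIso (IsPullback.of_hasPullback v p).flip Y).hom))
  exact isIso_of_reflects_iso _ (Over.forget T)

lemma sigma_kap (Y : Over W) : sigma p v Y ≫ (Over.map v).map (kap (pb' p v) Y) = kap p ((Over.map v).obj Y) :=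
  Over.OverMorphism.ext (squareObjIso_fst (IsPullback.of_hasPullback v p).flip Y)

lemma sigma_natural {Y Y' : Over W} (g : Y' ⟶ Y) :
    (pbF p).map ((Over.map v).map g) ≫ sigma p v Y = sigma p v Y' ≫ (Over.map v).map ((pbF (pb' p v)).map g) := by
  refine Over.OverMorphism.ext ?_
  have h := congrArg Over.Hom.left ((squareIso (IsPullback.of_hasPullback v p).flip).hom.naturality g)
  exact h

/-- Iterated base change commutes with changing the base. -/
def eps' : (n : ℕ) → (Y : Over W) → (pbn p n ((Over.map v).obj Y) ⟶ (Over.map v).obj (pbn (pb' p v) n Y))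
  | 0, _ => 𝟙 _
  | n + 1, Y => pbnMap p n (sigma p v Y) ≫ eps' n ((pbF (pb' p v)).obj Y)

instance isIso_eps' : ∀ (n : ℕ) (Y : Over W), IsIso (eps' p v n Y)
  | 0, Y => inferInstanceAs (IsIso (𝟙 _))
  | n + 1, Y => by
    haveI := isIso_eps' n ((pbF (pb' p v)).obj Y)
    haveI : IsIso (pbnMap p n (sigma p v Y)) := ⟨pbnMap p n (inv (sigma p v Y)),
      by rw [← pbnMap_comp, IsIso.hom_inv_id, pbnMap_id], by rw [← pbnMap_comp, IsIso.inv_hom_id, pbnMap_id]⟩
    exact inferInstanceAs (IsIso (_ ≫ _))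

lemma eps'_natural : ∀ (n : ℕ) {Y Y' : Over W} (g : Y' ⟶ Y),
    pbnMap p n ((Over.map v).map g) ≫ eps' p v n Y = eps' p v n Y' ≫ (Over.map v).map (pbnMap (pb' p v) n g)
  | 0, _, _, _ => (Category.comp_id _).trans (Category.id_comp _).symm
  | n + 1, Y, Y', g => by
    change pbnMap p n ((pbF p).map ((Over.map v).map g)) ≫ pbnMap p n (sigma p v Y) ≫ eps' p v n _ =
      (pbnMap p n (sigma p v Y') ≫ eps' p v n _) ≫ _
    rw [← Category.assoc, ← pbnMap_comp, sigma_natural, pbnMap_comp, Category.assoc,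
      eps'_natural n ((pbF (pb' p v)).map g), Category.assoc]
    rfl

/-- Transport of units. -/
def thU (n : ℕ) (Y : Over W) : (Gam (pbn (pb' p v) n Y))ˣ →* (Gam (pbn p n ((Over.map v).obj Y)))ˣ :=
  rgu (T := T) (eps' p v n Y)

lemma thU_bijective (n : ℕ) (Y : Over W) : Function.Bijective (thU p v n Y) := by
  refine Function.bijective_iff_has_inverse.mpr ⟨rgu (T := T) (inv (eps' p v n Y)), fun x => ?_, fun x => ?_⟩
  · refine (rgu_rgu (eps' p v n Y) (inv (eps' p v n Y)) x).trans ?_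
    rw [IsIso.inv_hom_id]
    rfl
  · refine (rgu_rgu (inv (eps' p v n Y)) (eps' p v n Y) x).trans ?_
    rw [IsIso.hom_inv_id]
    rfl

lemma thU_map (n : ℕ) {Y Y' : Over W} (g : Y' ⟶ Y) (x : (Gam (pbn (pb' p v) n Y))ˣ) :
    rgu (pbnMap p n ((Over.map v).map g)) (thU p v n Y x) = thU p v n Y' (rgu (pbnMap (pb' p v) n g) x) := by
  let w : (Gam (T := T) ((Over.map v).obj (pbn (pb' p v) n Y)))ˣ := x
  have h1 := rgu_rgu (eps' p v n Y) (pbnMap p n ((Over.map v).map g)) w
  have h2 := rgu_rgu ((Over.map v).map (pbnMap (pb' p v) n g)) (eps' p v n Y') w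
  rw [eps'_natural] at h1
  exact h1.trans h2.symm

lemma thU_succ (n : ℕ) (Y : Over W) (x : (Gam (pbn (pb' p v) n ((pbF (pb' p v)).obj Y)))ˣ) :
    thU p v (n + 1) Y x = rgu (pbnMap p n (sigma p v Y)) (thU p v n ((pbF (pb' p v)).obj Y) x) := by
  let w : (Gam (T := T) ((Over.map v).obj (pbn (pb' p v) n ((pbF (pb' p v)).obj Y))))ˣ := x
  exact (rgu_rgu (eps' p v n ((pbF (pb' p v)).obj Y)) (pbnMap p n (sigma p v Y)) w).symm

lemma thU_dU : ∀ (n : ℕ) (Y : Over W) (x : (Gam (pbn (pb' p v) n Y))ˣ),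
    thU p v (n + 1) Y (dU (pb' p v) n Y x) = dU p n ((Over.map v).obj Y) (thU p v n Y x)
  | 0, Y, x => by
    refine (thU_succ p v 0 Y _).trans ?_
    let w : (Gam (T := T) ((Over.map v).obj Y))ˣ := x
    change rgu (sigma p v Y) (rgu (T := T) ((Over.map v).map (kap (pb' p v) Y)) w) = rgu (kap p ((Over.map v).obj Y)) w
    rw [rgu_rgu, sigma_kap]
  | n + 1, Y, x => by
    let z : (Gam (pbn (pb' p v) n ((pbF (pb' p v)).obj Y)))ˣ := x
    let q : (Gam (pbn (pb' p v) (n + 1) ((pbF (pb' p v)).obj Y)))ˣ :=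
      rgu (pbnMap (pb' p v) n ((pbF (pb' p v)).map (kap (pb' p v) Y))) z
    let q' : (Gam (pbn p (n + 1) ((pbF p).obj ((Over.map v).obj Y))))ˣ :=
      rgu (pbnMap p n ((pbF p).map (kap p ((Over.map v).obj Y)))) (thU p v (n + 1) Y z)
    refine (thU_succ p v (n + 1) Y _).trans ?_
    change rgu (pbnMap p (n + 1) (sigma p v Y)) (thU p v (n + 1) ((pbF (pb' p v)).obj Y)
      (q / dU (pb' p v) n ((pbF (pb' p v)).obj Y) z)) =
      q' / dU p n ((pbF p).obj ((Over.map v).obj Y)) (thU p v (n + 1) Y z)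
    rw [map_div, map_div, thU_dU n, dU_natural, thU_succ p v n Y z]
    refine congrArg (· / _) ?_
    rw [thU_succ, ← thU_map, rgu_rgu]
    let w : (Gam (pbn p n ((Over.map v).obj ((pbF (pb' p v)).obj Y))))ˣ := thU p v n ((pbF (pb' p v)).obj Y) z
    change rgu (pbnMap p n ((pbF p).map (sigma p v Y))) (rgu (pbnMap p n (sigma p v ((pbF (pb' p v)).obj Y)) ≫
        pbnMap p n ((Over.map v).map ((pbF (pb' p v)).map (kap (pb' p v) Y)))) w) =
      rgu (pbnMap p n ((pbF p).map (kap p ((Over.map v).obj Y)))) (thU p v (n + 1) Y z)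
    rw [thU_succ]
    refine (rgu_rgu _ _ w).trans (Eq.trans ?_ (rgu_rgu _ _ w).symm)
    refine congrArg (fun m => rgu m w) ?_
    rw [← pbnMap_comp, ← pbnMap_comp, ← pbnMap_comp]
    refine congrArg (pbnMap p n) ?_
    rw [← sigma_kap p v Y, (pbF p).map_comp, Category.assoc, sigma_natural]

end Change

/-- All Amitsur complexes of the multiplicative group are étale locally exact. -/
theorem acyc_GmF (S : Scheme.{u}) : Acyc (EtDl.GmF S) := by
  intro T t V p _ _ _ _ n U c hc
  let P := resPsh t (EtDl.GmF S)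
  have hc' : dU p (n + 1) U (tU p t (n + 1) U c) = 1 := by
    rw [← tU_dd]
    exact (congrArg (tU p t (n + 2) U) hc).trans (tU_zero p t (n + 2) U)
  let R : Sieve U :=
    { arrows := fun U' g => ∃ b, (dd p n P).app (op U') b = ((Cp p).obj (it p n P)).map g.op c
      downward_closed := by
        rintro U' U'' g ⟨b, hb⟩ k
        refine ⟨(it p n P).map k.op b, ?_⟩
        refine (ConcreteCategory.congr_hom ((dd p n P).naturality k.op) b).trans ?_
        refine (congrArg (((Cp p).obj (it p n P)).map k.op) hb).trans ?_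
        exact (ConcreteCategory.congr_hom (((Cp p).obj (it p n P)).map_comp g.op k.op) c).symm }
  refine ⟨R, mem_J_of_nhds R fun z => ?_, fun U' g hg => hg⟩
  obtain ⟨_, ⟨(W : U.left.Opens), hW, rfl⟩, hzW, -⟩ := U.left.isBasis_affineOpens.exists_subset_of_mem_open (Set.mem_univ z) isOpen_univ
  haveI : IsAffine W.toScheme := hW
  let v : W.toScheme ⟶ T := W.ι ≫ U.hom
  let p' := pb' p v
  haveI : IsFinite p' := MorphismProperty.pullback_fst _ _ ‹_›
  haveI : Flat p' := MorphismProperty.pullback_fst _ _ ‹_›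
  haveI : LocallyOfFinitePresentation p' := MorphismProperty.pullback_fst _ _ ‹_›
  haveI : Surjective p' := MorphismProperty.pullback_fst _ _ ‹_›
  let Y₀ : Over W.toScheme := Over.mk (𝟙 _)
  haveI : IsAffine Y₀.left := hW
  let j : (Over.map v).obj Y₀ ⟶ U := Over.homMk W.ι (by change W.ι ≫ U.hom = 𝟙 _ ≫ v; rw [Category.id_comp])
  obtain ⟨c₁, hc₁⟩ := (thU_bijective p v (n + 1) Y₀).2 (rgu (pbnMap p (n + 1) j) (tU p t (n + 1) U c))
  have hc₁' : dU p' (n + 1) Y₀ c₁ = 1 := by
    apply (thU_bijective p v (n + 2) Y₀).1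
    rw [map_one, thU_dU, hc₁, ← dU_natural, hc', map_one]
  obtain ⟨Z, k, x, hx, hk, ⟨y, hy⟩⟩ := exists_etale_sol p' n Y₀ c₁ hc₁' (⟨z, hzW⟩ : W.toScheme)
  obtain ⟨b, hb⟩ := (tU_bijective p t n ((Over.map v).obj Z)).2 (thU p v n Z x)
  refine ⟨(Over.map v).obj Z, (Over.map v).map k ≫ j, ⟨b, ?_⟩, ?_, y, ?_⟩
  · apply (tU_bijective p t (n + 1) _).1
    rw [tU_dd, hb, ← thU_dU, hx, ← thU_map, hc₁, rgu_rgu, ← pbnMap_comp]
    exact (tU_map p t (n + 1) _ c).symm
  · haveI := hk
    exact inferInstanceAs (Etale (k.left ≫ W.ι))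
  · exact congrArg W.ι hy

end Groth.Agent.BigSiteLib
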