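import Groth.Agent.BigSiteLib.GmSplit

/-!
The Amitsur complexes of functions and of units, on elements.
-/

set_option autoImplicit false
set_option linter.style.haveILetI false
set_option backward.isDefEq.respectTransparency false
set_option backward.defeqAttrib.useBackward true
universe u

noncomputable section

namespace Groth.Agent.BigSiteLib

open CategoryTheory Limits Opposite AlgebraicGeometry

variable {T V : Scheme.{u}} (p : V ⟶ T)

/-- Iterated base change. -/
def pbn : ℕ → Over T → Over T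
  | 0, Y => Y
  | n + 1, Y => pbn n ((pbF p).obj Y)

/-- Iterated base change of maps. -/
def pbnMap : (n : ℕ) → {Y Y' : Over T} → (Y' ⟶ Y) → (pbn p n Y' ⟶ pbn p n Y)
  | 0, _, _, g => g
  | n + 1, _, _, g => pbnMap n ((pbF p).map g)

lemma pbnMap_comp : ∀ (n : ℕ) {Y Y' Y'' : Over T} (g : Y' ⟶ Y) (h : Y'' ⟶ Y'),
    pbnMap p n (h ≫ g) = pbnMap p n h ≫ pbnMap p n g
  | 0, _, _, _, _, _ => rfl
  | n + 1, _, _, _, g, h => (congrArg (pbnMap p n) ((pbF p).map_comp h g)).trans (pbnMap_comp n _ _)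

/-- The projection from the base change. -/
abbrev kap (Y : Over T) : (pbF p).obj Y ⟶ Y := (Over.mapPullbackAdj p).counit.app Y

lemma kap_natural {Y Y' : Over T} (g : Y' ⟶ Y) : (pbF p).map g ≫ kap p Y = kap p Y' ≫ g :=
  (Over.mapPullbackAdj p).counit.naturality g

lemma rg_rg {Y Y' Y'' : Over T} (g : Y' ⟶ Y) (h : Y'' ⟶ Y') (a : Gam Y) : rg h (rg g a) = rg (h ≫ g) a := by
  change h.left.appTop (g.left.appTop a) = (h ≫ g).left.appTop a
  rw [Over.comp_left, Scheme.Hom.comp_appTop]
  rfl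

lemma rg_id {Y : Over T} (a : Gam Y) : rg (𝟙 Y) a = a := rfl

/-- The leading term of the differential. -/
abbrev stepR (n : ℕ) (Y : Over T) : Gam (pbn p n ((pbF p).obj Y)) →+* Gam (pbn p (n + 1) ((pbF p).obj Y)) :=
  (rg (pbnMap p n ((pbF p).map (kap p Y)))).hom

/-- The differential on functions. -/
def dA : (n : ℕ) → (Y : Over T) → (Gam (pbn p n Y) →+ Gam (pbn p (n + 1) Y))
  | 0, Y => (rg (kap p Y)).hom.toAddMonoidHom
  | n + 1, Y => (stepR p n Y).toAddMonoidHom - dA n ((pbF p).obj Y)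

/-- Restriction of units. -/
abbrev rgu {Y Y' : Over T} (g : Y' ⟶ Y) : (Gam Y)ˣ →* (Gam Y')ˣ := Units.map (rg g).hom.toMonoidHom

lemma rgu_rgu {Y Y' Y'' : Over T} (g : Y' ⟶ Y) (h : Y'' ⟶ Y') (a : (Gam Y)ˣ) : rgu h (rgu g a) = rgu (h ≫ g) a :=
  Units.ext (rg_rg g h a.val)

/-- The differential on units. -/
def dU : (n : ℕ) → (Y : Over T) → ((Gam (pbn p n Y))ˣ →* (Gam (pbn p (n + 1) Y))ˣ)
  | 0, Y => rgu (kap p Y)
  | n + 1, Y => Units.map (stepR p n Y).toMonoidHom / dU n ((pbF p).obj Y)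

lemma pbnMap_kap (n : ℕ) {Y Y' : Over T} (g : Y' ⟶ Y) :
    pbnMap p n ((pbF p).map ((pbF p).map g)) ≫ pbnMap p n ((pbF p).map (kap p Y)) =
      pbnMap p n ((pbF p).map (kap p Y')) ≫ pbnMap p n ((pbF p).map g) := by
  rw [← pbnMap_comp, ← pbnMap_comp, ← (pbF p).map_comp, ← (pbF p).map_comp, kap_natural]

lemma dA_natural : ∀ (n : ℕ) {Y Y' : Over T} (g : Y' ⟶ Y) (z : Gam (pbn p n Y)),
    rg (pbnMap p (n + 1) g) (dA p n Y z) = dA p n Y' (rg (pbnMap p n g) z)
  | 0, Y, Y', g, z => by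
    change rg ((pbF p).map g) (rg (kap p Y) z) = rg (kap p Y') (rg g z)
    rw [rg_rg, rg_rg, kap_natural]
  | n + 1, Y, Y', g, z => by
    change rg (pbnMap p (n + 1) ((pbF p).map g)) (stepR p n Y z -
      dA p n ((pbF p).obj Y) z) = stepR p n Y' (rg (pbnMap p n ((pbF p).map g)) z) -
      dA p n ((pbF p).obj Y') (rg (pbnMap p n ((pbF p).map g)) z)
    rw [map_sub, ← dA_natural n ((pbF p).map g)]
    refine congrArg (· - _) ((rg_rg _ _ z).trans (Eq.trans ?_ (rg_rg _ _ z).symm))
    refine congrArg (fun m => rg m z) ?_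
    exact pbnMap_kap p n g

lemma dU_natural : ∀ (n : ℕ) {Y Y' : Over T} (g : Y' ⟶ Y) (z : (Gam (pbn p n Y))ˣ),
    rgu (pbnMap p (n + 1) g) (dU p n Y z) = dU p n Y' (rgu (pbnMap p n g) z)
  | 0, Y, Y', g, z => by
    change rgu ((pbF p).map g) (rgu (kap p Y) z) = rgu (kap p Y') (rgu g z)
    rw [rgu_rgu, rgu_rgu, kap_natural]
  | n + 1, Y, Y', g, z => by
    change rgu (pbnMap p (n + 1) ((pbF p).map g)) (Units.map (stepR p n Y).toMonoidHom z /
      dU p n ((pbF p).obj Y) z) = Units.map (stepR p n Y').toMonoidHom (rgu (pbnMap p n ((pbF p).map g)) z) /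
      dU p n ((pbF p).obj Y') (rgu (pbnMap p n ((pbF p).map g)) z)
    rw [map_div, ← dU_natural n ((pbF p).map g)]
    refine congrArg (· / _) ((rgu_rgu _ _ z).trans (Eq.trans ?_ (rgu_rgu _ _ z).symm))
    refine congrArg (fun m => rgu m z) ?_
    exact pbnMap_kap p n g

section Affine

variable [IsAffine T] [IsAffineHom p]

lemma isAffine_pbn : ∀ (n : ℕ) (Y : Over T), IsAffine Y.left → IsAffine (pbn p n Y).left
  | 0, _, h => h
  | n + 1, Y, h => haveI := h; isAffine_pbn n ((pbF p).obj Y) inferInstance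

instance (n : ℕ) (Y : Over T) [h : IsAffine Y.left] : IsAffine (pbn p n Y).left := isAffine_pbn p n Y h

variable (r : LinForm p)

/-- The contraction. -/
def cA : (n : ℕ) → (Y : Over T) → IsAffine Y.left → (Gam (pbn p (n + 1) Y) →+ Gam (pbn p n Y))
  | 0, Y, h => haveI := h; extF p Y r
  | n + 1, Y, h => haveI := h; -cA n ((pbF p).obj Y) inferInstance

lemma cA_natural : ∀ (n : ℕ) {Y Y' : Over T} (h : IsAffine Y.left) (h' : IsAffine Y'.left) (g : Y' ⟶ Y)
    (z : Gam (pbn p (n + 1) Y)), rg (pbnMap p n g) (cA p r n Y h z) = cA p r n Y' h' (rg (pbnMap p (n + 1) g) z)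
  | 0, Y, Y', h, h', g, z => by
    haveI := h
    haveI := h'
    exact extF_natural p r g z
  | n + 1, Y, Y', h, h', g, z => by
    haveI := h
    haveI := h'
    change rg (pbnMap p n ((pbF p).map g)) (-cA p r n ((pbF p).obj Y) _ z) =
      -cA p r n ((pbF p).obj Y') _ (rg (pbnMap p (n + 1) ((pbF p).map g)) z)
    rw [map_neg, cA_natural n _ _ ((pbF p).map g) z]

variable (hr : letI := (p.appTop).hom.toAlgebra; r 1 = 1)

include hr

lemma cA_dA : ∀ (n : ℕ) (Y : Over T) (h : IsAffine Y.left) (z : Gam (pbn p (n + 1) Y)),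
    cA p r (n + 1) Y h (dA p (n + 1) Y z) + dA p n Y (cA p r n Y h z) = z
  | 0, Y, h, z => by
    haveI := h
    let x : Gam ((pbF p).obj Y) := z
    let w : Gam ((pbF p).obj ((pbF p).obj Y)) := rg ((pbF p).map (kap p Y)) x
    let w' : Gam ((pbF p).obj ((pbF p).obj Y)) := rg (kap p ((pbF p).obj Y)) x
    change -extF p ((pbF p).obj Y) r (w - w') + rg (kap p Y) (extF p Y r x) = x
    have e : extF p ((pbF p).obj Y) r w' = x := by
      have := extF_mul p ((pbF p).obj Y) r x 1
      rw [map_one, mul_one, hr, map_one, mul_one] at this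
      exact this
    rw [map_sub, e, ← extF_natural p r (kap p Y) x]
    abel
  | n + 1, Y, h, z => by
    haveI := h
    have ih := cA_dA n ((pbF p).obj Y) inferInstance z
    let x : Gam (pbn p (n + 1) ((pbF p).obj Y)) := z
    let y : Gam (pbn p n ((pbF p).obj Y)) := -cA p r n ((pbF p).obj Y) inferInstance x
    change -cA p r (n + 1) ((pbF p).obj Y) inferInstance (stepR p (n + 1) Y x - dA p (n + 1) ((pbF p).obj Y) x) +
      (stepR p n Y y - dA p n ((pbF p).obj Y) y) = x
    have e : cA p r (n + 1) ((pbF p).obj Y) inferInstance (stepR p (n + 1) Y x) = stepR p n Y y :=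
      (cA_natural p r (n + 1) (Y := Y) (Y' := (pbF p).obj Y) inferInstance inferInstance (kap p Y) x).symm
    rw [map_sub, e, map_neg (dA p n ((pbF p).obj Y))]
    refine Eq.trans ?_ ih
    abel

end Affine

section Infinitesimal

/-- Square zero thickenings on functions. -/
def SqZero {Y Y₀ : Over T} (g : Y₀ ⟶ Y) : Prop :=
  Function.Surjective (rg g) ∧ ∀ a b, rg g a = 0 → rg g b = 0 → a * b = 0

variable [IsAffine T] [IsAffineHom p]

lemma sqZero_pbF {Y Y₀ : Over T} [IsAffine Y.left] [IsAffine Y₀.left] (g : Y₀ ⟶ Y) (hg : SqZero g) :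
    SqZero ((pbF p).map g) := by
  let K := RingHom.ker (rg g).hom
  let J : Ideal (Gam ((pbF p).obj Y)) := K.map (fstG p Y).hom
  have hJ : ∀ x, rg ((pbF p).map g) x = 0 → x ∈ J := by
    intro x hx
    haveI : IsAffine V := isAffine_of_isAffineHom p
    let e := RingHom.quotientKerEquivOfSurjective hg.1
    let α : Gam Y₀ →+* Gam ((pbF p).obj Y) ⧸ J :=
      (Ideal.quotientMap J (fstG p Y).hom Ideal.le_comap_map).comp e.symm.toRingHom
    have hα : ∀ a, α (rg g a) = Ideal.Quotient.mk J (fstG p Y a) := fun a => by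
      have : e.symm (rg g a) = Ideal.Quotient.mk K a := e.symm_apply_eq.mpr rfl
      change Ideal.quotientMap J (fstG p Y).hom Ideal.le_comap_map (e.symm (rg g a)) = _
      rw [this]
      rfl
    let β : Γ(V, ⊤) →+* Gam ((pbF p).obj Y) ⧸ J := (Ideal.Quotient.mk J).comp (sndG p Y).hom
    have H := isPushout_appTop_of_isPullback (IsPullback.of_hasPullback Y₀.hom p)
    have hY : ∀ a : Γ(T, ⊤), fstG p Y (Y.hom.appTop a) = sndG p Y (p.appTop a) := fun a =>
      congr($((isPushout_appTop_of_isPullback (IsPullback.of_hasPullback Y.hom p)).w) a)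
    let d := H.desc (W := CommRingCat.of (Gam ((pbF p).obj Y) ⧸ J)) (CommRingCat.ofHom α) (CommRingCat.ofHom β) (by
      ext a
      change α (Y₀.hom.appTop a) = Ideal.Quotient.mk J (sndG p Y (p.appTop a))
      rw [← hY, ← hα]
      refine congrArg α ?_
      have := congrArg (fun q : Y₀.left ⟶ T => q.appTop a) (Over.w g)
      simp only [Scheme.Hom.comp_appTop, CommRingCat.comp_apply] at this
      exact this.symm)
    have hd : ∀ y, d (rg ((pbF p).map g) y) = Ideal.Quotient.mk J y := fun y => by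
      induction y using induction_pbF p Y with
      | h0 => simp only [map_zero]
      | hadd y y' hy hy' => rw [map_add, map_add, map_add, hy, hy']
      | hmul a b =>
        rw [map_mul, fstG_natural, sndG_natural, map_mul, map_mul, ← hα]
        exact congrArg₂ (· * ·) (congr($(H.inl_desc (CommRingCat.ofHom α) (CommRingCat.ofHom β) _) (rg g a)))
          (congr($(H.inr_desc (CommRingCat.ofHom α) (CommRingCat.ofHom β) _) b))
    rw [← Ideal.Quotient.eq_zero_iff_mem, ← hd, hx, map_zero]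
  refine ⟨fun y => ?_, fun a b ha hb => ?_⟩
  · induction y using induction_pbF p Y₀ with
    | h0 => exact ⟨0, map_zero _⟩
    | hadd x y hx hy =>
      obtain ⟨a, rfl⟩ := hx
      obtain ⟨b, rfl⟩ := hy
      exact ⟨a + b, map_add _ _ _⟩
    | hmul a b =>
      obtain ⟨a, rfl⟩ := hg.1 a
      exact ⟨fstG p Y a * sndG p Y b, by rw [map_mul, fstG_natural, sndG_natural]⟩
  · have hJJ : J * J = ⊥ := by
      rw [← Ideal.map_mul, eq_bot_iff, Ideal.map_le_iff_le_comap, Ideal.mul_le]
      intro x hx y hy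
      rw [Ideal.mem_comap, hg.2 x y hx hy, map_zero]
      exact zero_mem _
    have := Ideal.mul_mem_mul (hJ a ha) (hJ b hb)
    rwa [hJJ] at this

end Infinitesimal

end Groth.Agent.BigSiteLib
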