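import Groth.Agent.BigSiteLib.GmElem

/-!
Solutions of cocycle equations in units lift along square zero thickenings.
-/

set_option autoImplicit false
set_option linter.style.haveILetI false
set_option backward.isDefEq.respectTransparency false
set_option backward.defeqAttrib.useBackward true
universe u

noncomputable section

namespace Groth.Agent.BigSiteLib

open CategoryTheory Limits Opposite AlgebraicGeometry

variable {T V : Scheme.{u}} (p : V ⟶ T)

lemma dU_dU : ∀ (n : ℕ) (Y : Over T) (x : (Gam (pbn p n Y))ˣ), dU p (n + 1) Y (dU p n Y x) = 1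
  | 0, Y, x => by
    let w : (Gam Y)ˣ := x
    change rgu ((pbF p).map (kap p Y)) (rgu (kap p Y) w) / rgu (kap p ((pbF p).obj Y)) (rgu (kap p Y) w) = 1
    rw [div_eq_one, rgu_rgu, rgu_rgu, kap_natural]
  | n + 1, Y, x => by
    let z : (Gam (pbn p n ((pbF p).obj Y)))ˣ := x
    let S : (Gam (pbn p n ((pbF p).obj Y)))ˣ →* (Gam (pbn p (n + 1) ((pbF p).obj Y)))ˣ :=
      Units.map (stepR p n Y).toMonoidHom
    let S₁ : (Gam (pbn p (n + 1) ((pbF p).obj Y)))ˣ →* (Gam (pbn p (n + 2) ((pbF p).obj Y)))ˣ :=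
      Units.map (stepR p (n + 1) Y).toMonoidHom
    have h1 : dU p (n + 1) ((pbF p).obj Y) (dU p n ((pbF p).obj Y) z) = 1 := dU_dU n ((pbF p).obj Y) z
    have h2 : dU p (n + 1) ((pbF p).obj Y) (S z) = S₁ (S z) / S₁ (dU p n ((pbF p).obj Y) z) := by
      let S' : (Gam (pbn p n ((pbF p).obj ((pbF p).obj Y))))ˣ →*
          (Gam (pbn p (n + 1) ((pbF p).obj ((pbF p).obj Y))))ˣ := Units.map (stepR p n ((pbF p).obj Y)).toMonoidHom
      change S' (S z) / dU p n ((pbF p).obj ((pbF p).obj Y)) (S z) = S₁ (S z) / S₁ (dU p n ((pbF p).obj Y) z)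
      refine congrArg₂ (· / ·) ?_ (dU_natural p n ((pbF p).map (kap p Y)) z).symm
      refine (rgu_rgu _ _ z).trans (Eq.trans ?_ (rgu_rgu _ _ z).symm)
      exact congrArg (fun m => rgu m z) (pbnMap_kap p n (kap p Y)).symm
    change S₁ (S z / dU p n ((pbF p).obj Y) z) /
      dU p (n + 1) ((pbF p).obj Y) (S z / dU p n ((pbF p).obj Y) z) = 1
    rw [map_div, map_div, h1, h2, div_one, div_self']

/-- Lifting units along square zero thickenings. -/
lemma exists_unit_lift {Y Y₀ : Over T} {g : Y₀ ⟶ Y} (hg : SqZero g) (u : (Gam Y₀)ˣ) : ∃ x, rgu g x = u := by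
  obtain ⟨a, ha⟩ := hg.1 u.val
  obtain ⟨b, hb⟩ := hg.1 u.inv
  have hk : rg g (1 - a * b) = 0 := by rw [map_sub, map_one, map_mul, ha, hb, u.val_inv, sub_self]
  have h2 := hg.2 _ _ hk hk
  have e : a * (b * (1 + (1 - a * b))) = 1 := by linear_combination -h2
  exact ⟨⟨a, b * (1 + (1 - a * b)), e, (mul_comm _ _).trans e⟩, Units.ext ha⟩

/-- The unit of a square zero element. -/
def onePlus {A : Type u} [CommRing A] (i : A) (hi : i * i = 0) : Aˣ :=
  ⟨1 + i, 1 - i, by linear_combination -hi, by linear_combination -hi⟩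

variable [IsAffine T] [IsAffineHom p]

lemma sqZero_pbn : ∀ (n : ℕ) {Y Y₀ : Over T}, IsAffine Y.left → IsAffine Y₀.left → ∀ (g : Y₀ ⟶ Y),
    SqZero g → SqZero (pbnMap p n g)
  | 0, _, _, _, _, _, hg => hg
  | n + 1, _, _, h, h', g, hg => by
    haveI := h
    haveI := h'
    exact sqZero_pbn n inferInstance inferInstance ((pbF p).map g) (sqZero_pbF p g hg)

lemma dA_kernel (n : ℕ) {Y Y₀ : Over T} (g : Y₀ ⟶ Y) (i : Gam (pbn p n Y)) (hi : rg (pbnMap p n g) i = 0) :
    rg (pbnMap p (n + 1) g) (dA p n Y i) = 0 := by rw [dA_natural, hi, map_zero]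

lemma dU_onePlus : ∀ (n : ℕ) {Y Y₀ : Over T}, IsAffine Y.left → IsAffine Y₀.left → ∀ (g : Y₀ ⟶ Y), SqZero g →
    ∀ (i : Gam (pbn p n Y)), rg (pbnMap p n g) i = 0 → ∀ (u : (Gam (pbn p n Y))ˣ), u.val = 1 + i →
    (dU p n Y u).val = 1 + dA p n Y i
  | 0, Y, _, _, _, g, _, i, _, u, hu => by
    change rg (kap p Y) u.val = 1 + rg (kap p Y) i
    rw [hu, map_add, map_one]
  | n + 1, Y, Y₀, h, h', g, hg, i, hi, u, hu => by
    haveI := h
    haveI := h'
    let j : Gam (pbn p n ((pbF p).obj Y)) := i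
    let v : (Gam (pbn p n ((pbF p).obj Y)))ˣ := u
    have hj : rg (pbnMap p n ((pbF p).map g)) j = 0 := hi
    have ih : (dU p n ((pbF p).obj Y) v).val = 1 + dA p n ((pbF p).obj Y) j :=
      dU_onePlus n inferInstance inferInstance ((pbF p).map g) (sqZero_pbF p g hg) j hj v hu
    have hb := dA_kernel p n ((pbF p).map g) j hj
    have hab : stepR p n Y j * dA p n ((pbF p).obj Y) j = 0 := by
      refine (sqZero_pbn p (n + 1) (Y := (pbF p).obj Y) inferInstance inferInstance ((pbF p).map g)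
        (sqZero_pbF p g hg)).2 _ _ ?_ hb
      refine (rg_rg _ _ j).trans ?_
      rw [show pbnMap p (n + 1) ((pbF p).map g) ≫ pbnMap p n ((pbF p).map (kap p Y)) =
        pbnMap p n ((pbF p).map (kap p Y₀)) ≫ pbnMap p n ((pbF p).map g) from pbnMap_kap p n g, ← rg_rg, hj, map_zero]
    let w : (Gam (pbn p (n + 1) ((pbF p).obj Y)))ˣ := Units.map (stepR p n Y).toMonoidHom v
    have hw : w.val = 1 + stepR p n Y j := by
      change stepR p n Y v.val = _
      rw [show v.val = 1 + j from hu, map_add, map_one]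
    change (w / dU p n ((pbF p).obj Y) v).val = 1 + (stepR p n Y j - dA p n ((pbF p).obj Y) j)
    have hbb := (sqZero_pbn p (n + 1) (Y := (pbF p).obj Y) inferInstance inferInstance ((pbF p).map g)
        (sqZero_pbF p g hg)).2 _ _ hb hb
    rw [div_eq_mul_inv, Units.val_mul]
    refine (Units.mul_inv_eq_iff_eq_mul _).mpr ?_
    rw [hw, ih]
    linear_combination (hbb - hab)

variable (r : LinForm p) (hr : letI := (p.appTop).hom.toAlgebra; r 1 = 1)

include hr in
/-- Solutions lift. -/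
theorem exists_lift_sol (n : ℕ) {Y Y₀ : Over T} (h : IsAffine Y.left) (h' : IsAffine Y₀.left) (g : Y₀ ⟶ Y)
    (hg : SqZero g) (c : (Gam (pbn p (n + 1) Y))ˣ) (hc : dU p (n + 1) Y c = 1) (x₀ : (Gam (pbn p n Y₀))ˣ)
    (hx₀ : dU p n Y₀ x₀ = rgu (pbnMap p (n + 1) g) c) :
    ∃ x, dU p n Y x = c ∧ rgu (pbnMap p n g) x = x₀ := by
  obtain ⟨x', hx'⟩ := exists_unit_lift (sqZero_pbn p n h h' g hg) x₀
  have hs := sqZero_pbn p (n + 1) h h' g hg
  let e := c / dU p n Y x'
  let i := e.val - 1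
  have he0 : rgu (pbnMap p (n + 1) g) e = 1 := by rw [map_div, dU_natural, hx', hx₀, div_self']
  have hi : rg (pbnMap p (n + 1) g) i = 0 := by
    have := congrArg Units.val he0
    change rg (pbnMap p (n + 1) g) e.val = 1 at this
    rw [map_sub, map_one, this, sub_self]
  have hde : dU p (n + 1) Y e = 1 := by rw [map_div, hc, dU_dU, div_self']
  have hdi : dA p (n + 1) Y i = 0 := by
    have := dU_onePlus p (n + 1) h h' g hg i hi e (by ring)
    rw [hde, Units.val_one] at this
    exact add_left_cancel (this.symm.trans (add_zero 1).symm)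
  let j := cA p r n Y h i
  have hji : dA p n Y j = i := by
    have := cA_dA p r hr n Y h i
    rwa [hdi, map_zero, zero_add] at this
  have hj : rg (pbnMap p n g) j = 0 := by rw [cA_natural p r n h h' g, hi, map_zero]
  let u := onePlus j ((sqZero_pbn p n h h' g hg).2 j j hj hj)
  have hu : dU p n Y u = e := Units.ext (by
    rw [dU_onePlus p n h h' g hg j hj u rfl, hji]
    change 1 + (e.val - 1) = e.val
    ring)
  refine ⟨x' * u, by rw [map_mul, hu, mul_div_cancel], ?_⟩
  rw [map_mul, hx', mul_eq_left]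
  refine Units.ext ?_
  change rg (pbnMap p n g) (1 + j) = 1
  rw [map_add, map_one, hj, add_zero]

end Groth.Agent.BigSiteLib
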