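import Groth.Agent.BigSiteLib.GmLift
import Groth.Agent.BigSiteLib.AffLocus
import Groth.Agent.BigSiteLib.FppfAcyclic

/-!
Cocycle equations in units have solutions etale locally.
-/

set_option autoImplicit false
set_option linter.style.haveILetI false
set_option backward.isDefEq.respectTransparency false
set_option backward.defeqAttrib.useBackward true
universe u

noncomputable section

namespace Groth.Agent.BigSiteLib

open CategoryTheory Limits Opposite AlgebraicGeometry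

/-- Indices of coordinates. -/
def Idx (d : ℕ) : ℕ → Type u
  | 0 => PUnit
  | n + 1 => Idx d n × ULift.{u} (Fin d)

instance instFiniteIdx (d : ℕ) : ∀ n, Finite (Idx.{u} d n)
  | 0 => inferInstanceAs (Finite PUnit)
  | n + 1 => haveI := instFiniteIdx d n; inferInstanceAs (Finite (Idx d n × ULift.{u} (Fin d)))

variable {T V : Scheme.{u}} (p : V ⟶ T) [IsAffine T] [IsAffineHom p] {d : ℕ} (φ : Fin d → LinForm p)
  (b : Fin d → Γ(V, ⊤))

/-- Coordinates of functions on iterated base changes. -/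
def enc : (n : ℕ) → (Y : Over T) → IsAffine Y.left → (Gam (pbn p n Y) →+ (Idx.{u} d n → Gam Y))
  | 0, _, _ => AddMonoidHom.mk' (fun z _ => z) fun _ _ => rfl
  | n + 1, Y, h =>
    haveI := h
    AddMonoidHom.mk' (fun z k => extF p Y (φ k.2.down) (enc n ((pbF p).obj Y) inferInstance z k.1)) fun x y => by
      funext k
      simp only [map_add, Pi.add_apply]

/-- The function with given coordinates. -/
def dec : (n : ℕ) → (Y : Over T) → (Idx.{u} d n → Gam Y) → Gam (pbn p n Y)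
  | 0, _, w => w ⟨⟩
  | n + 1, Y, w => dec n ((pbF p).obj Y) fun k => ∑ i, fstG p Y (w (k, ⟨i⟩)) * sndG p Y (b i)

omit [IsAffine T] [IsAffineHom p] in
lemma dec_natural : ∀ (n : ℕ) {Y Y' : Over T} (g : Y' ⟶ Y) (w : Idx.{u} d n → Gam Y),
    rg (pbnMap p n g) (dec p b n Y w) = dec p b n Y' fun k => rg g (w k)
  | 0, _, _, _, _ => rfl
  | n + 1, Y, Y', g, w => by
    refine (dec_natural n ((pbF p).map g) _).trans (congrArg (dec p b n _) (funext fun k => ?_))
    simp only [map_sum, map_mul, fstG_natural, sndG_natural]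

lemma enc_natural : ∀ (n : ℕ) {Y Y' : Over T} (h : IsAffine Y.left) (h' : IsAffine Y'.left) (g : Y' ⟶ Y)
    (z : Gam (pbn p n Y)) (k : Idx.{u} d n),
    rg g (enc p φ n Y h z k) = enc p φ n Y' h' (rg (pbnMap p n g) z) k
  | 0, _, _, _, _, _, _, _ => rfl
  | n + 1, Y, Y', h, h', g, z, k => by
    haveI := h
    haveI := h'
    refine (extF_natural p (φ k.2.down) g _).trans (congrArg (extF p Y' (φ k.2.down)) ?_)
    exact enc_natural n inferInstance inferInstance ((pbF p).map g) z k.1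

variable (hb : letI := (p.appTop).hom.toAlgebra; ∀ x, ∑ i, p.appTop (φ i x) * b i = x)

include hb in
lemma dec_enc : ∀ (n : ℕ) (Y : Over T) (h : IsAffine Y.left) (z : Gam (pbn p n Y)),
    dec p b n Y (enc p φ n Y h z) = z
  | 0, _, _, _ => rfl
  | n + 1, Y, h, z => by
    haveI := h
    refine Eq.trans ?_ (dec_enc n ((pbF p).obj Y) inferInstance z)
    refine congrArg (dec p b n _) (funext fun k => ?_)
    change ∑ i, fstG p Y (extF p Y (φ i) (enc p φ n ((pbF p).obj Y) _ z k)) * sndG p Y (b i) = _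
    generalize enc p φ n ((pbF p).obj Y) _ z k = x
    induction x using induction_pbF p Y with
    | h0 => simp only [map_zero, zero_mul, Finset.sum_const_zero]
    | hadd x y hx hy => simp only [map_add, add_mul, Finset.sum_add_distrib, hx, hy]
    | hmul a c =>
      haveI : IsAffine V := isAffine_of_isAffineHom p
      have hY : ∀ e : Γ(T, ⊤), fstG p Y (Y.hom.appTop e) = sndG p Y (p.appTop e) := fun e =>
        congr($((isPushout_appTop_of_isPullback (IsPullback.of_hasPullback Y.hom p)).w) e)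
      simp only [extF_mul, map_mul, hY, mul_assoc]
      rw [← Finset.mul_sum]
      refine congrArg (_ * ·) (Eq.trans ?_ (congrArg (sndG p Y) (hb c)))
      simp only [map_sum, map_mul]

/-- The differential on pairs. -/
def dP : (n : ℕ) → (Y : Over T) → Gam (pbn p n Y) × Gam (pbn p n Y) →
    Gam (pbn p (n + 1) Y) × Gam (pbn p (n + 1) Y)
  | 0, Y, q => (rg (kap p Y) q.1, rg (kap p Y) q.2)
  | n + 1, Y, q => (stepR p n Y q.1 * (dP n ((pbF p).obj Y) q).2, stepR p n Y q.2 * (dP n ((pbF p).obj Y) q).1)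

omit [IsAffine T] [IsAffineHom p] in
lemma dP_natural : ∀ (n : ℕ) {Y Y' : Over T} (g : Y' ⟶ Y) (q : Gam (pbn p n Y) × Gam (pbn p n Y)),
    dP p n Y' (rg (pbnMap p n g) q.1, rg (pbnMap p n g) q.2) =
      (rg (pbnMap p (n + 1) g) (dP p n Y q).1, rg (pbnMap p (n + 1) g) (dP p n Y q).2)
  | 0, Y, Y', g, q => by
    change (rg (kap p Y') (rg g q.1), rg (kap p Y') (rg g q.2)) =
      (rg ((pbF p).map g) (rg (kap p Y) q.1), rg ((pbF p).map g) (rg (kap p Y) q.2))
    simp only [rg_rg, kap_natural]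
  | n + 1, Y, Y', g, q => by
    have ih := dP_natural n ((pbF p).map g) q
    have hs : ∀ x, stepR p n Y' (rg (pbnMap p n ((pbF p).map g)) x) =
        rg (pbnMap p (n + 1) ((pbF p).map g)) (stepR p n Y x) := fun x => by
      refine (rg_rg _ _ x).trans (Eq.trans ?_ (rg_rg _ _ x).symm)
      exact congrArg (fun m => rg m x) (pbnMap_kap p n g).symm
    refine Prod.ext ?_ ?_
    · change stepR p n Y' (rg (pbnMap p n ((pbF p).map g)) q.1) * _ = rg (pbnMap p (n + 1) ((pbF p).map g)) (_ * _)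
      rw [map_mul, hs]
      exact congrArg (_ * ·) (congrArg Prod.snd ih)
    · change stepR p n Y' (rg (pbnMap p n ((pbF p).map g)) q.2) * _ = rg (pbnMap p (n + 1) ((pbF p).map g)) (_ * _)
      rw [map_mul, hs]
      exact congrArg (_ * ·) (congrArg Prod.fst ih)

omit [IsAffine T] [IsAffineHom p] in
lemma dP_unit : ∀ (n : ℕ) (Y : Over T) (x : (Gam (pbn p n Y))ˣ),
    dP p n Y (x.val, x⁻¹.val) = ((dU p n Y x).val, (dU p n Y x)⁻¹.val)
  | 0, _, _ => rfl
  | n + 1, Y, x => by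
    have ih := dP_unit n ((pbF p).obj Y) x
    let w : (Gam (pbn p (n + 1) ((pbF p).obj Y)))ˣ := Units.map (stepR p n Y).toMonoidHom x
    refine Prod.ext ?_ ?_
    · change w.val * (dP p n ((pbF p).obj Y) (x.val, x⁻¹.val)).2 = (w / dU p n ((pbF p).obj Y) x).val
      rw [div_eq_mul_inv, Units.val_mul]
      exact congrArg (_ * ·) (congrArg Prod.snd ih)
    · change (w⁻¹).val * (dP p n ((pbF p).obj Y) (x.val, x⁻¹.val)).1 = (w / dU p n ((pbF p).obj Y) x)⁻¹.val
      rw [inv_div, div_eq_mul_inv, Units.val_mul, mul_comm (dU p n ((pbF p).obj Y) x).val]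
      exact congrArg (_ * ·) (congrArg Prod.fst ih)

omit [IsAffine T] [IsAffineHom p] in
lemma pbnMap_id : ∀ (n : ℕ) (Y : Over T), pbnMap p n (𝟙 Y) = 𝟙 _
  | 0, _ => rfl
  | n + 1, Y => (congrArg (pbnMap p n) ((pbF p).map_id Y)).trans (pbnMap_id n _)

omit [IsAffine T] [IsAffineHom p] in
/-- Cocycles are coboundaries over objects with a point in the cover. -/
lemma exists_sol_of_point {Y : Over T} (l : Y.left ⟶ V) (hl : l ≫ p = Y.hom) (n : ℕ)
    (c : (Gam (pbn p (n + 1) Y))ˣ) (hc : dU p (n + 1) Y c = 1) : ∃ x, dU p n Y x = c := by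
  let z : (Gam (pbn p n ((pbF p).obj Y)))ˣ := c
  let gr : Y ⟶ (pbF p).obj Y := graph l hl
  refine ⟨rgu (pbnMap p n gr) z, ?_⟩
  have h1 : Units.map (stepR p n Y).toMonoidHom z = dU p n ((pbF p).obj Y) z := div_eq_one.mp hc
  rw [← dU_natural, ← h1]
  refine (rgu_rgu _ _ z).trans ?_
  have e : pbnMap p (n + 1) gr ≫ pbnMap p n ((pbF p).map (kap p Y)) = 𝟙 _ := by
    refine (pbnMap_comp p n ((pbF p).map (kap p Y)) ((pbF p).map gr)).symm.trans ?_
    rw [← (pbF p).map_comp, show gr ≫ kap p Y = 𝟙 Y from Over.OverMorphism.ext (pullback.lift_fst _ _ _),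
      CategoryTheory.Functor.map_id, pbnMap_id]
    rfl
  rw [e]
  rfl

variable [IsFinite p] [Flat p] [LocallyOfFinitePresentation p] [Surjective p]

omit b φ in
/-- Cocycles are coboundaries etale locally. -/
theorem exists_etale_sol (n : ℕ) (Y₀ : Over T) [IsAffine Y₀.left] (c : (Gam (pbn p (n + 1) Y₀))ˣ)
    (hc : dU p (n + 1) Y₀ c = 1) (z : Y₀.left) : ∃ (U : Over T) (k : U ⟶ Y₀) (x : (Gam (pbn p n U))ˣ),
    dU p n U x = rgu (pbnMap p (n + 1) k) c ∧ Etale k.left ∧ z ∈ Set.range k.left := by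
  obtain ⟨d, φ, b, r, hb, hr⟩ := exists_split p
  let rel : ∀ Y : Over T, IsAffine Y.left → (Y ⟶ Y₀) → (Idx.{u} d n ⊕ Idx.{u} d n → Gam Y) →
      ((Idx.{u} d n ⊕ Idx.{u} d n) ⊕ (Idx.{u} d n ⊕ Idx.{u} d (n + 1)) → Gam Y) := fun Y hY a w =>
    let A := dec p b n Y (w ∘ Sum.inl)
    let B := dec p b n Y (w ∘ Sum.inr)
    Sum.elim (Sum.elim (fun k => enc p φ n Y hY A k - w (Sum.inl k)) fun k => enc p φ n Y hY B k - w (Sum.inr k))
      (Sum.elim (enc p φ n Y hY (A * B - 1))
        (enc p φ (n + 1) Y hY ((dP p n Y (A, B)).1 - rg (pbnMap p (n + 1) a) c.val)))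
  let co : ∀ Y : Over T, IsAffine Y.left → (Gam (pbn p n Y))ˣ → (Idx.{u} d n ⊕ Idx.{u} d n → Gam Y) :=
    fun Y hY x => Sum.elim (enc p φ n Y hY x.val) (enc p φ n Y hY x⁻¹.val)
  have hsol : ∀ (Y : Over T) (hY : IsAffine Y.left) (a : Y ⟶ Y₀) (w : Idx.{u} d n ⊕ Idx.{u} d n → Gam Y),
      rel Y hY a w = 0 → ∃ x, dU p n Y x = rgu (pbnMap p (n + 1) a) c ∧ co Y hY x = w := by
    intro Y hY a w hw
    let A := dec p b n Y (w ∘ Sum.inl)
    let B := dec p b n Y (w ∘ Sum.inr)
    have h1 : A * B = 1 := by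
      rw [← sub_eq_zero, ← dec_enc p φ b hb n Y hY (A * B - 1),
        show enc p φ n Y hY (A * B - 1) = 0 from funext fun k => congrFun hw (Sum.inr (Sum.inl k)),
        ← map_zero (enc p φ n Y hY), dec_enc p φ b hb]
    let x : (Gam (pbn p n Y))ˣ := ⟨A, B, h1, (mul_comm _ _).trans h1⟩
    refine ⟨x, Units.ext ?_, ?_⟩
    · have h2 : (dP p n Y (A, B)).1 - rg (pbnMap p (n + 1) a) c.val = 0 := by
        rw [← dec_enc p φ b hb (n + 1) Y hY (_ - _),
          show enc p φ (n + 1) Y hY ((dP p n Y (A, B)).1 - rg (pbnMap p (n + 1) a) c.val) = 0 from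
            funext fun k => congrFun hw (Sum.inr (Sum.inr k)), ← map_zero (enc p φ (n + 1) Y hY), dec_enc p φ b hb]
      exact (congrArg Prod.fst (dP_unit p n Y x)).symm.trans (sub_eq_zero.mp h2)
    · funext s
      cases s with
      | inl k => exact sub_eq_zero.mp (congrFun hw (Sum.inl (Sum.inl k)))
      | inr k => exact sub_eq_zero.mp (congrFun hw (Sum.inl (Sum.inr k)))
  have hco : ∀ (Y : Over T) (hY : IsAffine Y.left) (a : Y ⟶ Y₀) (x : (Gam (pbn p n Y))ˣ),
      dU p n Y x = rgu (pbnMap p (n + 1) a) c → rel Y hY a (co Y hY x) = 0 := by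
    intro Y hY a x hx
    have hA : dec p b n Y (co Y hY x ∘ Sum.inl) = x.val := dec_enc p φ b hb n Y hY _
    have hB : dec p b n Y (co Y hY x ∘ Sum.inr) = x⁻¹.val := dec_enc p φ b hb n Y hY _
    funext s
    dsimp only [rel]
    rw [hA, hB]
    rcases s with (k | k) | (k | k)
    · exact sub_self _
    · exact sub_self _
    · change enc p φ n Y hY (x.val * x⁻¹.val - 1) k = 0
      rw [x.mul_inv, sub_self, map_zero, Pi.zero_apply]
    · change enc p φ (n + 1) Y hY ((dP p n Y (x.val, x⁻¹.val)).1 - rg (pbnMap p (n + 1) a) c.val) k = 0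
      rw [dP_unit, hx]
      change enc p φ (n + 1) Y hY (rg (pbnMap p (n + 1) a) c.val - rg (pbnMap p (n + 1) a) c.val) k = 0
      rw [sub_self, map_zero, Pi.zero_apply]
  have hnat : ∀ (Y Y' : Over T) (hY : IsAffine Y.left) (hY' : IsAffine Y'.left) (a : Y ⟶ Y₀) (g : Y' ⟶ Y)
      (w : Idx.{u} d n ⊕ Idx.{u} d n → Gam Y) (j), rg g (rel Y hY a w j) = rel Y' hY' (g ≫ a) (fun s => rg g (w s)) j := by
    intro Y Y' hY hY' a g w j
    have hA := dec_natural p b n g (w ∘ Sum.inl)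
    have hB := dec_natural p b n g (w ∘ Sum.inr)
    have hP := congrArg Prod.fst (dP_natural p n g (dec p b n Y (w ∘ Sum.inl), dec p b n Y (w ∘ Sum.inr)))
    dsimp only at hP
    rw [hA, hB] at hP
    rcases j with (k | k) | (k | k)
    · change rg g (enc p φ n Y hY _ k - _) = _
      rw [map_sub, enc_natural p φ n hY hY' g, hA]
      rfl
    · change rg g (enc p φ n Y hY _ k - _) = _
      rw [map_sub, enc_natural p φ n hY hY' g, hB]
      rfl
    · change rg g (enc p φ n Y hY _ k) = _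
      rw [enc_natural p φ n hY hY' g, map_sub, map_mul, map_one, hA, hB]
      rfl
    · change rg g (enc p φ (n + 1) Y hY _ k) = _
      rw [enc_natural p φ (n + 1) hY hY' g, map_sub, rg_rg, ← hP, ← pbnMap_comp]
      rfl
  have hlift : ∀ (Y Y' : Over T) (hY : IsAffine Y.left) (hY' : IsAffine Y'.left) (a : Y ⟶ Y₀) (g : Y' ⟶ Y),
      SqZero g → ∀ w', rel Y' hY' (g ≫ a) w' = 0 → ∃ w, rel Y hY a w = 0 ∧ (fun s => rg g (w s)) = w' := by
    intro Y Y' hY hY' a g hg w' hw'
    obtain ⟨x', hx', rfl⟩ := hsol Y' hY' _ w' hw'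
    rw [pbnMap_comp, ← rgu_rgu] at hx'
    have hca : dU p (n + 1) Y (rgu (pbnMap p (n + 1) a) c) = 1 := by rw [← dU_natural, hc, map_one]
    obtain ⟨x, hx, hxx⟩ := exists_lift_sol p r hr n hY hY' g hg _ hca x' hx'
    refine ⟨co Y hY x, hco Y hY a x hx, funext fun s => ?_⟩
    cases s with
    | inl k => exact (enc_natural p φ n hY hY' g _ k).trans (by rw [← hxx]; rfl)
    | inr k => exact (enc_natural p φ n hY hY' g _ k).trans (by rw [← hxx]; rfl)
  have hpt : ∀ (K : Type u) [Field K] [IsAlgClosed K] (a : Spec (CommRingCat.of K) ⟶ Y₀.left),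
      ∃ w, rel (Over.mk (a ≫ Y₀.hom)) (inferInstanceAs (IsAffine (Spec _))) (Over.homMk a) w = 0 := by
    intro K _ _ a
    let Y : Over T := Over.mk (a ≫ Y₀.hom)
    let a' : Y ⟶ Y₀ := Over.homMk a
    obtain ⟨y, hy⟩ := p.surjective ((a ≫ Y₀.hom) (cpt K))
    obtain ⟨⟨l, hl⟩, -⟩ := EtIntegral.exists_lift_of_point p (a ≫ Y₀.hom) y hy
    obtain ⟨x, hx⟩ := exists_sol_of_point p (Y := Y) l hl n (rgu (pbnMap p (n + 1) a') c)
      (by rw [← dU_natural, hc, map_one])
    exact ⟨co Y (inferInstanceAs (IsAffine (Spec _))) x, hco Y _ a' x hx⟩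
  obtain ⟨Y, hY, a, w, hw, U, k, h, hk, he, hz⟩ := exists_etale_zero Y₀ rel hnat hlift hpt z
  obtain ⟨x, hx, -⟩ := hsol Y hY a w hw
  refine ⟨U, k, rgu (pbnMap p n h) x, ?_, he, hz⟩
  rw [← dU_natural, hx, rgu_rgu, ← pbnMap_comp, hk]

end Groth.Agent.BigSiteLib
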