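import Mathlib.AlgebraicGeometry.Morphisms.Affine
import Mathlib.AlgebraicGeometry.Morphisms.Finite
import Mathlib.AlgebraicGeometry.Morphisms.Flat
import Mathlib.AlgebraicGeometry.Morphisms.FinitePresentation
import Mathlib.Algebra.Category.Ring.Constructions
import Mathlib.RingTheory.Flat.FaithfullyFlat.Algebra
import Mathlib
import Groth.Agent.BigSiteLib.Amitsur

/-!
Functions on base changes of a finite flat covering of an affine scheme, split naturally.
-/

set_option autoImplicit false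
set_option linter.style.haveILetI false
set_option backward.isDefEq.respectTransparency false
set_option backward.defeqAttrib.useBackward true
universe u

noncomputable section

namespace Groth.Agent.BigSiteLib

open CategoryTheory Limits Opposite AlgebraicGeometry TensorProduct

variable {T V : Scheme.{u}} (p : V ⟶ T)

/-- The base change functor of the covering. -/
abbrev pbF : Over T ⥤ Over T := Over.pullback p ⋙ Over.map p

/-- Global functions. -/
abbrev Gam (Y : Over T) : CommRingCat.{u} := Γ(Y.left, ⊤)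

/-- The first projection on functions. -/
abbrev fstG (Y : Over T) : Gam Y ⟶ Gam ((pbF p).obj Y) := (pullback.fst Y.hom p).appTop

/-- The second projection on functions. -/
abbrev sndG (Y : Over T) : Γ(V, ⊤) ⟶ Gam ((pbF p).obj Y) := (pullback.snd Y.hom p).appTop

/-- Restriction of functions. -/
abbrev rg {Y Y' : Over T} (g : Y' ⟶ Y) : Gam Y ⟶ Gam Y' := g.left.appTop

lemma fstG_natural {Y Y' : Over T} (g : Y' ⟶ Y) (a : Gam Y) :
    rg ((pbF p).map g) (fstG p Y a) = fstG p Y' (rg g a) := by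
  have e : ((pbF p).map g).left ≫ pullback.fst Y.hom p = pullback.fst Y'.hom p ≫ g.left := pullback.lift_fst _ _ _
  have := congrArg (fun q : pullback Y'.hom p ⟶ Y.left => q.appTop a) e
  simp only [Scheme.Hom.comp_appTop, CommRingCat.comp_apply] at this
  exact this

lemma sndG_natural {Y Y' : Over T} (g : Y' ⟶ Y) (b : Γ(V, ⊤)) :
    rg ((pbF p).map g) (sndG p Y b) = sndG p Y' b := by
  have e : ((pbF p).map g).left ≫ pullback.snd Y.hom p = pullback.snd Y'.hom p := pullback.lift_snd _ _ _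
  have := congrArg (fun q : pullback Y'.hom p ⟶ V => q.appTop b) e
  simp only [Scheme.Hom.comp_appTop, CommRingCat.comp_apply] at this
  exact this


/-- Linear forms on the functions of the covering. -/
abbrev LinForm := letI := (p.appTop).hom.toAlgebra; Γ(V, ⊤) →ₗ[Γ(T, ⊤)] Γ(T, ⊤)

section Affine

variable [IsAffine T] [IsAffineHom p] (Y : Over T) [IsAffine Y.left]

instance isAffine_V' : IsAffine (pullback Y.hom p) := isAffine_of_isAffineHom (pullback.fst Y.hom p)

instance isAffine_pbF : IsAffine ((pbF p).obj Y).left := isAffine_V' p Y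

/-- Functions on the base change are generated by products. -/
lemma induction_pbF {motive : Gam ((pbF p).obj Y) → Prop} (h0 : motive 0)
    (hadd : ∀ x y, motive x → motive y → motive (x + y))
    (hmul : ∀ a b, motive (fstG p Y a * sndG p Y b)) (x) : motive x := by
  haveI : IsAffine V := isAffine_of_isAffineHom p
  letI := (Y.hom.appTop).hom.toAlgebra
  letI := (p.appTop).hom.toAlgebra
  have H := isPushout_appTop_of_isPullback (IsPullback.of_hasPullback Y.hom p)
  let e := ((CommRingCat.isPushout_tensorProduct Γ(T, ⊤) (Gam Y) Γ(V, ⊤)).isoIsPushout _ _ H).commRingCatIsoToRingEquiv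
  obtain ⟨z, rfl⟩ := e.surjective x
  induction z using TensorProduct.induction_on with
  | zero => rw [map_zero]; exact h0
  | add x y hx hy => rw [map_add]; exact hadd _ _ hx hy
  | tmul a b =>
    have h1 := congr($((CommRingCat.isPushout_tensorProduct Γ(T, ⊤) (Gam Y) Γ(V, ⊤)).inl_isoIsPushout_hom _ _ H) a)
    have h2 := congr($((CommRingCat.isPushout_tensorProduct Γ(T, ⊤) (Gam Y) Γ(V, ⊤)).inr_isoIsPushout_hom _ _ H) b)
    have e3 : e (a ⊗ₜ b) = fstG p Y a * sndG p Y b := by
      rw [show a ⊗ₜ[Γ(T, ⊤)] b = (a ⊗ₜ 1) * (1 ⊗ₜ b) by rw [Algebra.TensorProduct.tmul_mul_tmul, mul_one, one_mul],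
        map_mul]
      exact congrArg₂ (· * ·) h1 h2
    rw [e3]
    exact hmul a b

/-- The extension of a linear form to a base change. -/
lemma exists_ext (φ : LinForm p) :
    ∃ F : Gam ((pbF p).obj Y) →+ Gam Y, ∀ a b, F (fstG p Y a * sndG p Y b) = a * Y.hom.appTop (φ b) := by
  haveI : IsAffine V := isAffine_of_isAffineHom p
  letI := (Y.hom.appTop).hom.toAlgebra
  letI := (p.appTop).hom.toAlgebra
  have H := isPushout_appTop_of_isPullback (IsPullback.of_hasPullback Y.hom p)
  let e := ((CommRingCat.isPushout_tensorProduct Γ(T, ⊤) (Gam Y) Γ(V, ⊤)).isoIsPushout _ _ H).commRingCatIsoToRingEquiv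
  let m : (Gam Y) ⊗[Γ(T, ⊤)] Γ(V, ⊤) →ₗ[Γ(T, ⊤)] Gam Y :=
    (TensorProduct.rid Γ(T, ⊤) (Gam Y)).toLinearMap ∘ₗ LinearMap.lTensor (Gam Y) φ
  refine ⟨m.toAddMonoidHom.comp e.symm.toAddEquiv.toAddMonoidHom, fun a b => ?_⟩
  have h1 := congr($((CommRingCat.isPushout_tensorProduct Γ(T, ⊤) (Gam Y) Γ(V, ⊤)).inl_isoIsPushout_hom _ _ H) a)
  have h2 := congr($((CommRingCat.isPushout_tensorProduct Γ(T, ⊤) (Gam Y) Γ(V, ⊤)).inr_isoIsPushout_hom _ _ H) b)
  have e3 : e (a ⊗ₜ b) = fstG p Y a * sndG p Y b := by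
    rw [show a ⊗ₜ[Γ(T, ⊤)] b = (a ⊗ₜ 1) * (1 ⊗ₜ b) by rw [Algebra.TensorProduct.tmul_mul_tmul, mul_one, one_mul],
      map_mul]
    exact congrArg₂ (· * ·) h1 h2
  change m (e.symm _) = _
  rw [← e3, RingEquiv.symm_apply_apply]
  change (φ b) • a = _
  exact (Algebra.smul_def (φ b) a).trans (mul_comm _ _)

/-- The extension of a linear form. -/
def extF (φ : LinForm p) : Gam ((pbF p).obj Y) →+ Gam Y := Classical.choose (exists_ext p Y φ)

lemma extF_mul (φ : LinForm p) (a : Gam Y) (b : Γ(V, ⊤)) :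
    extF p Y φ (fstG p Y a * sndG p Y b) = a * Y.hom.appTop (φ b) := Classical.choose_spec (exists_ext p Y φ) a b

/-- Extensions are natural. -/
lemma extF_natural {Y} {Y' : Over T} [IsAffine Y.left] [IsAffine Y'.left] (φ : LinForm p) (g : Y' ⟶ Y)
    (x : Gam ((pbF p).obj Y)) : rg g (extF p Y φ x) = extF p Y' φ (rg ((pbF p).map g) x) := by
  induction x using induction_pbF p Y with
  | h0 => simp only [map_zero]
  | hadd x y hx hy => simp only [map_add, hx, hy]
  | hmul a b =>
    rw [extF_mul, map_mul, map_mul, fstG_natural, sndG_natural, extF_mul]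
    refine congrArg (_ * ·) ?_
    have := congrArg (fun q : Y'.left ⟶ T => q.appTop (φ b)) (Over.w g)
    simp only [Scheme.Hom.comp_appTop, CommRingCat.comp_apply] at this
    exact this

variable [IsFinite p] [Flat p] [LocallyOfFinitePresentation p]

/-- Functions on the covering form a finite projective module. -/
lemma projective_gam : letI := (p.appTop).hom.toAlgebra
    Module.Finite Γ(T, ⊤) Γ(V, ⊤) ∧ Module.Projective Γ(T, ⊤) Γ(V, ⊤) := by
  haveI : IsAffine V := isAffine_of_isAffineHom p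
  letI := (p.appTop).hom.toAlgebra
  have h1 : (p.appTop).hom.Finite := IsFinite.finite_app p ⊤ (isAffineOpen_top T)
  have h2 : (p.appTop).hom.Flat := (HasRingHomProperty.iff_of_isAffine (P := @Flat)).mp ‹_›
  have h3 : (p.appTop).hom.FinitePresentation :=
    (HasRingHomProperty.iff_of_isAffine (P := @LocallyOfFinitePresentation)).mp ‹_›
  haveI : Module.Finite Γ(T, ⊤) Γ(V, ⊤) := h1
  haveI : Module.Flat Γ(T, ⊤) Γ(V, ⊤) := h2
  haveI : Algebra.FinitePresentation Γ(T, ⊤) Γ(V, ⊤) := h3
  haveI : Module.FinitePresentation Γ(T, ⊤) Γ(V, ⊤) := Module.FinitePresentation.of_finite_of_finitePresentation _ _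
  exact ⟨inferInstance, Module.Flat.projective_of_finitePresentation⟩

variable [Surjective p]

omit Y [IsAffine Y.left] in
/-- A dual basis and a retraction. -/
lemma exists_split : ∃ (d : ℕ) (φ : Fin d → LinForm p) (b : Fin d → Γ(V, ⊤)) (r : LinForm p),
    (∀ x, ∑ i, p.appTop (φ i x) * b i = x) ∧ r 1 = 1 := by
  haveI : IsAffine V := isAffine_of_isAffineHom p
  letI := (p.appTop).hom.toAlgebra
  obtain ⟨hfin, hproj⟩ := projective_gam p
  obtain ⟨d, f, g, hf, -, hfg⟩ := Module.Finite.exists_comp_eq_id_of_projective Γ(T, ⊤) Γ(V, ⊤)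
  classical
  let φ : Fin d → LinForm p := fun i => (LinearMap.proj i).comp g
  let b : Fin d → Γ(V, ⊤) := fun i => f (Pi.single i 1)
  have hb : ∀ x, ∑ i, p.appTop (φ i x) * b i = x := fun x => by
    conv_rhs => rw [← show f (g x) = x from congr($hfg x), pi_eq_sum_univ' (g x), map_sum]
    refine Finset.sum_congr rfl fun i _ => ?_
    rw [map_smul, Algebra.smul_def]
    rfl
  let ev : LinForm p →ₗ[Γ(T, ⊤)] Γ(T, ⊤) := LinearMap.applyₗ (1 : Γ(V, ⊤))
  have hsur : LinearMap.range ev = ⊤ := by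
    by_contra hne
    obtain ⟨m, hm, hle⟩ := Ideal.exists_le_maximal _ hne
    have h1 : (1 : Γ(V, ⊤)) ∈ m.map (algebraMap Γ(T, ⊤) Γ(V, ⊤)) := by
      rw [← hb 1]
      exact Submodule.sum_mem _ fun i _ => Ideal.mul_mem_right _ _
        (Ideal.mem_map_of_mem _ (hle ⟨φ i, rfl⟩))
    have hflat : Module.Flat Γ(T, ⊤) Γ(V, ⊤) := Module.Flat.of_projective
    have hspec : Function.Surjective (Spec.map p.appTop) := by
      have e := Scheme.isoSpec_hom_naturality p
      intro y
      obtain ⟨x, hx⟩ := p.surjective (T.isoSpec.inv y)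
      refine ⟨V.isoSpec.hom x, ?_⟩
      rw [← Scheme.Hom.comp_apply, e, Scheme.Hom.comp_apply, hx, ← Scheme.Hom.comp_apply, Iso.inv_hom_id]
      rfl
    haveI := hm.isPrime
    obtain ⟨q, hq⟩ := hspec ⟨m, inferInstance⟩
    have h2 : m.map (algebraMap Γ(T, ⊤) Γ(V, ⊤)) ≤ q.asIdeal :=
      Ideal.map_le_iff_le_comap.mpr (le_of_eq (congrArg PrimeSpectrum.asIdeal hq).symm)
    exact q.isPrime.ne_top ((Ideal.eq_top_iff_one _).mpr (h2 h1))
  obtain ⟨r, hr⟩ : (1 : Γ(T, ⊤)) ∈ LinearMap.range ev := by rw [hsur]; trivial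
  exact ⟨d, φ, b, r, hb, hr⟩

end Affine

end Groth.Agent.BigSiteLib
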