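import Groth.Prelude.Def_HRes
import Groth.Agent.EtMV.Ext
import Mathlib.Algebra.Homology.DerivedCategory.Ext.EnoughInjectives
import Mathlib.CategoryTheory.Sites.Over

/-!
Functoriality of the restriction maps in big-site cohomology: identity and composites.
-/

set_option autoImplicit false
set_option backward.isDefEq.respectTransparency false
set_option backward.isDefEq.respectTransparency.types false
set_option backward.defeqAttrib.useBackward true

universe w v u' u

open CategoryTheory CategoryTheory.Limits CategoryTheory.Abelian AlgebraicGeometry Opposite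

noncomputable section

namespace Groth.Agent.BigSiteLib

section

variable {A : Type u'} [Category.{v} A] [Abelian A] [HasExt.{w} A] [EnoughInjectives A]
  (G : A ⥤ A) [G.Additive] [PreservesFiniteLimits G] [PreservesFiniteColimits G]

/-- An exact endofunctor isomorphic to the identity acts on extensions by conjugation. -/
theorem ext_map_eq_of_iso_id (Φ : G ≅ 𝟭 A) :
    ∀ (n : ℕ) (Z F : A) (x : Ext.{w} Z F n),
      ((Ext.mk₀ (Φ.inv.app Z)).comp (x.mapExactFunctor G) (zero_add n)).comp
        (Ext.mk₀ (Φ.hom.app F)) (add_zero n) = x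
  | 0, Z, F, x => by
      obtain ⟨g, rfl⟩ := (Ext.mk₀_bijective Z F).2 x
      rw [Ext.mapExactFunctor_mk₀, Ext.mk₀_comp_mk₀, Ext.mk₀_comp_mk₀]
      congr 1
      rw [Category.assoc, show G.map g ≫ Φ.hom.app F = Φ.hom.app Z ≫ g from Φ.hom.naturality g,
        Iso.inv_hom_id_app_assoc]
  | n + 1, Z, F, x => by
      let S : ShortComplex A := ShortComplex.mk (Injective.ι F) (cokernel.π _) (cokernel.condition _)
      have hS : S.ShortExact :=
        { exact := ShortComplex.exact_cokernel _ }
      haveI : Injective S.X₂ := inferInstanceAs (Injective (Injective.under F))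
      obtain ⟨y, hy⟩ := Ext.covariant_sequence_exact₁ Z hS x (Ext.eq_zero_of_injective _) (n₀ := n) rfl
      have hy' : y.comp hS.extClass rfl = x := hy
      rw [← hy', Ext.mapExactFunctor_comp, Ext.mapExactFunctor_extClass]
      have hnat := ShortComplex.ShortExact.extClass_naturality (hS.map_of_exact G) hS
        (S.mapNatTrans Φ.hom)
      rw [Ext.comp_assoc (α := Ext.mk₀ (Φ.inv.app Z)) (a₁₂ := n + 1) (a₂₃ := n + 1) _ _ _ _ (by simp),
        Ext.comp_assoc (a₁₂ := n + 1) (a₂₃ := 1) _ _ _ _ (by omega)]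
      erw [hnat]
      rw [← Ext.comp_assoc (a₁₂ := n) (a₂₃ := 1) _ _ _ _ (by simp),
        ← Ext.comp_assoc (a₁₂ := n) (a₂₃ := n + 1) _ _ _ _ (by simp),
        ← Ext.comp_assoc (a₁₂ := n) (a₂₃ := n) _ _ _ _ (by simp)]
      congr 1
      exact ext_map_eq_of_iso_id Φ n Z _ y
      all_goals omega

/-- The same with the conjugating map given by its defining equation. -/
theorem ext_map_eq_of_comp_eq_id (Φ : G ≅ 𝟭 A) {Z F : A} (c : Z ⟶ G.obj Z)
    (hc : c ≫ Φ.hom.app Z = 𝟙 Z) {n : ℕ} (x : Ext.{w} Z F n) :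
    ((Ext.mk₀ c).comp (x.mapExactFunctor G) (zero_add n)).comp
      (Ext.mk₀ (Φ.hom.app F)) (add_zero n) = x := by
  obtain rfl : c = Φ.inv.app Z :=
    (cancel_mono (Φ.hom.app Z)).1 (hc.trans (Iso.inv_hom_id_app Φ Z).symm)
  exact ext_map_eq_of_iso_id G Φ n Z F x

end

variable (K : Precoverage Scheme.{u}) {S T T' : Scheme.{u}}

theorem pullConst_inv_hom (f : T ⟶ S) (M : AddCommGrpCat.{u + 1}) :
    toSheafify (QuotSh.J K T) ((Functor.const _).obj M) ≫ (HRes.pullConst K f M).inv.hom =
      Functor.whiskerLeft (Over.map f).op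
        (toSheafify (QuotSh.J K S) ((Functor.const _).obj M)) :=
  (Over.map f).toSheafify_pullbackSheafificationCompatibility AddCommGrpCat.{u + 1}
    (QuotSh.J K T) (QuotSh.J K S) ((Functor.const _).obj M)

theorem pullConst_id (M : AddCommGrpCat.{u + 1}) :
    (HRes.pullConst K (𝟙 S) M).inv ≫
      (K.toGrothendieck.overMapPullbackId AddCommGrpCat.{u + 1} S).hom.app _ = 𝟙 _ := by
  apply Sheaf.hom_ext
  refine sheafify_hom_ext _ _ _ (((constantSheaf (QuotSh.J K S) AddCommGrpCat.{u + 1}).obj M).property) ?_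
  erw [← Category.assoc, pullConst_inv_hom K (𝟙 S) M, Category.comp_id]
  ext1
  funext U
  exact (NatTrans.naturality (toSheafify (QuotSh.J K S) ((Functor.const _).obj M)) _).symm.trans
    (Category.id_comp _)

theorem pullConst_comp (f : T ⟶ S) (g : T' ⟶ T) (M : AddCommGrpCat.{u + 1}) :
    (HRes.pullConst K g M).inv ≫
      (BigSite.pullBig K g AddCommGrpCat.{u + 1}).map (HRes.pullConst K f M).inv ≫
        (K.toGrothendieck.overMapPullbackComp AddCommGrpCat.{u + 1} g f).hom.app _ =
      (HRes.pullConst K (g ≫ f) M).inv := by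
  apply Sheaf.hom_ext
  refine sheafify_hom_ext _ _ _ (((BigSite.pullBig K (g ≫ f) AddCommGrpCat.{u + 1}).obj
    ((constantSheaf (QuotSh.J K S) AddCommGrpCat.{u + 1}).obj M)).property) ?_
  erw [pullConst_inv_hom K (g ≫ f) M, ← Category.assoc, pullConst_inv_hom K g M]
  ext1
  funext U
  have h1 := NatTrans.congr_app (pullConst_inv_hom K f M) ((Over.map g).op.obj U)
  refine ((Category.assoc _ _ _).symm.trans (congrArg (fun k => k ≫ _) h1)).trans ?_
  exact (NatTrans.naturality (toSheafify (QuotSh.J K S) ((Functor.const _).obj M)) _).symm.trans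
    (Category.id_comp _)

variable {F : BigSite.Ab K S} {n : ℕ}

theorem pull_id (x : BigSite.H K S F n) :
    Sheaf.H.map ((K.toGrothendieck.overMapPullbackId AddCommGrpCat.{u + 1} S).hom.app F) n
      (HRes.pull K (𝟙 S) F n x) = x :=
  ext_map_eq_of_comp_eq_id (BigSite.pullBig K (𝟙 S) AddCommGrpCat.{u + 1})
    (K.toGrothendieck.overMapPullbackId AddCommGrpCat.{u + 1} S)
    (HRes.pullConst K (𝟙 S) _).inv (pullConst_id K _) x

theorem pull_comp (f : T ⟶ S) (g : T' ⟶ T) (x : BigSite.H K S F n) :
    HRes.pull K (g ≫ f) F n x =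
      Sheaf.H.map ((K.toGrothendieck.overMapPullbackComp AddCommGrpCat.{u + 1} g f).hom.app F) n
        (HRes.pull K g ((BigSite.pullBig K f AddCommGrpCat.{u + 1}).obj F) n
          (HRes.pull K f F n x)) := by
  rw [Sheaf.H.map_apply]
  exact (EtMV.T_T (BigSite.pullBig K f AddCommGrpCat.{u + 1})
    (BigSite.pullBig K g AddCommGrpCat.{u + 1}) (BigSite.pullBig K (g ≫ f) AddCommGrpCat.{u + 1})
    (K.toGrothendieck.overMapPullbackComp AddCommGrpCat.{u + 1} g f)
    (HRes.pullConst K f _).inv (HRes.pullConst K g _).inv (HRes.pullConst K (g ≫ f) _).inv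
    (pullConst_comp K f g _) n F x).symm

end Groth.Agent.BigSiteLib
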