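import Groth.Agent.AdeqLib.TExact
import Groth.Agent.SiteCoh.Basic

/-!
Over reduced zero-dimensional rings with algebraically closed residue fields all flat coverings split,
so that higher flat cohomology vanishes.
-/

set_option autoImplicit false
set_option linter.style.haveILetI false
set_option backward.isDefEq.respectTransparency false
universe u

noncomputable section

namespace Groth.Agent.BigSiteLib

open CategoryTheory Limits Opposite AlgebraicGeometry
open scoped _root_.TensorProduct
open AdeqLib (algF sp spm baseObj prj strMap piAlg)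
open Adeq (Alg algOf)

/-- In a reduced zero-dimensional ring every element is regular in the sense of von Neumann. -/
lemma exists_vnr {R : Type u} [CommRing R] [IsReduced R] [Ring.KrullDimLE 0 R] (a : R) : ∃ t, a = a * a * t := by
  let I : Ideal R := (Ideal.span {a * a}).colon ({a} : Set R)
  have hmem : ∀ r, r ∈ I ↔ r * a ∈ Ideal.span {a * a} := fun r => Submodule.mem_colon_singleton.trans (by rw [smul_eq_mul])
  by_cases hI : I = ⊤
  · obtain ⟨t, ht⟩ := Ideal.mem_span_singleton'.mp ((hmem 1).mp (hI ▸ Submodule.mem_top))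
    exact ⟨t, by rw [one_mul] at ht; rw [mul_comm, ht]⟩
  exfalso
  obtain ⟨p, hp, hIp⟩ := Ideal.exists_le_maximal I hI
  haveI := hp
  haveI : Ring.KrullDimLE 0 (Localization.AtPrime p) := by
    rw [Ring.krullDimLE_zero_iff]
    intro q hq
    have h1 := (IsLocalization.AtPrime.orderIsoOfPrime (Localization.AtPrime p) p ⟨q, hq⟩).2
    have h2 := Ring.krullDimLE_zero_iff.mp ‹Ring.KrullDimLE 0 R› _ h1.1
    have h3 : q.under R = p := h2.eq_of_le hp.ne_top h1.2
    have h4 : q = IsLocalRing.maximalIdeal _ := by
      rw [← IsLocalization.map_comap p.primeCompl (Localization.AtPrime p) q, h3, Localization.AtPrime.map_eq_maximalIdeal]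
    rw [h4]
    exact IsLocalRing.maximalIdeal.isMaximal _
  letI := (IsLocalRing.isField_iff_maximalIdeal_eq.mpr (by
    rw [← Ring.KrullDimLE.nilradical_eq_maximalIdeal (Localization.AtPrime p), nilradical_eq_zero]; rfl) :
      IsField (Localization.AtPrime p)).toField
  by_cases h0 : algebraMap R (Localization.AtPrime p) a = 0
  · obtain ⟨⟨u, hu⟩, h⟩ := (IsLocalization.map_eq_zero_iff p.primeCompl _ _).mp h0
    exact hu (hIp ((hmem u).mpr (by rw [show u * a = 0 from h]; exact zero_mem _)))
  · have ha : a ∉ p := (IsLocalization.AtPrime.isUnit_to_map_iff _ p a).mp (Ne.isUnit h0)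
    exact ha (hIp ((hmem a).mpr (Ideal.mem_span_singleton_self _)))

/-- Finitely presented algebras with surjective spectrum have retractions. -/
theorem exists_retraction_absFlat {R : Type u} [CommRing R] [IsReduced R] [Ring.KrullDimLE 0 R]
    (hR : ∀ (p : Ideal R) [p.IsPrime], IsAlgClosed p.ResidueField) (B : Type u) [CommRing B] [Algebra R B]
    [Algebra.FinitePresentation R B] (hB : Function.Surjective (PrimeSpectrum.comap (algebraMap R B))) :
    Nonempty (B →ₐ[R] R) := by
  classical
  obtain ⟨N, π, hπ, hfg⟩ := Algebra.FinitePresentation.out (R := R) (A := B)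
  obtain ⟨rels, hrels⟩ := hfg
  let Sol : R → Prop := fun e => IsIdempotentElem e ∧ ∃ x : Fin N → R, ∀ g ∈ rels, e * MvPolynomial.eval x g = 0
  let J : Ideal R :=
    { carrier := {r | ∃ e, Sol e ∧ r * e = r}
      zero_mem' := ⟨0, ⟨IsIdempotentElem.zero, 0, fun g _ => zero_mul _⟩, zero_mul _⟩
      smul_mem' := fun c r ⟨e, he, hr⟩ => ⟨e, he, by rw [smul_eq_mul, mul_assoc, hr]⟩
      add_mem' := by
        rintro r r' ⟨e, ⟨he, x, hx⟩, hr⟩ ⟨f, ⟨hf, y, hy⟩, hr'⟩
        refine ⟨e + f - e * f, ⟨?_, fun i => e * x i + (1 - e) * y i, fun g hg => ?_⟩, ?_⟩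
        · change _ * _ = _
          have h1 : e * e = e := he
          have h2 : f * f = f := hf
          linear_combination (1 - f) ^ 2 * h1 + (1 - e) * h2
        · have h1 : e * MvPolynomial.eval (fun i => e * x i + (1 - e) * y i) g = e * MvPolynomial.eval x g := by
            have h := congrArg (Ideal.Quotient.mk (Ideal.span {1 - e})) (show e = e from rfl)
            have he' : Ideal.Quotient.mk (Ideal.span {1 - e}) e = 1 := by
              rw [← map_one (Ideal.Quotient.mk (Ideal.span {1 - e})), Ideal.Quotient.eq, Ideal.mem_span_singleton]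
              exact ⟨-1, by ring⟩
            have hq : Ideal.Quotient.mk (Ideal.span {1 - e}) (MvPolynomial.eval (fun i => e * x i + (1 - e) * y i) g) =
                Ideal.Quotient.mk (Ideal.span {1 - e}) (MvPolynomial.eval x g) := by
              simp only [MvPolynomial.eval₂_comp]
              congr 1
              funext i
              simp [he']
            obtain ⟨c, hc⟩ := Ideal.mem_span_singleton'.mp (Ideal.Quotient.eq.mp hq)
            have : e * (1 - e) = 0 := by rw [mul_sub, mul_one, he.eq, sub_self]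
            linear_combination c * this - e * hc
          have h2 : (1 - e) * MvPolynomial.eval (fun i => e * x i + (1 - e) * y i) g =
              (1 - e) * MvPolynomial.eval y g := by
            have he' : Ideal.Quotient.mk (Ideal.span {e}) e = 0 :=
              Ideal.Quotient.eq_zero_iff_mem.mpr (Ideal.mem_span_singleton_self e)
            have hq : Ideal.Quotient.mk (Ideal.span {e}) (MvPolynomial.eval (fun i => e * x i + (1 - e) * y i) g) =
                Ideal.Quotient.mk (Ideal.span {e}) (MvPolynomial.eval y g) := by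
              simp only [MvPolynomial.eval₂_comp]
              congr 1
              funext i
              simp [he']
            obtain ⟨c, hc⟩ := Ideal.mem_span_singleton'.mp (Ideal.Quotient.eq.mp hq)
            have : e * (1 - e) = 0 := by rw [mul_sub, mul_one, he.eq, sub_self]
            linear_combination c * this - (1 - e) * hc
          linear_combination (1 - f) * h1 + f * h1 + f * h2 + hx g hg + (1 - e) * hy g hg
        · linear_combination (1 - f) * hr + (1 - e) * hr' }
  have hJ : J = ⊤ := by
    by_contra h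
    obtain ⟨p, hp, hJp⟩ := Ideal.exists_le_maximal J h
    haveI := hp
    haveI := hR p
    obtain ⟨q, hq⟩ := hB ⟨p, hp.isPrime⟩
    haveI : Nontrivial (p.ResidueField ⊗[R] B) :=
      (PrimeSpectrum.nontrivial_iff_mem_rangeComap ⟨p, hp.isPrime⟩).mpr ⟨q, hq⟩
    obtain ⟨m, hm⟩ := Ideal.exists_maximal (p.ResidueField ⊗[R] B)
    letI := Ideal.Quotient.field m
    haveI : Algebra.FiniteType p.ResidueField ((p.ResidueField ⊗[R] B) ⧸ m) :=
      Algebra.FiniteType.of_surjective (Ideal.Quotient.mkₐ _ m) Ideal.Quotient.mk_surjective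
    haveI : Module.Finite p.ResidueField ((p.ResidueField ⊗[R] B) ⧸ m) :=
      finite_of_finite_type_of_isJacobsonRing p.ResidueField _
    let eκ : p.ResidueField ≃ₐ[p.ResidueField] ((p.ResidueField ⊗[R] B) ⧸ m) :=
      AlgEquiv.ofBijective (Algebra.ofId _ _) IsAlgClosed.algebraMap_bijective_of_isIntegral
    let θ : B →ₐ[R] p.ResidueField :=
      (eκ.symm.toAlgHom.restrictScalars R).comp
        (((Ideal.Quotient.mkₐ p.ResidueField m).restrictScalars R).comp Algebra.TensorProduct.includeRight)
    choose x hx using fun i => Ideal.algebraMap_residueField_surjective p (θ (π (MvPolynomial.X i)))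
    have hmem : ∀ g ∈ rels, MvPolynomial.eval x g ∈ p := fun g hg => by
      rw [← Ideal.algebraMap_residueField_eq_zero (I := p)]
      have h1 : θ.comp π = MvPolynomial.aeval fun i => algebraMap R p.ResidueField (x i) :=
        MvPolynomial.algHom_ext fun i => by simp [hx]
      have h2 := AlgHom.congr_fun h1 g
      rw [AlgHom.comp_apply, show π g = 0 from hrels.le (Submodule.subset_span hg), map_zero,
        show (fun i => algebraMap R p.ResidueField (x i)) = algebraMap R p.ResidueField ∘ x from rfl,
        MvPolynomial.aeval_algebraMap_apply, MvPolynomial.aeval_eq_eval] at h2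
      exact h2.symm
    choose t ht using fun g : R => exists_vnr g
    let e : R := ∏ g ∈ rels, (1 - MvPolynomial.eval x g * t (MvPolynomial.eval x g))
    have he : Sol e := by
      refine ⟨?_, x, fun g hg => ?_⟩
      · change e * e = e
        simp only [e]
        rw [← Finset.prod_mul_distrib]
        refine Finset.prod_congr rfl fun g _ => ?_
        linear_combination (-t (MvPolynomial.eval x g)) * ht (MvPolynomial.eval x g)
      · simp only [e]
        rw [← Finset.prod_erase_mul _ _ hg]
        linear_combination (∏ g ∈ rels.erase g, (1 - MvPolynomial.eval x g * t (MvPolynomial.eval x g))) *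
          ht (MvPolynomial.eval x g)
    have hep : e ∉ p := by
      refine fun hp' => ?_
      obtain ⟨g, hg, hg'⟩ := Ideal.IsPrime.prod_mem_iff.mp hp'
      exact hp.ne_top ((Ideal.eq_top_iff_one p).mpr (by
        simpa using p.add_mem hg' (p.mul_mem_right (t (MvPolynomial.eval x g)) (hmem g hg))))
    exact hep (hJp ⟨e, he, he.1⟩)
  obtain ⟨e, ⟨-, x, hx⟩, he1⟩ := hJ ▸ Submodule.mem_top (R := R) (x := (1 : R))
  rw [one_mul] at he1
  have hker : RingHom.ker π.toRingHom ≤ RingHom.ker (MvPolynomial.aeval x : MvPolynomial (Fin N) R →ₐ[R] R).toRingHom := by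
    rw [← hrels, Ideal.span_le]
    intro g hg
    have := hx g hg
    rw [he1, one_mul] at this
    simpa [MvPolynomial.aeval_eq_eval] using this
  exact ⟨AlgHom.liftOfSurjective π hπ (MvPolynomial.aeval x) hker⟩

variable {S : Scheme.{u}} {R : CommRingCat.{u}} (a : Spec R ⟶ S)

/-- Epimorphisms of sheaves are surjective on sections over a ring all of whose flat coverings split. -/
theorem surjective_base_of_split
    (h : ∀ (B : Type u) [CommRing B] [Algebra R B] [Algebra.FinitePresentation R B],
      Function.Surjective (PrimeSpectrum.comap (algebraMap R B)) → Nonempty (B →ₐ[R] R))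
    {C : ShortComplex (BigSite.Ab Scheme.fppfPrecoverage S)} (hC : C.ShortExact) :
    Function.Surjective (C.g.hom.app (op (baseObj a))) := by
  intro t
  haveI := hC.epi_g
  haveI : Sheaf.IsLocallySurjective C.g := (Sheaf.isLocallySurjective_iff_epi' _ C.g).2 inferInstance
  obtain ⟨n, A, _, _, hfl, hs, hcov, hmem⟩ := AdeqLib.exists_alg_family a
    (Presheaf.imageSieve_mem (QuotSh.J Scheme.fppfPrecoverage S) C.g.hom t)
  haveI := hfl
  haveI : ∀ j, Algebra.FinitePresentation R (A j) := fun j => by
    have h1 := ((AdeqLib.fppf_ofArrows_iff.mp hcov).2 j).2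
    have h2 : LocallyOfFinitePresentation (Spec.map (CommRingCat.ofHom (algebraMap R (A j)))) := h1
    rw [HasRingHomProperty.Spec_iff (P := @LocallyOfFinitePresentation)] at h2
    exact RingHom.finitePresentation_algebraMap.mp h2
  haveI : Algebra.FinitePresentation R (piAlg A) := inferInstance
  obtain ⟨σ⟩ := h (piAlg A) fun p => by
    obtain ⟨j, q, hq⟩ := hs p
    exact ⟨PrimeSpectrum.comap (Pi.evalRingHom A j) q, hq⟩
  let F₂ := algF a C.X₂.obj
  let F₃ := algF a C.X₃.obj
  let g : ∀ D : Alg R, F₂.obj D →+ F₃.obj D := fun D => (C.g.hom.app (op (sp a D))).hom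
  have hg : ∀ {D D' : Alg R} (f : D ⟶ D') (x : F₂.obj D), g D' (F₂.map f x) = F₃.map f (g D x) :=
    fun f x => NatTrans.naturality_apply C.g.hom (spm a f).op x
  obtain ⟨Y, hY⟩ := (AdeqLib.glue_prod C.X₂ a A).2 fun j => (hmem j).choose
  let str : algOf R R ⟶ algOf R (piAlg A) := CommAlgCat.ofHom (Algebra.ofId R (piAlg A))
  have hYt : g _ Y = F₃.map str t := (AdeqLib.glue_prod C.X₃ a A).1 _ _ fun j => by
    change F₃.map (prj A j) (g _ Y) = F₃.map (prj A j) (F₃.map str t)
    rw [← hg, hY, ← ConcreteCategory.comp_apply, ← Functor.map_comp]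
    refine ((hmem j).choose_spec).trans ?_
    change F₃.map (strMap A j) t = F₃.map (str ≫ prj A j) t
    exact congrArg (fun q : algOf R R ⟶ algOf R (A j) => F₃.map q t) (AdeqLib.ofId_prj A j).symm
  refine ⟨F₂.map (CommAlgCat.ofHom σ : algOf R (piAlg A) ⟶ algOf R R) Y, ?_⟩
  refine (hg _ Y).trans ?_
  rw [hYt, ← ConcreteCategory.comp_apply, ← Functor.map_comp,
    show str ≫ (CommAlgCat.ofHom σ : algOf R (piAlg A) ⟶ algOf R R) = 𝟙 _ from
      CommAlgCat.hom_ext (@Subsingleton.elim (R →ₐ[R] R) _ _ _)]
  exact ConcreteCategory.congr_hom (F₃.map_id (algOf R R)) t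

/-- No higher cohomology over rings all of whose flat coverings split. -/
theorem subsingleton_H_of_split
    (h : ∀ (B : Type u) [CommRing B] [Algebra R B] [Algebra.FinitePresentation R B],
      Function.Surjective (PrimeSpectrum.comap (algebraMap R B)) → Nonempty (B →ₐ[R] R)) (p : ℕ) :
    ∀ G : BigSite.Ab Scheme.fppfPrecoverage (Spec R),
      Subsingleton (BigSite.H Scheme.fppfPrecoverage (Spec R) G (p + 1)) := by
  have hT : IsTerminal (Over.mk (𝟙 (Spec R))) := Over.mkIdTerminal
  induction p with
  | zero =>
    intro G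
    refine SiteCoh.subsingleton_ext_one_of_lift (SiteCoh.embedSeq_shortExact G) _ fun φ => ?_
    let Q := (SiteCoh.embedSeq G).X₃
    let e : baseObj (𝟙 (Spec R)) ≅ Over.mk (𝟙 (Spec R)) := Over.isoMk (Iso.refl _) (by
      change 𝟙 _ ≫ 𝟙 _ = Spec.map (CommRingCat.ofHom (algebraMap R R)) ≫ 𝟙 _
      exact (congrArg (· ≫ _) (Spec.map_id R)).symm)
    let x := Sheaf.H.equiv₀ Q hT (Abelian.Ext.mk₀ φ)
    obtain ⟨t, ht⟩ := surjective_base_of_split (𝟙 (Spec R)) h (SiteCoh.embedSeq_shortExact G) (Q.obj.map e.hom.op x)
    let t' := (SiteCoh.embedSeq G).X₂.obj.map e.inv.op t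
    have ht' : (SiteCoh.embedSeq G).g.hom.app _ t' = x := by
      refine (NatTrans.naturality_apply (SiteCoh.embedSeq G).g.hom e.inv.op t).trans ?_
      refine (congrArg (Q.obj.map e.inv.op) ht).trans ?_
      rw [← ConcreteCategory.comp_apply, ← Functor.map_comp, ← op_comp, e.inv_hom_id, op_id, Q.obj.map_id]
      rfl
    refine ⟨Abelian.Ext.addEquiv₀ ((Sheaf.H.equiv₀ _ hT).symm t'), ?_⟩
    rw [← Sheaf.H.addEquiv₀_map, Sheaf.H.equiv₀_symm_naturality, ht', AddEquiv.symm_apply_apply]
    exact Abelian.Ext.addEquiv₀.symm.injective (AddEquiv.symm_apply_apply _ _)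
  | succ p ih =>
    intro G
    haveI := ih (SiteCoh.embedSeq G).X₃
    exact SiteCoh.subsingleton_ext_succ (SiteCoh.embedSeq_shortExact G) _ (p + 1)

end Groth.Agent.BigSiteLib
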