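import Groth.Agent.BigSiteLib.SmSol

/-!
Smooth commutative group schemes have étale locally exact Amitsur complexes.
-/

set_option autoImplicit false
set_option linter.style.haveILetI false
set_option backward.isDefEq.respectTransparency false
set_option backward.defeqAttrib.useBackward true
universe u

noncomputable section

namespace Groth.Agent.BigSiteLib

open CategoryTheory Limits Opposite AlgebraicGeometry MonObj MonoidalCategory CartesianMonoidalCategory

variable {S : Scheme.{u}} (G : Over S) [GrpObj G] [IsCommMonObj G]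

/-- The unit section has an affine chart over a neighbourhood of each point of the base. -/
lemma exists_chart_nhd (s : S) : ∃ (S₀ : S.Opens) (U : G.left.Opens), IsAffineOpen S₀ ∧ IsAffineOpen U ∧ s ∈ S₀ ∧
    U ≤ G.hom ⁻¹ᵁ S₀ ∧ ∀ x ∈ S₀, (η[G]).left x ∈ U := by
  have he : ∀ x : S, G.hom ((η[G]).left x) = x := fun x => congr($(Over.w η[G]) x)
  obtain ⟨S₁, hS₁, hs₁, -⟩ := exists_isAffineOpen_mem_and_subset (U := (⊤ : S.Opens)) (x := s) trivial
  obtain ⟨A, hA, hA₁, hA₂⟩ := exists_isAffineOpen_mem_and_subset (U := G.hom ⁻¹ᵁ S₁) (x := (η[G]).left s)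
    (by change G.hom _ ∈ S₁; rw [he]; exact hs₁)
  let W : S.Opens := ⟨(η[G]).left ⁻¹' (A : Set G.left), A.isOpen.preimage (η[G]).left.continuous⟩
  obtain ⟨r, hr, hsr⟩ := hS₁.exists_basicOpen_le (V := W) ⟨s, hA₁⟩ hs₁
  refine ⟨S.basicOpen r, A ⊓ G.hom ⁻¹ᵁ S.basicOpen r, hS₁.basicOpen r, ?_, hsr, inf_le_right,
    fun x hx => ⟨hr hx, by change G.hom _ ∈ S.basicOpen r; rw [he]; exact hx⟩⟩
  rw [Scheme.preimage_basicOpen, ← Scheme.basicOpen_res _ _ (homOfLE hA₂).op]
  exact hA.basicOpen _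

/-- Every point of a scheme over the base has an affine neighbourhood with a chart of the unit. -/
lemma exists_unitChart {U : Scheme.{u}} (u : U ⟶ S) (z : U) :
    ∃ W : U.Opens, z ∈ W ∧ IsAffineOpen W ∧ Nonempty (UnitChart (W.ι ≫ u) G) := by
  obtain ⟨S₀, A, hS₀, hA, hz, hle, he⟩ := exists_chart_nhd G (u z)
  obtain ⟨W, hW, hzW, hWle⟩ := exists_isAffineOpen_mem_and_subset (U := u ⁻¹ᵁ S₀) (x := z) hz
  refine ⟨W, hzW, hW, ⟨⟨S₀, hS₀, A, hA, hle, u.resLE S₀ W hWle, Scheme.Hom.resLE_comp_ι u hWle, fun x => ?_⟩⟩⟩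
  exact he _ (hWle x.2)

/-- All Amitsur complexes of a smooth commutative group scheme are étale locally exact. -/
theorem acyc_pts [Smooth G.hom] : Acyc (CGrpSh.pts Scheme.fppfPrecoverage G) := by
  intro T t V p _ _ _ _ n U c hc
  let P := resPsh t (CGrpSh.pts Scheme.fppfPrecoverage G)
  let cP := tP t G p (n + 1) U c
  have hcP : dPt t G p (n + 1) U cP = 0 := by
    rw [← tP_dd]
    exact (congrArg (tP t G p (n + 2) U) hc).trans (map_zero _)
  let R : Sieve U :=
    { arrows := fun U' g => ∃ b, (dd p n P).app (op U') b = ((Cp p).obj (it p n P)).map g.op c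
      downward_closed := by
        rintro U' U'' g ⟨b, hb⟩ k
        refine ⟨(it p n P).map k.op b, ?_⟩
        refine (ConcreteCategory.congr_hom ((dd p n P).naturality k.op) b).trans ?_
        refine (congrArg (((Cp p).obj (it p n P)).map k.op) hb).trans ?_
        exact (ConcreteCategory.congr_hom (((Cp p).obj (it p n P)).map_comp g.op k.op) c).symm }
  refine ⟨R, mem_J_of_nhds R fun z => ?_, fun U' g hg => hg⟩
  obtain ⟨W, hzW, hW, ⟨C⟩⟩ := exists_unitChart G (U.hom ≫ t) z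
  haveI : IsAffine W.toScheme := hW
  let v : W.toScheme ⟶ T := W.ι ≫ U.hom
  have hv : W.ι ≫ U.hom ≫ t = v ≫ t := (Category.assoc _ _ _).symm
  let C' : UnitChart (v ≫ t) G := hv ▸ C
  let p' := pb' p v
  haveI : IsFinite p' := MorphismProperty.pullback_fst _ _ ‹_›
  haveI : Flat p' := MorphismProperty.pullback_fst _ _ ‹_›
  haveI : LocallyOfFinitePresentation p' := MorphismProperty.pullback_fst _ _ ‹_›
  haveI : Surjective p' := MorphismProperty.pullback_fst _ _ ‹_›
  let Y₀ : Over W.toScheme := Over.mk (𝟙 _)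
  haveI : IsAffine Y₀.left := hW
  let j : (Over.map v).obj Y₀ ⟶ U := Over.homMk W.ι (by change W.ι ≫ U.hom = 𝟙 _ ≫ v; rw [Category.id_comp])
  obtain ⟨c₁, hc₁⟩ := (thP_bijective t G p v (n + 1) Y₀).2 (rP t G (pbnMap p (n + 1) j) cP)
  have hc₁' : dPt (v ≫ t) G p' (n + 1) Y₀ c₁ = 0 := by
    apply (thP_bijective t G p v (n + 2) Y₀).1
    rw [map_zero, thP_dPt, hc₁, ← dPt_natural, hcP, map_zero]
  obtain ⟨Z, k, x, hx, hk, ⟨y, hy⟩⟩ := exists_etale_pts_sol p' C' n Y₀ c₁ hc₁' (⟨z, hzW⟩ : W.toScheme)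
  obtain ⟨b, hb⟩ := (tP t G p n ((Over.map v).obj Z)).surjective (thP t G p v n Z x)
  refine ⟨(Over.map v).obj Z, (Over.map v).map k ≫ j, ⟨b, ?_⟩, ?_, y, ?_⟩
  · apply (tP t G p (n + 1) _).injective
    rw [tP_dd, hb, ← thP_dPt, hx, ← thP_map, hc₁, rP_rP, ← pbnMap_comp]
    exact (tP_map t G p (n + 1) _ c).symm
  · haveI := hk
    exact inferInstanceAs (Etale (k.left ≫ W.ι))
  · exact congrArg W.ι hy

end Groth.Agent.BigSiteLib
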