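import Groth.Agent.BigSiteLib.SmNilMain
import Groth.Agent.BigSiteLib.SmAbsFlat
import Mathlib.RingTheory.PiTensorProduct

/-!
Flat cohomology of smooth commutative group schemes over tensor powers of an algebraic closure.
-/

set_option autoImplicit false
set_option linter.style.haveILetI false
set_option backward.isDefEq.respectTransparency false
set_option linter.auxLemma false
universe u

noncomputable section

namespace Groth.Agent.BigSiteLib

open CategoryTheory Limits Opposite AlgebraicGeometry
open scoped _root_.TensorProduct

attribute [local instance 100000] EtCoh.H._proof_1 EtMV.hext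
attribute [local instance 200000] EtMV.hextAb

variable (k : Type u) [Field k] (n : ℕ)

/-- The tensor power. -/
abbrev algPow : Type u := PiTensorProduct k (fun _ : Fin n => AlgebraicClosure k)

lemma isIntegral_algPow : Algebra.IsIntegral k (algPow k n) := by
  refine ⟨fun z => ?_⟩
  induction z using PiTensorProduct.induction_on with
  | smul_tprod r x =>
    refine IsIntegral.smul r ?_
    rw [← Finset.univ_prod_mulSingle x, PiTensorProduct.tprod_prod]
    refine IsIntegral.prod _ fun i _ => ?_
    exact (Algebra.IsIntegral.isIntegral (R := k) (x i)).map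
      (PiTensorProduct.singleAlgHom (R := k) (A := fun _ : Fin n => AlgebraicClosure k) i)
  | add x y hx hy => exact hx.add hy

lemma isAlgClosed_residueField_red (hn : 0 < n) (p : Ideal (algPow k n ⧸ nilradical (algPow k n))) [p.IsPrime] :
    IsAlgClosed p.ResidueField := by
  let A := algPow k n
  haveI := isIntegral_algPow k n
  haveI : Algebra.IsIntegral k (A ⧸ nilradical A) :=
    ⟨fun z => by
      obtain ⟨z, rfl⟩ := Ideal.Quotient.mk_surjective z
      exact (Algebra.IsIntegral.isIntegral (R := k) z).map (Ideal.Quotient.mkₐ k (nilradical A))⟩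
  haveI : p.IsMaximal :=
    Ideal.isMaximal_of_isIntegral_of_isMaximal_comap p (Ideal.isMaximal_of_isPrime (R := k) _)
  let f : (A ⧸ nilradical A) →ₐ[k] p.ResidueField := IsScalarTower.toAlgHom k _ _
  have hf : Function.Surjective f := Ideal.algebraMap_residueField_surjective p
  haveI : Algebra.IsIntegral k p.ResidueField :=
    ⟨fun z => by
      obtain ⟨z, rfl⟩ := hf z
      exact (Algebra.IsIntegral.isIntegral (R := k) z).map f⟩
  let g : AlgebraicClosure k →ₐ[k] p.ResidueField :=
    f.comp ((Ideal.Quotient.mkₐ k (nilradical A)).comp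
      (PiTensorProduct.singleAlgHom (R := k) (A := fun _ : Fin n => AlgebraicClosure k) ⟨0, hn⟩))
  letI := g.toRingHom.toAlgebra
  haveI : IsScalarTower k (AlgebraicClosure k) p.ResidueField := IsScalarTower.of_algebraMap_eq fun r => (g.commutes r).symm
  haveI : Algebra.IsIntegral (AlgebraicClosure k) p.ResidueField := Algebra.IsIntegral.tower_top k
  exact IsAlgClosed.of_ringEquiv _ _
    (RingEquiv.ofBijective (algebraMap (AlgebraicClosure k) p.ResidueField) IsAlgClosed.algebraMap_bijective_of_isIntegral)

/-- Vanishing over tensor powers of an algebraic closure. -/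
theorem subsingleton_H_algPow (G : Over (Spec (CommRingCat.of k))) [GrpObj G] [IsCommMonObj G] [Smooth G.hom]
    (hn : 0 < n) (j : ℕ) :
    Subsingleton (BigSite.H Scheme.fppfPrecoverage (Spec (CommRingCat.of (algPow k n)))
      (ptsT (Spec.map (CommRingCat.ofHom (algebraMap k (algPow k n)))) G) (j + 1)) := by
  let A := algPow k n
  haveI := isIntegral_algPow k n
  haveI : Ring.KrullDimLE 0 A := Ring.KrullDimLE.mk₀ fun I hI =>
    Ideal.isMaximal_of_isIntegral_of_isMaximal_comap (R := k) I (Ideal.isMaximal_of_isPrime _)
  let Q : CommRingCat.{u} := CommRingCat.of (A ⧸ nilradical A)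
  haveI : _root_.IsReduced Q := (Ideal.isRadical_iff_quotient_reduced _).1 (Ideal.radical_isRadical _)
  haveI : Ring.KrullDimLE 0 Q := Ring.KrullDimLE.mk₀ fun I hI => by
    haveI := hI
    have hm : (I.comap (Ideal.Quotient.mk (nilradical A))).IsMaximal := Ideal.isMaximal_of_isPrime _
    rw [← Ideal.map_comap_of_surjective _ Ideal.Quotient.mk_surjective I]
    refine (Ideal.map_eq_top_or_isMaximal_of_surjective _ Ideal.Quotient.mk_surjective hm).resolve_left ?_
    rw [Ideal.map_comap_of_surjective _ Ideal.Quotient.mk_surjective]
    exact hI.ne_top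
  let π := CommRingCat.ofHom (Ideal.Quotient.mk (nilradical A))
  let i := Spec.map π
  haveI : IsClosedImmersion i := IsClosedImmersion.spec_of_surjective π Ideal.Quotient.mk_surjective
  have hnil : ∀ r, i.appTop r = 0 → IsNilpotent r := fun r hr => by
    have h := congr($(Scheme.ΓSpecIso_naturality π) r)
    have h2 : IsNilpotent ((Scheme.ΓSpecIso (CommRingCat.of A)).hom r) :=
      mem_nilradical.mp (Ideal.Quotient.eq_zero_iff_mem.mp
        (h.symm.trans ((congrArg (Scheme.ΓSpecIso Q).hom hr).trans (map_zero _))))
    exact (IsNilpotent.map_iff (Scheme.ΓSpecIso (CommRingCat.of A)).commRingCatIsoToRingEquiv.injective).mp h2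
  haveI : Surjective i := surjective_of_ker_nil _ hnil
  have h0 := subsingleton_H_of_split (R := Q)
    (fun B _ _ _ hB => exists_retraction_absFlat (R := (Q : Type u)) (fun p _ => isAlgClosed_residueField_red k n hn p) B hB)
    j ((BigSite.pullBig Scheme.fppfPrecoverage i AddCommGrpCat.{u + 1}).obj
      (ptsT (Spec.map (CommRingCat.ofHom (algebraMap k A))) G))
  exact (bijective_pull_pts (Spec.map (CommRingCat.ofHom (algebraMap k A))) G i hnil j).1.subsingleton

end Groth.Agent.BigSiteLib
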