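import Groth.Agent.BigSiteLib.SmPts

/-!
Points near the unit section: the infinitesimal chart of a commutative group scheme.
-/

set_option autoImplicit false
set_option linter.style.haveILetI false
set_option backward.isDefEq.respectTransparency false
set_option backward.defeqAttrib.useBackward true
universe u

noncomputable section

namespace Groth.Agent.BigSiteLib

open CategoryTheory Limits Opposite AlgebraicGeometry MonObj MonoidalCategory CartesianMonoidalCategory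

section General

lemma appTop_comp_apply {X Y Z : Scheme.{u}} (f : X ⟶ Y) (g : Y ⟶ Z) (a : Γ(Z, ⊤)) :
    (f ≫ g).appTop a = f.appTop (g.appTop a) := by
  rw [Scheme.Hom.comp_appTop]
  rfl

lemma rg_str {T : Scheme.{u}} {Y Y' : Over T} (g : Y' ⟶ Y) (r : Γ(T, ⊤)) :
    rg g (Y.hom.appTop r) = Y'.hom.appTop r := by
  change g.left.appTop (Y.hom.appTop r) = _
  rw [← appTop_comp_apply, Over.w]

/-- Morphisms to an affine scheme over an affine base from maps of functions. -/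
lemma exists_mor {X O S₀ : Scheme.{u}} [IsAffine O] [IsAffine S₀] (σ : O ⟶ S₀) (h : X ⟶ S₀)
    (φ : Γ(O, ⊤) →+* Γ(X, ⊤)) (hφ : ∀ r, φ (σ.appTop r) = h.appTop r) :
    ∃ y : X ⟶ O, y ≫ σ = h ∧ ∀ a, y.appTop a = φ a := by
  let y : X ⟶ O := X.toSpecΓ ≫ Spec.map (CommRingCat.ofHom φ) ≫ O.isoSpec.inv
  have e : O.isoSpec.inv.appTop = (Scheme.ΓSpecIso Γ(O, ⊤)).inv := by
    rw [← cancel_mono (Scheme.ΓSpecIso Γ(O, ⊤)).hom, Iso.inv_hom_id, ← Scheme.toSpecΓ_appTop,
      ← Scheme.Hom.comp_appTop]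
    change (O.isoSpec.hom ≫ O.isoSpec.inv).appTop = _
    rw [Iso.hom_inv_id]
    rfl
  have hy : y.appTop = CommRingCat.ofHom φ := by
    rw [Scheme.Hom.comp_appTop, Scheme.Hom.comp_appTop, e, Scheme.toSpecΓ_appTop, Category.assoc,
      Scheme.ΓSpecIso_naturality]
    exact Iso.inv_hom_id_assoc (Scheme.ΓSpecIso Γ(O, ⊤)) _
  refine ⟨y, ext_of_isAffine ?_, fun a => congr($hy a)⟩
  ext r
  rw [appTop_comp_apply, hy]
  exact hφ r

variable {T : Scheme.{u}} {Y Y₀ : Over T}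

lemma isClosedImmersion_of_sqZero [IsAffine Y.left] [IsAffine Y₀.left] {g : Y₀ ⟶ Y} (hg : SqZero g) :
    IsClosedImmersion g.left :=
  IsClosedImmersion.of_surjective_of_isAffine g.left hg.1

lemma surjective_of_sqZero [IsAffine Y.left] [IsAffine Y₀.left] {g : Y₀ ⟶ Y} (hg : SqZero g) :
    Function.Surjective g.left := by
  intro y
  have hs : Function.Surjective (PrimeSpectrum.comap (g.left.appTop).hom) := fun q => by
    have hq : q ∈ Set.range (PrimeSpectrum.comap (g.left.appTop).hom) := by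
      rw [range_comap_of_surjective _ _ hg.1, PrimeSpectrum.mem_zeroLocus]
      intro a ha
      have h0 : a * a = 0 := hg.2 a a ha ha
      exact (q.isPrime.mem_or_mem (h0 ▸ zero_mem q.asIdeal)).elim id id
    exact hq
  obtain ⟨q, hq⟩ := hs (Y.left.isoSpec.hom y)
  refine ⟨Y₀.left.isoSpec.inv q, ?_⟩
  rw [← Scheme.Hom.comp_apply, ← Scheme.isoSpec_inv_naturality, Scheme.Hom.comp_apply]
  refine (congrArg Y.left.isoSpec.inv hq).trans ?_
  exact congr($(Y.left.isoSpec.hom_inv_id) y)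

end General

variable {S T : Scheme.{u}} (t : T ⟶ S) (G : Over S) [GrpObj G] [IsCommMonObj G]

/-- An affine open neighbourhood of the unit section over an affine part of the base. -/
structure UnitChart where
  S₀ : S.Opens
  hS₀ : IsAffineOpen S₀
  U : G.left.Opens
  hU : IsAffineOpen U
  hUS : U ≤ G.hom ⁻¹ᵁ S₀
  t₀ : T ⟶ S₀.toScheme
  ht : t₀ ≫ S₀.ι = t
  he : ∀ x : T, (t ≫ (η[G]).left) x ∈ U

namespace UnitChart

variable {t G} (C : UnitChart t G)

/-- The chart. -/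
abbrev O : Scheme.{u} := C.U.toScheme

/-- The affine base. -/
abbrev B₀ : Scheme.{u} := C.S₀.toScheme

instance : IsAffine C.O := C.hU

instance : IsAffine C.B₀ := C.hS₀

/-- The structure map of the chart. -/
abbrev σU : C.O ⟶ C.B₀ := G.hom.resLE C.S₀ C.U C.hUS

/-- The unit section in the chart. -/
def eT : T ⟶ C.O :=
  IsOpenImmersion.lift C.U.ι (t ≫ (η[G]).left) (by
    rw [Scheme.Opens.range_ι]
    rintro _ ⟨x, rfl⟩
    exact C.he x)

lemma eT_ι : C.eT ≫ C.U.ι = t ≫ (η[G]).left := IsOpenImmersion.lift_fac _ _ _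

lemma eT_σU : C.eT ≫ C.σU = C.t₀ := by
  rw [← cancel_mono C.S₀.ι, Category.assoc, Scheme.Hom.resLE_comp_ι, ← Category.assoc, eT_ι, Category.assoc, C.ht]
  exact (congrArg (t ≫ ·) (Over.w η[G])).trans (Category.comp_id t)

/-- The unit on functions. -/
abbrev eps : Γ(C.O, ⊤) →+* Γ(T, ⊤) := C.eT.appTop.hom

lemma eps_σU (r : Γ(C.B₀, ⊤)) : C.eps (C.σU.appTop r) = C.t₀.appTop r := by
  change C.eT.appTop _ = _
  rw [← appTop_comp_apply, eT_σU]

/-- A point factoring through the chart, in coordinates relative to the unit. -/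
def Log {Z : Over T} (x : Pts t G Z) (D : Γ(C.O, ⊤) → Gam Z) : Prop :=
  ∃ y : Z.left ⟶ C.O, y ≫ C.U.ι = pl t G x ∧ ∀ a, y.appTop a = Z.hom.appTop (C.eps a) + D a

variable {C} {Z : Over T}

lemma Log.eq {x x' : Pts t G Z} {D : Γ(C.O, ⊤) → Gam Z} (h : C.Log x D) (h' : C.Log x' D) : x = x' := by
  obtain ⟨y, hy, ha⟩ := h
  obtain ⟨y', hy', ha'⟩ := h'
  refine pts_ext ?_
  rw [← hy, ← hy', show y = y' from ext_of_isAffine (by ext a; rw [ha, ha'])]

lemma Log.unique {x : Pts t G Z} {D D' : Γ(C.O, ⊤) → Gam Z} (h : C.Log x D) (h' : C.Log x D') : D = D' := by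
  obtain ⟨y, hy, ha⟩ := h
  obtain ⟨y', hy', ha'⟩ := h'
  have e : y = y' := by rw [← cancel_mono C.U.ι, hy, hy']
  funext a
  exact add_left_cancel ((ha a).symm.trans (e ▸ ha' a))

variable (C) in
lemma log_zero (Z : Over T) : C.Log (0 : Pts t G Z) (fun _ => 0) := by
  refine ⟨Z.hom ≫ C.eT, ?_, fun a => ?_⟩
  · rw [Category.assoc, eT_ι, pl_zero]
  · rw [appTop_comp_apply, add_zero]

lemma Log.map {x : Pts t G Z} {D : Γ(C.O, ⊤) → Gam Z} (h : C.Log x D) {Z' : Over T} (g : Z' ⟶ Z) :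
    C.Log (rP t G g x) fun a => rg g (D a) := by
  obtain ⟨y, hy, ha⟩ := h
  refine ⟨g.left ≫ y, by rw [Category.assoc, hy, pl_rP], fun a => ?_⟩
  rw [appTop_comp_apply, ha, map_add]
  exact congrArg (· + _) (rg_str g _)

lemma Log.w {x : Pts t G Z} {D : Γ(C.O, ⊤) → Gam Z} (h : C.Log x D) :
    (∀ a b, D (a + b) = D a + D b) ∧ D 1 = 0 ∧ (∀ r, D (C.σU.appTop r) = 0) ∧
      ∀ a b, D (a * b) = Z.hom.appTop (C.eps a) * D b + Z.hom.appTop (C.eps b) * D a + D a * D b := by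
  obtain ⟨y, hy, ha⟩ := h
  have hw : y ≫ C.σU = Z.hom ≫ C.t₀ := by
    rw [← cancel_mono C.S₀.ι, Category.assoc, Scheme.Hom.resLE_comp_ι, ← Category.assoc, hy, pl_w, Category.assoc, C.ht]
  refine ⟨fun a b => ?_, ?_, fun r => ?_, fun a b => ?_⟩
  · have := map_add y.appTop.hom a b
    rw [ha, ha, ha, map_add, map_add] at this
    linear_combination this
  · have := map_one y.appTop.hom
    rw [ha, map_one, map_one] at this
    linear_combination this
  · have := ha (C.σU.appTop r)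
    rw [← appTop_comp_apply, hw, appTop_comp_apply, eps_σU] at this
    linear_combination -this
  · have := map_mul y.appTop.hom a b
    rw [ha, ha, ha, map_mul, map_mul] at this
    linear_combination this

/-- Coordinates give a point. -/
lemma exists_log (D : Γ(C.O, ⊤) → Gam Z) (h1 : ∀ a b, D (a + b) = D a + D b) (h2 : D 1 = 0)
    (h3 : ∀ r, D (C.σU.appTop r) = 0)
    (h4 : ∀ a b, D (a * b) = Z.hom.appTop (C.eps a) * D b + Z.hom.appTop (C.eps b) * D a)
    (h5 : ∀ a b, D a * D b = 0) : ∃ x, C.Log x D := by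
  have h0 : D 0 = 0 := by
    have := h1 0 0
    rw [add_zero] at this
    linear_combination -this
  let φ : Γ(C.O, ⊤) →+* Gam Z :=
    { toFun := fun a => Z.hom.appTop (C.eps a) + D a
      map_one' := by rw [map_one, map_one, h2, add_zero]
      map_mul' := fun a b => by rw [map_mul, map_mul, h4]; linear_combination -h5 a b
      map_zero' := by rw [map_zero, map_zero, h0, add_zero]
      map_add' := fun a b => by rw [map_add, map_add, h1]; ring }
  obtain ⟨y, hy, ha⟩ := exists_mor C.σU (Z.hom ≫ C.t₀) φ fun r => by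
    change Z.hom.appTop (C.eps (C.σU.appTop r)) + D _ = _
    rw [eps_σU, h3, add_zero, appTop_comp_apply]
  refine ⟨mkP t G (y ≫ C.U.ι) ?_, y, rfl, ha⟩
  rw [Category.assoc, ← Scheme.Hom.resLE_comp_ι G.hom C.hUS, ← Category.assoc, hy, Category.assoc, C.ht]

variable [IsAffine Z.left] {Z₀ : Over T} [IsAffine Z₀.left] {g : Z₀ ⟶ Z} (hg : SqZero g)

include hg in
/-- Infinitesimal points at the unit lie in the chart. -/
lemma exists_log_of_ker (x : Pts t G Z) (hx : rP t G g x = 0) :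
    ∃ D, C.Log x D ∧ ∀ a, rg g (D a) = 0 := by
  have hr : Set.range (pl t G x) ⊆ Set.range C.U.ι := by
    rw [Scheme.Opens.range_ι]
    rintro _ ⟨z, rfl⟩
    obtain ⟨z₀, rfl⟩ := surjective_of_sqZero hg z
    rw [← Scheme.Hom.comp_apply, ← pl_rP, hx, pl_zero]
    exact C.he _
  let y := IsOpenImmersion.lift C.U.ι (pl t G x) hr
  refine ⟨fun a => y.appTop a - Z.hom.appTop (C.eps a),
    ⟨y, IsOpenImmersion.lift_fac _ _ _, fun a => (add_sub_cancel _ _).symm⟩, ?_⟩
  have h : C.Log x fun a => y.appTop a - Z.hom.appTop (C.eps a) :=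
    ⟨y, IsOpenImmersion.lift_fac _ _ _, fun a => (add_sub_cancel _ _).symm⟩
  have h' := h.map g
  rw [hx] at h'
  exact fun a => congrFun (h'.unique (C.log_zero Z₀)) a

section Triple

variable (g) in
/-- Triples with the same reduction. -/
def Tri : Subring (Gam Z × Gam Z × Gam Z) where
  carrier := {l | rg g l.1 = rg g l.2.2 ∧ rg g l.2.1 = rg g l.2.2}
  one_mem' := ⟨rfl, rfl⟩
  zero_mem' := ⟨rfl, rfl⟩
  add_mem' := fun {a b} ha hb => ⟨by simp [map_add, ha.1, hb.1], by simp [map_add, ha.2, hb.2]⟩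
  mul_mem' := fun {a b} ha hb => ⟨by simp [map_mul, ha.1, hb.1], by simp [map_mul, ha.2, hb.2]⟩
  neg_mem' := fun {a} ha => ⟨by simp [map_neg, ha.1], by simp [map_neg, ha.2]⟩

instance : Algebra (Gam Z) (Tri g) :=
  RingHom.toAlgebra
    { toFun := fun b => ⟨(b, b, b), rfl, rfl⟩
      map_one' := rfl
      map_mul' := fun _ _ => rfl
      map_zero' := rfl
      map_add' := fun _ _ => rfl }

variable (g) in
/-- The first projection. -/
def tr₁ : Tri g →ₐ[Gam Z] Gam Z where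
  toFun l := l.val.1
  map_one' := rfl
  map_mul' _ _ := rfl
  map_zero' := rfl
  map_add' _ _ := rfl
  commutes' _ := rfl

variable (g) in
/-- The second projection. -/
def tr₂ : Tri g →ₐ[Gam Z] Gam Z where
  toFun l := l.val.2.1
  map_one' := rfl
  map_mul' _ _ := rfl
  map_zero' := rfl
  map_add' _ _ := rfl
  commutes' _ := rfl

variable (g) in
/-- The third projection. -/
def tr₃ : Tri g →ₐ[Gam Z] Gam Z where
  toFun l := l.val.2.2
  map_one' := rfl
  map_mul' _ _ := rfl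
  map_zero' := rfl
  map_add' _ _ := rfl
  commutes' _ := rfl

/-- The sum. -/
def trS (hg : SqZero g) : Tri g →ₐ[Gam Z] Gam Z where
  toFun l := l.val.1 + l.val.2.1 - l.val.2.2
  map_one' := by simp
  map_mul' l m := by
    have k : ∀ x y : Gam Z, rg g x = rg g y → rg g (x - y) = 0 := fun x y h => by rw [map_sub, h, sub_self]
    have e1 := hg.2 _ _ (k _ _ l.2.1) (k _ _ m.2.2)
    have e2 := hg.2 _ _ (k _ _ l.2.2) (k _ _ m.2.1)
    simp only [Subring.coe_mul, Prod.fst_mul, Prod.snd_mul]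
    linear_combination -(e1 + e2)
  map_zero' := by simp
  map_add' l m := by
    simp only [Subring.coe_add, Prod.fst_add, Prod.snd_add]
    ring
  commutes' b := by
    change b + b - b = _
    simp

/-- The point of an algebra map. -/
def sec (π : Tri g →ₐ[Gam Z] Gam Z) : Z ⟶ algObj Z (Tri g) :=
  (Over.homMk Z.left.isoSpec.hom (by
    change Z.left.isoSpec.hom ≫ (Spec.map (CommRingCat.ofHom (algebraMap (Gam Z) (Gam Z))) ≫ _) ≫ Z.hom = Z.hom
    simp [Algebra.algebraMap_self]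
    exact Iso.hom_inv_id_assoc Z.left.isoSpec _) : Z ⟶ algObj Z (Gam Z)) ≫ algMap Z π

lemma rg_sec (π : Tri g →ₐ[Gam Z] Gam Z) (x : Gam (algObj Z (Tri g))) :
    rg (sec π) x = π (pig Z (Tri g) x) := by
  rw [sec, ← rg_rg]
  refine Eq.trans ?_ (pig_natural Z π x)
  exact congr($(Scheme.toSpecΓ_appTop Z.left) (rg (algMap Z π) x))

lemma tri_ext {x x' : Gam (algObj Z (Tri g))} (h1 : rg (sec (tr₁ g)) x = rg (sec (tr₁ g)) x')
    (h2 : rg (sec (tr₂ g)) x = rg (sec (tr₂ g)) x') (h3 : rg (sec (tr₃ g)) x = rg (sec (tr₃ g)) x') : x = x' := by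
  rw [rg_sec, rg_sec] at h1 h2 h3
  exact (pig Z (Tri g)).injective (Subtype.ext (Prod.ext h1 (Prod.ext h2 h3)))

lemma sqZero_sec₃ (hg : SqZero g) : SqZero (sec (tr₃ g)) := by
  refine ⟨fun b => ⟨(pig Z (Tri g)).symm (algebraMap _ _ b), by rw [rg_sec, RingEquiv.apply_symm_apply]; rfl⟩,
    fun x y hx hy => ?_⟩
  rw [rg_sec] at hx hy
  apply (pig Z (Tri g)).injective
  rw [map_mul, map_zero]
  have k : ∀ l : Tri g, l.val.2.2 = 0 → rg g l.val.1 = 0 ∧ rg g l.val.2.1 = 0 := fun l h => by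
    obtain ⟨a, b⟩ := l.2
    rw [h, map_zero] at a b
    exact ⟨a, b⟩
  refine Subtype.ext (Prod.ext ?_ (Prod.ext ?_ ?_))
  · exact hg.2 _ _ (k _ hx).1 (k _ hy).1
  · exact hg.2 _ _ (k _ hx).2 (k _ hy).2
  · exact (congrArg (· * _) hx).trans (zero_mul _)

include hg in
/-- A pair of infinitesimal points as one point on triples. -/
lemma exists_triple {x₁ x₂ : Pts t G Z} {D₁ D₂ : Γ(C.O, ⊤) → Gam Z} (h₁ : C.Log x₁ D₁) (h₂ : C.Log x₂ D₂)
    (k₁ : ∀ a, rg g (D₁ a) = 0) (k₂ : ∀ a, rg g (D₂ a) = 0) :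
    ∃ P, rP t G (sec (tr₁ g)) P = x₁ ∧ rP t G (sec (tr₂ g)) P = x₂ ∧ rP t G (sec (tr₃ g)) P = 0 ∧
      C.Log (rP t G (sec (trS hg)) P) (fun a => D₁ a + D₂ a) := by
  let D : Γ(C.O, ⊤) → Gam (algObj Z (Tri g)) := fun a =>
    (pig Z (Tri g)).symm ⟨(D₁ a, D₂ a, 0), by simp [k₁ a], by simp [k₂ a]⟩
  have d1 : ∀ a, rg (sec (tr₁ g)) (D a) = D₁ a := fun a => by rw [rg_sec, RingEquiv.apply_symm_apply]; rfl
  have d2 : ∀ a, rg (sec (tr₂ g)) (D a) = D₂ a := fun a => by rw [rg_sec, RingEquiv.apply_symm_apply]; rfl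
  have d3 : ∀ a, rg (sec (tr₃ g)) (D a) = 0 := fun a => by rw [rg_sec, RingEquiv.apply_symm_apply]; rfl
  obtain ⟨a1, b1, c1, e1⟩ := h₁.w
  obtain ⟨a2, b2, c2, e2⟩ := h₂.w
  obtain ⟨P, hP⟩ := exists_log (C := C) D
    (fun a b => tri_ext (by rw [map_add, d1, d1, d1, a1]) (by rw [map_add, d2, d2, d2, a2])
      (by rw [map_add, d3, d3, d3, add_zero]))
    (tri_ext (by rw [map_zero, d1, b1]) (by rw [map_zero, d2, b2]) (by rw [map_zero, d3]))
    (fun r => tri_ext (by rw [map_zero, d1, c1]) (by rw [map_zero, d2, c2]) (by rw [map_zero, d3]))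
    (fun a b => tri_ext
      (by rw [map_add, map_mul, map_mul, rg_str, rg_str, d1, d1, d1, e1, hg.2 _ _ (k₁ a) (k₁ b), add_zero])
      (by rw [map_add, map_mul, map_mul, rg_str, rg_str, d2, d2, d2, e2, hg.2 _ _ (k₂ a) (k₂ b), add_zero])
      (by rw [map_add, map_mul, map_mul, d3, d3, d3, mul_zero, mul_zero, add_zero]))
    (fun a b => tri_ext (by rw [map_mul, map_zero, d1, d1, hg.2 _ _ (k₁ a) (k₁ b)])
      (by rw [map_mul, map_zero, d2, d2, hg.2 _ _ (k₂ a) (k₂ b)]) (by rw [map_mul, map_zero, d3, zero_mul]))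
  refine ⟨P, ?_, ?_, ?_, ?_⟩
  · exact Log.eq (by simpa only [d1] using hP.map (sec (tr₁ g))) h₁
  · exact Log.eq (by simpa only [d2] using hP.map (sec (tr₂ g))) h₂
  · exact Log.eq (by simpa only [d3] using hP.map (sec (tr₃ g))) (C.log_zero Z)
  · have h := hP.map (sec (trS hg))
    have ds : ∀ a, rg (sec (trS hg)) (D a) = D₁ a + D₂ a := fun a => by
      rw [rg_sec, RingEquiv.apply_symm_apply]
      change D₁ a + D₂ a - 0 = _
      rw [sub_zero]
    simpa only [ds] using h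

include hg C in
lemma triple_ext {P Q : Pts t G (algObj Z (Tri g))} (h1 : rP t G (sec (tr₁ g)) P = rP t G (sec (tr₁ g)) Q)
    (h2 : rP t G (sec (tr₂ g)) P = rP t G (sec (tr₂ g)) Q)
    (hP : rP t G (sec (tr₃ g)) P = 0) (hQ : rP t G (sec (tr₃ g)) Q = 0) : P = Q := by
  obtain ⟨DP, lP, -⟩ := exists_log_of_ker (C := C) (sqZero_sec₃ hg) P hP
  obtain ⟨DQ, lQ, -⟩ := exists_log_of_ker (C := C) (sqZero_sec₃ hg) Q hQ
  have k : ∀ π : Tri g →ₐ[Gam Z] Gam Z, rP t G (sec π) P = rP t G (sec π) Q → ∀ a, rg (sec π) (DP a) = rg (sec π) (DQ a) := by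
    intro π h a
    have l := lP.map (sec π)
    rw [h] at l
    exact congrFun (l.unique (lQ.map (sec π))) a
  have : DP = DQ := funext fun a => tri_ext (k _ h1 a) (k _ h2 a) (k _ (hP.trans hQ.symm) a)
  exact lP.eq (this ▸ lQ)

include hg in
/-- Coordinates of infinitesimal points are additive. -/
theorem log_add {x₁ x₂ : Pts t G Z} {D₁ D₂ : Γ(C.O, ⊤) → Gam Z} (h₁ : C.Log x₁ D₁) (h₂ : C.Log x₂ D₂)
    (k₁ : ∀ a, rg g (D₁ a) = 0) (k₂ : ∀ a, rg g (D₂ a) = 0) : C.Log (x₁ + x₂) fun a => D₁ a + D₂ a := by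
  obtain ⟨PA, a1, a2, a3, aS⟩ := exists_triple hg h₁ (C.log_zero Z) k₁ (fun _ => map_zero _)
  obtain ⟨PB, b1, b2, b3, bS⟩ := exists_triple hg (C.log_zero Z) h₂ (fun _ => map_zero _) k₂
  obtain ⟨P, c1, c2, c3, cS⟩ := exists_triple hg h₁ h₂ k₁ k₂
  have e : P = PA + PB := triple_ext (C := C) hg (by rw [map_add, a1, b1, add_zero, c1])
    (by rw [map_add, a2, b2, zero_add, c2]) c3 (by rw [map_add, a3, b3, add_zero])
  have eA : rP t G (sec (trS hg)) PA = x₁ := Log.eq (by simpa only [add_zero] using aS) h₁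
  have eB : rP t G (sec (trS hg)) PB = x₂ := Log.eq (by simpa only [zero_add] using bS) h₂
  rwa [e, map_add, eA, eB] at cS

include hg in
theorem log_sub {x₁ x₂ : Pts t G Z} {D₁ D₂ : Γ(C.O, ⊤) → Gam Z} (h₁ : C.Log x₁ D₁) (h₂ : C.Log x₂ D₂)
    (k₁ : ∀ a, rg g (D₁ a) = 0) (k₂ : ∀ a, rg g (D₂ a) = 0) : C.Log (x₁ - x₂) fun a => D₁ a - D₂ a := by
  obtain ⟨a2, b2, c2, e2⟩ := h₂.w
  have e2' : ∀ a b, D₂ (a * b) = Z.hom.appTop (C.eps a) * D₂ b + Z.hom.appTop (C.eps b) * D₂ a := fun a b => by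
    rw [e2, hg.2 _ _ (k₂ a) (k₂ b), add_zero]
  obtain ⟨w, hw⟩ := exists_log (C := C) (fun a => -D₂ a) (fun a b => by rw [a2]; ring) (by rw [b2, neg_zero])
    (fun r => by rw [c2, neg_zero]) (fun a b => by rw [e2']; ring)
    (fun a b => by rw [neg_mul_neg, hg.2 _ _ (k₂ a) (k₂ b)])
  have kw : ∀ a, rg g (-D₂ a) = 0 := fun a => by rw [map_neg, k₂, neg_zero]
  have hw0 : x₂ + w = 0 := Log.eq (by simpa only [add_neg_cancel] using log_add hg h₂ hw k₂ kw) (C.log_zero Z)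
  rw [sub_eq_add_neg x₁ x₂, ← eq_neg_of_add_eq_zero_right hw0]
  simpa only [← sub_eq_add_neg] using log_add hg h₁ hw k₁ kw

end Triple

end UnitChart

end Groth.Agent.BigSiteLib
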