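import Groth.Agent.BigSiteLib.SmRestr
import Groth.Agent.BigSiteLib.SmChart
import Groth.Agent.Hensel.Ops
import Groth.Agent.Hensel.Smooth

/-!
Lifting of points of a smooth group scheme along thickenings and henselian pairs.
-/

set_option autoImplicit false
set_option linter.style.haveILetI false
set_option backward.isDefEq.respectTransparency false
set_option backward.defeqAttrib.useBackward true
universe u

noncomputable section

namespace Groth.Agent.BigSiteLib

open CategoryTheory Limits Opposite AlgebraicGeometry MonObj MonoidalCategory CartesianMonoidalCategory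
open scoped _root_.TensorProduct

/-- Points of smooth affine schemes lift along henselian pairs. -/
theorem exists_lift_affine {O B Y Y₀ : Scheme.{u}} [IsAffine O] [IsAffine B] [IsAffine Y] [IsAffine Y₀]
    (σ : O ⟶ B) [Smooth σ] (g : Y₀ ⟶ Y) (hg : Function.Surjective g.appTop)
    [hI : HenselianRing Γ(Y, ⊤) (RingHom.ker g.appTop.hom)] (h : Y ⟶ B) (y₀ : Y₀ ⟶ O) (w : y₀ ≫ σ = g ≫ h) :
    ∃ y, y ≫ σ = h ∧ g ≫ y = y₀ := by
  let A := Γ(Y, ⊤)
  let R := Γ(B, ⊤)
  let C := Γ(O, ⊤)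
  have hσ : σ.appTop.hom.Smooth := HasRingHomProperty.appTop @Smooth σ ‹_›
  letI : Algebra R C := σ.appTop.hom.toAlgebra
  haveI : Algebra.Smooth R C := hσ
  letI : Algebra R A := h.appTop.hom.toAlgebra
  let I : Ideal A := RingHom.ker g.appTop.hom
  let e : A ⧸ I ≃+* Γ(Y₀, ⊤) := RingHom.quotientKerEquivOfSurjective hg
  have he : ∀ a : A, e (Ideal.Quotient.mk I a) = g.appTop a := fun a => rfl
  let σ₀ : C →ₐ[R] A ⧸ I :=
    { toRingHom := e.symm.toRingHom.comp y₀.appTop.hom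
      commutes' := fun r => by
        apply e.injective
        change e (e.symm (y₀.appTop (σ.appTop r))) = e (Ideal.Quotient.mk I (h.appTop r))
        rw [RingEquiv.apply_symm_apply, he, ← appTop_comp_apply, ← appTop_comp_apply, w] }
  let σ' : A ⊗[R] C →ₐ[A] A ⧸ I := Algebra.TensorProduct.lift (Algebra.ofId A (A ⧸ I)) σ₀ fun _ _ => mul_comm _ _
  obtain ⟨τ, hτ⟩ := Hensel.exists_smooth_lift (I := I) (A ⊗[R] C) σ'
  let φ : C →+* A := τ.toRingHom.comp (Algebra.TensorProduct.includeRight : C →ₐ[R] A ⊗[R] C).toRingHom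
  have hφr : ∀ r, φ (σ.appTop r) = h.appTop r := fun r => by
    change τ ((Algebra.TensorProduct.includeRight : C →ₐ[R] A ⊗[R] C) (algebraMap R C r)) = algebraMap R A r
    rw [AlgHom.commutes, IsScalarTower.algebraMap_apply R A (A ⊗[R] C), AlgHom.commutes]
    rfl
  obtain ⟨y, hy, hya⟩ := exists_mor σ h φ hφr
  refine ⟨y, hy, ext_of_isAffine ?_⟩
  ext c
  rw [appTop_comp_apply, hya, ← he]
  change e (Ideal.Quotient.mk I (τ (1 ⊗ₜ c))) = _
  rw [hτ, show σ' (1 ⊗ₜ c) = σ₀ c by simp [σ']]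
  exact e.apply_symm_apply _

/-- Functions killed on a thickened subscheme are nilpotent. -/
lemma isNilpotent_of_app_eq_zero {Y Y₀ : Scheme.{u}} [IsAffine Y] (g : Y₀ ⟶ Y) (hg : Function.Surjective g)
    (x : Γ(Y, ⊤)) (hx : g.appTop x = 0) : IsNilpotent x := by
  rw [Scheme.isNilpotent_iff_basicOpen_eq_bot]
  refine TopologicalSpace.Opens.ext (Set.eq_empty_of_forall_notMem fun z hz => ?_)
  obtain ⟨z₀, rfl⟩ := hg z
  have : z₀ ∈ g ⁻¹ᵁ Y.basicOpen x := hz
  rw [Scheme.preimage_basicOpen] at this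
  rw [show g.app ⊤ x = 0 from hx, Scheme.basicOpen_zero] at this
  exact this

section Pts

variable {S T : Scheme.{u}} (t : T ⟶ S) (G : Over S) [GrpObj G] [IsCommMonObj G]

/-- The restricted sheaf of points. -/
abbrev ptsT : EtFppf.AbF T :=
  (BigSite.pullBig Scheme.fppfPrecoverage t AddCommGrpCat.{u + 1}).obj (CGrpSh.pts Scheme.fppfPrecoverage G)

/-- Sections are points. -/
def secP (U : Over T) : (ptsT t G).obj.obj (op U) ≃+ Pts t G U :=
  CGrpSh.sectEquiv Scheme.fppfPrecoverage G ((Over.map t).obj U)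

lemma secP_map {U U' : Over T} (g : U' ⟶ U) (x : (ptsT t G).obj.obj (op U)) :
    secP t G U' ((ptsT t G).obj.map g.op x) = rP t G g (secP t G U x) := rfl

variable [Smooth G.hom]

/-- Points lift near each point along thickenings. -/
theorem exists_lift_nhd {Y Y₀ : Over T} [IsAffine Y.left] [IsAffine Y₀.left] (g : Y₀ ⟶ Y) [IsClosedImmersion g.left]
    (hg : Function.Surjective g.left) (x₀ : Pts t G Y₀) (z : Y.left) :
    ∃ D : Y.left.Opens, z ∈ D ∧ ∃ x : Pts t G (Over.mk (D.ι ≫ Y.hom)),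
      (g.left ∣_ D) ≫ pl t G x = (g.left ⁻¹ᵁ D).ι ≫ pl t G x₀ := by
  obtain ⟨z₀, rfl⟩ := hg z
  let p := pl t G x₀ z₀
  obtain ⟨S₁, hS₁, hp₁, -⟩ := exists_isAffineOpen_mem_and_subset (U := (⊤ : S.Opens)) (x := G.hom p) trivial
  obtain ⟨A, hA, hpA, hA₁⟩ := exists_isAffineOpen_mem_and_subset (U := G.hom ⁻¹ᵁ S₁) (x := p) hp₁
  have hemb : Topology.IsEmbedding g.left := g.left.isClosedEmbedding.isEmbedding
  have hopen : IsOpenMap g.left :=
    (Topology.IsOpenEmbedding.mk hemb (by rw [hg.range_eq]; exact isOpen_univ)).isOpenMap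
  let W : Y.left.Opens := ⟨g.left '' (pl t G x₀ ⁻¹' A), hopen _ (A.isOpen.preimage (pl t G x₀).continuous)⟩
  have hzT : g.left z₀ ∈ (Y.hom ≫ t) ⁻¹ᵁ S₁ := by
    have e : (g.left ≫ Y.hom ≫ t) = pl t G x₀ ≫ G.hom := by rw [pl_w, ← Category.assoc, Over.w]
    have := congr($e z₀)
    simp only [Scheme.Hom.comp_apply] at this
    change (Y.hom ≫ t) (g.left z₀) ∈ S₁
    rw [Scheme.Hom.comp_apply, this]
    exact hp₁
  obtain ⟨D, hD, hzD, hDle⟩ := exists_isAffineOpen_mem_and_subset (U := W ⊓ (Y.hom ≫ t) ⁻¹ᵁ S₁) (x := g.left z₀)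
    ⟨⟨z₀, hpA, rfl⟩, hzT⟩
  have hD₀ : IsAffineOpen (g.left ⁻¹ᵁ D) := hD.preimage g.left
  have hle₀ : g.left ⁻¹ᵁ D ≤ pl t G x₀ ⁻¹ᵁ A := fun q hq => by
    obtain ⟨q', hq', e⟩ := (hDle hq).1
    exact hemb.injective e ▸ hq'
  haveI : IsAffine A.toScheme := hA
  haveI : IsAffine S₁.toScheme := hS₁
  haveI : IsAffine D.toScheme := hD
  haveI : IsAffine (g.left ⁻¹ᵁ D).toScheme := hD₀
  let σ : A.toScheme ⟶ S₁.toScheme := G.hom.resLE S₁ A hA₁
  haveI : Smooth σ := inferInstanceAs (Smooth (G.hom.resLE S₁ A hA₁))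
  let gD := g.left ∣_ D
  haveI : IsClosedImmersion gD := IsZariskiLocalAtTarget.restrict ‹IsClosedImmersion g.left› D
  have hsurj : Function.Surjective gD.appTop := (IsClosedImmersion.isAffine_surjective_of_isAffine gD).2
  have hgD : Function.Surjective gD := fun q => by
    obtain ⟨q₀, hq₀⟩ := hg q.1
    exact ⟨⟨q₀, show g.left q₀ ∈ D by rw [hq₀]; exact q.2⟩, Subtype.ext ((morphismRestrict_base_coe _ _ _).trans hq₀)⟩
  haveI : HenselianRing Γ(D.toScheme, ⊤) (RingHom.ker gD.appTop.hom) :=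
    Hensel.henselianRing_of_nilpotent fun a ha => isNilpotent_of_app_eq_zero gD hgD a ha
  let h : D.toScheme ⟶ S₁.toScheme := (Y.hom ≫ t).resLE S₁ D fun q hq => (hDle hq).2
  let y₀ : (g.left ⁻¹ᵁ D).toScheme ⟶ A.toScheme := (pl t G x₀).resLE A (g.left ⁻¹ᵁ D) hle₀
  obtain ⟨y, hy, hy₀⟩ := exists_lift_affine σ gD hsurj h y₀ (by
    rw [← cancel_mono S₁.ι]
    simp only [σ, h, y₀, gD, Category.assoc, Scheme.Hom.resLE_comp_ι, Scheme.Hom.resLE_comp_ι_assoc,
      morphismRestrict_ι_assoc]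
    rw [pl_w, ← Category.assoc g.left, Over.w])
  refine ⟨D, hzD, mkP t G (y ≫ A.ι) ?_, ?_⟩
  · rw [Category.assoc, ← Scheme.Hom.resLE_comp_ι G.hom hA₁, reassoc_of% hy, Scheme.Hom.resLE_comp_ι]
    exact (Category.assoc _ _ _).symm
  · rw [pl_mkP, ← Category.assoc, show g.left ∣_ D ≫ y = y₀ from hy₀, Scheme.Hom.resLE_comp_ι]

variable {T₀ : Scheme.{u}} (j : T₀ ⟶ T)

/-- Sections on the thickened subscheme lift near each point. -/
theorem exists_lift_restr [IsClosedImmersion j] [Surjective j] (UO : Over T)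
    (s : (ptsT t G).obj.obj (op ((Over.map j).obj ((Over.pullback j).obj UO)))) (z : UO.left) :
    ∃ (W : Scheme.{u}) (i : W ⟶ UO.left) (_ : IsOpenImmersion i), z ∈ Set.range i ∧
      ∃ x : (ptsT t G).obj.obj (op (Over.mk (i ≫ UO.hom))), (etaU j (ptsT t G)).hom.app (op (Over.mk (i ≫ UO.hom))) x =
        (ptsT t G).obj.map ((Over.map j).map ((Over.pullback j).map
          (Over.homMk i rfl : Over.mk (i ≫ UO.hom) ⟶ UO))).op s := by
  obtain ⟨V, hV, hzV, -⟩ := exists_isAffineOpen_mem_and_subset (U := (⊤ : UO.left.Opens)) (x := z) trivial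
  let Y : Over T := Over.mk (V.ι ≫ UO.hom)
  let Y₀ : Over T := (Over.map j).obj ((Over.pullback j).obj Y)
  let g : Y₀ ⟶ Y := (Over.mapPullbackAdj j).counit.app Y
  haveI : IsAffine Y.left := hV
  haveI : IsClosedImmersion g.left := inferInstanceAs (IsClosedImmersion (pullback.fst Y.hom j))
  haveI : IsAffine Y₀.left := isAffine_of_isAffineHom g.left
  haveI : Surjective g.left := inferInstanceAs (Surjective (pullback.fst Y.hom j))
  let ρ : Y ⟶ UO := Over.homMk V.ι rfl
  let R₀ := (Over.map j).map ((Over.pullback j).map ρ)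
  obtain ⟨D, hzD, x, hx⟩ := exists_lift_nhd t G g g.left.surjective
    (secP t G Y₀ ((ptsT t G).obj.map R₀.op s)) ⟨z, hzV⟩
  let i : D.toScheme ⟶ UO.left := D.ι ≫ V.ι
  let Z : Over T := Over.mk (i ≫ UO.hom)
  let k : Z ⟶ Y := Over.homMk D.ι (by simp [Y, Z, i])
  let k₀ := (Over.map j).map ((Over.pullback j).map k)
  let c : (Over.map j).obj ((Over.pullback j).obj Z) ⟶ Z := (Over.mapPullbackAdj j).counit.app Z
  refine ⟨D.toScheme, i, inferInstance, ⟨⟨⟨z, hzV⟩, hzD⟩, rfl⟩, (secP t G Z).symm (mkP t G (pl t G x) ?_), ?_⟩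
  · refine (pl_w x).trans ?_
    simp [Z, i, Y]
  · apply (secP t G _).injective
    refine pts_ext ?_
    change c.left ≫ pl t G x =
      ((Over.map j).map ((Over.pullback j).map (Over.homMk i rfl : Z ⟶ UO))).left ≫ pl t G (secP t G _ s)
    have hq : k₀.left ≫ g.left = c.left ≫ D.ι :=
      congrArg (·.left) ((Over.mapPullbackAdj j).counit.naturality k)
    let m := IsOpenImmersion.lift (g.left ⁻¹ᵁ D).ι k₀.left (by
      rw [Scheme.Opens.range_ι]
      rintro _ ⟨w, rfl⟩
      change g.left (k₀.left w) ∈ D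
      rw [← Scheme.Hom.comp_apply, hq, Scheme.Hom.comp_apply]
      exact (c.left w).2)
    have hm : m ≫ (g.left ∣_ D) = c.left := by
      rw [← cancel_mono D.ι, Category.assoc, morphismRestrict_ι, IsOpenImmersion.lift_fac_assoc, hq]
    rw [← hm, Category.assoc]
    refine (congrArg (m ≫ ·) hx).trans ?_
    rw [IsOpenImmersion.lift_fac_assoc]
    refine (congrArg (k₀.left ≫ ·) (pl_rP t G R₀ (secP t G _ s))).trans ((Category.assoc _ _ _).symm.trans ?_)
    refine congrArg (· ≫ pl t G (secP t G _ s)) ?_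
    rw [← Over.comp_left]
    refine congrArg Over.Hom.left ?_
    rw [← Functor.map_comp, ← Functor.map_comp]
    refine congrArg (fun f => (Over.map j).map ((Over.pullback j).map f)) ?_
    exact Over.OverMorphism.ext rfl

/-- Restriction of points to a thickened subscheme is surjective on the small étale site. -/
theorem epi_etaE [IsClosedImmersion j] [Surjective j] : Epi (etaE j (ptsT t G)) := by
  have hls : Sheaf.IsLocallySurjective (etaE j (ptsT t G)) := ⟨fun {U} s => by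
    choose W i hi hz x hx using exists_lift_restr t G j ((EtFppf.a T).obj U) s
    let E : U.left → T.Etale := fun z => haveI := hi z; Scheme.Etale.mk (i z ≫ U.hom)
    let π : ∀ z, E z ⟶ U := fun z => MorphismProperty.Over.homMk (i z) rfl trivial
    have hmem : Sieve.ofArrows E π ∈ T.smallEtaleTopology U := by
      rw [Scheme.ofArrows_mem_smallEtaleTopology_iff]
      exact Set.eq_univ_of_forall fun z => Set.mem_iUnion.mpr ⟨z, hz z⟩
    refine GrothendieckTopology.superset_covering _ ?_ hmem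
    rw [Sieve.ofArrows, Sieve.generate_le_iff]
    rintro _ _ ⟨z⟩
    exact ⟨x z, hx z⟩⟩
  infer_instance

end Pts

end Groth.Agent.BigSiteLib
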