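import Groth.Agent.BigSiteLib.SmSol
import Groth.Agent.BigSiteLib.SmAcyclic
import Groth.Agent.BigSiteLib.SmNilLift
import Groth.Agent.Hensel.PairBaseChange
import Groth.Agent.Hensel.Local

/-!
Cocycles of points of a smooth commutative group scheme over a henselian local ring which vanish at the closed
point are coboundaries of points vanishing at the closed point.
-/

set_option autoImplicit false
set_option linter.style.haveILetI false
set_option backward.isDefEq.respectTransparency false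
set_option backward.defeqAttrib.useBackward true
universe u

noncomputable section

namespace Groth.Agent.BigSiteLib

open CategoryTheory Limits Opposite AlgebraicGeometry MonObj MonoidalCategory CartesianMonoidalCategory

variable {S T V : Scheme.{u}} {t : T ⟶ S} {G : Over S} [GrpObj G] [IsCommMonObj G] [Smooth G.hom]

/-- A smooth algebra of solutions, with the given one at its given point. -/
theorem exists_smooth_sol_point (p : V ⟶ T) [IsAffine T] [IsFinite p] [Flat p] [LocallyOfFinitePresentation p]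
    [Surjective p] (C : UnitChart t G) (n : ℕ) (Y₀ : Over T) [IsAffine Y₀.left]
    (c : Pts t G (pbn p (n + 1) Y₀)) (hc : dPt t G p (n + 1) Y₀ c = 0)
    (K : Type u) [Field K] [Algebra (Gam Y₀) K] (x₀ : Pts t G (pbn p n (algObj Y₀ K)))
    (hx₀ : dPt t G p n (algObj Y₀ K) x₀ = rP t G (pbnMap p (n + 1) (algStr Y₀ K)) c) :
    ∃ (Q : Type u) (_ : CommRing Q) (_ : Algebra (Gam Y₀) Q), Algebra.Smooth (Gam Y₀) Q ∧
      ∃ (ψ : Q →ₐ[Gam Y₀] K) (x : Pts t G (pbn p n (algObj Y₀ Q))),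
        dPt t G p n (algObj Y₀ Q) x = rP t G (pbnMap p (n + 1) (algStr Y₀ Q)) c ∧
          rP t G (pbnMap p n (algMap Y₀ ψ)) x = x₀ := by
  obtain ⟨d, φ, b, r, hb, hr⟩ := exists_split p
  obtain ⟨Q₀, _, _, hQ₀, xu, ψK, hψK, hlift⟩ := exists_res_pts p φ b hb Y₀ C n K x₀
  haveI := hQ₀
  have hc₂ : ∀ (B : Type u) [CommRing B] [Algebra (Gam Y₀) B] (ψ : Q₀ →ₐ[Gam Y₀] B),
      rP t G (pbnMap p (n + 1) (algMap Y₀ ψ)) (rP t G (pbnMap p (n + 1) (algStr Y₀ Q₀)) c) =
        rP t G (pbnMap p (n + 1) (algStr Y₀ B)) c := fun B _ _ ψ => by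
    rw [rP_rP, ← pbnMap_comp, algMap_str]
  obtain ⟨f₀, hf₀, J, hJ, hJ'⟩ := exists_eq_locus p φ b hb Y₀ (n + 1) K ψK (dPt t G p n (algObj Y₀ Q₀) xu)
    (rP t G (pbnMap p (n + 1) (algStr Y₀ Q₀)) c) (by rw [dPt_natural, hψK, hx₀, hc₂])
  have hJ'' : ∀ (B : Type u) [CommRing B] [Algebra (Gam Y₀) B] (ψ : Localization.Away f₀ →ₐ[Gam Y₀] B),
      J ≤ RingHom.ker ψ.toRingHom ↔
        dPt t G p n (algObj Y₀ B)
          (rP t G (pbnMap p n (algMap Y₀ (ψ.comp (IsScalarTower.toAlgHom (Gam Y₀) Q₀ (Localization.Away f₀))))) xu) =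
          rP t G (pbnMap p (n + 1) (algStr Y₀ B)) c := fun B _ _ ψ => by
    rw [hJ' B ψ, ← dPt_natural, hc₂]
  let ψK₁ : Localization.Away f₀ →ₐ[Gam Y₀] K :=
    IsLocalization.liftAlgHom (M := Submonoid.powers f₀) (f := ψK) (by
      rintro ⟨_, k, rfl⟩
      simpa only [map_pow] using hf₀.pow k)
  have hψK₁ : ψK₁.comp (IsScalarTower.toAlgHom (Gam Y₀) Q₀ (Localization.Away f₀)) = ψK :=
    AlgHom.ext fun a => IsLocalization.lift_eq _ a
  have hkerK : J ≤ RingHom.ker ψK₁.toRingHom := (hJ'' K ψK₁).mpr (by rw [hψK₁, hψK, hx₀])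
  let ψ : (Localization.Away f₀ ⧸ J) →ₐ[Gam Y₀] K := Ideal.Quotient.liftₐ J ψK₁ fun a ha => hkerK ha
  refine ⟨Localization.Away f₀ ⧸ J, _, _, smooth_sol p φ b hb Y₀ C n r hr c hc xu hlift f₀ J hJ hJ'', ψ, _,
    (hJ'' (Localization.Away f₀ ⧸ J) (Ideal.Quotient.mkₐ (Gam Y₀) J)).mp fun j hj =>
      Ideal.Quotient.eq_zero_iff_mem.mpr hj, ?_⟩
  rw [rP_rP, ← pbnMap_comp, ← algMap_comp, ← AlgHom.comp_assoc, Ideal.Quotient.liftₐ_comp, hψK₁]
  exact hψK

/-- Cocycles vanishing at the closed point are coboundaries of such. -/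
theorem exists_sol_vanishing {A : CommRingCat.{u}} [HenselianLocalRing A] {t : Spec A ⟶ S} (p : V ⟶ Spec A)
    [IsFinite p] [Flat p] [LocallyOfFinitePresentation p] [Surjective p] (n : ℕ) {K : Type u} [Field K]
    (k : A →+* K) (hk : Function.Surjective k)
    (c : Pts t G (pbn p (n + 1) (Over.mk (𝟙 (Spec A))))) (hc : dPt t G p (n + 1) _ c = 0)
    (hc₀ : rP t G (pbnMap p (n + 1) (Over.homMk (Spec.map (CommRingCat.ofHom k)) (Category.comp_id _) :
      Over.mk (Spec.map (CommRingCat.ofHom k)) ⟶ Over.mk (𝟙 (Spec A)))) c = 0) :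
    ∃ x : Pts t G (pbn p n (Over.mk (𝟙 (Spec A)))), dPt t G p n _ x = c ∧
      rP t G (pbnMap p n (Over.homMk (Spec.map (CommRingCat.ofHom k)) (Category.comp_id _) :
        Over.mk (Spec.map (CommRingCat.ofHom k)) ⟶ Over.mk (𝟙 (Spec A)))) x = 0 := by
  let Y₀ : Over (Spec A) := Over.mk (𝟙 (Spec A))
  let Y₁ : Over (Spec A) := Over.mk (Spec.map (CommRingCat.ofHom k))
  let i₁ : Y₁ ⟶ Y₀ := Over.homMk (Spec.map (CommRingCat.ofHom k)) (Category.comp_id _)
  haveI : IsAffine Y₀.left := inferInstanceAs (IsAffine (Spec A))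
  obtain ⟨W, hzW, hW, ⟨C⟩⟩ := exists_unitChart G t (IsLocalRing.closedPoint A)
  have hWtop : W = ⊤ := TopologicalSpace.Opens.ext (Set.eq_univ_of_forall fun q =>
    (IsLocalRing.specializes_closedPoint (R := A) q).mem_open W.isOpen hzW)
  obtain ⟨C⟩ : Nonempty (UnitChart t G) := by
    subst hWtop
    refine ⟨⟨C.S₀, C.hS₀, C.U, C.hU, C.hUS, (Scheme.topIso (Spec A)).inv ≫ C.t₀, ?_, fun x => ?_⟩⟩
    · rw [Category.assoc, C.ht, ← Scheme.topIso_hom, Iso.inv_hom_id_assoc]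
    · exact C.he ⟨x, trivial⟩
  letI : Algebra (Gam Y₀) K := (k.comp (Scheme.ΓSpecIso A).hom.hom).toAlgebra
  have hAlg : Spec.map (CommRingCat.ofHom (algebraMap (Gam Y₀) K)) ≫ Y₀.left.isoSpec.inv =
      Spec.map (CommRingCat.ofHom k) := by
    change Spec.map ((Scheme.ΓSpecIso A).hom ≫ CommRingCat.ofHom k) ≫ (Spec A).isoSpec.inv = _
    rw [Spec.map_comp, Category.assoc, Scheme.isoSpec_Spec_inv, ← Spec.map_comp, Iso.inv_hom_id, Spec.map_id,
      Category.comp_id]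
  let θ : algObj Y₀ K ⟶ Y₁ := Over.homMk (𝟙 _) (by
    change 𝟙 _ ≫ Spec.map (CommRingCat.ofHom k) = _ ≫ 𝟙 _
    rw [Category.id_comp, Category.comp_id]
    exact hAlg.symm)
  have hθ : algStr Y₀ K = θ ≫ i₁ := Over.OverMorphism.ext (hAlg.trans (Category.id_comp _).symm)
  obtain ⟨Q, _, _, hQ, ψ, x, hx, hx0⟩ := exists_smooth_sol_point p C n Y₀ c hc K 0 (by
    rw [map_zero, hθ, pbnMap_comp, ← rP_rP, hc₀, map_zero])
  haveI := hQ
  let g : Spec (CommRingCat.of K) ⟶ Y₀.left := Spec.map (CommRingCat.ofHom k)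
  have hg : Function.Surjective g.appTop := fun y => by
    obtain ⟨a, ha⟩ := hk ((Scheme.ΓSpecIso (CommRingCat.of K)).hom y)
    refine ⟨(Scheme.ΓSpecIso A).inv a, (Scheme.ΓSpecIso (CommRingCat.of K)).commRingCatIsoToRingEquiv.injective ?_⟩
    refine Eq.trans ?_ ha
    refine (congr($(Scheme.ΓSpecIso_naturality (CommRingCat.ofHom k)) ((Scheme.ΓSpecIso A).inv a))).trans ?_
    exact congrArg k ((Scheme.ΓSpecIso A).commRingCatIsoToRingEquiv.apply_symm_apply a)
  haveI : HenselianRing Γ(Y₀.left, ⊤) (RingHom.ker g.appTop.hom) := by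
    let eA : A ≃+* Γ(Y₀.left, ⊤) := (Scheme.ΓSpecIso A).commRingCatIsoToRingEquiv.symm
    haveI := Hensel.henselianRing_of_ringEquiv eA (IsLocalRing.maximalIdeal A)
    haveI : IsLocalRing Γ(Y₀.left, ⊤) := eA.isLocalRing
    have h2 : (RingHom.ker g.appTop.hom).IsMaximal := by
      have : RingHom.ker g.appTop.hom =
          RingHom.ker (((Scheme.ΓSpecIso (CommRingCat.of K)).commRingCatIsoToRingEquiv.toRingHom).comp g.appTop.hom) :=
        Ideal.ext fun a => by simp [RingHom.mem_ker]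
      rw [this]
      exact RingHom.ker_isMaximal_of_surjective _ ((Scheme.ΓSpecIso (CommRingCat.of K)).commRingCatIsoToRingEquiv.surjective.comp hg)
    have h3 : ((IsLocalRing.maximalIdeal A).map eA.toRingHom).IsMaximal :=
      Ideal.map_isMaximal_of_equiv eA
    rw [IsLocalRing.eq_maximalIdeal h2, ← IsLocalRing.eq_maximalIdeal h3]
    infer_instance
  haveI : Smooth (algStr Y₀ Q).left := by
    haveI : Smooth (Spec.map (CommRingCat.ofHom (algebraMap (Gam Y₀) Q))) := by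
      rw [HasRingHomProperty.Spec_iff (P := @Smooth)]
      exact RingHom.smooth_algebraMap.mpr inferInstance
    exact inferInstanceAs (Smooth (Spec.map _ ≫ Y₀.left.isoSpec.inv))
  obtain ⟨y, hy, hgy⟩ := exists_lift_affine (algStr Y₀ Q).left g hg (𝟙 _) (algMap Y₀ ψ).left (by
    rw [Category.comp_id]
    exact (congrArg Over.Hom.left (algMap_str Y₀ ψ)).trans hAlg)
  let h : Y₀ ⟶ algObj Y₀ Q := Over.homMk y (by
    refine Eq.trans ?_ (Category.id_comp _)
    rw [← hy, Category.assoc]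
    exact congrArg (y ≫ ·) (Over.w (algStr Y₀ Q)).symm)
  refine ⟨rP t G (pbnMap p n h) x, ?_, ?_⟩
  · rw [← dPt_natural, hx, rP_rP, ← pbnMap_comp, show h ≫ algStr Y₀ Q = 𝟙 Y₀ from Over.OverMorphism.ext hy,
      pbnMap_id, rP_id]
  · let θ' : Y₁ ⟶ algObj Y₀ K := Over.homMk (𝟙 _) (by
      change 𝟙 _ ≫ _ ≫ 𝟙 _ = Spec.map (CommRingCat.ofHom k)
      rw [Category.id_comp, Category.comp_id]
      exact hAlg)
    rw [rP_rP, ← pbnMap_comp, show i₁ ≫ h = θ' ≫ algMap Y₀ ψ from Over.OverMorphism.ext (hgy.trans (Category.id_comp _).symm),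
      pbnMap_comp, ← rP_rP, hx0, map_zero]

end Groth.Agent.BigSiteLib
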