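import Groth.Agent.BigSiteLib.SmInfDual
import Groth.Agent.EtAssocLib.AffAcyc

/-!
Exactness of the Amitsur complexes of the kernel of restriction along a square-zero thickening.
-/

set_option autoImplicit false
set_option linter.style.haveILetI false
set_option backward.isDefEq.respectTransparency false
set_option backward.defeqAttrib.useBackward true
universe u

noncomputable section

namespace Groth.Agent.BigSiteLib

open CategoryTheory Limits Opposite AlgebraicGeometry MonObj MonoidalCategory CartesianMonoidalCategory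
open scoped _root_.TensorProduct
open Adeq (Alg algOf)
open AdeqLib (sp spm tpow face tD tDM tDM_exact TExact algF)

section Ker

variable {T T₀ : Scheme.{u}} (j : T₀ ⟶ T) [IsAffine T] [IsClosedImmersion j]

/-- The counit of restriction. -/
abbrev cu (U : Over T) : (Over.map j).obj ((Over.pullback j).obj U) ⟶ U := (Over.mapPullbackAdj j).counit.app U

omit [IsAffine T] in
lemma isAffine_cu (U : Over T) [IsAffine U.left] : IsAffine ((Over.map j).obj ((Over.pullback j).obj U)).left :=
  haveI : IsClosedImmersion (cu j U).left := inferInstanceAs (IsClosedImmersion (pullback.fst U.hom j))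
  isAffine_of_isAffineHom (cu j U).left

/-- Functions vanishing on the pulled back subscheme. -/
lemma rg_cu_eq_zero_iff (U : Over T) [IsAffine U.left] (x : Gam U) :
    rg (cu j U) x = 0 ↔ x ∈ (RingHom.ker j.appTop.hom).map U.hom.appTop.hom := by
  haveI : IsAffine T₀ := isAffine_of_isAffineHom j
  have H := isPushout_appTop_of_isPullback (IsPullback.of_hasPullback U.hom j)
  let K := RingHom.ker j.appTop.hom
  let J := K.map U.hom.appTop.hom
  constructor
  · intro hx
    let e := RingHom.quotientKerEquivOfSurjective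
      (show Function.Surjective j.appTop.hom from (IsClosedImmersion.isAffine_surjective_of_isAffine j).2)
    let β : Γ(T₀, ⊤) →+* Gam U ⧸ J :=
      (Ideal.quotientMap J U.hom.appTop.hom Ideal.le_comap_map).comp e.symm.toRingHom
    have hw : U.hom.appTop ≫ CommRingCat.ofHom (Ideal.Quotient.mk J) = j.appTop ≫ CommRingCat.ofHom β := by
      ext a
      change Ideal.Quotient.mk J (U.hom.appTop a) = β (j.appTop a)
      have : e.symm (j.appTop a) = Ideal.Quotient.mk K a := e.symm_apply_eq.mpr rfl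
      change _ = Ideal.quotientMap J U.hom.appTop.hom Ideal.le_comap_map (e.symm (j.appTop a))
      rw [this]
      rfl
    let d := H.desc (W := CommRingCat.of (Gam U ⧸ J)) (CommRingCat.ofHom (Ideal.Quotient.mk J)) (CommRingCat.ofHom β) hw
    have h := congr($(H.inl_desc (CommRingCat.ofHom (Ideal.Quotient.mk J)) (CommRingCat.ofHom β) hw) x)
    rw [← Ideal.Quotient.eq_zero_iff_mem]
    refine h.symm.trans ?_
    change d.hom (rg (cu j U) x) = 0
    rw [hx, map_zero]
  · intro hx
    have : (RingHom.ker j.appTop.hom).map U.hom.appTop.hom ≤ RingHom.ker (rg (cu j U)).hom := by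
      rw [Ideal.map_le_iff_le_comap]
      intro a ha
      rw [Ideal.mem_comap, RingHom.mem_ker]
      have h := congr($(H.w) a)
      simp only [CommRingCat.comp_apply] at h
      refine h.trans ?_
      rw [show j.appTop a = 0 from ha, map_zero]
    exact this hx

variable {j} in
lemma sqZero_cu (hsq : ∀ a b, j.appTop a = 0 → j.appTop b = 0 → a * b = 0) (U : Over T) [IsAffine U.left] :
    SqZero (cu j U) := by
  haveI : IsClosedImmersion (cu j U).left := inferInstanceAs (IsClosedImmersion (pullback.fst U.hom j))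
  refine ⟨(IsClosedImmersion.isAffine_surjective_of_isAffine (cu j U).left).2, fun a b ha hb => ?_⟩
  rw [rg_cu_eq_zero_iff] at ha hb
  have := Ideal.mul_mem_mul ha hb
  rw [← Ideal.map_mul, show RingHom.ker j.appTop.hom * RingHom.ker j.appTop.hom = ⊥ from ?_, Ideal.map_bot] at this
  · exact this
  · rw [eq_bot_iff, Ideal.mul_le]
    exact fun p hp q hq => Ideal.mem_bot.mpr (hsq p q hp hq)

end Ker

namespace InfChart

variable {S T : Scheme.{u}} [IsAffine T] {t : T ⟶ S} {G : Over S} [GrpObj G] [IsCommMonObj G] {C : InfChart t G}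
variable {Z : Over T} [IsAffine Z.left] {Z₀ : Over T} [IsAffine Z₀.left] {g : Z₀ ⟶ Z} (hg : SqZero g)

omit [IsAffine Z₀.left] in
lemma log_neg (hg : SqZero g) [IsAffine Z₀.left] {x : Pts t G Z} {D : Γ(C.O, ⊤) → Gam Z} (h : C.Log x D)
    (k : ∀ a, rg g (D a) = 0) : C.Log (-x) fun a => -D a := by
  obtain ⟨a2, c2, e2⟩ := h.w
  obtain ⟨w, hw⟩ := exists_log (C := C) (fun a => -D a) (fun a b => by rw [a2]; ring)
    (fun r => by rw [c2, neg_zero])
    (fun a b => by rw [e2, hg.2 _ _ (k a) (k b)]; ring)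
    (fun a b => by rw [neg_mul_neg, hg.2 _ _ (k a) (k b)])
  have hw0 : x + w = 0 := Log.eq (by simpa only [add_neg_cancel] using log_add hg h hw k (fun a => by rw [map_neg, k, neg_zero]))
    (C.log_zero Z)
  rwa [← eq_neg_of_add_eq_zero_right hw0]

include hg in
lemma log_sum {κ : Type*} [DecidableEq κ] (s : Finset κ) (c : κ → ℕ) {x : κ → Pts t G Z}
    {D : κ → Γ(C.O, ⊤) → Gam Z} (h : ∀ i, C.Log (x i) (D i)) (k : ∀ i a, rg g (D i a) = 0) :
    C.Log (∑ i ∈ s, (-1 : ℤ) ^ c i • x i) fun a => ∑ i ∈ s, (-1 : ℤ) ^ c i • D i a := by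
  induction s using Finset.induction_on with
  | empty => simpa using C.log_zero Z
  | insert i s his ih =>
    simp only [Finset.sum_insert his]
    have kk : ∀ (m : κ) a, rg g ((-1 : ℤ) ^ c m • D m a) = 0 := fun m a => by rw [map_zsmul, k, smul_zero]
    refine log_add hg ?_ ih (kk i) (fun a => by rw [map_sum]; exact Finset.sum_eq_zero fun m _ => kk m a)
    rcases Nat.even_or_odd (c i) with he | he
    · simpa [he.neg_one_pow] using h i
    · simpa [he.neg_one_pow] using log_neg hg (h i) (k i)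

end InfChart

variable {S T T₀ : Scheme.{u}} (t : T ⟶ S) (G : Over S) [GrpObj G] [IsCommMonObj G] (j : T₀ ⟶ T)

/-- Points vanishing on the subscheme. -/
abbrev infSh : EtFppf.AbF T := kernel (etaU j (ptsT t G))

/-- Their inclusion. -/
def infPts (U : Over T) : (infSh t G j).obj.obj (op U) →+ Pts t G U :=
  (secP t G U).toAddMonoidHom.comp ((kernel.ι (etaU j (ptsT t G))).hom.app (op U)).hom

lemma infPts_map {U U' : Over T} (g : U' ⟶ U) (z : (infSh t G j).obj.obj (op U)) :
    infPts t G j U' ((infSh t G j).obj.map g.op z) = rP t G g (infPts t G j U z) := by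
  change secP t G U' ((kernel.ι (etaU j (ptsT t G))).hom.app (op U') ((infSh t G j).obj.map g.op z)) = _
  rw [NatTrans.naturality_apply (kernel.ι (etaU j (ptsT t G))).hom g.op z]
  exact secP_map t G g _

lemma infPts_injective (U : Over T) : Function.Injective (infPts t G j U) := by
  let Φ : EtFppf.AbF T ⥤ AddCommGrpCat.{u + 1} :=
    sheafToPresheaf _ _ ⋙ (evaluation _ AddCommGrpCat.{u + 1}).obj (op U)
  haveI : PreservesFiniteLimits Φ := comp_preservesFiniteLimits _ _
  exact (secP t G U).injective.comp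
    ((AddCommGrpCat.mono_iff_injective (Φ.map (kernel.ι (etaU j (ptsT t G))))).1 inferInstance)

lemma rP_infPts (U : Over T) (z : (infSh t G j).obj.obj (op U)) : rP t G (cu j U) (infPts t G j U z) = 0 := by
  let Φ : EtFppf.AbF T ⥤ AddCommGrpCat.{u + 1} :=
    sheafToPresheaf _ _ ⋙ (evaluation _ AddCommGrpCat.{u + 1}).obj (op U)
  haveI : PreservesFiniteLimits Φ := comp_preservesFiniteLimits _ _
  have h : Φ.map (kernel.ι (etaU j (ptsT t G))) ≫ Φ.map (etaU j (ptsT t G)) = 0 := by
    rw [← Functor.map_comp, kernel.condition, Functor.map_zero]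
  have h' := ConcreteCategory.congr_hom h z
  exact ((secP_map t G (cu j U) _).symm.trans (congrArg (secP t G _) h')).trans (map_zero _)

lemma exists_infPts (U : Over T) (x : Pts t G U) (hx : rP t G (cu j U) x = 0) : ∃ z, infPts t G j U z = x := by
  let Φ : EtFppf.AbF T ⥤ AddCommGrpCat.{u + 1} :=
    sheafToPresheaf _ _ ⋙ (evaluation _ AddCommGrpCat.{u + 1}).obj (op U)
  haveI : PreservesFiniteLimits Φ := comp_preservesFiniteLimits _ _
  obtain ⟨z, hz⟩ := (ShortComplex.ab_exact_iff _).1 (ShortComplex.exact_of_f_is_kernel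
    (ShortComplex.mk (Φ.map (kernel.ι (etaU j (ptsT t G)))) (Φ.map (etaU j (ptsT t G)))
      (by rw [← Functor.map_comp, kernel.condition, Functor.map_zero]))
    (KernelFork.mapIsLimit _ (kernelIsKernel (etaU j (ptsT t G))) Φ)) ((secP t G U).symm x) (by
      apply (secP t G _).injective
      refine ((secP_map t G (cu j U) _).trans ?_).trans (map_zero _).symm
      rw [AddEquiv.apply_symm_apply]
      exact hx)
  refine ⟨z, ?_⟩
  change secP t G U (Φ.map (kernel.ι (etaU j (ptsT t G))) z) = x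
  exact (congrArg (secP t G U) hz).trans ((secP t G U).apply_symm_apply x)

variable {t G j} [IsAffine T] [IsClosedImmersion j]
variable {R' : CommRingCat.{u}} (a : Spec R' ⟶ T)

/-- Functions on the spectrum of an algebra. -/
def spQ (D : Alg R') : Gam (sp a D) ≃+* D := (Scheme.ΓSpecIso (CommRingCat.of D)).commRingCatIsoToRingEquiv

omit [IsAffine T] in
lemma spQ_natural {D D' : Alg R'} (f : D ⟶ D') (x : Gam (sp a D)) :
    spQ a D' (rg (spm a f) x) = f.hom (spQ a D x) :=
  congr($(Scheme.ΓSpecIso_naturality (CommRingCat.ofHom f.hom.toRingHom)) x)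

/-- Scalars on the base ring. -/
def spψ : Γ(T, ⊤) →+* R' := (Scheme.ΓSpecIso R').hom.hom.comp a.appTop.hom

omit [IsAffine T] in
lemma spQ_str (D : Alg R') (r : Γ(T, ⊤)) : spQ a D ((sp a D).hom.appTop r) = algebraMap R' D (spψ a r) := by
  change (Scheme.ΓSpecIso _).hom ((Spec.map _ ≫ a).appTop r) = _
  rw [appTop_comp_apply]
  exact congr($(Scheme.ΓSpecIso_naturality (CommRingCat.ofHom (algebraMap R' D))) (a.appTop r))

lemma rg_cu_spQ (D : Alg R') (x : Gam (sp a D)) : haveI : IsAffine (sp a D).left := inferInstanceAs (IsAffine (Spec _))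
    rg (cu j (sp a D)) x = 0 ↔ spQ a D x ∈ ((RingHom.ker j.appTop.hom).map (spψ a)).map (algebraMap R' D) := by
  haveI : IsAffine (sp a D).left := inferInstanceAs (IsAffine (Spec _))
  rw [rg_cu_eq_zero_iff, Ideal.map_map,
    show (algebraMap R' D).comp (spψ a) = (spQ a D).toRingHom.comp (sp a D).hom.appTop.hom from
      RingHom.ext fun r => (spQ_str a D r).symm,
    ← Ideal.map_map]
  exact (Ideal.apply_mem_of_equiv_iff (f := spQ a D)).symm

/-- The differential, between tensor powers. -/
abbrev dD {R : Type u} [CommRing R] (B : Type u) [CommRing B] [Algebra R B] (m : ℕ) :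
    (tpow (R := R) B m : Type u) →ₗ[R] (tpow (R := R) B (m + 1) : Type u) := tD B m

lemma tDM_tmul {R B : Type u} [CommRing R] [CommRing B] [Algebra R B] (M : Type u) [AddCommGroup M] [Module R M] (m : ℕ)
    (d : (tpow (R := R) B m : Type u)) (r : M) : tDM B M m (d ⊗ₜ[R] r) = dD B m d ⊗ₜ[R] r :=
  LinearMap.rTensor_tmul _ _ _ _

/-- Cocycles in an ideal of the base modulo a smaller one are coboundaries in it. -/
lemma exists_bd_of_mem {R B : Type u} [CommRing R] [CommRing B] [Algebra R B] [Module.FaithfullyFlat R B] (b I : Ideal R)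
    (hb : b ≤ I) (m : ℕ) (v : (tpow (R := R) B (m + 2) : Type u)) (hv : v ∈ I.map (algebraMap R _))
    (h : dD B (m + 2) v ∈ b.map (algebraMap R _)) :
    ∃ w, w ∈ I.map (algebraMap R _) ∧ dD B (m + 1) w - v ∈ b.map (algebraMap R _) := by
  have hker : ∀ (I : Ideal R) (k : ℕ) (d : (tpow (R := R) B k : Type u)),
      d ⊗ₜ[R] (1 : R ⧸ I) = 0 ↔ d ∈ I.map (algebraMap R (tpow (R := R) B k : Type u)) := by
    intro I k d
    let e := Algebra.TensorProduct.quotIdealMapEquivTensorQuot (tpow (R := R) B k : Type u) I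
    have he : e (Ideal.Quotient.mk _ d) = d ⊗ₜ[R] (1 : R ⧸ I) :=
      Algebra.TensorProduct.quotIdealMapEquivTensorQuot_mk _ _ _
    rw [← he, EmbeddingLike.map_eq_zero_iff, Ideal.Quotient.eq_zero_iff_mem]
  have surj : ∀ (I : Ideal R) (k : ℕ) (u : (tpow (R := R) B k : Type u) ⊗[R] (R ⧸ I)),
      ∃ d, d ⊗ₜ[R] (1 : R ⧸ I) = u := by
    intro I k u
    exact (LinearMap.range_eq_top (f := (TensorProduct.mk R (tpow (R := R) B k : Type u) (R ⧸ I)).flip 1)).mp (by
      rw [eq_top_iff, ← TensorProduct.span_tmul_eq_top, Submodule.span_le]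
      rintro _ ⟨d, r, rfl⟩
      obtain ⟨r, rfl⟩ := Ideal.Quotient.mk_surjective r
      refine ⟨r • d, ?_⟩
      change (r • d) ⊗ₜ[R] (1 : R ⧸ I) = _
      rw [TensorProduct.smul_tmul, Algebra.smul_def, _root_.mul_one, Ideal.Quotient.algebraMap_eq]) u
  obtain ⟨w₁, hw₁⟩ := (tDM_exact (C := B) (R ⧸ b) (m + 1) (v ⊗ₜ[R] (1 : R ⧸ b))).mp (by
    rw [tDM_tmul]
    exact (hker b _ _).mpr h)
  obtain ⟨w₀, rfl⟩ := surj b _ w₁
  have hw : dD B (m + 1) w₀ - v ∈ b.map (algebraMap R (tpow (R := R) B (m + 2) : Type u)) := by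
    rw [tDM_tmul] at hw₁
    refine (hker b _ _).mp ?_
    rw [TensorProduct.sub_tmul]
    exact sub_eq_zero.mpr hw₁
  obtain ⟨u₁, hu₁⟩ := (tDM_exact (C := B) (R ⧸ I) m (w₀ ⊗ₜ[R] (1 : R ⧸ I))).mp (by
    rw [tDM_tmul]
    refine (hker I _ _).mpr ?_
    have := Ideal.add_mem _ (Ideal.map_mono hb hw) hv
    rwa [sub_add_cancel] at this)
  obtain ⟨u₀, rfl⟩ := surj I _ u₁
  rw [tDM_tmul] at hu₁
  refine ⟨w₀ - dD B m u₀, (hker I _ _).mp ?_, ?_⟩
  · rw [TensorProduct.sub_tmul]
    exact sub_eq_zero.mpr hu₁.symm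
  · have h0 : dD B (m + 1) (dD B m u₀) = 0 := by
      have := AdeqLib.tDM_comp (C := B) R m (u₀ ⊗ₜ[R] (1 : R))
      rw [tDM_tmul, tDM_tmul] at this
      simpa using congrArg (TensorProduct.rid R _) this
    rwa [map_sub, h0, sub_zero]

section Pushed

variable {T₁ : Scheme.{u}} {t₁ : T₁ ⟶ S} (f : T₁ ⟶ T) [IsClosedImmersion f] {j₁ : T₀ ⟶ T₁} [IsClosedImmersion j₁]

omit [IsClosedImmersion j] in
lemma rg_cu_push (hb : RingHom.ker f.appTop.hom ≤ RingHom.ker (j₁ ≫ f).appTop.hom) (D : Alg R') (x : Gam (sp a D))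
    [IsAffine T₁] [IsAffine (sp a D).left] [IsAffine ((Over.pullback f).obj (sp a D)).left] :
    rg (cu j₁ ((Over.pullback f).obj (sp a D))) ((cu f (sp a D)).left.appTop x) = 0 ↔
      spQ a D x ∈ ((RingHom.ker (j₁ ≫ f).appTop.hom).map (spψ a)).map (algebraMap R' D) := by
  let ρ : Gam (sp a D) →+* Gam ((Over.pullback f).obj (sp a D)) := (cu f (sp a D)).left.appTop.hom
  let K := RingHom.ker (j₁ ≫ f).appTop.hom
  have hf : Function.Surjective f.appTop.hom := (IsClosedImmersion.isAffine_surjective_of_isAffine f).2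
  have hK : RingHom.ker j₁.appTop.hom = K.map f.appTop.hom := by
    change _ = (RingHom.ker (j₁ ≫ f).appTop.hom).map _
    rw [Scheme.Hom.comp_appTop, CommRingCat.hom_comp, ← RingHom.comap_ker, Ideal.map_comap_of_surjective _ hf]
  have hcomm : ((Over.pullback f).obj (sp a D)).hom.appTop.hom.comp f.appTop.hom = ρ.comp (sp a D).hom.appTop.hom :=
    RingHom.ext fun r => by
      change (pullback.snd (sp a D).hom f).appTop (f.appTop r) = (pullback.fst (sp a D).hom f).appTop _
      rw [← appTop_comp_apply, ← appTop_comp_apply, pullback.condition]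
  have hρ : Function.Surjective ρ := (IsClosedImmersion.isAffine_surjective_of_isAffine
    (show Scheme.Hom _ _ from pullback.fst (sp a D).hom f)).2
  rw [rg_cu_eq_zero_iff, hK, Ideal.map_map, hcomm, ← Ideal.map_map]
  rw [show ((cu f (sp a D)).left.appTop x : Gam ((Over.pullback f).obj (sp a D))) = ρ x from rfl, ← Ideal.mem_comap,
    Ideal.comap_map_of_surjective ρ hρ, sup_eq_left.mpr]
  · rw [show (K.map (spψ a)).map (algebraMap R' D) = (K.map (sp a D).hom.appTop.hom).map (spQ a D).toRingHom by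
      rw [Ideal.map_map, Ideal.map_map]
      exact congrArg (fun φ => K.map φ) (RingHom.ext fun r => (spQ_str a D r).symm)]
    exact (Ideal.apply_mem_of_equiv_iff (f := spQ a D)).symm
  · intro y hy
    have hy' : (cu f (sp a D)).left.appTop y = 0 := hy
    exact Ideal.map_mono hb ((rg_cu_eq_zero_iff f (sp a D) y).mp hy')

/-- A thickening square zero relative to a subscheme gives exact Amitsur complexes. -/
theorem texact_push_infSh [Smooth G.hom] [IsAffine T₁]
    (hsq : ∀ a b, j₁.appTop a = 0 → j₁.appTop b = 0 → a * b = 0) :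
    TExact ((BigSite.pushBig Scheme.fppfPrecoverage f AddCommGrpCat.{u + 1}).obj (infSh t₁ G j₁)) := by
  intro R' a B _ _ _ m z hz
  obtain ⟨C⟩ := exists_infChart t₁ G
  obtain ⟨n, x, l, hx, ladd, lsmul, lσ, ldec⟩ := C.exists_dual
  let W : ℕ → Over T := fun k => sp a (tpow B k)
  let U : ℕ → Over T₁ := fun k => (Over.pullback f).obj (W k)
  haveI : ∀ k, IsAffine (W k).left := fun k => inferInstanceAs (IsAffine (Spec _))
  haveI : ∀ k, IsAffine (U k).left := fun k =>
    haveI : IsClosedImmersion (cu f (W k)).left := inferInstanceAs (IsClosedImmersion (pullback.fst (W k).hom f))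
    isAffine_of_isAffineHom (cu f (W k)).left
  haveI : ∀ k, IsAffine ((Over.map j₁).obj ((Over.pullback j₁).obj (U k))).left := fun k => isAffine_cu j₁ (U k)
  have hg : ∀ k, SqZero (cu j₁ (U k)) := fun k => sqZero_cu hsq (U k)
  let q : ∀ k, Gam (W k) ≃+* (tpow (R := R') B k : Type u) := fun k => spQ a (tpow B k)
  let ρ : ∀ k, Gam (W k) →+* Gam (U k) := fun k => (cu f (W k)).left.appTop.hom
  let π : ∀ k, (tpow (R := R') B k : Type u) →+* Gam (U k) := fun k => (ρ k).comp (q k).symm.toRingHom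
  let b : Ideal R' := (RingHom.ker f.appTop.hom).map (spψ a)
  let I : Ideal R' := (RingHom.ker (j₁ ≫ f).appTop.hom).map (spψ a)
  have hb₀ : RingHom.ker f.appTop.hom ≤ RingHom.ker (j₁ ≫ f).appTop.hom := fun r hr => by
    rw [RingHom.mem_ker] at hr ⊢
    change (j₁ ≫ f).appTop r = 0
    rw [appTop_comp_apply, show f.appTop r = 0 from hr, map_zero]
  have hb : b ≤ I := Ideal.map_mono hb₀
  have hπb : ∀ k d, π k d = 0 ↔ d ∈ b.map (algebraMap R' _) := fun k d => by
    refine (rg_cu_spQ (j := f) a (tpow B k) ((q k).symm d)).trans ?_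
    rw [RingEquiv.apply_symm_apply]
  have hπI : ∀ k d, rg (cu j₁ (U k)) (π k d) = 0 ↔ d ∈ I.map (algebraMap R' _) := fun k d => by
    refine (rg_cu_push a f hb₀ (tpow B k) ((q k).symm d)).trans ?_
    rw [RingEquiv.apply_symm_apply]
  have hπs : ∀ k, Function.Surjective (π k) := fun k => by
    haveI : IsClosedImmersion (cu f (W k)).left := inferInstanceAs (IsClosedImmersion (pullback.fst (W k).hom f))
    exact (IsClosedImmersion.isAffine_surjective_of_isAffine (cu f (W k)).left).2.comp (q k).symm.surjective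
  let fc : ∀ i, Fin (i + 1) → (U (i + 1) ⟶ U i) := fun i k => (Over.pullback f).map (spm a (face B i k))
  have hπnat : ∀ i k d, rg (fc i k) (π i d) = π (i + 1) ((face B i k).hom d) := fun i k d => by
    have e := congrArg (fun m => Over.Hom.left m) ((Over.mapPullbackAdj f).counit.naturality (spm a (face B i k)))
    have e' := congrArg (fun φ : _ ⟶ (W i).left => φ.appTop ((q i).symm d)) e
    simp only [Over.comp_left] at e'
    rw [appTop_comp_apply, appTop_comp_apply] at e'
    refine e'.trans (congrArg (ρ (i + 1)) ?_)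
    refine (RingEquiv.eq_symm_apply (q (i + 1))).mpr ?_
    refine (spQ_natural a (face B i k) ((q i).symm d)).trans ?_
    rw [RingEquiv.apply_symm_apply]
  obtain ⟨Dz, hDz, hDz0⟩ := InfChart.exists_log_of_ker (C := C) (hg _) _ (rP_infPts t₁ G j₁ (U (m + 2)) z)
  choose v hv₀ using fun k => hπs (m + 2) (Dz (x k))
  -- coordinates of the differential
  let NN := (BigSite.pushBig Scheme.fppfPrecoverage f AddCommGrpCat.{u + 1}).obj (infSh t₁ G j₁)
  have hd : ∀ i (y : (algF a NN.obj).obj (tpow B i)) (D : Γ(C.O, ⊤) → Gam (U i))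
      (d : Γ(C.O, ⊤) → (tpow (R := R') B i : Type u)), (∀ c, π i (d c) = D c) →
      C.Log (infPts t₁ G j₁ (U i) y) D → (∀ c, rg (cu j₁ (U i)) (D c) = 0) →
      C.Log (infPts t₁ G j₁ (U (i + 1)) (AdeqLib.dA B (algF a NN.obj) i y)) fun c => π (i + 1) (dD B i (d c)) := by
    intro i y D d hdD hD hD0
    have hk : ∀ (k : Fin (i + 1)) c, rg (cu j₁ (U (i + 1))) (rg (fc i k) (D c)) = 0 := fun k c => by
      rw [← hdD, hπnat, hπI]
      have := Ideal.mem_map_of_mem (face B i k).hom.toRingHom ((hπI i (d c)).mp (by rw [hdD]; exact hD0 c))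
      rw [Ideal.map_map, AlgHom.toRingHom_eq_coe, AlgHom.comp_algebraMap] at this
      exact this
    have hs := InfChart.log_sum (hg (i + 1)) Finset.univ (fun k : Fin (i + 1) => (k : ℕ)) (fun k => hD.map (fc i k)) hk
    have e1 : infPts t₁ G j₁ (U (i + 1)) (AdeqLib.dA B (algF a NN.obj) i y) =
        ∑ k : Fin (i + 1), (-1 : ℤ) ^ (k : ℕ) • rP t₁ G (fc i k) (infPts t₁ G j₁ (U i) y) := by
      rw [AdeqLib.dA_apply]
      refine (map_sum _ _ _).trans (Finset.sum_congr rfl fun k _ => ?_)
      refine (map_zsmul _ _ _).trans (congrArg _ ?_)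
      exact infPts_map t₁ G j₁ (fc i k) y
    rw [e1]
    convert hs using 1
    funext c
    simp only [dD, tD, LinearMap.coe_sum, Finset.sum_apply, LinearMap.smul_apply, AlgHom.toLinearMap_apply, ← hdD, hπnat]
    exact (map_sum (π (i + 1)) _ _).trans (Finset.sum_congr rfl fun k _ => map_zsmul (π (i + 1)) _ _)
  have lmul : ∀ c c', l (c * c') = C.eps c • l c' + C.eps c' • l c := fun c c' => by
    have hX : ∀ c, C.eps (∑ k, C.σ.appTop (l c k) * x k) = 0 := fun c => by simp [map_sum, hx]
    have e : c * c' + C.σ.appTop (C.eps c * C.eps c') = C.σ.appTop (C.eps c) * c' + C.σ.appTop (C.eps c') * c := by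
      have h0 := C.sq _ _ (hX c) (hX c')
      rw [map_mul]
      linear_combination h0 + (c' - C.σ.appTop (C.eps c')) * ldec c +
        (∑ k, C.σ.appTop (l c k) * x k) * ldec c'
    have := congrArg l e
    rwa [ladd, ladd, lsmul, lsmul, lσ, add_zero] at this
  choose lr hlr using fun (c : Γ(C.O, ⊤)) (k : Fin n) =>
    ((IsClosedImmersion.isAffine_surjective_of_isAffine f).2 (l c k))
  let sc : Γ(C.O, ⊤) → Fin n → R' := fun c k => spψ a (lr c k)
  have hπr : ∀ i c k, π i (algebraMap R' _ (sc c k)) = (U i).hom.appTop (l c k) := fun i c k => by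
    rw [← hlr c k]
    change ρ i ((q i).symm (algebraMap R' _ (spψ a (lr c k)))) = _
    rw [← spQ_str a (tpow B i), RingEquiv.symm_apply_apply]
    change (pullback.fst (W i).hom f).appTop _ = (pullback.snd (W i).hom f).appTop _
    rw [← appTop_comp_apply, ← appTop_comp_apply, pullback.condition]
  have hlin : ∀ c, Dz c = π (m + 2) (∑ k, sc c k • v k) := fun c => by
    obtain ⟨za, zσ, zm⟩ := hDz.w
    have hsum : ∀ s : Finset (Fin n), Dz (∑ k ∈ s, C.σ.appTop (l c k) * x k) =
        ∑ k ∈ s, (U (m + 2)).hom.appTop (l c k) * Dz (x k) := fun s => by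
      have z0 : Dz 0 = 0 := by simpa using zσ 0
      induction s using Finset.induction_on with
      | empty => simpa using z0
      | insert k s hk ih => rw [Finset.sum_insert hk, Finset.sum_insert hk, za, ih, zm, zσ, hx, C.eps_σ, map_zero]; ring
    conv_lhs => rw [ldec c, za, zσ, zero_add, hsum]
    rw [map_sum]
    exact Finset.sum_congr rfl fun k _ => by rw [Algebra.smul_def, map_mul, hπr, hv₀]
  have hv : ∀ k, dD B (m + 2) (v k) ∈ b.map (algebraMap R' _) := fun k => by
    have h1 := hd _ z Dz (fun c => ∑ k, sc c k • v k) (fun c => (hlin c).symm) hDz hDz0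
    rw [hz, map_zero] at h1
    rw [← hπb]
    have h2 := congrFun (h1.unique (C.log_zero _)) (x k)
    have e : π (m + 2) (∑ i, sc (x k) i • v i) = π (m + 2) (v k) := (hlin (x k)).symm.trans (hv₀ k).symm
    rw [← sub_eq_zero, ← map_sub, hπb] at e
    refine (sub_eq_zero.mp ?_).trans h2
    rw [← map_sub, hπb, ← map_sub]
    have hmap : ∀ d, d ∈ b.map (algebraMap R' (tpow (R := R') B (m + 2) : Type u)) →
        dD B (m + 2) d ∈ b.map (algebraMap R' (tpow (R := R') B (m + 2 + 1) : Type u)) := fun d hd => by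
      simp only [dD, tD, LinearMap.coe_sum, Finset.sum_apply, LinearMap.smul_apply, AlgHom.toLinearMap_apply]
      refine Ideal.sum_mem _ fun i _ => zsmul_mem ?_ _
      have := Ideal.mem_map_of_mem (face B (m + 2) i).hom.toRingHom hd
      rw [Ideal.map_map, AlgHom.toRingHom_eq_coe, AlgHom.comp_algebraMap] at this
      exact this
    rw [← neg_sub, map_neg]
    exact neg_mem (hmap _ e)
  choose w hwI hw using fun k =>
    exists_bd_of_mem b I hb m (v k) ((hπI _ _).mp (by rw [hv₀]; exact hDz0 (x k))) (hv k)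
  let dy : Γ(C.O, ⊤) → (tpow (R := R') B (m + 1) : Type u) := fun c => ∑ k, sc c k • w k
  let Dy : Γ(C.O, ⊤) → Gam (U (m + 1)) := fun c => ∑ k, (U (m + 1)).hom.appTop (l c k) * π (m + 1) (w k)
  have hdy : ∀ c, π (m + 1) (dy c) = Dy c := fun c => by
    simp only [dy, Dy, map_sum, Algebra.smul_def, map_mul, hπr]
  have hDy0 : ∀ c, rg (cu j₁ (U (m + 1))) (Dy c) = 0 := fun c => by
    have hwk : ∀ k, rg (cu j₁ (U (m + 1))) (π (m + 1) (w k)) = 0 := fun k => (hπI _ _).mpr (hwI k)
    simp only [Dy, map_sum, map_mul, hwk, mul_zero, Finset.sum_const_zero]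
  obtain ⟨y', hy'⟩ := InfChart.exists_log (C := C) Dy
    (fun c c' => by simp only [Dy, ladd, Pi.add_apply, map_add, add_mul, Finset.sum_add_distrib])
    (fun r => by simp only [Dy, lσ, Pi.zero_apply, map_zero, zero_mul, Finset.sum_const_zero])
    (fun c c' => by
      simp only [Dy, lmul, Pi.add_apply, Pi.smul_apply, smul_eq_mul, map_add, map_mul, Finset.mul_sum,
        ← Finset.sum_add_distrib]
      exact Finset.sum_congr rfl fun k _ => by ring)
    (fun c c' => (hg (m + 1)).2 _ _ (hDy0 c) (hDy0 c'))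
  have hy0 : rP t₁ G (cu j₁ (U (m + 1))) y' = 0 := by
    have h1 := hy'.map (cu j₁ (U (m + 1)))
    simp only [hDy0] at h1
    exact h1.eq (C.log_zero _)
  obtain ⟨y, hy⟩ := exists_infPts t₁ G j₁ (U (m + 1)) y' hy0
  refine ⟨y, infPts_injective t₁ G j₁ (U (m + 2)) ?_⟩
  have h1 := hd _ y Dy dy hdy (hy ▸ hy') hDy0
  have e : (fun c => π (m + 2) (dD B (m + 1) (dy c))) = Dz := funext fun c => by
    rw [hlin c, ← sub_eq_zero, ← map_sub, hπb]
    simp only [dy, map_sum, map_smul, ← Finset.sum_sub_distrib, ← smul_sub]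
    exact Ideal.sum_mem _ fun k _ => by rw [Algebra.smul_def]; exact Ideal.mul_mem_left _ _ (hw k)
  exact InfChart.Log.eq (e ▸ h1) hDz

end Pushed

end Groth.Agent.BigSiteLib
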