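import Groth.Agent.BigSiteLib.SmHenStep
import Groth.Agent.BigSiteLib.SmHenSol
import Groth.Agent.BigSiteLib.SmInfExact
import Mathlib.RingTheory.Unramified.LocalRing

/-!
Flat cohomology of smooth commutative group schemes over a henselian local ring is that of the closed point.
-/

set_option autoImplicit false
set_option linter.style.haveILetI false
set_option backward.isDefEq.respectTransparency false
set_option backward.isDefEq.respectTransparency.types false
set_option backward.defeqAttrib.useBackward true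
set_option linter.auxLemma false
universe u

noncomputable section

namespace Groth.Agent.BigSiteLib

open CategoryTheory Limits Opposite Abelian AlgebraicGeometry MonObj MonoidalCategory CartesianMonoidalCategory

attribute [local instance 100000] EtCoh.H._proof_1 EtMV.hext
attribute [local instance 200000] EtMV.hextAb

/-- The closed point as a subscheme. -/
abbrev cl (R : CommRingCat.{u}) [IsLocalRing R] : Spec (CommRingCat.of (IsLocalRing.ResidueField R)) ⟶ Spec R :=
  Spec.map (CommRingCat.ofHom (IsLocalRing.residue R))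

instance (R : CommRingCat.{u}) [IsLocalRing R] : IsClosedImmersion (cl R) :=
  IsClosedImmersion.spec_of_surjective _ IsLocalRing.residue_surjective

variable {R : CommRingCat.{u}} [HenselianLocalRing R]

/-- The closed fibre of a finite étale henselian local scheme is its closed point. -/
theorem exists_fibre {A : CommRingCat.{u}} [HenselianLocalRing A] (a : Spec A ⟶ Spec R) [IsFinite a] [Etale a] :
    (∃ i, i ≫ pullback.fst a (cl R) = cl A) ∧ ∃ h, h ≫ cl A = pullback.fst a (cl R) := by
  obtain ⟨ψ, rfl⟩ := Spec.map_surjective a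
  have hfin : ψ.hom.Finite := by rw [← IsFinite.SpecMap_iff]; infer_instance
  have het : ψ.hom.Etale := by rw [← HasRingHomProperty.Spec_iff (P := @Etale)]; infer_instance
  algebraize [ψ.hom]
  haveI : IsLocalHom (algebraMap R A) := ⟨fun r hr => by
    by_contra h
    have h1 : (IsLocalRing.maximalIdeal A).comap (algebraMap R A) = IsLocalRing.maximalIdeal R :=
      IsLocalRing.eq_maximalIdeal (Ideal.isMaximal_comap_of_isIntegral_of_isMaximal (R := R) _)
    have h2 : r ∈ IsLocalRing.maximalIdeal R := h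
    rw [← h1, Ideal.mem_comap] at h2
    exact h2 hr⟩
  have hm : (IsLocalRing.maximalIdeal R).map (algebraMap R A) = IsLocalRing.maximalIdeal A :=
    Algebra.FormallyUnramified.map_maximalIdeal
  refine ⟨⟨pullback.lift (cl A) (Spec.map (CommRingCat.ofHom (IsLocalRing.ResidueField.map (algebraMap R A)))) ?_,
    pullback.lift_fst _ _ _⟩, ?_⟩
  · rw [← Spec.map_comp, ← Spec.map_comp]
    rfl
  · let W := pullback (Spec.map ψ) (cl R)
    let q := (Scheme.ΓSpecIso A).inv ≫ (pullback.fst (Spec.map ψ) (cl R)).appTop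
    have hq : IsLocalRing.maximalIdeal A ≤ RingHom.ker q.hom := by
      rw [← hm, Ideal.map_le_iff_le_comap]
      intro r hr
      have h := congrArg (fun f => (Scheme.ΓSpecIso R).inv ≫ f.appTop)
        (pullback.condition (f := Spec.map ψ) (g := cl R))
      simp only [Scheme.Hom.comp_appTop] at h
      rw [← Category.assoc, ← Scheme.ΓSpecIso_inv_naturality, Category.assoc,
        ← Category.assoc (Scheme.ΓSpecIso R).inv, ← Scheme.ΓSpecIso_inv_naturality, Category.assoc] at h
      have h' := congr($h r)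
      simp only [CommRingCat.comp_apply] at h'
      refine h'.trans ?_
      change (pullback.snd (Spec.map ψ) (cl R)).appTop ((Scheme.ΓSpecIso _).inv (IsLocalRing.residue R r)) = 0
      rw [(IsLocalRing.residue_eq_zero_iff r).mpr hr, map_zero, map_zero]
    refine ⟨W.toSpecΓ ≫ Spec.map (CommRingCat.ofHom (Ideal.Quotient.lift (IsLocalRing.maximalIdeal A) q.hom fun x hx => hq hx)), ?_⟩
    rw [Category.assoc, ← Spec.map_comp, show CommRingCat.ofHom (IsLocalRing.residue A) ≫
      CommRingCat.ofHom (Ideal.Quotient.lift (IsLocalRing.maximalIdeal A) q.hom fun x hx => hq hx) = q from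
        CommRingCat.hom_ext (Ideal.Quotient.lift_comp_mk _ _ _)]
    simp only [q, Spec.map_comp, ← Scheme.toSpecΓ_naturality_assoc]
    rw [← Scheme.toSpecΓ_naturality_assoc, ← SpecMap_ΓSpecIso_hom, ← Spec.map_comp, Iso.inv_hom_id, Spec.map_id,
      Category.comp_id]

variable {S : Scheme.{u}} (t : Spec R ⟶ S) (G : Over S) [GrpObj G] [IsCommMonObj G]

/-- Restriction of points to the closed point is surjective near each point. -/
theorem exists_lift_closed [Smooth G.hom] {A : CommRingCat.{u}} [HenselianLocalRing A] (a : Spec A ⟶ Spec R) [IsFinite a]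
    [Etale a] (y₀ : pullback a (cl R) ⟶ G.left)
    (w : y₀ ≫ G.hom = pullback.fst a (cl R) ≫ a ≫ t) :
    ∃ y : Spec A ⟶ G.left, y ≫ G.hom = a ≫ t ∧ pullback.fst a (cl R) ≫ y = y₀ := by
  obtain ⟨⟨i, hi⟩, h, hh⟩ := exists_fibre a
  let z : Spec (CommRingCat.of (IsLocalRing.ResidueField A)) ⟶ G.left := i ≫ y₀
  have hz : z ≫ G.hom = cl A ≫ a ≫ t := by rw [Category.assoc, w, reassoc_of% hi]
  let d : Spec (CommRingCat.of (IsLocalRing.ResidueField A)) := IsLocalRing.closedPoint _
  have hp : (a ≫ t) (IsLocalRing.closedPoint A) = G.hom (z d) := by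
    rw [← Scheme.Hom.comp_apply, hz, Scheme.Hom.comp_apply]
    exact congrArg (a ≫ t) (IsLocalRing.PrimeSpectrum.comap_residue A d).symm
  obtain ⟨S₁, hS₁, hp₁, -⟩ := exists_isAffineOpen_mem_and_subset (U := (⊤ : S.Opens)) (x := G.hom (z d)) trivial
  obtain ⟨O, hO, hpO, hO₁⟩ := exists_isAffineOpen_mem_and_subset (U := G.hom ⁻¹ᵁ S₁) (x := z d) hp₁
  haveI : IsAffine O.toScheme := hO
  haveI : IsAffine S₁.toScheme := hS₁
  let σ : O.toScheme ⟶ S₁.toScheme := G.hom.resLE S₁ O hO₁
  haveI : Smooth σ := inferInstanceAs (Smooth (G.hom.resLE S₁ O hO₁))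
  have hr : Set.range (a ≫ t) ⊆ Set.range S₁.ι := by
    rw [Scheme.Opens.range_ι]
    rintro _ ⟨q, rfl⟩
    exact ((IsLocalRing.specializes_closedPoint (R := A) q).map (a ≫ t).continuous).mem_open S₁.isOpen
      (hp ▸ hp₁)
  have hr₀ : Set.range z ⊆ Set.range O.ι := by
    rw [Scheme.Opens.range_ι]
    rintro _ ⟨q, rfl⟩
    rw [Subsingleton.elim q d]
    exact hpO
  have hsurj : Function.Surjective (cl A).appTop := (IsClosedImmersion.isAffine_surjective_of_isAffine (cl A)).2
  haveI : HenselianRing Γ(Spec A, ⊤) (RingHom.ker (cl A).appTop.hom) := by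
    let e : A ≃+* Γ(Spec A, ⊤) := (Scheme.ΓSpecIso A).commRingCatIsoToRingEquiv.symm
    have he : RingHom.ker (cl A).appTop.hom = (IsLocalRing.maximalIdeal A).map e.toRingHom := by
      ext x
      obtain ⟨x, rfl⟩ := e.surjective x
      rw [RingEquiv.toRingHom_eq_coe, RingHom.mem_ker]
      refine Iff.trans ?_ (Ideal.apply_mem_of_equiv_iff (f := e)).symm
      rw [← IsLocalRing.residue_eq_zero_iff,
        show (cl A).appTop.hom (e x) = (Scheme.ΓSpecIso _).inv (IsLocalRing.residue A x) from
          (congr($(Scheme.ΓSpecIso_inv_naturality (CommRingCat.ofHom (IsLocalRing.residue A))) x)).symm]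
      exact map_eq_zero_iff _ (Scheme.ΓSpecIso _).commRingCatIsoToRingEquiv.symm.injective
    rw [he]
    exact Hensel.henselianRing_of_ringEquiv e _
  obtain ⟨y, hy, hgy⟩ := exists_lift_affine σ (cl A) hsurj (IsOpenImmersion.lift S₁.ι (a ≫ t) hr)
    (IsOpenImmersion.lift O.ι z hr₀) (by
      rw [← cancel_mono S₁.ι]
      simp only [σ, Category.assoc, Scheme.Hom.resLE_comp_ι, IsOpenImmersion.lift_fac]
      rw [IsOpenImmersion.lift_fac_assoc, hz])
  refine ⟨y ≫ O.ι, ?_, ?_⟩
  · rw [Category.assoc, ← Scheme.Hom.resLE_comp_ι G.hom hO₁, reassoc_of% hy, IsOpenImmersion.lift_fac]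
  · have hi' : h ≫ i = 𝟙 _ := by
      rw [← cancel_mono (pullback.fst a (cl R)), Category.assoc, hi, hh, Category.id_comp]
    calc pullback.fst a (cl R) ≫ y ≫ O.ι = h ≫ (cl A ≫ y) ≫ O.ι := by rw [Category.assoc, reassoc_of% hh]
      _ = h ≫ z := by rw [hgy, IsOpenImmersion.lift_fac]
      _ = y₀ := by rw [← Category.assoc, hi', Category.id_comp]

/-- Restriction of points to the closed point is surjective on the small étale site. -/
theorem epi_etaE_closed [Smooth G.hom] : Epi (etaE (cl R) (ptsT t G)) := by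
  have hls : Sheaf.IsLocallySurjective (etaE (cl R) (ptsT t G)) := ⟨fun {U} s => by
    have eY : (Spec R).smallEtaleTopology =
        ((Spec R).smallPretopology (P := EtCoh.etaleMP) (Q := EtCoh.etaleMP)).toGrothendieck :=
      Scheme.smallGrothendieckTopology_eq_toGrothendieck_smallPretopology _ le_rfl
    refine Eq.mpr (congrArg (fun J : GrothendieckTopology (Spec R).Etale =>
      Presheaf.imageSieve (etaE (cl R) (ptsT t G)).hom s ∈ J U) eY) ?_
    refine (Scheme.mem_toGrothendieck_smallPretopology U _).2 fun u => ?_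
    haveI : Etale U.hom := U.prop
    by_cases hu : U.hom u = IsLocalRing.closedPoint R
    · obtain ⟨V, hV, huV, -⟩ := exists_isAffineOpen_mem_and_subset (U := (⊤ : U.left.Opens)) (x := u) trivial
      haveI : IsAffine V.toScheme := hV
      obtain ⟨ho, -, hfin, het, -⟩ := TwConst.main_local (R := R) (V.ι ≫ U.hom) ⟨u, huV⟩ hu
      haveI := ho
      haveI := hfin
      haveI := het
      let A : CommRingCat.{u} := V.toScheme.presheaf.stalk ⟨u, huV⟩
      haveI : HenselianLocalRing A := by
        obtain ⟨ψ, hψ⟩ := Spec.map_surjective (V.toScheme.fromSpecStalk ⟨u, huV⟩ ≫ V.ι ≫ U.hom)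
        have hf : ψ.hom.Finite := by
          rw [← IsFinite.SpecMap_iff, hψ]
          exact hfin
        letI : Algebra R A := ψ.hom.toAlgebra
        haveI : Module.Finite R A := hf
        exact Hensel.henselianLocalRing_finite R A
      let ρ : Spec A ⟶ U.left := V.toScheme.fromSpecStalk ⟨u, huV⟩ ≫ V.ι
      let a : Spec A ⟶ Spec R := V.toScheme.fromSpecStalk ⟨u, huV⟩ ≫ V.ι ≫ U.hom
      let E : (Spec R).Etale := Scheme.Etale.mk a
      let k : E ⟶ U := MorphismProperty.Over.homMk ρ (Category.assoc _ _ _) trivial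
      let Z : Over (Spec R) := (EtFppf.a (Spec R)).obj E
      let s₁ := secP t G _ (((pp (cl R)).obj (ptsT t G)).obj.map ((EtFppf.a (Spec R)).map k).op s)
      obtain ⟨y, hy, hy₀⟩ := exists_lift_closed t G a (pl t G s₁) ((pl_w s₁).trans (by
        change (pullback.snd a (cl R) ≫ cl R) ≫ t = pullback.fst a (cl R) ≫ a ≫ t
        rw [← pullback.condition, Category.assoc]))
      refine ⟨E, k, IsLocalRing.closedPoint A, ⟨(secP t G Z).symm (mkP t G y hy), ?_⟩,
        inferInstanceAs (Etale (V.toScheme.fromSpecStalk ⟨u, huV⟩ ≫ V.ι)), ?_⟩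
      · apply (secP t G _).injective
        refine ((secP_map t G (cu (cl R) Z) _).trans (pts_ext ?_)).trans (rfl : s₁ = _)
        rw [AddEquiv.apply_symm_apply, pl_rP, pl_mkP]
        exact hy₀
      · change V.ι ((V.toScheme.fromSpecStalk ⟨u, huV⟩) (IsLocalRing.closedPoint A)) = u
        rw [Scheme.fromSpecStalk_closedPoint]
        rfl
    · let O : U.left.Opens := U.hom ⁻¹ᵁ ⟨{IsLocalRing.closedPoint R}ᶜ, (IsLocalRing.isClosed_singleton_closedPoint R).isOpen_compl⟩
      haveI : Etale (O.ι ≫ U.hom) := inferInstance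
      let E : (Spec R).Etale := Scheme.Etale.mk (O.ι ≫ U.hom)
      let k : E ⟶ U := MorphismProperty.Over.homMk O.ι rfl trivial
      let Z₀ : Over (Spec R) := (Over.map (cl R)).obj ((Over.pullback (cl R)).obj ((EtFppf.a (Spec R)).obj E))
      haveI : IsEmpty Z₀.left := ⟨fun q => by
        let q' : (pullback (O.ι ≫ U.hom) (cl R) : Scheme.{u}) := q
        have h := congr($(pullback.condition (f := O.ι ≫ U.hom) (g := cl R)) q')
        simp only [Scheme.Hom.comp_apply] at h
        exact ((pullback.fst (O.ι ≫ U.hom) (cl R)) q').2 (h.trans (IsLocalRing.PrimeSpectrum.comap_residue R _))⟩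
      exact ⟨E, k, ⟨u, hu⟩, ⟨0, (map_zero _).trans ((AdeqLib.subsingleton_empty (ptsT t G) Z₀).elim _ _)⟩,
        inferInstanceAs (Etale O.ι), rfl⟩⟩
  infer_instance

/-- Restriction of points to a composite. -/
def ptsIso {T' : Scheme.{u}} (a : T' ⟶ Spec R) :
    resPsh a (ptsT t G) ≅ resPsh (a ≫ t) (CGrpSh.pts Scheme.fppfPrecoverage G) :=
  (sheafToPresheaf _ _).mapIso
    (((Scheme.fppfPrecoverage.toGrothendieck).overMapPullbackComp AddCommGrpCat.{u + 1} a t).app _)

lemma secP_eq_mov {T' : Scheme.{u}} (a : T' ⟶ Spec R) (U : Over T') (x : (resPsh a (ptsT t G)).obj (op U)) :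
    secP t G ((Over.map a).obj U) x = mov t G a U
      (CGrpSh.sectEquiv Scheme.fppfPrecoverage G ((Over.map (a ≫ t)).obj U) ((ptsIso t G a).hom.app (op U) x)) := by
  refine pts_ext ?_
  rw [pl_mov]
  exact (Category.id_comp _).symm

lemma eta_eq_zero_iff {T' V : Scheme.{u}} (a : T' ⟶ Spec R) (p : V ⟶ T') :
    ∀ (n : ℕ) (U : Over T') (x : (it p n (resPsh a (ptsT t G))).obj (op U)),
      (itMap p n (etaR (cl R) a (ptsT t G))).app (op U) x = 0 ↔
        rP t G (cu (cl R) ((Over.map a).obj (pbn p n U)))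
          (mov t G a _ (tP (a ≫ t) G p n U ((itMap p n (ptsIso t G a).hom).app (op U) x))) = 0
  | 0, U, x => by
    refine Iff.trans ?_ (Eq.to_iff (congrArg (fun z => rP t G (cu (cl R) ((Over.map a).obj U)) z = 0)
      (secP_eq_mov t G a U x)))
    constructor
    · intro h
      exact ((secP_map t G _ x).symm.trans (congrArg (secP t G _) h)).trans (map_zero _)
    · intro h
      apply (secP t G _).injective
      exact ((secP_map t G (cu (cl R) ((Over.map a).obj U)) x).trans h).trans (map_zero _).symm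
  | n + 1, U, x => eta_eq_zero_iff a p n ((Over.map p).obj ((Over.pullback p).obj U)) x

/-- Vanishing on the closed fibre is vanishing at the closed point. -/
lemma rP_cu_eq_zero_iff {A : CommRingCat.{u}} [HenselianLocalRing A] (a : Spec A ⟶ Spec R) [IsFinite a] [Etale a]
    {V : Scheme.{u}} (p : V ⟶ Spec A) (m : ℕ) (z : Pts (a ≫ t) G (pbn p m (Over.mk (𝟙 (Spec A))))) :
    rP t G (cu (cl R) ((Over.map a).obj (pbn p m (Over.mk (𝟙 (Spec A)))))) (mov t G a _ z) = 0 ↔
      rP (a ≫ t) G (pbnMap p m (Over.homMk (cl A) (Category.comp_id _) :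
        Over.mk (cl A) ⟶ Over.mk (𝟙 (Spec A)))) z = 0 := by
  obtain ⟨⟨i, hi⟩, h, hh⟩ := exists_fibre a
  let Y₀ : Over (Spec A) := Over.mk (𝟙 (Spec A))
  let i₁ : Over.mk (cl A) ⟶ Y₀ := Over.homMk (cl A) (Category.comp_id _)
  let Z := pbn p m Y₀
  have hZ : (pbnPr p m Y₀).left = Z.hom := by
    refine Eq.trans ?_ (Over.w (pbnPr p m Y₀))
    exact (Category.comp_id _).symm
  have H := isPullback_pbnMap p m i₁
  let f := (pbnMap p m i₁).left
  let c := cu (cl R) ((Over.map a).obj Z)
  have hc : pullback.fst (Z.hom ≫ a) (cl R) ≫ Z.hom ≫ a = pullback.snd (Z.hom ≫ a) (cl R) ≫ cl R :=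
    pullback.condition
  -- the two maps between the closed fibres
  let r : pullback (Z.hom ≫ a) (cl R) ⟶ pullback a (cl R) :=
    pullback.lift (pullback.fst (Z.hom ≫ a) (cl R) ≫ Z.hom) (pullback.snd (Z.hom ≫ a) (cl R)) (by
      rw [Category.assoc]; exact hc)
  let u₁ : pullback (Z.hom ≫ a) (cl R) ⟶ (pbn p m (Over.mk (cl A))).left :=
    H.lift (pullback.fst (Z.hom ≫ a) (cl R)) (r ≫ h) (by
      rw [hZ]
      change _ = (r ≫ h) ≫ cl A
      rw [Category.assoc, hh, pullback.lift_fst])
  let u₂ : (pbn p m (Over.mk (cl A))).left ⟶ pullback (Z.hom ≫ a) (cl R) :=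
    pullback.lift f ((pbnPr p m (Over.mk (cl A))).left ≫ i ≫ pullback.snd a (cl R)) (by
      change (pbnMap p m i₁).left ≫ Z.hom ≫ a = _
      rw [← hZ, reassoc_of% H.w]
      simp only [Category.assoc]
      rw [← pullback.condition, reassoc_of% hi]
      rfl)
  constructor
  · intro h0
    refine pts_ext ?_
    have h1 := congrArg (fun y => u₂ ≫ pl t G y) h0
    simp only [pl_rP, pl_mov, pl_zero] at h1 ⊢
    change u₂ ≫ pullback.fst (Z.hom ≫ a) (cl R) ≫ _ = _ at h1
    rw [pullback.lift_fst_assoc] at h1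
    refine h1.trans ?_
    change u₂ ≫ (pullback.snd (Z.hom ≫ a) (cl R) ≫ cl R) ≫ t ≫ _ = _
    rw [← hc, ← Category.assoc u₂, pullback.lift_fst_assoc, ← Over.w (pbnMap p m i₁)]
    simp only [f, Category.assoc]
    rfl
  · intro h0
    refine pts_ext ?_
    have h1 := congrArg (fun y => u₁ ≫ pl (a ≫ t) G y) h0
    simp only [pl_rP, pl_mov, pl_zero] at h1 ⊢
    have e1 : u₁ ≫ (pbnMap p m i₁).left = pullback.fst (Z.hom ≫ a) (cl R) := H.lift_fst _ _ _
    rw [reassoc_of% e1] at h1
    refine h1.trans ?_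
    change _ = (pullback.snd (Z.hom ≫ a) (cl R) ≫ cl R) ≫ t ≫ _
    rw [← hc, ← Over.w (pbnMap p m i₁)]
    simp only [Category.assoc]
    rw [reassoc_of% e1]

variable [Smooth G.hom]

/-- Points have the property. -/
theorem kbd_ptsT : KBd (cl R) (ptsT t G) := by
  intro A _ a _ _ V p _ _ _ n c hc hc0
  let Y₀ : Over (Spec A) := Over.mk (𝟙 (Spec A))
  let e := ptsIso t G a
  let z := tP (a ≫ t) G p (n + 1) Y₀ ((itMap p (n + 1) e.hom).app (op Y₀) c)
  have hz : dPt (a ≫ t) G p (n + 1) Y₀ z = 0 := by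
    rw [← tP_dd]
    refine (congrArg (tP (a ≫ t) G p (n + 2) Y₀) ((dd_apply e.hom (n + 1) Y₀ c).trans ?_)).trans (map_zero _)
    exact (congrArg _ hc).trans (map_zero _)
  obtain ⟨x, hx, hx0⟩ := exists_sol_vanishing (t := a ≫ t) (G := G) p n (IsLocalRing.residue A)
    IsLocalRing.residue_surjective z hz ((rP_cu_eq_zero_iff t G a p (n + 1) z).mp
      ((eta_eq_zero_iff t G a p (n + 1) Y₀ c).mp hc0))
  have einv : ∀ (m : ℕ) y, (itMap p m e.hom).app (op Y₀) ((itMap p m e.inv).app (op Y₀) y) = y := fun m y => by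
    refine (ConcreteCategory.congr_hom (congrArg (fun φ => φ.app (op Y₀)) (itMap_comp p m e.inv e.hom)) y).symm.trans ?_
    rw [e.inv_hom_id, itMap_id]
    rfl
  have einj : Function.Injective ((itMap p (n + 1) e.hom).app (op Y₀)) := fun y y' h => by
    have h' := congrArg ((itMap p (n + 1) e.inv).app (op Y₀)) h
    have ee : ∀ y, (itMap p (n + 1) e.inv).app (op Y₀) ((itMap p (n + 1) e.hom).app (op Y₀) y) = y := fun y => by
      refine (ConcreteCategory.congr_hom (congrArg (fun φ => φ.app (op Y₀)) (itMap_comp p (n + 1) e.hom e.inv)) y).symm.trans ?_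
      rw [e.hom_inv_id, itMap_id]
      rfl
    rwa [ee, ee] at h'
  let b₁ := (tP (a ≫ t) G p n Y₀).symm x
  refine ⟨(itMap p n e.inv).app (op Y₀) b₁, ?_, ?_⟩
  · apply einj
    apply (tP (a ≫ t) G p (n + 1) Y₀).injective
    refine Eq.trans ?_ hx
    refine (congrArg (tP (a ≫ t) G p (n + 1) Y₀) (dd_apply e.hom n Y₀ _).symm).trans ?_
    rw [einv, tP_dd]
    exact congrArg _ ((tP (a ≫ t) G p n Y₀).apply_symm_apply x)
  · refine (eta_eq_zero_iff t G a p n Y₀ _).mpr ?_
    rw [einv, AddEquiv.apply_symm_apply]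
    exact (rP_cu_eq_zero_iff t G a p n x).mpr hx0

/-- Restriction to the closed point is bijective in positive degrees. -/
theorem bijective_pull_closed (n : ℕ) :
    Function.Bijective (HRes.pull Scheme.fppfPrecoverage (cl R) (ptsT t G) (n + 1)) := by
  haveI : IsFinite (cl R) := inferInstance
  haveI := epi_etaE_closed t G
  exact bijective_pull_of_rclass n _ (rclass_of_kbd _ (acyc_pullBig t (acyc_pts G)) (kbd_ptsT t G))

end Groth.Agent.BigSiteLib
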