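import Groth.Agent.TwConst.Henselian
import Groth.Agent.Hensel.Local

/-!
Finite étale schemes over a henselian local ring are disjoint unions of henselian local schemes.
-/

set_option autoImplicit false
set_option linter.style.haveILetI false
set_option backward.isDefEq.respectTransparency false
universe u

noncomputable section

namespace Groth.Agent.BigSiteLib

open CategoryTheory Limits Opposite AlgebraicGeometry

variable {R : CommRingCat.{u}} [HenselianLocalRing R]

/-- The closed point of the spectrum. -/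
abbrev cpR (R : CommRingCat.{u}) [IsLocalRing R] : Spec R := IsLocalRing.closedPoint R

/-- A closed map to a local scheme hits the closed point as soon as its source is nonempty. -/
lemma exists_over_closedPoint {Y : Scheme.{u}} (f : Y ⟶ Spec R) (hf : IsClosedMap f) {Z : Set Y} (hZ : IsClosed Z)
    {z : Y} (hz : z ∈ Z) : ∃ v ∈ Z, f v = cpR R :=
  (IsLocalRing.specializes_closedPoint (R := R) (f z)).mem_closed (hf Z hZ) ⟨z, hz, rfl⟩

/-- Decomposition into henselian local pieces indexed by the closed fibre. -/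
theorem exists_pieces {Y : Scheme.{u}} (f : Y ⟶ Spec R) [IsFinite f] [Etale f] :
    ∃ (A : {v : Y // f v = cpR R} → CommRingCat.{u}) (φ : ∀ v, Spec (A v) ⟶ Y),
      (∀ v, HenselianLocalRing (A v)) ∧ (∀ v, IsOpenImmersion (φ v)) ∧ (∀ v, IsFinite (φ v ≫ f)) ∧
        (∀ v, Etale (φ v ≫ f)) ∧ (∀ y, ∃ v, y ∈ Set.range (φ v)) ∧
          ∀ v w y, y ∈ Set.range (φ v) → y ∈ Set.range (φ w) → v = w := by
  have hmain := fun v : {v : Y // f v = cpR R} => TwConst.main_local (R := R) f v.1 v.2
  refine ⟨fun v => Y.presheaf.stalk v.1, fun v => Y.fromSpecStalk v.1, fun v => ?_, fun v => (hmain v).1,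
    fun v => (hmain v).2.2.1, fun v => (hmain v).2.2.2.1, fun y => ?_, fun v w y hv hw => ?_⟩
  · obtain ⟨ψ, hψ⟩ := Spec.map_surjective (Y.fromSpecStalk v.1 ≫ f)
    have hfin : ψ.hom.Finite := by
      rw [← IsFinite.SpecMap_iff, hψ]
      exact (hmain v).2.2.1
    letI : Algebra R (Y.presheaf.stalk v.1) := ψ.hom.toAlgebra
    haveI : Module.Finite R (Y.presheaf.stalk v.1) := hfin
    exact Hensel.henselianLocalRing_finite R (Y.presheaf.stalk v.1)
  · by_contra h
    let U : Set Y := ⋃ v : {v : Y // f v = cpR R}, Set.range (Y.fromSpecStalk v.1)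
    have hU : IsOpen U := isOpen_iUnion fun v => haveI := (hmain v).1; (Y.fromSpecStalk v.1).isOpenEmbedding.isOpen_range
    obtain ⟨v, hv, hfv⟩ := exists_over_closedPoint f f.isClosedMap hU.isClosed_compl
      (show y ∈ Uᶜ from fun hy => h (Set.mem_iUnion.mp hy))
    exact hv (Set.mem_iUnion.mpr ⟨⟨v, hfv⟩, IsLocalRing.closedPoint _, Scheme.fromSpecStalk_closedPoint⟩)
  · obtain ⟨b, rfl⟩ := hv
    have hb : Y.fromSpecStalk v.1 b ⤳ v.1 := by
      have h := (IsLocalRing.specializes_closedPoint (R := Y.presheaf.stalk v.1) b).map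
        (Y.fromSpecStalk v.1).continuous
      rwa [Scheme.fromSpecStalk_closedPoint] at h
    haveI := (hmain w).2.1
    obtain ⟨c, hc⟩ := hb.mem_closed (Y.fromSpecStalk w.1).isClosedEmbedding.isClosed_range hw
    have h := (IsLocalRing.specializes_closedPoint (R := Y.presheaf.stalk w.1) c).map
      (Y.fromSpecStalk w.1).continuous
    rw [Scheme.fromSpecStalk_closedPoint, hc] at h
    haveI : LocallyQuasiFinite f := inferInstance
    exact Subtype.ext (TwConst.eq_of_specializes f (v.2.trans w.2.symm) h)

end Groth.Agent.BigSiteLib
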