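import Groth.Agent.BigSiteLib.SmRestr
import Groth.Agent.BigSiteLib.SmHenCover
import Groth.Agent.EtMV.HenselNbhd
import Groth.Agent.AdeqLib.TExact

/-!
Over henselian local rings, sheaves whose finite étale Amitsur complexes of sections vanishing on a closed
subscheme are exact have no higher cohomology of such sections.
-/

set_option autoImplicit false
set_option linter.style.haveILetI false
set_option backward.isDefEq.respectTransparency false
set_option backward.isDefEq.respectTransparency.types false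
set_option backward.defeqAttrib.useBackward true
set_option linter.auxLemma false
universe u

noncomputable section

namespace Groth.Agent.BigSiteLib

open CategoryTheory Limits Opposite Abelian AlgebraicGeometry

attribute [local instance 100000] EtCoh.H._proof_1 EtMV.hext
attribute [local instance 200000] EtMV.hextAb

variable {T T₀ : Scheme.{u}} (j : T₀ ⟶ T)

/-- Restriction to the subscheme, after restriction to a scheme over the base. -/
abbrev etaR {T' : Scheme.{u}} (a : T' ⟶ T) (F : EtFppf.AbF T) : resPsh a F ⟶ resPsh a ((pp j).obj F) :=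
  resPshMap a (etaU j F)

/-- Cocycles vanishing on the subscheme, over finite étale henselian local schemes, are coboundaries of such. -/
def KBd (F : EtFppf.AbF T) : Prop :=
  ∀ (A : CommRingCat.{u}) [HenselianLocalRing A] (a : Spec A ⟶ T) [IsFinite a] [Etale a]
    (V : Scheme.{u}) (p : V ⟶ Spec A) [IsFinite p] [Etale p] [Surjective p] (n : ℕ)
    (c : ((Cp p).obj (it p n (resPsh a F))).obj (op (Over.mk (𝟙 (Spec A))))),
    (dstep p (dd p n (resPsh a F))).app _ c = 0 → (mapC p (itMap p n (etaR j a F))).app _ c = 0 →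
      ∃ b, (dd p n (resPsh a F)).app _ b = c ∧ (itMap p n (etaR j a F)).app _ b = 0

variable {j}

lemma etaU_comm {F F' : EtFppf.AbF T} (φ : F ⟶ F') (U : Over T) (x : F.obj.obj (op U)) :
    (etaU j F').hom.app (op U) (φ.hom.app (op U) x) =
      ((pp j).map φ).hom.app (op U) ((etaU j F).hom.app (op U) x) :=
  ConcreteCategory.congr_hom (congrArg (fun ψ => ψ.hom.app (op U))
    ((BigSite.bigAdj Scheme.fppfPrecoverage j AddCommGrpCat.{u + 1}).unit.naturality φ)) x

lemma itMap_comm {T' V : Scheme.{u}} (a : T' ⟶ T) (p : V ⟶ T') {F F' : EtFppf.AbF T} (φ : F ⟶ F') (n : ℕ)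
    (U : Over T') (x : (it p n (resPsh a F)).obj (op U)) :
    (itMap p n (etaR j a F')).app (op U) ((itMap p n (resPshMap a φ)).app (op U) x) =
      (itMap p n (resPshMap a ((pp j).map φ))).app (op U) ((itMap p n (etaR j a F)).app (op U) x) := by
  have e : resPshMap a φ ≫ etaR j a F' = etaR j a F ≫ resPshMap a ((pp j).map φ) := by
    refine NatTrans.ext (funext fun W => AddCommGrpCat.ext fun y => ?_)
    exact etaU_comm φ ((Over.map a).obj W.unop) y
  exact ((ConcreteCategory.congr_hom (congrArg (fun ψ => ψ.app (op U)) (itMap_comp p n (resPshMap a φ) (etaR j a F'))) x).symm.trans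
    (ConcreteCategory.congr_hom (congrArg (fun ψ => (itMap p n ψ).app (op U)) e) x)).trans
    (ConcreteCategory.congr_hom (congrArg (fun ψ => ψ.app (op U)) (itMap_comp p n (etaR j a F) (resPshMap a ((pp j).map φ)))) x)

lemma itMap_surjective {T' V : Scheme.{u}} (p : V ⟶ T') {P Q : Psh T'} (φ : P ⟶ Q)
    (h : ∀ U, Function.Surjective (φ.app (op U))) :
    ∀ (n : ℕ) (U : Over T'), Function.Surjective ((itMap p n φ).app (op U))
  | 0, U => h U
  | n + 1, U => itMap_surjective p φ h n ((Over.map p).obj ((Over.pullback p).obj U))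

lemma itMap_lift {T' V : Scheme.{u}} (p : V ⟶ T') {Y Y' Z Z' : Psh T'} (π : Y ⟶ Z) (η : Y ⟶ Y') (η' : Z ⟶ Z')
    (C : Over T' → Prop) (hC : ∀ U, C U → C ((Over.map p).obj ((Over.pullback p).obj U)))
    (h : ∀ U, C U → ∀ x, η'.app (op U) x = 0 → ∃ y, π.app (op U) y = x ∧ η.app (op U) y = 0) :
    ∀ (n : ℕ) (U : Over T'), C U → ∀ x, (itMap p n η').app (op U) x = 0 →
      ∃ y, (itMap p n π).app (op U) y = x ∧ (itMap p n η).app (op U) y = 0
  | 0, U, hU, x, hx => h U hU x hx
  | n + 1, U, hU, x, hx => itMap_lift p π η η' C hC h n _ (hC U hU) x hx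

lemma secExact_pp {X : ShortComplex (EtFppf.AbF T)} (hX : X.ShortExact) {T' : Scheme.{u}} (a : T' ⟶ T) :
    SecExact (resPshMap a ((pp j).map X.f)) (resPshMap a ((pp j).map X.g)) := fun U =>
  ⟨AdeqLib.sections_injective hX ((Over.map j).obj ((Over.pullback j).obj ((Over.map a).obj U))), fun y =>
    ⟨fun hy => AdeqLib.sections_exact hX
      (U := (Over.map j).obj ((Over.pullback j).obj ((Over.map a).obj U))) y hy, by
      rintro ⟨x, rfl⟩
      exact AdeqLib.g_f_zero (C := X) ((Over.map j).obj ((Over.pullback j).obj ((Over.map a).obj U))) x⟩⟩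

/-- Amitsur complexes of injective sheaves are exact. -/
lemma exists_bd_injective (I : EtFppf.AbF T) [Injective I] {T' V : Scheme.{u}} (a : T' ⟶ T) (p : V ⟶ T') [Flat p]
    [LocallyOfFinitePresentation p] [Surjective p] (n : ℕ) {U : Over T'}
    (c : ((Cp p).obj (it p n (resPsh a I))).obj (op U))
    (hc : (dstep p (dd p n (resPsh a I))).app (op U) c = 0) : ∃ b, (dd p n (resPsh a I)).app (op U) b = c := by
  let A := BigSite.bigAdj Scheme.fppfPrecoverage p AddCommGrpCat.{u + 1}
  let IT := (BigSite.pullBig Scheme.fppfPrecoverage a AddCommGrpCat.{u + 1}).obj I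
  haveI : Injective IT := injective_pullBig Scheme.fppfPrecoverage a I
  haveI : ∀ W, Mono ((A.unit.app IT).hom.app W) := fun W =>
    (AddCommGrpCat.mono_iff_injective _).mpr (injective_etaP p a I W.unop)
  haveI : Mono (A.unit.app IT) :=
    (sheafToPresheaf _ _).mono_of_mono_map (NatTrans.mono_of_mono_app (A.unit.app IT).hom)
  let ρ := Injective.factorThru (𝟙 IT) (A.unit.app IT)
  exact exists_bd_of_retract (p := p) (resPsh a I) ρ.hom
    (congrArg (sheafToPresheaf _ _).map (Injective.comp_factorThru (𝟙 IT) (A.unit.app IT))) n c hc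

lemma injective_pp (I : EtFppf.AbF T) [Injective I] : Injective ((pp j).obj I) := by
  haveI : Injective ((BigSite.pullBig Scheme.fppfPrecoverage j AddCommGrpCat.{u + 1}).obj I) :=
    injective_pullBig Scheme.fppfPrecoverage j I
  exact Injective.injective_of_adjoint (BigSite.bigAdj Scheme.fppfPrecoverage j AddCommGrpCat.{u + 1}) _

variable [IsClosedImmersion j]

/-- Injective sheaves have the property. -/
theorem kbd_injective (I : EtFppf.AbF T) [Injective I] : KBd j I := by
  intro A _ a _ _ V p _ _ _ n c hc hc0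
  obtain ⟨b, hb⟩ := exists_bd_injective I a p n c hc
  let U : Over (Spec A) := Over.mk (𝟙 (Spec A))
  haveI := injective_pp (j := j) I
  cases n with
  | zero =>
    refine ⟨b, hb, injective_etaP p a ((pp j).obj I) U ?_⟩
    refine (dd_apply (etaR j a I) 0 U b).trans ?_
    rw [hb]
    exact hc0.trans (map_zero _).symm
  | succ m =>
    obtain ⟨b₂, hb₂⟩ := exists_bd_injective ((pp j).obj I) a p m
      ((itMap p (m + 1) (etaR j a I)).app (op U) b) (by
        refine (dd_apply (etaR j a I) (m + 1) U b).trans ?_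
        rw [hb]
        exact hc0)
    obtain ⟨b₃, hb₃⟩ := itMap_surjective p (etaR j a I)
      (fun W => surjective_etaU_app (j := j) I ((Over.map a).obj W)) m U b₂
    let e : ((Cp p).obj (it p m (resPsh a I))).obj (op U) := (dd p m (resPsh a I)).app (op U) b₃
    refine ⟨(show ((Cp p).obj (it p m (resPsh a I))).obj (op U) from b) - e, ?_, ?_⟩
    · refine (map_sub ((dd p (m + 1) (resPsh a I)).app (op U)).hom b e).trans ?_
      exact (sub_eq_self.mpr (dstep_dd_apply m U b₃)).trans hb
    · refine (map_sub ((itMap p (m + 1) (etaR j a I)).app (op U)).hom b e).trans (sub_eq_zero.mpr ?_)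
      exact hb₂.symm.trans ((congrArg ((dd p m _).app (op U)) hb₃.symm).trans (dd_apply (etaR j a I) m U b₃))

omit [IsClosedImmersion j] in
/-- Corrections of lifts to cocycles. -/
lemma exists_cocycle_lift_vanishing {X : ShortComplex (EtFppf.AbF T)} (hX : X.ShortExact) (h : KBd j X.X₁)
    (A : CommRingCat.{u}) [HenselianLocalRing A] (a : Spec A ⟶ T) [IsFinite a] [Etale a] {V : Scheme.{u}}
    (p : V ⟶ Spec A) [IsFinite p] [Etale p] [Surjective p] (n : ℕ)
    (y : ((Cp p).obj (it p n (resPsh a X.X₂))).obj (op (Over.mk (𝟙 (Spec A)))))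
    (hy : (mapC p (itMap p n (etaR j a X.X₂))).app _ y = 0)
    (hc : (dstep p (dd p n (resPsh a X.X₃))).app _ ((mapC p (itMap p n (resPshMap a X.g))).app _ y) = 0) :
    ∃ y', (dstep p (dd p n (resPsh a X.X₂))).app _ y' = 0 ∧ (mapC p (itMap p n (etaR j a X.X₂))).app _ y' = 0 ∧
      (mapC p (itMap p n (resPshMap a X.g))).app _ y' = (mapC p (itMap p n (resPshMap a X.g))).app _ y := by
  let U : Over (Spec A) := Over.mk (𝟙 (Spec A))
  have hs := secExact_of_shortExact hX a
  have hs' := secExact_pp (j := j) hX a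
  let e := (dstep p (dd p n (resPsh a X.X₂))).app (op U) y
  obtain ⟨g, hg⟩ := (((hs.it n).cp.cp U).2 e).mp ((dstep_apply (resPshMap a X.g) n U y).symm.trans hc)
  have hge : (mapC p (itMap p (n + 1) (etaR j a X.X₁))).app (op U) g = 0 := by
    apply (((hs'.it (p := p) n).cp.cp) U).1
    refine ((itMap_comm a p X.f (n + 2) U g).symm.trans ?_).trans (map_zero _).symm
    refine (congrArg ((mapC p (itMap p (n + 1) (etaR j a X.X₂))).app (op U)) hg).trans ?_
    refine (dstep_apply (etaR j a X.X₂) n U y).symm.trans ?_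
    exact (congrArg _ hy).trans (map_zero _)
  have hgc : (dstep p (dd p (n + 1) (resPsh a X.X₁))).app (op U) g = 0 := by
    apply (((hs.it (p := p) n).cp.cp.cp) U).1
    refine ((dstep_apply (resPshMap a X.f) (n + 1) U g).symm.trans ?_).trans (map_zero _).symm
    exact (congrArg ((dstep p (dd p (n + 1) (resPsh a X.X₂))).app (op U)) hg).trans (dstep_dd_apply (n + 1) U y)
  obtain ⟨b, hb, hb0⟩ := h A a V p (n + 1) g hgc hge
  let bY : ((Cp p).obj (it p n (resPsh a X.X₂))).obj (op U) := (itMap p (n + 1) (resPshMap a X.f)).app (op U) b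
  refine ⟨y - bY, ?_, ?_, ?_⟩
  · refine (map_sub ((dstep p (dd p n (resPsh a X.X₂))).app (op U)).hom y bY).trans (sub_eq_zero.mpr ?_)
    refine hg.symm.trans ?_
    rw [← hb]
    exact (dd_apply (resPshMap a X.f) (n + 1) U b).symm
  · refine (map_sub ((mapC p (itMap p n (etaR j a X.X₂))).app (op U)).hom y bY).trans ?_
    exact sub_eq_zero.mpr (hy.trans ((itMap_comm a p X.f (n + 1) U b).trans ((congrArg _ hb0).trans (map_zero _))).symm)
  · refine (map_sub ((mapC p (itMap p n (resPshMap a X.g))).app (op U)).hom y bY).trans (sub_eq_self.mpr ?_)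
    exact (((hs.it n).cp U).2 _).mpr ⟨b, rfl⟩

end Groth.Agent.BigSiteLib
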