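import Groth.Agent.BigSiteLib.SmNilExact
import Groth.Agent.BigSiteLib.SmAcyclic

/-!
Flat cohomology of smooth commutative group schemes is insensitive to nil thickenings of affine schemes.
-/

set_option autoImplicit false
set_option linter.style.haveILetI false
set_option backward.isDefEq.respectTransparency false
set_option backward.defeqAttrib.useBackward true
set_option linter.auxLemma false
universe u

noncomputable section

namespace Groth.Agent.BigSiteLib

open CategoryTheory Limits Opposite AlgebraicGeometry MonObj MonoidalCategory CartesianMonoidalCategory Abelian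
open AdeqLib (TExact algF sp spm tpow)

attribute [local instance 100000] EtCoh.H._proof_1 EtMV.hext
attribute [local instance 200000] EtMV.hextAb

lemma exists_fg_of_mem_map {A B : Type u} [CommRing A] [CommRing B] (φ : A →+* B) (K : Ideal A) {y : B}
    (hy : y ∈ K.map φ) : ∃ I : Ideal A, I.FG ∧ I ≤ K ∧ y ∈ I.map φ := by
  classical
  induction hy using Submodule.span_induction with
  | mem y hy =>
    obtain ⟨a, ha, rfl⟩ := hy
    exact ⟨Ideal.span {a}, Submodule.fg_span_singleton a, (Ideal.span_singleton_le_iff_mem K).mpr ha,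
      Ideal.mem_map_of_mem φ (Ideal.mem_span_singleton_self a)⟩
  | zero => exact ⟨⊥, Submodule.fg_bot, bot_le, zero_mem _⟩
  | add y y' _ _ hy hy' =>
    obtain ⟨I, hI, hIK, hyI⟩ := hy
    obtain ⟨I', hI', hIK', hyI'⟩ := hy'
    exact ⟨I ⊔ I', Submodule.FG.sup hI hI', sup_le hIK hIK',
      add_mem (Ideal.map_mono le_sup_left hyI) (Ideal.map_mono le_sup_right hyI')⟩
  | smul b y _ hy =>
    obtain ⟨I, hI, hIK, hyI⟩ := hy
    exact ⟨I, hI, hIK, Ideal.mul_mem_left _ b hyI⟩

variable {S T T₀ : Scheme.{u}} (t : T ⟶ S) (G : Over S) [GrpObj G] [IsCommMonObj G] [IsAffine T]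
  (j : T₀ ⟶ T) [IsClosedImmersion j] [Surjective j]

omit [IsAffine T] [IsClosedImmersion j] in
lemma surjective_cu (U : Over T) : Function.Surjective (cu j U).left := by
  haveI : Surjective (pullback.fst U.hom j) := inferInstance
  exact (pullback.fst U.hom j).surjective

omit [IsAffine T] in
lemma pts_eq_zero_of_cover {V : Over T} (x : Pts t G V) {ι' : Type u} (W : ι' → V.left.Opens) (hW : ∀ w, ∃ i, w ∈ W i)
    (h : ∀ i, rP t G (Over.homMk (W i).ι rfl : Over.mk ((W i).ι ≫ V.hom) ⟶ V) x = 0) : x = 0 := by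
  refine pts_ext ?_
  let 𝒰 : V.left.OpenCover :=
    Scheme.Cover.mkOfCovers ι' (fun i => (W i).toScheme) (fun i => (W i).ι) (fun w => by
      obtain ⟨i, hi⟩ := hW w
      exact ⟨i, ⟨w, hi⟩, rfl⟩) (fun i => inferInstance)
  refine Scheme.Cover.hom_ext 𝒰 _ _ fun i => ?_
  have h1 := congrArg (pl t G) ((h i).trans (map_zero (rP t G (Over.homMk (W i).ι rfl : Over.mk ((W i).ι ≫ V.hom) ⟶ V))).symm)
  rw [pl_rP, pl_rP] at h1
  exact h1

lemma ringHom_eq_of_adjoin {R A B : Type u} [CommRing R] [CommRing A] [CommRing B] [Algebra R A] (α β : A →+* B)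
    (s : Set A) (hs : Algebra.adjoin R s = ⊤) (h₁ : ∀ r, α (algebraMap R A r) = β (algebraMap R A r))
    (h₂ : ∀ c ∈ s, α c = β c) : α = β := by
  refine RingHom.ext fun c => ?_
  have hc : c ∈ Algebra.adjoin R s := hs ▸ Algebra.mem_top
  induction hc using Algebra.adjoin_induction with
  | mem c hc => exact h₂ c hc
  | algebraMap r => exact h₁ r
  | add c c' _ _ h h' => rw [map_add, map_add, h, h']
  | mul c c' _ _ h h' => rw [map_mul, map_mul, h, h']

/-- Points vanishing on a thickened subscheme vanish on a finitely generated stage, locally. -/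
lemma exists_fg_vanish_local [LocallyOfFiniteType G.hom] (U : Over T) (x : Pts t G U)
    (hx : rP t G (cu j U) x = 0) (z : U.left) :
    ∃ (D : U.left.Opens) (I : Ideal Γ(T, ⊤)), z ∈ D ∧ I.FG ∧ I ≤ RingHom.ker j.appTop.hom ∧
      ∀ I' : Ideal Γ(T, ⊤), I ≤ I' →
        rP t G (cu (ideT I') (Over.mk (D.ι ≫ U.hom)))
          (rP t G (Over.homMk D.ι rfl : Over.mk (D.ι ≫ U.hom) ⟶ U) x) = 0 := by
  classical
  have htop : ∀ w : U.left, pl t G x w = pl t G (0 : Pts t G U) w := fun w => by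
    obtain ⟨w₀, rfl⟩ := surjective_cu j U w
    rw [← Scheme.Hom.comp_apply, ← Scheme.Hom.comp_apply, ← pl_rP, ← pl_rP, hx, map_zero]
  let p := pl t G x z
  obtain ⟨S₁, hS₁, hp₁, -⟩ := exists_isAffineOpen_mem_and_subset (U := (⊤ : S.Opens)) (x := G.hom p) trivial
  obtain ⟨A, hA, hpA, hA₁⟩ := exists_isAffineOpen_mem_and_subset (U := G.hom ⁻¹ᵁ S₁) (x := p) hp₁
  obtain ⟨D, hD, hzD, hDle⟩ := exists_isAffineOpen_mem_and_subset
    (U := pl t G x ⁻¹ᵁ A ⊓ pl t G (0 : Pts t G U) ⁻¹ᵁ A) (x := z) ⟨hpA, show _ ∈ A from htop z ▸ hpA⟩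
  haveI : IsAffine A.toScheme := hA
  haveI : IsAffine S₁.toScheme := hS₁
  let Y : Over T := Over.mk (D.ι ≫ U.hom)
  let k : Y ⟶ U := Over.homMk D.ι rfl
  haveI : IsAffine Y.left := hD
  have hY : rP t G (cu j Y) (rP t G k x) = 0 := by
    have e : cu j Y ≫ k = (Over.map j).map ((Over.pullback j).map k) ≫ cu j U :=
      ((Over.mapPullbackAdj j).counit.naturality k).symm
    rw [rP_rP, e, ← rP_rP, hx, map_zero]
  let σ : A.toScheme ⟶ S₁.toScheme := G.hom.resLE S₁ A hA₁
  haveI : LocallyOfFiniteType σ := inferInstanceAs (LocallyOfFiniteType (G.hom.resLE S₁ A hA₁))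
  have hft : σ.appTop.hom.FiniteType := (HasRingHomProperty.iff_of_isAffine (P := @LocallyOfFiniteType)).mp ‹_›
  algebraize [σ.appTop.hom]
  obtain ⟨s, hs⟩ := Algebra.FiniteType.out (R := Γ(S₁.toScheme, ⊤)) (A := Γ(A.toScheme, ⊤))
  let yx : Y.left ⟶ A.toScheme := (pl t G x).resLE A D fun w hw => (hDle hw).1
  let y0 : Y.left ⟶ A.toScheme := (pl t G (0 : Pts t G U)).resLE A D fun w hw => (hDle hw).2
  have hyx : yx ≫ A.ι = pl t G (rP t G k x) := (Scheme.Hom.resLE_comp_ι _ _).trans (pl_rP t G k x).symm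
  have hy0 : y0 ≫ A.ι = pl t G (0 : Pts t G Y) := by
    rw [← map_zero (rP t G k)]
    exact (Scheme.Hom.resLE_comp_ι _ _).trans (pl_rP t G k 0).symm
  have hσeq : yx ≫ σ = y0 ≫ σ := by
    rw [← cancel_mono S₁.ι, Category.assoc, Category.assoc, Scheme.Hom.resLE_comp_ι, ← Category.assoc, hyx,
      ← Category.assoc, hy0, pl_w, pl_w]
  haveI := isAffine_cu j Y
  have hd : ∀ c, rg (cu j Y) (yx.appTop c - y0.appTop c) = 0 := fun c => by
    have e : (cu j Y).left ≫ yx = (cu j Y).left ≫ y0 := by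
      rw [← cancel_mono A.ι, Category.assoc, Category.assoc, hyx, hy0, ← pl_rP, ← pl_rP, hY, map_zero]
    rw [map_sub, sub_eq_zero]
    change (cu j Y).left.appTop (yx.appTop c) = (cu j Y).left.appTop (y0.appTop c)
    rw [← appTop_comp_apply, ← appTop_comp_apply, e]
  choose I₀ hI₀ hI₀K hmem using fun c : s =>
    exists_fg_of_mem_map Y.hom.appTop.hom _ ((rg_cu_eq_zero_iff j Y (yx.appTop c.1 - y0.appTop c.1)).mp (hd c.1))
  refine ⟨D, Finset.univ.sup I₀, hzD, Submodule.fg_finset_sup _ _ fun c _ => hI₀ c,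
    Finset.sup_le fun c _ => hI₀K c, fun I' hI' => ?_⟩
  haveI := isClosedImmersion_ideT (T := T) I'
  haveI : IsClosedImmersion (cu (ideT I') Y).left := inferInstanceAs (IsClosedImmersion (pullback.fst Y.hom (ideT I')))
  haveI := isAffine_of_isAffineHom (cu (ideT I') Y).left
  have e : (cu (ideT I') Y).left ≫ yx = (cu (ideT I') Y).left ≫ y0 := by
    refine ext_of_isAffine (CommRingCat.hom_ext ?_)
    refine ringHom_eq_of_adjoin _ _ (s : Set Γ(A.toScheme, ⊤)) hs (fun r => ?_) fun c hc => ?_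
    · exact congrArg (fun φ => φ r) (congrArg (fun ψ : Y.left ⟶ S₁.toScheme => ((cu (ideT I') Y).left ≫ ψ).appTop.hom) hσeq)
    · change ((cu (ideT I') Y).left ≫ yx).appTop c = ((cu (ideT I') Y).left ≫ y0).appTop c
      rw [appTop_comp_apply, appTop_comp_apply, ← sub_eq_zero, ← map_sub]
      refine (rg_cu_eq_zero_iff (ideT I') Y _).mpr ?_
      rw [ker_ideT]
      exact Ideal.map_mono ((Finset.le_sup (Finset.mem_univ (⟨c, hc⟩ : s))).trans hI') (hmem ⟨c, hc⟩)
  refine pts_ext ?_
  rw [pl_rP, show rP t G (Over.homMk D.ι rfl : Over.mk (D.ι ≫ U.hom) ⟶ U) x = rP t G k x from rfl, ← hyx,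
    ← Category.assoc, e, Category.assoc, hy0, ← pl_rP, map_zero]

omit [IsAffine T] in
lemma rP_restrict_eq_zero {T₁ : Scheme.{u}} (f : T₁ ⟶ T) (U : Over T) (D : U.left.Opens) (x : Pts t G U)
    (hx : rP t G (cu f (Over.mk (D.ι ≫ U.hom))) (rP t G (Over.homMk D.ι rfl : Over.mk (D.ι ≫ U.hom) ⟶ U) x) = 0) :
    rP t G (Over.homMk ((cu f U).left ⁻¹ᵁ D).ι rfl :
      Over.mk (((cu f U).left ⁻¹ᵁ D).ι ≫ ((Over.map f).obj ((Over.pullback f).obj U)).hom) ⟶
        (Over.map f).obj ((Over.pullback f).obj U)) (rP t G (cu f U) x) = 0 := by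
  let Y : Over T := Over.mk (D.ι ≫ U.hom)
  let k : Y ⟶ U := Over.homMk D.ι rfl
  let O := (cu f U).left ⁻¹ᵁ D
  let jk : Over.mk (O.ι ≫ ((Over.map f).obj ((Over.pullback f).obj U)).hom) ⟶ (Over.map f).obj ((Over.pullback f).obj U) :=
    Over.homMk O.ι rfl
  let h : O.toScheme ⟶ pullback Y.hom f :=
    pullback.lift ((cu f U).left ∣_ D) (O.ι ≫ pullback.snd U.hom f) (by
      change ((cu f U).left ∣_ D) ≫ D.ι ≫ U.hom = _
      rw [morphismRestrict_ι_assoc, Category.assoc]
      exact congrArg (O.ι ≫ ·) pullback.condition)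
  let h' : Over.mk (O.ι ≫ ((Over.map f).obj ((Over.pullback f).obj U)).hom) ⟶ (Over.map f).obj ((Over.pullback f).obj Y) :=
    Over.homMk h (by
      change h ≫ pullback.snd Y.hom f ≫ f = O.ι ≫ pullback.snd U.hom f ≫ f
      rw [← Category.assoc, pullback.lift_snd, Category.assoc])
  have hh : h' ≫ cu f Y ≫ k = jk ≫ cu f U := Over.OverMorphism.ext (by
    change h ≫ pullback.fst Y.hom f ≫ D.ι = O.ι ≫ (cu f U).left
    rw [← Category.assoc, pullback.lift_fst, morphismRestrict_ι])
  change rP t G jk (rP t G (cu f U) x) = 0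
  rw [rP_rP, ← hh, ← rP_rP, ← rP_rP, hx, map_zero]

/-- Points vanishing on a thickened subscheme vanish on a finitely generated stage. -/
lemma exists_fg_vanish [LocallyOfFiniteType G.hom] (U : Over T) [IsAffine U.left] (x : Pts t G U)
    (hx : rP t G (cu j U) x = 0) :
    ∃ I : Ideal Γ(T, ⊤), I.FG ∧ I ≤ RingHom.ker j.appTop.hom ∧ rP t G (cu (ideT I) U) x = 0 := by
  classical
  choose D I hzD hI hIK hv using exists_fg_vanish_local t G j U x hx
  obtain ⟨F, hF⟩ := (isCompact_univ (X := U.left)).elim_finite_subcover (fun z => (D z : Set U.left))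
    (fun z => (D z).isOpen) fun z _ => Set.mem_iUnion.mpr ⟨z, hzD z⟩
  refine ⟨F.sup I, Submodule.fg_finset_sup _ _ fun c _ => hI c, Finset.sup_le fun c _ => hIK c, ?_⟩
  let g := cu (ideT (F.sup I)) U
  refine pts_eq_zero_of_cover t G _ (fun z : F => g.left ⁻¹ᵁ D z.1) (fun w => ?_) fun z => ?_
  · obtain ⟨z, hzF, hw⟩ := Set.mem_iUnion₂.mp (hF (Set.mem_univ (g.left w)))
    exact ⟨⟨z, hzF⟩, hw⟩
  exact rP_restrict_eq_zero t G (ideT (F.sup I)) U (D z.1) x (hv z.1 (F.sup I) (Finset.le_sup z.2))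

variable (hnil : ∀ r, j.appTop r = 0 → IsNilpotent r)

include hnil in
/-- Nil thickenings. -/
theorem texact_infSh_nil [Smooth G.hom] : TExact (infSh t G j) := by
  intro R a B _ _ _ m z hz
  let U : ℕ → Over T := fun k => sp a (tpow B k)
  haveI : IsAffine (U (m + 2)).left := inferInstanceAs (IsAffine (Spec _))
  obtain ⟨I, hI, hIK, hx⟩ := exists_fg_vanish t G j (U (m + 2)) _ (rP_infPts t G j _ z)
  obtain ⟨N, hN⟩ := Ideal.FG.isNilpotent_iff_le_nilradical hI |>.mpr fun r hr => hnil r (hIK hr)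
  haveI := isClosedImmersion_ideT (T := T) I
  have hT : TExact (infSh t G (ideT I)) := texact_infSh_nilpotent t G N (ideT I) (by
    rw [ker_ideT, ← Nat.sub_add_cancel (Nat.lt_two_pow_self (n := N)).le, pow_add, hN, mul_zero]
    rfl)
  obtain ⟨z', hz'⟩ := exists_infPts t G (ideT I) (U (m + 2)) _ hx
  -- the smaller ideal gives a factorisation
  let q : T₀ ⟶ Spec (CommRingCat.of (Γ(T, ⊤) ⧸ I)) := T₀.toSpecΓ ≫ Spec.map (CommRingCat.ofHom
    (Ideal.Quotient.lift I j.appTop.hom fun r hr => hIK hr))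
  have hq : q ≫ ideT I = j := by
    simp only [q, ideT, Category.assoc]
    rw [← Spec.map_comp_assoc, ← CommRingCat.ofHom_comp, Ideal.Quotient.lift_comp_mk]
    change T₀.toSpecΓ ≫ Spec.map j.appTop ≫ T.isoSpec.inv = j
    rw [← Scheme.toSpecΓ_naturality_assoc, show T.toSpecΓ ≫ T.isoSpec.inv = 𝟙 T from T.isoSpec.hom_inv_id,
      Category.comp_id]
  have hinto : ∀ k (x : Pts t G (U k)), rP t G (cu (ideT I) (U k)) x = 0 → rP t G (cu j (U k)) x = 0 := by
    intro k x hx
    obtain ⟨-, ⟨h, e⟩⟩ := exists_cu_factor (ideT I) q j hq (U k)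
    exact rP_eq_zero_of_factor t G (cu (ideT I) (U k)) _ (h ≫ (cu q ((Over.pullback (ideT I)).obj (U k))).left)
      (by rw [Category.assoc]; exact e) x hx
  have hdA : ∀ k (x : (infSh t G j).obj.obj (op (U k))) (x' : (infSh t G (ideT I)).obj.obj (op (U k))),
      infPts t G (ideT I) (U k) x' = infPts t G j (U k) x →
      infPts t G (ideT I) (U (k + 1)) (AdeqLib.dA B (algF a (infSh t G (ideT I)).obj) k x') =
        infPts t G j (U (k + 1)) (AdeqLib.dA B (algF a (infSh t G j).obj) k x) := by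
    intro k x x' hxx
    rw [AdeqLib.dA_apply, AdeqLib.dA_apply]
    refine (map_sum _ _ _).trans ((Finset.sum_congr rfl fun i _ => ?_).trans (map_sum (infPts t G j (U (k + 1))) _ _).symm)
    refine (map_zsmul _ _ _).trans (Eq.trans (congrArg _ ?_) (map_zsmul (infPts t G j (U (k + 1))) _ _).symm)
    refine (infPts_map t G (ideT I) _ x').trans ?_
    rw [hxx]
    exact (infPts_map t G j _ _).symm
  obtain ⟨y, hy⟩ := hT R a B m z' (by
    apply infPts_injective t G (ideT I)
    rw [hdA _ z z' hz', hz, map_zero, map_zero])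
  obtain ⟨y', hy'⟩ := exists_infPts t G j (U (m + 1)) (infPts t G (ideT I) (U (m + 1)) y)
    (hinto _ _ (rP_infPts t G (ideT I) _ y))
  refine ⟨y', infPts_injective t G j (U (m + 2)) ?_⟩
  rw [← hdA _ y' y hy'.symm, hy, hz']

include hnil in
/-- Sheaves of points are in the class for nil thickenings. -/
theorem rclass_nil [Smooth G.hom] : RClass j (ptsT t G) := by
  refine ⟨acyc_pullBig t (acyc_pts G), epi_etaE t G j, fun n => ?_⟩
  haveI : (EtFppf.aPush T).IsRightAdjoint := (EtFppf.aAdj T).isRightAdjoint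
  have e : (EtFppf.aPush T).obj (infSh t G j) ≅ kernel (etaE j (ptsT t G)) :=
    PreservesKernel.iso (EtFppf.aPush T) (etaU j (ptsT t G))
  haveI := EtAssocLib.affAcyc_aPush_aux n _ (texact_infSh_nil t G j hnil) (EtCoh.top T) ‹IsAffine T›
  refine subsingleton_of_forall_eq 0 fun x => ?_
  have h : x.comp (Ext.mk₀ e.inv) (add_zero (n + 1)) = 0 := Subsingleton.elim _ _
  have h2 := congrArg (fun z => Ext.comp z (Ext.mk₀ e.hom) (add_zero (n + 1))) h
  simpa using h2

include hnil in
/-- Restriction is bijective in positive degrees. -/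
theorem bijective_pull_pts [Smooth G.hom] (n : ℕ) :
    Function.Bijective (HRes.pull Scheme.fppfPrecoverage j (ptsT t G) (n + 1)) :=
  bijective_pull_of_rclass n _ (rclass_nil t G j hnil)

omit [IsAffine T] [IsClosedImmersion j] [Surjective j] in
lemma bijective_pull_iso {F F' : EtFppf.AbF T} (e : F ≅ F') (n : ℕ)
    (h : Function.Bijective (HRes.pull Scheme.fppfPrecoverage j F n)) :
    Function.Bijective (HRes.pull Scheme.fppfPrecoverage j F' n) := by
  have hH : ∀ {X : Scheme.{u}} {A A' : EtFppf.AbF X} (e : A ≅ A') (m : ℕ), Function.Bijective (Sheaf.H.map e.hom m) := by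
    intro X A A' e m
    refine Function.bijective_iff_has_inverse.mpr ⟨Sheaf.H.map e.inv m, fun x => ?_, fun x => ?_⟩ <;>
      simp [Sheaf.H.map_apply]
  have key : (HRes.pull Scheme.fppfPrecoverage j F' n) ∘ (Sheaf.H.map e.hom n) =
      (Sheaf.H.map ((BigSite.pullBig Scheme.fppfPrecoverage j AddCommGrpCat.{u + 1}).mapIso e).hom n) ∘
        (HRes.pull Scheme.fppfPrecoverage j F n) :=
    funext fun x => HRes.pull_map Scheme.fppfPrecoverage j e.hom n x
  have := ((hH ((BigSite.pullBig Scheme.fppfPrecoverage j AddCommGrpCat.{u + 1}).mapIso e) n).comp h)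
  rw [← key] at this
  exact (Function.Bijective.of_comp_iff _ (hH e n)).mp this

include hnil in
omit t in
/-- Restriction to a nil thickening is bijective in positive degrees. -/
theorem bijective_pull_of_nil (G : Over T) [GrpObj G] [IsCommMonObj G] [Smooth G.hom] (n : ℕ) :
    Function.Bijective (HRes.pull Scheme.fppfPrecoverage j (CGrpSh.pts Scheme.fppfPrecoverage G) (n + 1)) :=
  bijective_pull_iso j
    (((Scheme.fppfPrecoverage.toGrothendieck).overMapPullbackId AddCommGrpCat.{u + 1} T).app _) (n + 1)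
    (bijective_pull_pts (𝟙 T) G j hnil n)

end Groth.Agent.BigSiteLib
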