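import Groth.Agent.BigSiteLib.SmHenBase
import Groth.Agent.BigSiteLib.SmNilMain
import Groth.Agent.BigSiteLib.PullFunct

/-!
Flat cohomology of smooth commutative group schemes over a henselian local ring does not change under
passing to a quotient ring.
-/

set_option autoImplicit false
set_option linter.style.haveILetI false
set_option backward.isDefEq.respectTransparency false
set_option backward.isDefEq.respectTransparency.types false
set_option backward.defeqAttrib.useBackward true
set_option linter.auxLemma false
universe u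

noncomputable section

namespace Groth.Agent.BigSiteLib

open CategoryTheory Limits Opposite Abelian AlgebraicGeometry

attribute [local instance 100000] EtCoh.H._proof_1 EtMV.hext
attribute [local instance 200000] EtMV.hextAb

section Comp

variable {S T T' : Scheme.{u}} (f : T ⟶ S) (g : T' ⟶ T) (F : EtFppf.AbF S) (n : ℕ)

lemma bijective_Hmap {X : Scheme.{u}} {A A' : EtFppf.AbF X} (e : A ≅ A') (m : ℕ) :
    Function.Bijective (Sheaf.H.map e.hom m) := by
  refine Function.bijective_iff_has_inverse.mpr ⟨Sheaf.H.map e.inv m, fun x => ?_, fun x => ?_⟩ <;>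
    simp [Sheaf.H.map_apply]

lemma bijective_pull_comp_iff :
    Function.Bijective (HRes.pull Scheme.fppfPrecoverage (g ≫ f) F n) ↔
      Function.Bijective ((HRes.pull Scheme.fppfPrecoverage g
        ((BigSite.pullBig Scheme.fppfPrecoverage f AddCommGrpCat.{u + 1}).obj F) n) ∘
          (HRes.pull Scheme.fppfPrecoverage f F n)) := by
  have h : ⇑(HRes.pull Scheme.fppfPrecoverage (g ≫ f) F n) =
      (Sheaf.H.map ((Scheme.fppfPrecoverage.toGrothendieck.overMapPullbackComp AddCommGrpCat.{u + 1} g f).app F).hom n) ∘
        ((HRes.pull Scheme.fppfPrecoverage g ((BigSite.pullBig Scheme.fppfPrecoverage f AddCommGrpCat.{u + 1}).obj F) n) ∘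
          (HRes.pull Scheme.fppfPrecoverage f F n)) :=
    funext fun x => pull_comp Scheme.fppfPrecoverage f g x
  rw [h]
  exact Function.Bijective.of_comp_iff' (bijective_Hmap _ n) _

end Comp

variable {R : CommRingCat.{u}} [HenselianLocalRing R] {S : Scheme.{u}} (t : Spec R ⟶ S) (G : Over S) [GrpObj G]
  [IsCommMonObj G] [Smooth G.hom]

/-- Restriction along a quotient of a henselian local ring is bijective in positive degrees. -/
theorem bijective_pull_quotient {Q : CommRingCat.{u}} (π : R ⟶ Q) (hπ : Function.Surjective π) [Nontrivial Q] (n : ℕ) :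
    Function.Bijective (HRes.pull Scheme.fppfPrecoverage (Spec.map π) (ptsT t G) (n + 1)) := by
  haveI : IsLocalRing Q := IsLocalRing.of_surjective' π.hom hπ
  haveI : IsLocalHom π.hom := hπ.isLocalHom
  haveI : HenselianLocalRing Q := by
    letI : Algebra R Q := π.hom.toAlgebra
    haveI : Algebra.IsIntegral R Q := ⟨fun q => by
      obtain ⟨r, rfl⟩ := hπ q
      exact isIntegral_algebraMap (R := R) (A := Q) (x := r)⟩
    exact Hensel.henselianLocalRing_finite R Q
  let ψ : CommRingCat.of (IsLocalRing.ResidueField R) ⟶ CommRingCat.of (IsLocalRing.ResidueField Q) :=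
    CommRingCat.ofHom (IsLocalRing.ResidueField.map π.hom)
  have hψ : Function.Bijective ψ := by
    refine ⟨(IsLocalRing.ResidueField.map π.hom).injective, fun y => ?_⟩
    obtain ⟨q, rfl⟩ := IsLocalRing.residue_surjective y
    obtain ⟨r, rfl⟩ := hπ q
    exact ⟨IsLocalRing.residue R r, rfl⟩
  haveI : IsIso ψ := (ConcreteCategory.isIso_iff_bijective ψ).mpr hψ
  let e := Spec.map ψ
  let i := Spec.map π
  have hcomm : e ≫ cl R = cl Q ≫ i := by
    rw [← Spec.map_comp, ← Spec.map_comp]
    rfl
  have hnil : ∀ r, e.appTop r = 0 → IsNilpotent r := fun r hr => by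
    rw [((ConcreteCategory.bijective_of_isIso e.appTop).1 (hr.trans (map_zero e.appTop.hom).symm) :)]
    exact IsNilpotent.zero
  have hcl := bijective_pull_closed t G n
  have he : Function.Bijective (HRes.pull Scheme.fppfPrecoverage e
      ((BigSite.pullBig Scheme.fppfPrecoverage (cl R) AddCommGrpCat.{u + 1}).obj (ptsT t G)) (n + 1)) :=
    bijective_pull_iso e ((Scheme.fppfPrecoverage.toGrothendieck.overMapPullbackComp AddCommGrpCat.{u + 1} (cl R) t).app
      (CGrpSh.pts Scheme.fppfPrecoverage G)).symm (n + 1) (bijective_pull_pts (cl R ≫ t) G e hnil n)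
  have h1 := (bijective_pull_comp_iff (cl R) e (ptsT t G) (n + 1)).mpr (he.comp hcl)
  rw [hcomm, bijective_pull_comp_iff] at h1
  have h2 : Function.Bijective (HRes.pull Scheme.fppfPrecoverage (cl Q)
      ((BigSite.pullBig Scheme.fppfPrecoverage i AddCommGrpCat.{u + 1}).obj (ptsT t G)) (n + 1)) :=
    bijective_pull_iso (cl Q) ((Scheme.fppfPrecoverage.toGrothendieck.overMapPullbackComp AddCommGrpCat.{u + 1} i t).app
      (CGrpSh.pts Scheme.fppfPrecoverage G)).symm (n + 1) (bijective_pull_closed (i ≫ t) G n)
  exact (Function.Bijective.of_comp_iff' h2 _).mp h1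

end Groth.Agent.BigSiteLib
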