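import Groth.Agent.BigSiteLib.SmHenCls

/-!
Over henselian local rings, sheaves whose finite étale Amitsur complexes of sections vanishing on a closed
subscheme are exact are in the class where restriction to the subscheme is bijective on cohomology.
-/

set_option autoImplicit false
set_option linter.style.haveILetI false
set_option backward.isDefEq.respectTransparency false
set_option backward.isDefEq.respectTransparency.types false
set_option backward.defeqAttrib.useBackward true
set_option linter.auxLemma false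
universe u

noncomputable section

namespace Groth.Agent.BigSiteLib

open CategoryTheory Limits Opposite Abelian AlgebraicGeometry

attribute [local instance 100000] EtCoh.H._proof_1 EtMV.hext
attribute [local instance 200000] EtMV.hextAb

/-- Epimorphisms of étale sheaves are surjective near each point. -/
lemma exists_nhd_preimage {S : Scheme.{u}} {G G' : EtCoh.Ab S} (φ : G ⟶ G') [Epi φ] (U : S.Etale)
    (x : G'.obj.obj (op U)) (u : U.left) :
    ∃ (V : S.Etale) (g : V ⟶ U) (v : V.left), g.left v = u ∧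
      ∃ y, φ.hom.app (op V) y = G'.obj.map g.op x := by
  haveI : Sheaf.IsLocallySurjective φ := (Sheaf.isLocallySurjective_iff_epi' _ _).2 inferInstance
  have eY : S.smallEtaleTopology =
      (S.smallPretopology (P := EtCoh.etaleMP) (Q := EtCoh.etaleMP)).toGrothendieck :=
    Scheme.smallGrothendieckTopology_eq_toGrothendieck_smallPretopology S le_rfl
  have h : Presheaf.imageSieve φ.hom x ∈ S.smallEtaleTopology U := Presheaf.imageSieve_mem _ φ.hom x
  replace h := (congrArg (fun J : GrothendieckTopology S.Etale => Presheaf.imageSieve φ.hom x ∈ J U) eY).mp h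
  obtain ⟨V, g, v, hg, -, hv⟩ := (Scheme.mem_toGrothendieck_smallPretopology _ _).1 h u
  exact ⟨V, g, v, hv, hg⟩

variable {R : CommRingCat.{u}} [HenselianLocalRing R] {T₀ : Scheme.{u}} {j : T₀ ⟶ Spec R} [IsClosedImmersion j]
  {X : ShortComplex (EtFppf.AbF (Spec R))}

/-- Near a point over the closed point, sections vanishing on the subscheme lift to such sections. -/
lemma exists_lift_nhd_vanishing (hX : X.ShortExact) [Injective X.X₂] (h₁ : Acyc X.X₁) [Epi (etaE j X.X₁)]
    (E : (Spec R).Etale) (x : X.X₃.obj.obj (op ((EtFppf.a (Spec R)).obj E)))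
    (hx : (etaU j X.X₃).hom.app _ x = 0) (u : E.left) :
    ∃ (E' : (Spec R).Etale) (k : E' ⟶ E) (e : E'.left), k.left e = u ∧
      ∃ y : X.X₂.obj.obj (op ((EtFppf.a (Spec R)).obj E')),
        X.g.hom.app _ y = X.X₃.obj.map ((EtFppf.a (Spec R)).map k).op x ∧ (etaU j X.X₂).hom.app _ y = 0 := by
  haveI : IsFinite j := inferInstance
  haveI : Epi ((EtFppf.aPush (Spec R)).map X.g) := (aPush_step X hX inferInstance h₁).1
  obtain ⟨E₁, k₁, e₁, he₁, y₁, hy₁⟩ := exists_nhd_preimage ((EtFppf.aPush (Spec R)).map X.g) E x u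
  let aE := (EtFppf.a (Spec R)).obj E₁
  let Q : Over (Spec R) := (Over.map j).obj ((Over.pullback j).obj aE)
  obtain ⟨w, hw⟩ := AdeqLib.sections_exact hX (U := Q) ((etaU j X.X₂).hom.app (op aE) y₁) (by
    refine (etaU_comm X.g aE y₁).symm.trans ?_
    refine (congrArg ((etaU j X.X₃).hom.app (op aE)) hy₁).trans ?_
    refine (NatTrans.naturality_apply (etaU j X.X₃).hom ((EtFppf.a (Spec R)).map k₁).op x).trans ?_
    exact (congrArg (((pp j).obj X.X₃).obj.map ((EtFppf.a (Spec R)).map k₁).op) hx).trans (map_zero _))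
  obtain ⟨E₂, k₂, e₂, he₂, y₂, hy₂⟩ := exists_nhd_preimage (etaE j X.X₁) E₁ w e₁
  let r := ((EtFppf.a (Spec R)).map k₂).op
  let yr : X.X₂.obj.obj (op ((EtFppf.a (Spec R)).obj E₂)) := X.X₂.obj.map r y₁
  let yf : X.X₂.obj.obj (op ((EtFppf.a (Spec R)).obj E₂)) := X.f.hom.app _ y₂
  refine ⟨E₂, k₂ ≫ k₁, e₂, ?_, yr - yf, ?_, ?_⟩
  · change (k₂ ≫ k₁).left e₂ = u
    rw [show (k₂ ≫ k₁).left = k₂.left ≫ k₁.left from rfl, Scheme.Hom.comp_apply, he₂, he₁]
  · refine (map_sub (X.g.hom.app _).hom _ _).trans ((sub_eq_self.mpr (AdeqLib.g_f_zero (C := X) _ y₂)).trans ?_)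
    refine (NatTrans.naturality_apply X.g.hom r y₁).trans ((congrArg (X.X₃.obj.map r) hy₁).trans ?_)
    exact (ConcreteCategory.congr_hom (X.X₃.obj.map_comp _ r) x).symm
  · refine (map_sub ((etaU j X.X₂).hom.app _).hom _ _).trans (sub_eq_zero.mpr ?_)
    refine (NatTrans.naturality_apply (etaU j X.X₂).hom r y₁).trans ?_
    refine Eq.trans ?_ (etaU_comm X.f ((EtFppf.a (Spec R)).obj E₂) y₂).symm
    refine (congrArg (((pp j).obj X.X₂).obj.map r) hw.symm).trans ?_
    refine Eq.trans ?_ (congrArg (((pp j).map X.f).hom.app _) hy₂).symm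
    exact (NatTrans.naturality_apply ((pp j).map X.f).hom r w).symm

/-- On finite étale henselian local schemes, sections vanishing on the subscheme lift to such sections. -/
lemma exists_lift_local_vanishing (hX : X.ShortExact) [Injective X.X₂] (h₁ : Acyc X.X₁) [Epi (etaE j X.X₁)]
    (h : KBd j X.X₁) (A : CommRingCat.{u}) [HenselianLocalRing A] (a : Spec A ⟶ Spec R) [IsFinite a] [Etale a]
    (x : (resPsh a X.X₃).obj (op (Over.mk (𝟙 (Spec A))))) (hx : (etaR j a X.X₃).app _ x = 0) :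
    ∃ y, (resPshMap a X.g).app _ y = x ∧ (etaR j a X.X₂).app _ y = 0 := by
  let top : Over (Spec A) := Over.mk (𝟙 (Spec A))
  let E : (Spec R).Etale := Scheme.Etale.mk a
  let μ : (EtFppf.a (Spec R)).obj E ⟶ (Over.map a).obj top := Over.homMk (𝟙 _) (by
    change 𝟙 _ ≫ 𝟙 _ ≫ a = a
    rw [Category.id_comp, Category.id_comp])
  obtain ⟨E', k, e, he, y₁, hy₁, hy₁0⟩ := exists_lift_nhd_vanishing hX h₁ E (X.X₃.obj.map μ.op x) (by
    refine (NatTrans.naturality_apply (etaU j X.X₃).hom μ.op x).trans ?_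
    exact (congrArg (((pp j).obj X.X₃).obj.map μ.op) hx).trans (map_zero _)) (IsLocalRing.closedPoint A)
  let k' : E'.left ⟶ Spec A := k.left
  have hk : k' ≫ a = E'.hom := MorphismProperty.Over.w k
  haveI : Etale E'.hom := E'.prop
  haveI : Etale (k' ≫ a) := hk ▸ E'.prop
  haveI : Etale k' := Etale.of_comp k' a
  obtain ⟨V, p, hpE, hpF, hpS, hv, hh⟩ := EtMV.exists_finite_nhd A (Scheme.Etale.mk k') e he
  haveI := hpE
  haveI := hpF
  haveI := hpS
  let hv' : V ⟶ E'.left := hv
  have hh' : hv' ≫ k' = p := hh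
  let P : Over (Spec A) := (Over.map p).obj ((Over.pullback p).obj top)
  let κ : (Over.map a).obj P ⟶ (EtFppf.a (Spec R)).obj E' := Over.homMk (pullback.snd (𝟙 (Spec A)) p ≫ hv') (by
    change (pullback.snd (𝟙 (Spec A)) p ≫ hv') ≫ E'.hom = (pullback.snd (𝟙 (Spec A)) p ≫ p) ≫ a
    rw [← hk, ← hh']
    simp only [Category.assoc])
  let y₀ : ((Cp p).obj (it p 0 (resPsh a X.X₂))).obj (op top) := X.X₂.obj.map κ.op y₁
  have hy₀ : (mapC p (itMap p 0 (resPshMap a X.g))).app (op top) y₀ = (etaP p (resPsh a X.X₃)).app (op top) x := by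
    refine (NatTrans.naturality_apply X.g.hom κ.op y₁).trans ((congrArg (X.X₃.obj.map κ.op) hy₁).trans ?_)
    change _ = X.X₃.obj.map ((Over.map a).map ((Over.mapPullbackAdj p).counit.app top)).op x
    refine ((congrArg (X.X₃.obj.map κ.op)
      (ConcreteCategory.congr_hom (X.X₃.obj.map_comp μ.op ((EtFppf.a (Spec R)).map k).op) x).symm).trans ?_)
    refine (ConcreteCategory.congr_hom (X.X₃.obj.map_comp _ κ.op) x).symm.trans ?_
    rw [← op_comp, ← op_comp]
    refine congrArg (fun m : (Over.map a).obj P ⟶ (Over.map a).obj top => X.X₃.obj.map m.op x)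
      (Over.OverMorphism.ext ?_)
    change (pullback.snd (𝟙 (Spec A)) p ≫ hv') ≫ k' ≫ 𝟙 _ = pullback.fst (𝟙 (Spec A)) p
    rw [Category.comp_id, Category.assoc, hh', ← pullback.condition, Category.comp_id]
  obtain ⟨y', hy'c, hy'0, hy'g⟩ := exists_cocycle_lift_vanishing hX h A a p 0 y₀ (by
      refine (NatTrans.naturality_apply (etaU j X.X₂).hom κ.op y₁).trans ?_
      exact (congrArg (((pp j).obj X.X₂).obj.map κ.op) hy₁0).trans (map_zero _)) (by
      refine (congrArg ((dstep p (dd p 0 (resPsh a X.X₃))).app (op top)) hy₀).trans ?_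
      exact dstep_dd_apply 0 top x)
  obtain ⟨y, hy⟩ := exists_bd_injective X.X₂ a p 0 y' hy'c
  refine ⟨y, injective_etaP p a X.X₃ top ?_, injective_etaP p a ((pp j).obj X.X₂) top ?_⟩
  · refine (dd_apply (resPshMap a X.g) 0 top y).trans ?_
    rw [hy]
    exact hy'g.trans hy₀
  · refine ((dd_apply (etaR j a X.X₂) 0 top y).trans ?_).trans (map_zero _).symm
    rw [hy]
    exact hy'0

/-- On finite étale schemes, sections vanishing on the subscheme lift to such sections. -/
lemma exists_lift_vanishing_finite (hX : X.ShortExact) [Injective X.X₂] (h₁ : Acyc X.X₁) [Epi (etaE j X.X₁)]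
    (h : KBd j X.X₁) (W : Over (Spec R)) (hW : IsFinite W.hom) (hW' : Etale W.hom) (x : X.X₃.obj.obj (op W))
    (hx : (etaU j X.X₃).hom.app (op W) x = 0) :
    ∃ y, X.g.hom.app (op W) y = x ∧ (etaU j X.X₂).hom.app (op W) y = 0 := by
  obtain ⟨A, φ, hA, hφ, hfin, het, hcov, hdisj⟩ := exists_pieces W.hom
  let U : ∀ v, Over (Spec R) := fun v => (Over.map (φ v ≫ W.hom)).obj (Over.mk (𝟙 (Spec (A v))))
  let g : ∀ v, U v ⟶ W := fun v => Over.homMk (φ v) (by
    change φ v ≫ W.hom = 𝟙 _ ≫ φ v ≫ W.hom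
    rw [Category.id_comp])
  have hloc : ∀ v, ∃ y : X.X₂.obj.obj (op (U v)), X.g.hom.app (op (U v)) y = X.X₃.obj.map (g v).op x ∧
      (etaU j X.X₂).hom.app (op (U v)) y = 0 := fun v => by
    haveI := hA v
    haveI := hfin v
    haveI := het v
    exact exists_lift_local_vanishing hX h₁ h (A v) (φ v ≫ W.hom) (X.X₃.obj.map (g v).op x)
      ((NatTrans.naturality_apply (etaU j X.X₃).hom (g v).op x).trans
        ((congrArg (((pp j).obj X.X₃).obj.map (g v).op) hx).trans (map_zero _)))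
  choose y hy hy0 using hloc
  have hcov' : Presieve.ofArrows (fun v => (U v).left) (fun v => (g v).left) ∈
      Scheme.fppfPrecoverage.coverings W.left :=
    AdeqLib.fppf_ofArrows_iff.mpr ⟨fun w => let ⟨v, b, hb⟩ := hcov w; ⟨v, b, hb⟩,
      fun v => haveI := hφ v; AdeqLib.fppfP_imm (φ v)⟩
  obtain ⟨z, hz⟩ := (AdeqLib.ab_glue X.X₂ g hcov').2 y fun v w Z gv gw e => by
    by_cases hvw : v = w
    · subst hvw
      haveI := hφ v
      obtain rfl : gv = gw := Over.OverMorphism.ext
        ((cancel_mono (φ v)).mp (congrArg (fun q => q.left) e))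
      rfl
    · haveI : IsEmpty Z.left := ⟨fun q => hvw (hdisj v w (φ v (gv.left q)) ⟨_, rfl⟩
        ⟨gw.left q, (congr($(congrArg Over.Hom.left e) q)).symm⟩)⟩
      exact (AdeqLib.subsingleton_empty X.X₂ Z).elim _ _
  refine ⟨z, (AdeqLib.ab_glue X.X₃ g hcov').1 _ _ fun v => ?_, (AdeqLib.ab_glue ((pp j).obj X.X₂) g hcov').1 _ _ fun v => ?_⟩
  · refine (NatTrans.naturality_apply X.g.hom (g v).op z).symm.trans ?_
    rw [hz v]
    exact hy v
  · refine ((NatTrans.naturality_apply (etaU j X.X₂).hom (g v).op z).symm.trans ?_).trans (map_zero _).symm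
    rw [hz v]
    exact hy0 v

/-- The property passes to quotients by injective sheaves. -/
theorem kbd_step (hX : X.ShortExact) [Injective X.X₂] (h₁ : Acyc X.X₁) [Epi (etaE j X.X₁)] (h : KBd j X.X₁) :
    KBd j X.X₃ := by
  intro A _ a _ _ V p _ _ _ n c hc hc0
  let top : Over (Spec A) := Over.mk (𝟙 (Spec A))
  let C : Over (Spec A) → Prop := fun U => IsFinite U.hom ∧ Etale U.hom
  have hC : ∀ U, C U → C ((Over.map p).obj ((Over.pullback p).obj U)) := fun U hU => by
    obtain ⟨h1, h2⟩ := hU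
    haveI := h1
    haveI := h2
    exact ⟨inferInstanceAs (IsFinite (pullback.snd U.hom p ≫ p)), inferInstanceAs (Etale (pullback.snd U.hom p ≫ p))⟩
  obtain ⟨y, hy, hy0⟩ := itMap_lift p (resPshMap a X.g) (etaR j a X.X₂) (etaR j a X.X₃) C hC
    (fun U hU x hx => by
      obtain ⟨h1, h2⟩ := hU
      haveI := h1
      haveI := h2
      exact exists_lift_vanishing_finite hX h₁ h ((Over.map a).obj U) (inferInstanceAs (IsFinite (U.hom ≫ a)))
        (inferInstanceAs (Etale (U.hom ≫ a))) x hx)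
    (n + 1) top ⟨inferInstanceAs (IsFinite (𝟙 (Spec A))), inferInstanceAs (Etale (𝟙 (Spec A)))⟩ c hc0
  obtain ⟨y', hy'c, hy'0, hy'g⟩ := exists_cocycle_lift_vanishing hX h A a p n y hy0
    ((congrArg ((dstep p (dd p n (resPsh a X.X₃))).app (op top)) hy).trans hc)
  obtain ⟨b, hb, hb0⟩ := kbd_injective (j := j) X.X₂ A a V p n y' hy'c hy'0
  refine ⟨(itMap p n (resPshMap a X.g)).app (op top) b, ?_, ?_⟩
  · refine (dd_apply (resPshMap a X.g) n top b).trans ?_
    rw [hb]
    exact hy'g.trans hy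
  · exact (itMap_comm a p X.g n top b).trans ((congrArg _ hb0).trans (map_zero _))

/-- Higher cohomology of sections vanishing on the subscheme vanishes. -/
theorem subsingleton_ext_of_kbd (n : ℕ) : ∀ (F : EtFppf.AbF (Spec R)), Acyc F → Epi (etaE j F) → KBd j F →
    Subsingleton (Ext ((EtMV.P (Spec R)).obj (EtCoh.top (Spec R))) (kernel (etaE j F)) (n + 1)) := by
  induction n with
  | zero =>
    intro F h1 h2 h3
    let Y := EtMV.injSeq F
    have hY : Y.ShortExact := EtMV.injSeq_shortExact F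
    haveI : Injective Y.X₂ := inferInstanceAs (Injective (Injective.under F))
    haveI : IsFinite j := inferInstance
    haveI : Epi (etaE j Y.X₁) := h2
    obtain ⟨-, hI2, hI3⟩ := rclass_injective (j := j) Y.X₂
    haveI := hI2
    obtain ⟨hk, -⟩ := kSeq_shortExact (j := j) hY h1
    refine subsingleton_of_forall_eq 0 fun x => ?_
    obtain ⟨y, rfl⟩ := Ext.covariant_sequence_exact₁ _ hk x ((hI3 0).elim _ _) (n₀ := 0) rfl
    obtain ⟨φ, rfl⟩ := (Ext.mk₀_bijective _ _).2 y
    let W : Over (Spec R) := (EtFppf.a (Spec R)).obj (EtCoh.top (Spec R))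
    obtain ⟨i, hi, hi0⟩ := exists_lift_vanishing_finite hY h1 h3 W (inferInstanceAs (IsFinite (𝟙 (Spec R))))
      (inferInstanceAs (Etale (𝟙 (Spec R)))) (EtMV.σ (φ ≫ kernel.ι (etaE j Y.X₃))) (by
        refine (EtMV.σ_comp (φ ≫ kernel.ι (etaE j Y.X₃)) (etaE j Y.X₃)).symm.trans ?_
        rw [Category.assoc, kernel.condition, comp_zero, ← comp_zero (f := φ ≫ kernel.ι (etaE j Y.X₃)),
          EtMV.σ_comp]
        rfl)
    let ψ : (EtMV.P (Spec R)).obj (EtCoh.top (Spec R)) ⟶ (EtFppf.aPush (Spec R)).obj Y.X₂ := EtMV.σ.symm i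
    have hψ : ψ ≫ etaE j Y.X₂ = 0 := by
      apply EtMV.σ.injective
      rw [EtMV.σ_comp, Equiv.apply_symm_apply]
      refine hi0.trans ?_
      rw [← comp_zero (f := ψ) (Z := (EtFppf.aPush (Spec R)).obj ((pp j).obj Y.X₂)), EtMV.σ_comp]
      rfl
    have e : φ = kernel.lift _ ψ hψ ≫ (kSeq (j := j) Y).g := by
      rw [← cancel_mono (kernel.ι (etaE j Y.X₃)), Category.assoc,
        show (kSeq (j := j) Y).g ≫ kernel.ι (etaE j Y.X₃) = kernel.ι (etaE j Y.X₂) ≫ (EtFppf.aPush (Spec R)).map Y.g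
          from kernel.lift_ι _ _ _, kernel.lift_ι_assoc]
      apply EtMV.σ.injective
      rw [EtMV.σ_comp ψ, Equiv.apply_symm_apply]
      exact hi.symm
    rw [e, ← Ext.mk₀_comp_mk₀, Ext.comp_assoc_of_second_deg_zero, hk.comp_extClass, Ext.comp_zero]
  | succ n ih =>
    intro F h1 h2 h3
    let Y := EtMV.injSeq F
    have hY : Y.ShortExact := EtMV.injSeq_shortExact F
    haveI : Injective Y.X₂ := inferInstanceAs (Injective (Injective.under F))
    haveI : IsFinite j := inferInstance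
    haveI : Epi (etaE j Y.X₁) := h2
    obtain ⟨-, hI2, hI3⟩ := rclass_injective (j := j) Y.X₂
    haveI := hI2
    obtain ⟨hk, he⟩ := kSeq_shortExact (j := j) hY h1
    refine subsingleton_of_forall_eq 0 fun x => ?_
    obtain ⟨y, rfl⟩ := Ext.covariant_sequence_exact₁ _ hk x ((hI3 (n + 1)).elim _ _) (n₀ := n + 1) rfl
    have h4 := ih Y.X₃ (acyc_step hY h1).2 he (kbd_step hY h1 h3)
    rw [show y = 0 from h4.elim _ _, Ext.zero_comp]

/-- Membership in the class. -/
theorem rclass_of_kbd (F : EtFppf.AbF (Spec R)) (h1 : Acyc F) [h2 : Epi (etaE j F)] (h3 : KBd j F) : RClass j F :=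
  ⟨h1, h2, fun n => subsingleton_ext_of_kbd n F h1 h2 h3⟩

end Groth.Agent.BigSiteLib
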