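import Mathlib.Algebra.TrivSqZeroExt.Basic
import Mathlib.RingTheory.Localization.Integer
import Mathlib.RingTheory.Localization.Away.Basic
import Mathlib.LinearAlgebra.StdBasis
import Mathlib.RingTheory.Ideal.Span
import Mathlib.LinearAlgebra.Finsupp.LSum
import Mathlib.RingTheory.Ideal.Operations

/-!
Retractions of finite presentations which exist locally on the base.
-/

set_option autoImplicit false
universe u

noncomputable section

namespace Groth.Agent.BigSiteLib

section Local

variable {R : Type u} [CommRing R] {M : Type u} [AddCommGroup M] [Module R M] {n : ℕ}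
  (π : (Fin n → R) →ₗ[R] M)

/-- Local retractions glue. -/
theorem exists_retraction_of_local {ι : Type*} (f : ι → R) (hf : Ideal.span (Set.range f) = ⊤) (N : ι → ℕ)
    (m : ι → ((Fin n → R) →ₗ[R] (Fin n → R))) (hm : ∀ r v, π (m r v) = f r ^ N r • π v)
    (hv : ∀ r v, π v = 0 → ∃ k : ℕ, f r ^ k • m r v = 0) :
    ∃ L : (Fin n → R) →ₗ[R] (Fin n → R), (∀ v, π (L v) = π v) ∧ ∀ v, π v = 0 → L v = 0 := by
  classical
  obtain ⟨u, hu, hu1⟩ := (Ideal.span_eq_top_iff_finite _).mp hf
  choose p hp using fun r : {x // x ∈ u} => hu r.2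
  let D : {x // x ∈ u} → (Fin n → R) →ₗ[R] (Fin n → R) := fun r => f (p r) ^ N (p r) • LinearMap.id - m (p r)
  have hD : ∀ r v, π (D r v) = 0 := fun r v => by simp [D, hm]
  choose k hk using fun (r : {x // x ∈ u}) (si : {x // x ∈ u} × Fin n) =>
    hv (p r) (D si.1 (Pi.single si.2 1)) (hD _ _)
  let B₀ : {x // x ∈ u} → ℕ := fun r => ∑ si, k r si
  have h1 : Ideal.span (Set.range fun r : {x // x ∈ u} => f (p r)) = ⊤ := by
    rw [← hu1]
    refine congrArg Ideal.span (Set.ext fun y => ⟨?_, fun hy => ⟨⟨y, hy⟩, hp _⟩⟩)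
    rintro ⟨r, rfl⟩
    simp only [hp]
    exact r.2
  have hpart : ∀ e : {x // x ∈ u} → ℕ, ∃ h : {x // x ∈ u} → R, ∑ r, h r * f (p r) ^ e r = 1 := fun e => by
    have hpow : Ideal.span (Set.range fun r => f (p r) ^ e r) = ⊤ := by
      have := Ideal.span_range_pow_eq_top _ h1 (fun x => e x.2.choose)
      rw [eq_top_iff, ← this, Ideal.span_le]
      rintro _ ⟨⟨y, hy⟩, rfl⟩
      refine Ideal.subset_span ⟨hy.choose, ?_⟩
      simp only
      exact congrArg (· ^ _) hy.choose_spec
    exact Ideal.mem_span_range_iff_exists_fun.mp (hpow ▸ Submodule.mem_top)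
  obtain ⟨h, hh⟩ := hpart fun r => N (p r) + B₀ r
  let L : (Fin n → R) →ₗ[R] (Fin n → R) := ∑ r, (h r * f (p r) ^ B₀ r) • m (p r)
  refine ⟨L, fun v => ?_, fun v hv0 => ?_⟩
  · simp only [L, LinearMap.coe_sum, Finset.sum_apply, LinearMap.smul_apply, map_sum, map_smul, hm, smul_smul,
      mul_assoc, ← pow_add, add_comm (B₀ _)]
    rw [← Finset.sum_smul, hh, one_smul]
  · have hLD : ∀ s, L.comp (D s) = 0 := fun s => by
      refine (Pi.basisFun R (Fin n)).ext fun i => ?_
      simp only [LinearMap.comp_apply, Pi.basisFun_apply, LinearMap.zero_apply, L, LinearMap.coe_sum, Finset.sum_apply,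
        LinearMap.smul_apply]
      refine Finset.sum_eq_zero fun r _ => ?_
      have hle : k r (s, i) ≤ B₀ r := Finset.single_le_sum (fun j _ => Nat.zero_le _) (Finset.mem_univ (s, i))
      rw [← Nat.sub_add_cancel hle, pow_add, ← mul_assoc, ← smul_smul, hk r (s, i), smul_zero]
    choose k' hk' using fun r : {x // x ∈ u} => hv (p r) v hv0
    obtain ⟨g, hg⟩ := hpart fun r => k' r + N (p r)
    have key : v = ∑ r, (g r * f (p r) ^ k' r) • D r v := by
      simp only [D, LinearMap.sub_apply, LinearMap.smul_apply, LinearMap.id_apply, smul_sub, smul_smul,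
        Finset.sum_sub_distrib, mul_assoc, ← pow_add]
      rw [← Finset.sum_smul, hg, one_smul, eq_comm, sub_eq_self]
      refine Finset.sum_eq_zero fun r _ => ?_
      rw [← smul_smul, hk', smul_zero]
    rw [key, map_sum]
    refine Finset.sum_eq_zero fun r _ => ?_
    rw [map_smul, ← LinearMap.comp_apply, hLD, LinearMap.zero_apply, smul_zero]

end Local

section SqZero

variable {R : Type u} [CommRing R] {A : Type u} [CommRing A] [Algebra R A] {n : ℕ} (x : Fin n → A)

/-- The square-zero extension mapping onto coordinates. -/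
def coordMap (hx : ∀ i j, x i * x j = 0) : TrivSqZeroExt R (Fin n → R) →ₐ[R] A :=
  TrivSqZeroExt.lift (Algebra.ofId R A) (Fintype.linearCombination R x)
    (fun v w => by
      simp only [Fintype.linearCombination_apply, Finset.sum_mul_sum, smul_mul_smul_comm, hx, smul_zero,
        Finset.sum_const_zero])
    (fun r v => by rw [map_smul]; exact Algebra.smul_def r _)
    (fun r v => by rw [op_smul_eq_smul, map_smul]; exact (Algebra.smul_def r _).trans (mul_comm _ _))

lemma coordMap_apply (hx : ∀ i j, x i * x j = 0) (b : TrivSqZeroExt R (Fin n → R)) :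
    coordMap x hx b = algebraMap R A b.fst + ∑ k, b.snd k • x k := by
  rw [coordMap, TrivSqZeroExt.lift_def, Fintype.linearCombination_apply]
  rfl

/-- Localised coordinate lifts give local retractions. -/
theorem exists_local_retraction (hx : ∀ i j, x i * x j = 0) (f : R) {Rf : Type u} [CommRing Rf] [Algebra R Rf]
    [IsLocalization.Away f Rf] {Af : Type u} [CommRing Af] [Algebra A Af]
    [IsLocalization.Away (algebraMap R A f) Af] (lA : Rf →+* Af)
    (hlA : ∀ r, lA (algebraMap R Rf r) = algebraMap A Af (algebraMap R A r)) (φ : Fin n → A →+ Rf)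
    (hφ : ∀ r i k, φ k (algebraMap R A r * x i) = algebraMap R Rf r * φ k (x i))
    (hsec : ∀ i, ∑ k, lA (φ k (x i)) * algebraMap A Af (x k) = algebraMap A Af (x i)) :
    ∃ (N : ℕ) (m : (Fin n → R) →ₗ[R] (Fin n → R)),
      (∀ v, Fintype.linearCombination R x (m v) = f ^ N • Fintype.linearCombination R x v) ∧
      ∀ v, Fintype.linearCombination R x v = 0 → ∃ k : ℕ, f ^ k • m v = 0 := by
  classical
  obtain ⟨⟨_, N₁, rfl⟩, hN⟩ := IsLocalization.exist_integer_multiples_of_finite (Submonoid.powers f)
    (fun ik : Fin n × Fin n => φ ik.2 (x ik.1))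
  choose c hc using hN
  have hc' : ∀ i k, algebraMap R Rf (c (i, k)) = algebraMap R Rf f ^ N₁ * φ k (x i) := fun i k => by
    rw [hc (i, k), Algebra.smul_def, map_pow]
  have hAf : ∀ i, algebraMap A Af (∑ k, c (i, k) • x k) = algebraMap A Af (f ^ N₁ • x i) := fun i => by
    simp only [map_sum, Algebra.smul_def, map_mul, ← hlA, hc', mul_assoc, ← Finset.mul_sum, hsec, map_pow]
  choose M₀ hM₀ using fun i => IsLocalization.Away.exists_of_eq (algebraMap R A f) (hAf i)
  let M₁ := ∑ i, M₀ i
  let m : (Fin n → R) →ₗ[R] (Fin n → R) := Fintype.linearCombination R (fun i => f ^ M₁ • fun k => c (i, k))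
  have hm : ∀ v, m v = f ^ M₁ • fun k => ∑ i, v i * c (i, k) := fun v => by
    funext k
    simp only [m, Fintype.linearCombination_apply, Finset.sum_apply, Pi.smul_apply, smul_eq_mul, Finset.mul_sum]
    exact Finset.sum_congr rfl fun i _ => by ring
  refine ⟨M₁ + N₁, m, fun v => ?_, fun v hv => ?_⟩
  · have e : ∀ i, f ^ M₁ • ∑ k, c (i, k) • x k = f ^ (M₁ + N₁) • x i := fun i => by
      have hle : M₀ i ≤ M₁ := Finset.single_le_sum (fun j _ => Nat.zero_le _) (Finset.mem_univ i)
      rw [← Nat.sub_add_cancel hle, pow_add, mul_smul, Algebra.smul_def (f ^ M₀ i), map_pow, hM₀, ← map_pow,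
        ← Algebra.smul_def, ← mul_smul, ← pow_add, ← mul_smul, ← pow_add, Nat.sub_add_cancel hle]
    simp only [hm, Fintype.linearCombination_apply, Pi.smul_apply, smul_eq_mul]
    calc ∑ k, (f ^ M₁ * ∑ i, v i * c (i, k)) • x k = ∑ i, v i • (f ^ M₁ • ∑ k, c (i, k) • x k) := by
          simp only [Finset.mul_sum, Finset.sum_smul, Finset.smul_sum, smul_smul]
          rw [Finset.sum_comm]
          exact Finset.sum_congr rfl fun i _ => Finset.sum_congr rfl fun k _ => by congr 1; ring
      _ = _ := by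
          simp only [e, Finset.smul_sum, smul_smul]
          exact Finset.sum_congr rfl fun i _ => by congr 1; ring
  · have h5 : ∀ k, ∃ e : ℕ, f ^ e * ∑ i, v i * c (i, k) = 0 := fun k => by
      have h6 : algebraMap R Rf (∑ i, v i * c (i, k)) = 0 := by
        rw [map_sum]
        have e : ∀ i, algebraMap R Rf (v i * c (i, k)) = algebraMap R Rf f ^ N₁ * φ k (v i • x i) := fun i => by
          rw [map_mul, hc', Algebra.smul_def, hφ]; ring
        simp only [e, ← Finset.mul_sum, ← map_sum]
        rw [show ∑ i, v i • x i = 0 from (Fintype.linearCombination_apply R x v).symm.trans hv, map_zero, mul_zero]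
      obtain ⟨⟨_, e, rfl⟩, he⟩ := (IsLocalization.map_eq_zero_iff (Submonoid.powers f) Rf _).mp h6
      exact ⟨e, he⟩
    choose e he using h5
    refine ⟨∑ k, e k, funext fun k => ?_⟩
    have hle : e k ≤ ∑ k, e k := Finset.single_le_sum (fun j _ => Nat.zero_le _) (Finset.mem_univ k)
    simp only [hm, Pi.smul_apply, smul_eq_mul, Pi.zero_apply]
    rw [mul_left_comm, ← Nat.sub_add_cancel hle, pow_add, mul_assoc, he, mul_zero, mul_zero]

end SqZero

end Groth.Agent.BigSiteLib
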