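import Groth.Agent.BigSiteLib.SmNilLift
import Groth.Agent.NilAffine.Main

/-!
The first infinitesimal neighbourhood of the unit section over an affine scheme.
-/

set_option autoImplicit false
set_option linter.style.haveILetI false
set_option backward.isDefEq.respectTransparency false
set_option backward.defeqAttrib.useBackward true
universe u

noncomputable section

namespace Groth.Agent.BigSiteLib

open CategoryTheory Limits Opposite AlgebraicGeometry MonObj MonoidalCategory CartesianMonoidalCategory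

variable {S T : Scheme.{u}} (t : T ⟶ S) (G : Over S) [GrpObj G] [IsCommMonObj G]

/-- An affine scheme containing all infinitesimal points at the unit. -/
structure InfChart where
  O : Scheme.{u}
  hO : IsAffine O
  inc : O ⟶ G.left
  σ : O ⟶ T
  hw : inc ≫ G.hom = σ ≫ t
  eT : T ⟶ O
  eT_inc : eT ≫ inc = t ≫ (η[G]).left
  eT_σ : eT ≫ σ = 𝟙 T
  ft : σ.appTop.hom.FiniteType
  inj : ∀ {Z : Scheme.{u}} (y y' : Z ⟶ O), y ≫ inc = y' ≫ inc → y ≫ σ = y' ≫ σ → y = y'
  sq : ∀ a b : Γ(O, ⊤), eT.appTop a = 0 → eT.appTop b = 0 → a * b = 0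
  factor : ∀ {Z Z₀ : Over T}, IsAffine Z.left → IsAffine Z₀.left → ∀ (g : Z₀ ⟶ Z), SqZero g →
    ∀ x : Pts t G Z, rP t G g x = 0 → ∃ y : Z.left ⟶ O, y ≫ inc = pl t G x ∧ y ≫ σ = Z.hom

lemma mul_eq_zero_firstNbhd {W : Scheme.{u}} (v : T ⟶ W) [QuasiCompact v] (e : T ⟶ (v.ker ^ 2).subscheme)
    (he : e ≫ (v.ker ^ 2).subschemeι = v) (a b : Γ((v.ker ^ 2).subscheme, ⊤)) (ha : e.appTop a = 0)
    (hb : e.appTop b = 0) : a * b = 0 := by
  let J := v.ker
  let I := J ^ 2
  refine NilAffine.eq_zero_of_affine fun A hA => ?_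
  refine NilAffine.ext_cover (X := I.subscheme) (fun V : W.affineOpens => A.1 ⊓ I.subschemeι ⁻¹ᵁ V.1)
    (fun _ => inf_le_left) (fun x hx => ?_) fun V => ?_
  · obtain ⟨V, hV⟩ := NilAffine.affineOpens_cover W (I.subschemeι x)
    exact ⟨V, hx, hV⟩
  · obtain ⟨a', ha'⟩ := I.subschemeι.app_surjective V.1 V.2 (NilAffine.res _ le_top a)
    obtain ⟨b', hb'⟩ := I.subschemeι.app_surjective V.1 V.2 (NilAffine.res _ le_top b)
    have hmem : ∀ c c', I.subschemeι.app V.1 c' = NilAffine.res _ le_top c → e.appTop c = 0 → c' ∈ J.ideal V := by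
      intro c c' hc hec
      rw [NilAffine.mem_ker_ideal]
      have e1 := Scheme.Hom.congr_app he V.1
      rw [Scheme.Hom.comp_app] at e1
      have e2 := ConcreteCategory.congr_hom e1 c'
      simp only [CommRingCat.comp_apply] at e2
      rw [show (v.ker ^ 2).subschemeι.app V.1 c' = _ from hc, NilAffine.app_res, show e.app ⊤ c = 0 from hec, map_zero] at e2
      exact (map_eq_zero_iff _ (ConcreteCategory.bijective_of_isIso _).1).mp e2.symm
    have hk : I.subschemeι.app V.1 (a' * b') = 0 := by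
      rw [← NilAffine.mem_ker_ideal, Scheme.IdealSheafData.ker_subschemeι, Scheme.IdealSheafData.ideal_pow,
        Pi.pow_apply, sq]
      exact Ideal.mul_mem_mul (hmem a a' ha' ha) (hmem b b' hb' hb)
    rw [map_mul, ha', hb', ← map_mul] at hk
    simp only [map_zero]
    rw [NilAffine.res_res]
    have := congrArg (NilAffine.res I.subscheme (inf_le_right : A.1 ⊓ I.subschemeι ⁻¹ᵁ V.1 ≤ _)) hk
    rw [map_zero, NilAffine.res_res] at this
    exact this

lemma le_ker_firstNbhd {W : Scheme.{u}} (v : T ⟶ W) [QuasiCompact v] {Z Z₀ : Over T} [IsAffine Z.left]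
    [IsAffine Z₀.left] {g : Z₀ ⟶ Z} (hg : SqZero g) (yW : Z.left ⟶ W) (hyW0 : g.left ≫ yW = Z₀.hom ≫ v) :
    v.ker ^ 2 ≤ yW.ker := by
  haveI := isClosedImmersion_of_sqZero hg
  let J := v.ker
  let I := J ^ 2
  have hsq : g.left.ker ^ 2 = ⊥ := by
    refine Scheme.IdealSheafData.ext_of_isAffine ?_
    rw [Scheme.IdealSheafData.ideal_pow, Pi.pow_apply, Scheme.IdealSheafData.ideal_bot, Pi.bot_apply,
      eq_bot_iff, sq, Ideal.mul_le]
    intro p hp q hq
    rw [NilAffine.mem_ker_ideal] at hp hq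
    exact Ideal.mem_bot.mpr (hg.2 p q hp hq)
  exact Scheme.IdealSheafData.le_ofIdeals_iff.mpr fun V => by
    rw [Scheme.IdealSheafData.ideal_pow, Pi.pow_apply, sq, Ideal.mul_le]
    intro p hp q hq
    rw [NilAffine.mem_ker_ideal] at hp hq
    rw [RingHom.mem_ker]
    have k : ∀ c, v.app V.1 c = 0 → g.left.app (yW ⁻¹ᵁ V.1) (yW.app V.1 c) = 0 := by
      intro c hc
      have e1 := Scheme.Hom.congr_app hyW0 V.1
      rw [Scheme.Hom.comp_app, Scheme.Hom.comp_app] at e1
      have e2 := ConcreteCategory.congr_hom e1 c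
      simp only [CommRingCat.comp_apply, hc, map_zero] at e2
      exact e2
    rw [map_mul]
    exact NilAffine.mul_eq_zero_of_sq g.left hsq _ _ (k p hp) (k q hq)

/-- The infinitesimal neighbourhood of the unit section is affine. -/
theorem exists_infChart [IsAffine T] [LocallyOfFiniteType G.hom] : Nonempty (InfChart t G) := by
  let P := pullback G.hom t
  let s : T ⟶ P := pullback.lift (t ≫ (η[G]).left) (𝟙 T) (by
    rw [Category.assoc, Category.id_comp]
    exact (congrArg (t ≫ ·) (Over.w η[G])).trans (Category.comp_id t))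
  haveI : IsImmersion (s ≫ pullback.snd G.hom t) := by rw [pullback.lift_snd]; infer_instance
  haveI : IsImmersion s := IsImmersion.of_comp s (pullback.snd G.hom t)
  let W : P.Opens := s.coborderRange
  let v : T ⟶ W := s.liftCoborder
  have hv : v ≫ W.ι = s := s.liftCoborder_ι
  let J := v.ker
  let I := J ^ 2
  have hIJ : I ≤ J := fun U => by rw [Scheme.IdealSheafData.ideal_pow, Pi.pow_apply]; exact Ideal.pow_le_self two_ne_zero
  let e : T ⟶ I.subscheme := IsClosedImmersion.lift I.subschemeι v (by rwa [Scheme.IdealSheafData.ker_subschemeι])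
  have he : e ≫ I.subschemeι = v := IsClosedImmersion.lift_fac _ _ _
  haveI : IsClosedImmersion (e ≫ I.subschemeι) := by rw [he]; infer_instance
  haveI : IsClosedImmersion e := IsClosedImmersion.of_comp e I.subschemeι
  haveI : Surjective e := ⟨fun z => by
    have hz : I.subschemeι z ∈ (J.support : Set W) := by
      rw [← Scheme.IdealSheafData.support_pow J 2 two_ne_zero, ← I.range_subschemeι]
      exact ⟨z, rfl⟩
    rw [Scheme.Hom.support_ker,
      v.isClosedEmbedding.isClosed_range.closure_eq] at hz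
    obtain ⟨x, hx⟩ := hz
    exact ⟨x, I.subschemeι.isClosedEmbedding.injective (by rw [← Scheme.Hom.comp_apply, he, hx])⟩⟩
  haveI hO : IsAffine I.subscheme := NilAffine.isAffine_of_surjective e
  let σ : I.subscheme ⟶ T := I.subschemeι ≫ W.ι ≫ pullback.snd G.hom t
  let inc : I.subscheme ⟶ G.left := I.subschemeι ≫ W.ι ≫ pullback.fst G.hom t
  haveI : LocallyOfFiniteType σ := inferInstance
  refine ⟨⟨I.subscheme, hO, inc, σ, ?_, e, ?_, ?_, ?_, ?_, ?_, ?_⟩⟩
  · simp only [inc, σ, Category.assoc]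
    rw [pullback.condition]
  · simp only [inc]
    rw [reassoc_of% he, reassoc_of% hv, pullback.lift_fst]
  · simp only [σ]
    rw [reassoc_of% he, reassoc_of% hv, pullback.lift_snd]
  · exact (HasRingHomProperty.iff_of_isAffine (P := @LocallyOfFiniteType)).mp ‹LocallyOfFiniteType σ›
  · intro Z y y' h1 h2
    rw [← cancel_mono I.subschemeι, ← cancel_mono W.ι]
    apply pullback.hom_ext
    · simpa [inc, Category.assoc] using h1
    · simpa [σ, Category.assoc] using h2
  · exact fun a b => mul_eq_zero_firstNbhd v e he a b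
  · intro Z Z₀ hZ hZ₀ g hg x hx
    haveI := hZ; haveI := hZ₀
    haveI := isClosedImmersion_of_sqZero hg
    let y : Z.left ⟶ P := pullback.lift (pl t G x) Z.hom (pl_w x)
    have hy0 : g.left ≫ y = Z₀.hom ≫ s := by
      apply pullback.hom_ext
      · rw [Category.assoc, pullback.lift_fst, ← pl_rP, hx, pl_zero, Category.assoc, pullback.lift_fst]
      · rw [Category.assoc, pullback.lift_snd, Category.assoc, pullback.lift_snd, Over.w, Category.comp_id]
    have hr : Set.range y ⊆ Set.range W.ι := by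
      rintro _ ⟨z, rfl⟩
      obtain ⟨z₀, rfl⟩ := surjective_of_sqZero hg z
      rw [← Scheme.Hom.comp_apply, hy0, ← hv, ← Category.assoc, Scheme.Hom.comp_apply]
      exact ⟨_, rfl⟩
    let yW := IsOpenImmersion.lift W.ι y hr
    have hyW : yW ≫ W.ι = y := IsOpenImmersion.lift_fac _ _ _
    have hyW0 : g.left ≫ yW = Z₀.hom ≫ v := by
      rw [← cancel_mono W.ι, Category.assoc, hyW, hy0, Category.assoc, hv]
    have hle : I ≤ yW.ker := le_ker_firstNbhd v hg yW hyW0
    refine ⟨IsClosedImmersion.lift I.subschemeι yW (by rwa [Scheme.IdealSheafData.ker_subschemeι]), ?_, ?_⟩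
    · simp only [inc]
      rw [IsClosedImmersion.lift_fac_assoc, reassoc_of% hyW, pullback.lift_fst]
    · simp only [σ]
      rw [IsClosedImmersion.lift_fac_assoc, reassoc_of% hyW, pullback.lift_snd]

end Groth.Agent.BigSiteLib
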