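import Groth.Agent.BigSiteLib.GmElem

/-!
Spectra of algebras as objects over an affine scheme.
-/

set_option autoImplicit false
set_option linter.style.haveILetI false
set_option backward.isDefEq.respectTransparency false
set_option backward.defeqAttrib.useBackward true
universe u

noncomputable section

namespace Groth.Agent.BigSiteLib

open CategoryTheory Limits Opposite AlgebraicGeometry

variable (T : Scheme.{u}) [IsAffine T]

/-- The spectrum of an algebra over the functions. -/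
abbrev spO (B : Type u) [CommRing B] [Algebra Γ(T, ⊤) B] : Over T :=
  Over.mk (Spec.map (CommRingCat.ofHom (algebraMap Γ(T, ⊤) B)) ≫ T.isoSpec.inv)

instance (B : Type u) [CommRing B] [Algebra Γ(T, ⊤) B] : IsAffine (spO T B).left :=
  inferInstanceAs (IsAffine (Spec _))

variable {B B' : Type u} [CommRing B] [Algebra Γ(T, ⊤) B] [CommRing B'] [Algebra Γ(T, ⊤) B']

/-- The map of spectra. -/
def spMap (φ : B →ₐ[Γ(T, ⊤)] B') : spO T B' ⟶ spO T B :=
  Over.homMk (Spec.map (CommRingCat.ofHom (φ : B →+* B'))) (by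
    change Spec.map _ ≫ Spec.map _ ≫ _ = Spec.map _ ≫ _
    rw [← Spec.map_comp_assoc, ← CommRingCat.ofHom_comp, φ.comp_algebraMap])

lemma spMap_left (φ : B →ₐ[Γ(T, ⊤)] B') : (spMap T φ).left = Spec.map (CommRingCat.ofHom (φ : B →+* B')) := rfl

variable (B) in
/-- Its functions. -/
def spG : Gam (spO T B) ≃+* B := (Scheme.ΓSpecIso (CommRingCat.of B)).commRingCatIsoToRingEquiv

lemma spG_natural (φ : B →ₐ[Γ(T, ⊤)] B') (x : Gam (spO T B)) :
    spG T B' (rg (spMap T φ) x) = φ (spG T B x) :=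
  congr($(Scheme.ΓSpecIso_naturality (CommRingCat.ofHom (φ : B →+* B'))) x)

lemma spG_str (r : Γ(T, ⊤)) : spG T B ((spO T B).hom.appTop r) = algebraMap Γ(T, ⊤) B r := by
  have e : T.isoSpec.inv.appTop = (Scheme.ΓSpecIso Γ(T, ⊤)).inv := by
    rw [← cancel_mono (Scheme.ΓSpecIso Γ(T, ⊤)).hom, Iso.inv_hom_id, ← Scheme.toSpecΓ_appTop,
      ← Scheme.Hom.comp_appTop]
    change (T.isoSpec.hom ≫ T.isoSpec.inv).appTop = _
    rw [Iso.hom_inv_id]
    rfl
  change (Scheme.ΓSpecIso _).hom ((Spec.map _ ≫ T.isoSpec.inv).appTop r) = _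
  rw [Scheme.Hom.comp_appTop, e]
  have h := congr($(Scheme.ΓSpecIso_naturality (CommRingCat.ofHom (algebraMap Γ(T, ⊤) B))) ((Scheme.ΓSpecIso Γ(T, ⊤)).inv r))
  refine Eq.trans h ?_
  change algebraMap Γ(T, ⊤) B ((Scheme.ΓSpecIso Γ(T, ⊤)).hom ((Scheme.ΓSpecIso Γ(T, ⊤)).inv r)) = _
  rw [← CommRingCat.comp_apply, Iso.inv_hom_id, CommRingCat.id_apply]

/-- Surjections with square-zero kernel. -/
lemma sqZero_spMap (φ : B →ₐ[Γ(T, ⊤)] B') (hφ : Function.Surjective φ)
    (h : ∀ a b, φ a = 0 → φ b = 0 → a * b = 0) : SqZero (spMap T φ) := by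
  refine ⟨fun y => ?_, fun a b ha hb => ?_⟩
  · obtain ⟨x, hx⟩ := hφ (spG T B' y)
    exact ⟨(spG T B).symm x, (spG T B').injective (by rw [spG_natural, RingEquiv.apply_symm_apply, hx])⟩
  · apply (spG T B).injective
    rw [map_mul, map_zero]
    refine h _ _ ?_ ?_
    · rw [← spG_natural, ha, map_zero]
    · rw [← spG_natural, hb, map_zero]

end Groth.Agent.BigSiteLib
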