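import Groth.Agent.BigSiteLib.SmInfLie
import Groth.Agent.BigSiteLib.SmInfAlg
import Groth.Agent.BigSiteLib.SmSpec

/-!
The linear forms of the first infinitesimal neighbourhood of the unit section of a smooth group scheme.
-/

set_option autoImplicit false
set_option linter.style.haveILetI false
set_option backward.isDefEq.respectTransparency false
set_option backward.defeqAttrib.useBackward true
universe u

noncomputable section

namespace Groth.Agent.BigSiteLib

open CategoryTheory Limits Opposite AlgebraicGeometry MonObj MonoidalCategory CartesianMonoidalCategory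

lemma spG_isoSpec_inv (X T : Scheme.{u}) [IsAffine X] [IsAffine T] [Algebra Γ(T, ⊤) Γ(X, ⊤)] (a : Γ(X, ⊤)) :
    spG T Γ(X, ⊤) (X.isoSpec.inv.appTop a) = a := by
  have e : X.isoSpec.inv.appTop = (Scheme.ΓSpecIso Γ(X, ⊤)).inv := by
    rw [← cancel_mono (Scheme.ΓSpecIso Γ(X, ⊤)).hom, Iso.inv_hom_id, ← Scheme.toSpecΓ_appTop,
      ← Scheme.Hom.comp_appTop]
    change (X.isoSpec.hom ≫ X.isoSpec.inv).appTop = _
    rw [Iso.hom_inv_id]
    rfl
  rw [e]
  exact (spG T Γ(X, ⊤)).apply_symm_apply a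

namespace InfChart

variable {S T : Scheme.{u}} [IsAffine T] {t : T ⟶ S} {G : Over S} [GrpObj G] [IsCommMonObj G]
variable (C : InfChart t G)

instance : Algebra Γ(T, ⊤) Γ(C.O, ⊤) := C.σ.appTop.hom.toAlgebra

lemma algMap_eq (r : Γ(T, ⊤)) : algebraMap Γ(T, ⊤) Γ(C.O, ⊤) r = C.σ.appTop r := rfl

lemma exists_coord : ∃ (n : ℕ) (x : Fin n → Γ(C.O, ⊤)), (∀ k, C.eps (x k) = 0) ∧
    ∀ a, ∃ c : Fin n → Γ(T, ⊤), a = C.σ.appTop (C.eps a) + Fintype.linearCombination Γ(T, ⊤) x c := by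
  classical
  haveI : Algebra.FiniteType Γ(T, ⊤) Γ(C.O, ⊤) := C.ft
  obtain ⟨s, hs⟩ := Algebra.FiniteType.out (R := Γ(T, ⊤)) (A := Γ(C.O, ⊤))
  let x : Fin (Fintype.card s) → Γ(C.O, ⊤) := fun k =>
    ((Fintype.equivFin s).symm k).1 - C.σ.appTop (C.eps ((Fintype.equivFin s).symm k).1)
  have hx : ∀ k, C.eps (x k) = 0 := fun k => by simp only [x]; rw [map_sub, C.eps_σ, sub_self]
  let L := Fintype.linearCombination Γ(T, ⊤) x
  have hL : ∀ c, C.eps (L c) = 0 := fun c => by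
    simp only [L, Fintype.linearCombination_apply, map_sum, Algebra.smul_def, map_mul, hx, mul_zero,
      Finset.sum_const_zero]
  refine ⟨_, x, hx, fun a => ?_⟩
  have ha : a ∈ Algebra.adjoin Γ(T, ⊤) (s : Set Γ(C.O, ⊤)) := hs ▸ Algebra.mem_top
  induction ha using Algebra.adjoin_induction with
  | mem b hb =>
    refine ⟨Pi.single (Fintype.equivFin s ⟨b, hb⟩) 1, ?_⟩
    rw [Fintype.linearCombination_apply_single, one_smul]
    simp [x]
  | algebraMap r => exact ⟨0, by rw [map_zero, add_zero, algMap_eq, C.eps_σ]⟩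
  | add b b' _ _ hb hb' =>
    obtain ⟨c, hc⟩ := hb
    obtain ⟨c', hc'⟩ := hb'
    refine ⟨c + c', ?_⟩
    rw [map_add, map_add, map_add]
    linear_combination hc + hc'
  | mul b b' _ _ hb hb' =>
    obtain ⟨c, hc⟩ := hb
    obtain ⟨c', hc'⟩ := hb'
    refine ⟨C.eps b • c' + C.eps b' • c, ?_⟩
    have h0 := C.sq (L c) (L c') (hL c) (hL c')
    rw [map_add, map_smul, map_smul, Algebra.smul_def, Algebra.smul_def, algMap_eq, algMap_eq, map_mul, map_mul]
    linear_combination hc * b' + hc' * (C.σ.appTop (C.eps b) + L c) + h0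

variable [Smooth G.hom] {n : ℕ} {x : Fin n → Γ(C.O, ⊤)} (hx : ∀ k, C.eps (x k) = 0)
  (hgen : ∀ a, ∃ c : Fin n → Γ(T, ⊤), a = C.σ.appTop (C.eps a) + Fintype.linearCombination Γ(T, ⊤) x c)

omit [IsAffine T] [Smooth G.hom] in
include hx in
lemma coord_mul (i j : Fin n) : x i * x j = 0 := C.sq _ _ (hx i) (hx j)

set_option maxHeartbeats 3200000 in
include hx hgen in
/-- Coordinates lift locally on the base. -/
theorem exists_local (q : T) : ∃ (f : Γ(T, ⊤)) (N : ℕ) (m : (Fin n → Γ(T, ⊤)) →ₗ[Γ(T, ⊤)] (Fin n → Γ(T, ⊤))),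
    q ∈ T.basicOpen f ∧
      (∀ v, Fintype.linearCombination Γ(T, ⊤) x (m v) = f ^ N • Fintype.linearCombination Γ(T, ⊤) x v) ∧
      ∀ v, Fintype.linearCombination Γ(T, ⊤) x v = 0 → ∃ k : ℕ, f ^ k • m v = 0 := by
  classical
  let π := coordMap (R := Γ(T, ⊤)) x (C.coord_mul hx)
  have hπf : ∀ b, C.eps (π b) = b.fst := fun b => by
    simp [π, coordMap_apply, map_sum, Algebra.smul_def, algMap_eq, hx, C.eps_σ]
  let g := spMap T π
  have hg : SqZero g := sqZero_spMap T π (fun a => by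
    obtain ⟨c, hc⟩ := hgen a
    refine ⟨TrivSqZeroExt.inl (C.eps a) + TrivSqZeroExt.inr c, ?_⟩
    rw [coordMap_apply, algMap_eq]
    simpa [Fintype.linearCombination_apply] using hc.symm) (fun a b ha hb => by
      have ka : a.fst = 0 := by rw [← hπf, ha, map_zero]
      have kb : b.fst = 0 := by rw [← hπf, hb, map_zero]
      refine TrivSqZeroExt.ext (by simp [ka]) ?_
      rw [TrivSqZeroExt.snd_mul, ka, kb]
      simp)
  haveI : IsClosedImmersion g.left := isClosedImmersion_of_sqZero hg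
  let iA : (spO T Γ(C.O, ⊤)).left ⟶ C.O := C.O.isoSpec.inv
  have hiA : iA ≫ C.σ = (spO T Γ(C.O, ⊤)).hom := (Scheme.isoSpec_inv_naturality C.σ).symm
  let x₁ : Pts t G (spO T Γ(C.O, ⊤)) := mkP t G (iA ≫ C.inc) (by rw [Category.assoc, C.hw, reassoc_of% hiA])
  let fstR : TrivSqZeroExt Γ(T, ⊤) (Fin n → Γ(T, ⊤)) →ₐ[Γ(T, ⊤)] Γ(T, ⊤) := TrivSqZeroExt.fstHom _ _ _
  let e₀ : T ⟶ (spO T (TrivSqZeroExt Γ(T, ⊤) (Fin n → Γ(T, ⊤)))).left :=
    T.isoSpec.hom ≫ Spec.map (CommRingCat.ofHom fstR.toRingHom)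
  obtain ⟨D, hzD, xD, hxD⟩ := exists_lift_nhd t G g (surjective_of_sqZero hg) x₁ (e₀ q)
  obtain ⟨f, hf, hqf⟩ := (isAffineOpen_top T).exists_basicOpen_le (V := e₀ ⁻¹ᵁ D) ⟨q, hzD⟩ trivial
  let Rf := Localization.Away f
  haveI : IsScalarTower Γ(T, ⊤) Rf (TrivSqZeroExt Rf (Fin n → Rf)) := inferInstance
  let eB : Fin n → TrivSqZeroExt Rf (Fin n → Rf) := fun k => TrivSqZeroExt.inr (Pi.single k 1)
  let loc := coordMap (R := Γ(T, ⊤)) eB (fun i j => TrivSqZeroExt.inr_mul_inr Rf _ _)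
  let fst' : TrivSqZeroExt Rf (Fin n → Rf) →ₐ[Γ(T, ⊤)] Rf := TrivSqZeroExt.fstHom Γ(T, ⊤) Rf (Fin n → Rf)
  have hloc : ∀ b, loc b = TrivSqZeroExt.inl (algebraMap Γ(T, ⊤) Rf b.fst) +
      TrivSqZeroExt.inr (fun k => algebraMap Γ(T, ⊤) Rf (b.snd k)) := fun b => by
    refine TrivSqZeroExt.ext ?_ (funext fun k => ?_)
    · simp [loc, coordMap_apply, eB, TrivSqZeroExt.algebraMap_eq_inl', TrivSqZeroExt.fst_sum]
    · simp [loc, coordMap_apply, eB, TrivSqZeroExt.algebraMap_eq_inl', TrivSqZeroExt.snd_sum, Pi.single_apply,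
        Algebra.smul_def]
  let h := spMap T loc
  let g' := spMap T fst'
  have hg' : SqZero g' := sqZero_spMap T fst' (fun r => ⟨TrivSqZeroExt.inl r, rfl⟩) (fun a b ha hb => by
    refine TrivSqZeroExt.ext (by simp [show a.fst = 0 from ha]) ?_
    rw [TrivSqZeroExt.snd_mul, show a.fst = 0 from ha, show b.fst = 0 from hb]
    simp)
  have hfac : g'.left ≫ h.left = (spO T Rf).hom ≫ e₀ := by
    change Spec.map (CommRingCat.ofHom fst'.toRingHom) ≫ Spec.map (CommRingCat.ofHom loc.toRingHom) =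
      (Spec.map (CommRingCat.ofHom (algebraMap Γ(T, ⊤) Rf)) ≫ T.isoSpec.inv) ≫ T.isoSpec.hom ≫
        Spec.map (CommRingCat.ofHom fstR.toRingHom)
    rw [Category.assoc, Iso.inv_hom_id_assoc, ← Spec.map_comp, ← Spec.map_comp]
    congr 1
    ext b
    simp [fst', fstR, loc, coordMap_apply, eB, TrivSqZeroExt.algebraMap_eq_inl', TrivSqZeroExt.fst_sum]
  haveI : IsOpenImmersion (Spec.map (CommRingCat.ofHom (algebraMap Γ(T, ⊤) Rf))) := IsOpenImmersion.of_isLocalization f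
  have hrange : Set.range h.left ⊆ (D : Set _) := by
    rintro _ ⟨w, rfl⟩
    obtain ⟨w₀, rfl⟩ := surjective_of_sqZero hg' w
    rw [← Scheme.Hom.comp_apply, hfac, Scheme.Hom.comp_apply]
    refine hf ?_
    rw [← Scheme.toSpecΓ_preimage_basicOpen T f]
    change (T.isoSpec.hom) (T.isoSpec.inv (Spec.map (CommRingCat.ofHom (algebraMap Γ(T, ⊤) Rf)) w₀)) ∈
      PrimeSpectrum.basicOpen f
    rw [← Scheme.Hom.comp_apply T.isoSpec.inv, Iso.inv_hom_id, ← SetLike.mem_coe,
      ← PrimeSpectrum.localization_away_comap_range Rf f]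
    exact ⟨w₀, rfl⟩
  let hD : (spO T (TrivSqZeroExt Rf (Fin n → Rf))).left ⟶ D.toScheme :=
    IsOpenImmersion.lift D.ι h.left (by rwa [Scheme.Opens.range_ι])
  have hDι : hD ≫ D.ι = h.left := IsOpenImmersion.lift_fac _ _ _
  let x' : Pts t G (spO T (TrivSqZeroExt Rf (Fin n → Rf))) := mkP t G (hD ≫ pl t G xD) (by
    rw [Category.assoc, pl_w]
    refine (congrArg (hD ≫ ·) (Category.assoc _ _ _)).trans ?_
    rw [← Category.assoc, hDι, ← Category.assoc]
    exact congrArg (· ≫ t) (Over.w h))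
  have hx'0 : rP t G g' x' = 0 := by
    refine pts_ext ?_
    rw [pl_rP, pl_mkP, pl_zero]
    let m : T ⟶ (spO T Γ(C.O, ⊤)).left := C.eT ≫ C.O.isoSpec.hom
    have hm : m ≫ g.left = e₀ := by
      change (C.eT ≫ C.O.isoSpec.hom) ≫ Spec.map (CommRingCat.ofHom π.toRingHom) = _
      rw [← Scheme.isoSpec_hom_naturality, Category.assoc, ← Spec.map_comp]
      refine congrArg (T.isoSpec.hom ≫ ·) (congrArg Spec.map ?_)
      ext b
      exact hπf b
    let n₀ : (spO T Rf).left ⟶ (g.left ⁻¹ᵁ D).toScheme :=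
      IsOpenImmersion.lift (g.left ⁻¹ᵁ D).ι ((spO T Rf).hom ≫ m) (by
        rw [Scheme.Opens.range_ι]
        rintro _ ⟨w, rfl⟩
        change g.left _ ∈ D
        rw [← Scheme.Hom.comp_apply, Category.assoc, hm, ← hfac, Scheme.Hom.comp_apply]
        exact hrange ⟨_, rfl⟩)
    have hn₀ : n₀ ≫ (g.left ∣_ D) = g'.left ≫ hD := by
      rw [← cancel_mono D.ι, Category.assoc, morphismRestrict_ι, IsOpenImmersion.lift_fac_assoc, Category.assoc, hm,
        Category.assoc, hDι, hfac]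
    rw [← Category.assoc, ← hn₀, Category.assoc]
    refine (congrArg (n₀ ≫ ·) hxD).trans ?_
    rw [IsOpenImmersion.lift_fac_assoc, pl_mkP]
    simp only [m, iA, Category.assoc, Iso.hom_inv_id_assoc, C.eT_inc]
  obtain ⟨y, hy, hyσ⟩ := C.factor inferInstance inferInstance g' hg' x' hx'0
  let τ : Γ(C.O, ⊤) →+* TrivSqZeroExt Rf (Fin n → Rf) := (spG T _).toRingHom.comp y.appTop.hom
  have hτσ : ∀ r, τ (C.σ.appTop r) = algebraMap Γ(T, ⊤) _ r := fun r => by
    change spG T _ (y.appTop (C.σ.appTop r)) = _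
    rw [← appTop_comp_apply, hyσ]
    exact spG_str T r
  let Af := Localization.Away (algebraMap Γ(T, ⊤) Γ(C.O, ⊤) f)
  have hu : IsUnit ((algebraMap Γ(C.O, ⊤) Af).comp (algebraMap Γ(T, ⊤) Γ(C.O, ⊤)) f) :=
    IsLocalization.Away.algebraMap_isUnit (S := Af) (algebraMap Γ(T, ⊤) Γ(C.O, ⊤) f)
  let lA : Rf →+* Af := IsLocalization.Away.lift f hu
  have hlA : ∀ r, lA (algebraMap Γ(T, ⊤) Rf r) = algebraMap Γ(C.O, ⊤) Af (algebraMap Γ(T, ⊤) Γ(C.O, ⊤) r) :=
    fun r => IsLocalization.Away.lift_eq f hu r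
  letI : Algebra Rf Af := lA.toAlgebra
  haveI : IsScalarTower Γ(T, ⊤) Rf Af := IsScalarTower.of_algebraMap_eq fun r =>
    (IsScalarTower.algebraMap_apply Γ(T, ⊤) Γ(C.O, ⊤) Af r).trans (hlA r).symm
  let πf := (coordMap (R := Rf) (fun k => algebraMap Γ(C.O, ⊤) Af (x k))
    (fun i j => by rw [← map_mul, C.coord_mul hx, map_zero])).restrictScalars Γ(T, ⊤)
  have hπf' : ∀ b, πf b = lA b.fst + ∑ k, lA (b.snd k) * algebraMap Γ(C.O, ⊤) Af (x k) := fun b => by
    simp [πf, coordMap_apply, Algebra.smul_def]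
    rfl
  let jA : Γ(C.O, ⊤) →ₐ[Γ(T, ⊤)] Af := IsScalarTower.toAlgHom _ _ _
  let u := spMap T πf
  let u₀ := spMap T jA
  have hsq : u.left ≫ h.left = u₀.left ≫ g.left := by
    change Spec.map (CommRingCat.ofHom πf.toRingHom) ≫ Spec.map (CommRingCat.ofHom loc.toRingHom) =
      Spec.map (CommRingCat.ofHom jA.toRingHom) ≫ Spec.map (CommRingCat.ofHom π.toRingHom)
    rw [← Spec.map_comp, ← Spec.map_comp]
    refine congrArg Spec.map ?_
    ext b
    change πf (loc b) = jA (π b)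
    rw [hπf', hloc, coordMap_apply]
    simp [map_sum, Algebra.smul_def, jA, hlA]
  have hcanon : u.left ≫ y = u₀.left ≫ iA := by
    refine C.inj _ _ ?_ ?_
    · rw [Category.assoc, hy, Category.assoc, pl_mkP, ← Category.assoc]
      let n₀ : (spO T Af).left ⟶ (g.left ⁻¹ᵁ D).toScheme := IsOpenImmersion.lift (g.left ⁻¹ᵁ D).ι u₀.left (by
        rw [Scheme.Opens.range_ι]
        rintro _ ⟨w, rfl⟩
        change g.left _ ∈ D
        rw [← Scheme.Hom.comp_apply, ← hsq, Scheme.Hom.comp_apply]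
        exact hrange ⟨_, rfl⟩)
      have hn₀ : n₀ ≫ (g.left ∣_ D) = u.left ≫ hD := by
        rw [← cancel_mono D.ι, Category.assoc, morphismRestrict_ι, IsOpenImmersion.lift_fac_assoc, Category.assoc,
          hDι, hsq]
      rw [← hn₀, Category.assoc]
      refine (congrArg (n₀ ≫ ·) hxD).trans ?_
      rw [IsOpenImmersion.lift_fac_assoc, pl_mkP]
    · rw [Category.assoc, hyσ, Over.w, Category.assoc, hiA, Over.w]
  have hπτ : ∀ a, πf (τ a) = algebraMap Γ(C.O, ⊤) Af a := fun a => by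
    change πf (spG T _ (y.appTop a)) = _
    rw [← spG_natural T πf]
    change spG T Af (u.left.appTop (y.appTop a)) = _
    rw [← appTop_comp_apply, hcanon, appTop_comp_apply]
    change spG T Af (rg u₀ (iA.appTop a)) = _
    rw [spG_natural]
    refine congrArg jA ?_
    exact spG_isoSpec_inv C.O T a
  have hfst : ∀ a, (τ a).fst = algebraMap Γ(T, ⊤) Rf (C.eps a) := fun a => by
    have h' : g'.left ≫ y = (spO T Rf).hom ≫ C.eT := by
      refine C.inj _ _ ?_ ?_
      · rw [Category.assoc, hy, ← pl_rP, hx'0, pl_zero, Category.assoc, C.eT_inc]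
      · rw [Category.assoc, hyσ, Over.w, Category.assoc, C.eT_σ, Category.comp_id]
    change fst' (spG T _ (y.appTop a)) = _
    rw [← spG_natural T fst']
    change spG T Rf (g'.left.appTop (y.appTop a)) = _
    rw [← appTop_comp_apply, h', appTop_comp_apply]
    exact spG_str T _
  let φ : Fin n → Γ(C.O, ⊤) →+ Rf := fun k =>
    AddMonoidHom.mk' (fun a => (τ a).snd k) fun a b => by simp
  obtain ⟨N, m, hm, hv⟩ := exists_local_retraction x (C.coord_mul hx) f lA hlA φ (fun r i k => by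
    change (τ (algebraMap Γ(T, ⊤) _ r * x i)).snd k = _ * (τ (x i)).snd k
    rw [map_mul, algMap_eq, hτσ]
    simp [TrivSqZeroExt.algebraMap_eq_inl', Algebra.smul_def]) (fun i => by
      have h1 := hπτ (x i)
      rw [hπf', hfst, hx, map_zero, map_zero, zero_add] at h1
      exact h1)
  exact ⟨f, N, m, hqf, hm, hv⟩

/-- A dual basis of the infinitesimal neighbourhood. -/
theorem exists_dual : ∃ (n : ℕ) (x : Fin n → Γ(C.O, ⊤)) (l : Γ(C.O, ⊤) → Fin n → Γ(T, ⊤)),
    (∀ k, C.eps (x k) = 0) ∧ (∀ a b, l (a + b) = l a + l b) ∧ (∀ r a, l (C.σ.appTop r * a) = r • l a) ∧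
      (∀ r, l (C.σ.appTop r) = 0) ∧ ∀ a, a = C.σ.appTop (C.eps a) + ∑ k, C.σ.appTop (l a k) * x k := by
  classical
  obtain ⟨n, x, hx, hgen⟩ := C.exists_coord
  choose f N m hq hm hv using C.exists_local hx hgen
  have hspan : Ideal.span (Set.range f) = ⊤ := by
    rw [← (isAffineOpen_top T).self_le_iSup_basicOpen_iff]
    intro q _
    exact TopologicalSpace.Opens.mem_iSup.mpr ⟨⟨f q, q, rfl⟩, hq q⟩
  obtain ⟨L, hL, hL0⟩ := exists_retraction_of_local _ f hspan N m hm hv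
  choose c hc using hgen
  have hind : ∀ a c', Fintype.linearCombination Γ(T, ⊤) x c' = a - C.σ.appTop (C.eps a) → L (c a) = L c' :=
    fun a c' h' => by
      rw [← sub_eq_zero, ← map_sub]
      refine hL0 _ ?_
      rw [map_sub, h']
      linear_combination -(hc a)
  refine ⟨n, x, fun a => L (c a), hx, fun a b => ?_, fun r a => ?_, fun r => ?_, fun a => ?_⟩
  · rw [← map_add]
    refine hind _ _ ?_
    rw [map_add, map_add, map_add]
    linear_combination -(hc a) - hc b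
  · rw [← map_smul]
    refine hind _ _ ?_
    rw [map_smul, Algebra.smul_def, algMap_eq, map_mul, C.eps_σ, map_mul]
    linear_combination -(C.σ.appTop r * hc a)
  · rw [← map_zero L]
    refine hind _ _ ?_
    rw [map_zero, C.eps_σ, sub_self]
  · refine (hc a).trans (congrArg (C.σ.appTop (C.eps a) + ·) ?_)
    rw [← hL (c a), Fintype.linearCombination_apply]
    exact Finset.sum_congr rfl fun k _ => Algebra.smul_def _ _

end InfChart

end Groth.Agent.BigSiteLib
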