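import Groth.Agent.BigSiteLib.SmInfChart

/-!
Coordinates of infinitesimal points in the neighbourhood of the unit section.
-/

set_option autoImplicit false
set_option linter.style.haveILetI false
set_option backward.isDefEq.respectTransparency false
set_option backward.defeqAttrib.useBackward true
universe u

noncomputable section

namespace Groth.Agent.BigSiteLib

open CategoryTheory Limits Opposite AlgebraicGeometry MonObj MonoidalCategory CartesianMonoidalCategory

variable {S T : Scheme.{u}} {t : T ⟶ S} {G : Over S} [GrpObj G] [IsCommMonObj G]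

namespace InfChart

variable (C : InfChart t G)

instance : IsAffine C.O := C.hO

/-- The unit on functions. -/
abbrev eps : Γ(C.O, ⊤) →+* Γ(T, ⊤) := C.eT.appTop.hom

lemma eps_σ (r : Γ(T, ⊤)) : C.eps (C.σ.appTop r) = r := by
  change C.eT.appTop _ = _
  rw [← appTop_comp_apply, C.eT_σ]
  rfl

/-- A point in the neighbourhood, in coordinates relative to the unit. -/
def Log {Z : Over T} (x : Pts t G Z) (D : Γ(C.O, ⊤) → Gam Z) : Prop :=
  ∃ y : Z.left ⟶ C.O, y ≫ C.inc = pl t G x ∧ y ≫ C.σ = Z.hom ∧ ∀ a, y.appTop a = Z.hom.appTop (C.eps a) + D a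

variable {C} {Z : Over T}

lemma Log.eq {x x' : Pts t G Z} {D : Γ(C.O, ⊤) → Gam Z} (h : C.Log x D) (h' : C.Log x' D) : x = x' := by
  obtain ⟨y, hy, -, ha⟩ := h
  obtain ⟨y', hy', -, ha'⟩ := h'
  refine pts_ext ?_
  rw [← hy, ← hy', show y = y' from ext_of_isAffine (by ext a; rw [ha, ha'])]

lemma Log.unique {x : Pts t G Z} {D D' : Γ(C.O, ⊤) → Gam Z} (h : C.Log x D) (h' : C.Log x D') : D = D' := by
  obtain ⟨y, hy, hw, ha⟩ := h
  obtain ⟨y', hy', hw', ha'⟩ := h'
  have e : y = y' := C.inj _ _ (hy.trans hy'.symm) (hw.trans hw'.symm)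
  funext a
  exact add_left_cancel ((ha a).symm.trans (e ▸ ha' a))

variable (C) in
lemma log_zero (Z : Over T) : C.Log (0 : Pts t G Z) (fun _ => 0) := by
  refine ⟨Z.hom ≫ C.eT, ?_, by rw [Category.assoc, C.eT_σ, Category.comp_id], fun a => ?_⟩
  · rw [Category.assoc, C.eT_inc, pl_zero]
  · rw [appTop_comp_apply, add_zero]

lemma Log.map {x : Pts t G Z} {D : Γ(C.O, ⊤) → Gam Z} (h : C.Log x D) {Z' : Over T} (g : Z' ⟶ Z) :
    C.Log (rP t G g x) fun a => rg g (D a) := by
  obtain ⟨y, hy, hw, ha⟩ := h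
  refine ⟨g.left ≫ y, by rw [Category.assoc, hy, pl_rP], by rw [Category.assoc, hw, Over.w], fun a => ?_⟩
  rw [appTop_comp_apply, ha, map_add]
  exact congrArg (· + _) (rg_str g _)

lemma Log.w {x : Pts t G Z} {D : Γ(C.O, ⊤) → Gam Z} (h : C.Log x D) :
    (∀ a b, D (a + b) = D a + D b) ∧ (∀ r, D (C.σ.appTop r) = 0) ∧
      ∀ a b, D (a * b) = Z.hom.appTop (C.eps a) * D b + Z.hom.appTop (C.eps b) * D a + D a * D b := by
  obtain ⟨y, -, hw, ha⟩ := h
  refine ⟨fun a b => ?_, fun r => ?_, fun a b => ?_⟩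
  · have := map_add y.appTop.hom a b
    rw [ha, ha, ha, map_add, map_add] at this
    linear_combination this
  · have := ha (C.σ.appTop r)
    rw [← appTop_comp_apply, hw, eps_σ] at this
    linear_combination -this
  · have := map_mul y.appTop.hom a b
    rw [ha, ha, ha, map_mul, map_mul] at this
    linear_combination this

/-- Coordinates give a point. -/
lemma exists_log [IsAffine T] (D : Γ(C.O, ⊤) → Gam Z) (h1 : ∀ a b, D (a + b) = D a + D b)
    (h3 : ∀ r, D (C.σ.appTop r) = 0)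
    (h4 : ∀ a b, D (a * b) = Z.hom.appTop (C.eps a) * D b + Z.hom.appTop (C.eps b) * D a)
    (h5 : ∀ a b, D a * D b = 0) : ∃ x, C.Log x D := by
  have h0 : D 0 = 0 := by
    have := h1 0 0
    rw [add_zero] at this
    linear_combination -this
  have h2 : D 1 = 0 := by simpa using h3 1
  let φ : Γ(C.O, ⊤) →+* Gam Z :=
    { toFun := fun a => Z.hom.appTop (C.eps a) + D a
      map_one' := by rw [map_one, map_one, h2, add_zero]
      map_mul' := fun a b => by rw [map_mul, map_mul, h4]; linear_combination -h5 a b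
      map_zero' := by rw [map_zero, map_zero, h0, add_zero]
      map_add' := fun a b => by rw [map_add, map_add, h1]; ring }
  obtain ⟨y, hy, ha⟩ := exists_mor C.σ Z.hom φ fun r => by
    change Z.hom.appTop (C.eps (C.σ.appTop r)) + D _ = _
    rw [eps_σ, h3, add_zero]
  refine ⟨mkP t G (y ≫ C.inc) ?_, y, rfl, hy, ha⟩
  rw [Category.assoc, C.hw, reassoc_of% hy]

variable [IsAffine Z.left] {Z₀ : Over T} [IsAffine Z₀.left] {g : Z₀ ⟶ Z} (hg : SqZero g)

include hg in
/-- Infinitesimal points at the unit lie in the neighbourhood. -/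
lemma exists_log_of_ker (x : Pts t G Z) (hx : rP t G g x = 0) :
    ∃ D, C.Log x D ∧ ∀ a, rg g (D a) = 0 := by
  obtain ⟨y, hy, hw⟩ := C.factor inferInstance inferInstance g hg x hx
  have h : C.Log x fun a => y.appTop a - Z.hom.appTop (C.eps a) :=
    ⟨y, hy, hw, fun a => (add_sub_cancel _ _).symm⟩
  refine ⟨_, h, ?_⟩
  have h' := h.map g
  rw [hx] at h'
  exact fun a => congrFun (h'.unique (C.log_zero Z₀)) a

section Triple

open UnitChart

variable [IsAffine T]

include hg in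
/-- A pair of infinitesimal points as one point on triples. -/
lemma exists_triple {x₁ x₂ : Pts t G Z} {D₁ D₂ : Γ(C.O, ⊤) → Gam Z} (h₁ : C.Log x₁ D₁) (h₂ : C.Log x₂ D₂)
    (k₁ : ∀ a, rg g (D₁ a) = 0) (k₂ : ∀ a, rg g (D₂ a) = 0) :
    ∃ P, rP t G (sec (tr₁ g)) P = x₁ ∧ rP t G (sec (tr₂ g)) P = x₂ ∧ rP t G (sec (tr₃ g)) P = 0 ∧
      C.Log (rP t G (sec (trS hg)) P) (fun a => D₁ a + D₂ a) := by
  let D : Γ(C.O, ⊤) → Gam (algObj Z (Tri g)) := fun a =>
    (pig Z (Tri g)).symm ⟨(D₁ a, D₂ a, 0), by simp [k₁ a], by simp [k₂ a]⟩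
  have d1 : ∀ a, rg (sec (tr₁ g)) (D a) = D₁ a := fun a => by rw [rg_sec, RingEquiv.apply_symm_apply]; rfl
  have d2 : ∀ a, rg (sec (tr₂ g)) (D a) = D₂ a := fun a => by rw [rg_sec, RingEquiv.apply_symm_apply]; rfl
  have d3 : ∀ a, rg (sec (tr₃ g)) (D a) = 0 := fun a => by rw [rg_sec, RingEquiv.apply_symm_apply]; rfl
  obtain ⟨a1, c1, e1⟩ := h₁.w
  obtain ⟨a2, c2, e2⟩ := h₂.w
  obtain ⟨P, hP⟩ := exists_log (C := C) D
    (fun a b => tri_ext (by rw [map_add, d1, d1, d1, a1]) (by rw [map_add, d2, d2, d2, a2])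
      (by rw [map_add, d3, d3, d3, add_zero]))
    (fun r => tri_ext (by rw [map_zero, d1, c1]) (by rw [map_zero, d2, c2]) (by rw [map_zero, d3]))
    (fun a b => tri_ext
      (by rw [map_add, map_mul, map_mul, rg_str, rg_str, d1, d1, d1, e1, hg.2 _ _ (k₁ a) (k₁ b), add_zero])
      (by rw [map_add, map_mul, map_mul, rg_str, rg_str, d2, d2, d2, e2, hg.2 _ _ (k₂ a) (k₂ b), add_zero])
      (by rw [map_add, map_mul, map_mul, d3, d3, d3, mul_zero, mul_zero, add_zero]))
    (fun a b => tri_ext (by rw [map_mul, map_zero, d1, d1, hg.2 _ _ (k₁ a) (k₁ b)])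
      (by rw [map_mul, map_zero, d2, d2, hg.2 _ _ (k₂ a) (k₂ b)]) (by rw [map_mul, map_zero, d3, zero_mul]))
  refine ⟨P, ?_, ?_, ?_, ?_⟩
  · exact Log.eq (by simpa only [d1] using hP.map (sec (tr₁ g))) h₁
  · exact Log.eq (by simpa only [d2] using hP.map (sec (tr₂ g))) h₂
  · exact Log.eq (by simpa only [d3] using hP.map (sec (tr₃ g))) (C.log_zero Z)
  · have h := hP.map (sec (trS hg))
    have ds : ∀ a, rg (sec (trS hg)) (D a) = D₁ a + D₂ a := fun a => by
      rw [rg_sec, RingEquiv.apply_symm_apply]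
      change D₁ a + D₂ a - 0 = _
      rw [sub_zero]
    simpa only [ds] using h

include hg C in
lemma triple_ext {P Q : Pts t G (algObj Z (Tri g))} (h1 : rP t G (sec (tr₁ g)) P = rP t G (sec (tr₁ g)) Q)
    (h2 : rP t G (sec (tr₂ g)) P = rP t G (sec (tr₂ g)) Q)
    (hP : rP t G (sec (tr₃ g)) P = 0) (hQ : rP t G (sec (tr₃ g)) Q = 0) : P = Q := by
  obtain ⟨DP, lP, -⟩ := exists_log_of_ker (C := C) (sqZero_sec₃ hg) P hP
  obtain ⟨DQ, lQ, -⟩ := exists_log_of_ker (C := C) (sqZero_sec₃ hg) Q hQ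
  have k : ∀ π : Tri g →ₐ[Gam Z] Gam Z, rP t G (sec π) P = rP t G (sec π) Q → ∀ a, rg (sec π) (DP a) = rg (sec π) (DQ a) := by
    intro π h a
    have l := lP.map (sec π)
    rw [h] at l
    exact congrFun (l.unique (lQ.map (sec π))) a
  have : DP = DQ := funext fun a => tri_ext (k _ h1 a) (k _ h2 a) (k _ (hP.trans hQ.symm) a)
  exact lP.eq (this ▸ lQ)

include hg in
/-- Coordinates of infinitesimal points are additive. -/
theorem log_add {x₁ x₂ : Pts t G Z} {D₁ D₂ : Γ(C.O, ⊤) → Gam Z} (h₁ : C.Log x₁ D₁) (h₂ : C.Log x₂ D₂)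
    (k₁ : ∀ a, rg g (D₁ a) = 0) (k₂ : ∀ a, rg g (D₂ a) = 0) : C.Log (x₁ + x₂) fun a => D₁ a + D₂ a := by
  obtain ⟨PA, a1, a2, a3, aS⟩ := exists_triple hg h₁ (C.log_zero Z) k₁ (fun _ => map_zero _)
  obtain ⟨PB, b1, b2, b3, bS⟩ := exists_triple hg (C.log_zero Z) h₂ (fun _ => map_zero _) k₂
  obtain ⟨P, c1, c2, c3, cS⟩ := exists_triple hg h₁ h₂ k₁ k₂
  have e : P = PA + PB := triple_ext (C := C) hg (by rw [map_add, a1, b1, add_zero, c1])
    (by rw [map_add, a2, b2, zero_add, c2]) c3 (by rw [map_add, a3, b3, add_zero])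
  have eA : rP t G (sec (trS hg)) PA = x₁ := Log.eq (by simpa only [add_zero] using aS) h₁
  have eB : rP t G (sec (trS hg)) PB = x₂ := Log.eq (by simpa only [zero_add] using bS) h₂
  rwa [e, map_add, eA, eB] at cS

end Triple

end InfChart

end Groth.Agent.BigSiteLib
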