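import Groth.Agent.BigSiteLib.SmChart

/-!
Solutions of cocycle equations in points lift along square zero thickenings.
-/

set_option autoImplicit false
set_option linter.style.haveILetI false
set_option backward.isDefEq.respectTransparency false
set_option backward.defeqAttrib.useBackward true
universe u

noncomputable section

namespace Groth.Agent.BigSiteLib

open CategoryTheory Limits Opposite AlgebraicGeometry MonObj MonoidalCategory CartesianMonoidalCategory

variable {T V : Scheme.{u}} (p : V ⟶ T) [IsAffine T] [IsAffineHom p]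

lemma extF_fst_mul (Y : Over T) [IsAffine Y.left] (φ : LinForm p) (a : Gam Y) (x : Gam ((pbF p).obj Y)) :
    extF p Y φ (fstG p Y a * x) = a * extF p Y φ x := by
  induction x using induction_pbF p Y with
  | h0 => simp only [mul_zero, map_zero]
  | hadd x y hx hy => simp only [mul_add, map_add, hx, hy]
  | hmul a' b => rw [← _root_.mul_assoc, ← map_mul, extF_mul, extF_mul, _root_.mul_assoc]

/-- The contraction is linear over the base. -/
lemma cA_smul (r : LinForm p) : ∀ (n : ℕ) (Y : Over T) (h : IsAffine Y.left) (k : Γ(T, ⊤))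
    (z : Gam (pbn p (n + 1) Y)),
    cA p r n Y h ((pbn p (n + 1) Y).hom.appTop k * z) = (pbn p n Y).hom.appTop k * cA p r n Y h z
  | 0, Y, h, k, z => by
    haveI := h
    let x : Gam ((pbF p).obj Y) := z
    have e : ((pbF p).obj Y).hom.appTop k = fstG p Y (Y.hom.appTop k) := (rg_str (kap p Y) k).symm
    change extF p Y r (((pbF p).obj Y).hom.appTop k * x) = Y.hom.appTop k * extF p Y r x
    rw [e, extF_fst_mul]
  | n + 1, Y, h, k, z => by
    haveI := h
    let x : Gam (pbn p (n + 1) ((pbF p).obj Y)) := z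
    change -cA p r n ((pbF p).obj Y) inferInstance ((pbn p (n + 1) ((pbF p).obj Y)).hom.appTop k * x) =
      (pbn p n ((pbF p).obj Y)).hom.appTop k * -cA p r n ((pbF p).obj Y) inferInstance x
    rw [cA_smul r n, mul_neg]

variable {S : Scheme.{u}} {t : T ⟶ S} {G : Over S} [GrpObj G] [IsCommMonObj G] (C : UnitChart t G)

lemma rP_dPt_ker (n : ℕ) {Y Y₀ : Over T} (g : Y₀ ⟶ Y) (x : Pts t G (pbn p n Y))
    (hx : rP t G (pbnMap p n g) x = 0) : rP t G (pbnMap p (n + 1) g) (dPt t G p n Y x) = 0 := by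
  rw [dPt_natural, hx, map_zero]

/-- The differential in coordinates. -/
lemma log_dPt : ∀ (n : ℕ) {Y Y₀ : Over T}, IsAffine Y.left → IsAffine Y₀.left → ∀ (g : Y₀ ⟶ Y), SqZero g →
    ∀ (x : Pts t G (pbn p n Y)) (D : Γ(C.O, ⊤) → Gam (pbn p n Y)), C.Log x D →
    (∀ a, rg (pbnMap p n g) (D a) = 0) → C.Log (dPt t G p n Y x) fun a => dA p n Y (D a)
  | 0, Y, _, _, _, g, _, x, D, hx, _ => hx.map (kap p Y)
  | n + 1, Y, Y₀, h, h', g, hg, x, D, hx, hk => by
    haveI := h
    haveI := h'
    let x' : Pts t G (pbn p n ((pbF p).obj Y)) := x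
    let D' : Γ(C.O, ⊤) → Gam (pbn p n ((pbF p).obj Y)) := D
    have hx' : C.Log x' D' := hx
    have hk' : ∀ a, rg (pbnMap p n ((pbF p).map g)) (D' a) = 0 := hk
    have ih := log_dPt n inferInstance inferInstance ((pbF p).map g) (sqZero_pbF p g hg) x' D' hx' hk'
    have hs := sqZero_pbn p (n + 1) (Y := (pbF p).obj Y) inferInstance inferInstance ((pbF p).map g) (sqZero_pbF p g hg)
    have k1 : ∀ a, rg (pbnMap p (n + 1) ((pbF p).map g)) (stepR p n Y (D' a)) = 0 := fun a => by
      refine (rg_rg _ _ (D' a)).trans ?_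
      rw [show pbnMap p (n + 1) ((pbF p).map g) ≫ pbnMap p n ((pbF p).map (kap p Y)) =
        pbnMap p n ((pbF p).map (kap p Y₀)) ≫ pbnMap p n ((pbF p).map g) from pbnMap_kap p n g, ← rg_rg, hk',
        map_zero]
    have k2 : ∀ a, rg (pbnMap p (n + 1) ((pbF p).map g)) (dA p n ((pbF p).obj Y) (D' a)) = 0 :=
      fun a => dA_kernel p n ((pbF p).map g) (D' a) (hk' a)
    have hstep : C.Log (stepP t G p n Y x' : Pts t G (pbn p (n + 1) ((pbF p).obj Y))) fun a => stepR p n Y (D' a) :=
      hx'.map _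
    exact UnitChart.log_sub hs hstep ih k1 k2

variable (r : LinForm p) (hr : letI := (p.appTop).hom.toAlgebra; r 1 = 1)

include hr C in
/-- Infinitesimal cocycles are coboundaries. -/
theorem exists_ker_sol (n : ℕ) {Y Y₀ : Over T} (h : IsAffine Y.left) (h' : IsAffine Y₀.left) (g : Y₀ ⟶ Y)
    (hg : SqZero g) (e : Pts t G (pbn p (n + 1) Y)) (he : rP t G (pbnMap p (n + 1) g) e = 0)
    (hde : dPt t G p (n + 1) Y e = 0) :
    ∃ j, dPt t G p n Y j = e ∧ rP t G (pbnMap p n g) j = 0 := by
  haveI := h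
  haveI := h'
  have hs := sqZero_pbn p (n + 1) h h' g hg
  have hs₀ := sqZero_pbn p n h h' g hg
  obtain ⟨D, hD, hk⟩ := UnitChart.exists_log_of_ker (C := C) hs e he
  have hdD : ∀ a, dA p (n + 1) Y (D a) = 0 := by
    have h1 := log_dPt p C (n + 1) h h' g hg e D hD hk
    rw [hde] at h1
    exact fun a => congrFun (h1.unique (C.log_zero _)) a
  obtain ⟨a1, b1, c1, e1⟩ := hD.w
  let Dj : Γ(C.O, ⊤) → Gam (pbn p n Y) := fun a => cA p r n Y h (D a)
  have hkj : ∀ a, rg (pbnMap p n g) (Dj a) = 0 := fun a => by rw [cA_natural p r n h h' g, hk, map_zero]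
  obtain ⟨j, hj⟩ := UnitChart.exists_log (C := C) Dj (fun a b => by simp only [Dj, a1, map_add])
    (by simp only [Dj, b1, map_zero]) (fun r => by simp only [Dj, c1, map_zero])
    (fun a b => by
      simp only [Dj]
      rw [e1, hs.2 _ _ (hk a) (hk b), add_zero, map_add, cA_smul, cA_smul])
    (fun a b => hs₀.2 _ _ (hkj a) (hkj b))
  have hji : ∀ a, dA p n Y (Dj a) = D a := fun a => by
    have := cA_dA p r hr n Y h (D a)
    rwa [hdD, map_zero, zero_add] at this
  refine ⟨j, ?_, ?_⟩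
  · have h1 := log_dPt p C n h h' g hg j Dj hj hkj
    rw [funext hji] at h1
    exact h1.eq hD
  · have h1 := hj.map (pbnMap p n g)
    rw [funext hkj] at h1
    exact h1.eq (C.log_zero _)

include hr C in
/-- Solutions lift, starting from any lift. -/
theorem exists_lift_pts_sol (n : ℕ) {Y Y₀ : Over T} (h : IsAffine Y.left) (h' : IsAffine Y₀.left) (g : Y₀ ⟶ Y)
    (hg : SqZero g) (c : Pts t G (pbn p (n + 1) Y)) (hc : dPt t G p (n + 1) Y c = 0) (x' : Pts t G (pbn p n Y))
    (hx' : dPt t G p n Y₀ (rP t G (pbnMap p n g) x') = rP t G (pbnMap p (n + 1) g) c) :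
    ∃ x, dPt t G p n Y x = c ∧ rP t G (pbnMap p n g) x = rP t G (pbnMap p n g) x' := by
  obtain ⟨j, hj, hj0⟩ := exists_ker_sol p C r hr n h h' g hg (c - dPt t G p n Y x')
    (by rw [map_sub, dPt_natural, hx', sub_self]) (by rw [map_sub, hc, dPt_dPt, sub_self])
  exact ⟨x' + j, by rw [map_add, hj, add_sub_cancel], by rw [map_add, hj0, add_zero]⟩

end Groth.Agent.BigSiteLib
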