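import Groth.Agent.BigSiteLib.SmInfExact

/-!
Exactness of the Amitsur complexes of the kernel of restriction along nil thickenings.
-/

set_option autoImplicit false
set_option linter.style.haveILetI false
set_option backward.isDefEq.respectTransparency false
set_option backward.defeqAttrib.useBackward true
universe u

noncomputable section

namespace Groth.Agent.BigSiteLib

open CategoryTheory Limits Opposite AlgebraicGeometry MonObj MonoidalCategory CartesianMonoidalCategory
open AdeqLib (TExact algF sp spm tpow)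

/-- Extensions of sheaves with exact Amitsur complexes. -/
theorem texact_middle {S : Scheme.{u}} {C : ShortComplex (EtFppf.AbF S)} (hC : C.ShortExact) (h₁ : TExact C.X₁)
    (h₃ : TExact C.X₃) : TExact C.X₂ := by
  intro R a B _ _ _ m z hz
  obtain ⟨y₃, hy₃⟩ := h₃ R a B m (C.g.hom.app (op (sp a (tpow B (m + 2)))) z) (by
    refine (AdeqLib.map_dA C.g a B (m + 2) z).symm.trans ?_
    rw [hz, map_zero])
  obtain ⟨y₂, hy₂⟩ := AdeqLib.surjective_sp hC h₁ a (tpow B (m + 1)) y₃
  obtain ⟨w, hw⟩ := AdeqLib.sections_exact hC (U := sp a (tpow B (m + 2)))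
    (z - AdeqLib.dA B (algF a C.X₂.obj) (m + 1) y₂) (by
      rw [map_sub, sub_eq_zero]
      refine Eq.trans ?_ (AdeqLib.map_dA C.g a B (m + 1) y₂).symm
      rw [hy₂, hy₃])
  obtain ⟨v, hv⟩ := h₁ R a B m w (AdeqLib.sections_injective hC (sp a (tpow B (m + 3))) (by
    refine (AdeqLib.map_dA C.f a B (m + 2) w).trans ?_
    rw [hw, map_sub, hz, AdeqLib.dA_dA, sub_zero, map_zero]))
  refine ⟨y₂ + C.f.hom.app (op (sp a (tpow B (m + 1)))) v, ?_⟩
  rw [map_add, ← AdeqLib.map_dA C.f a B (m + 1) v, hv, hw, add_sub_cancel]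

variable {S T T₀ T₁ : Scheme.{u}} (t : T ⟶ S) (G : Over S) [GrpObj G] [IsCommMonObj G]

section Factor

variable (f : T₁ ⟶ T) (j₁ : T₀ ⟶ T₁) (j : T₀ ⟶ T) (hj : j₁ ≫ f = j)

omit [GrpObj G] [IsCommMonObj G] in
include hj in
lemma exists_cu_factor (U : Over T) :
    (∃ h, h ≫ (cu j U).left = (cu j₁ ((Over.pullback f).obj U)).left ≫ (cu f U).left) ∧
      ∃ h, h ≫ (cu j₁ ((Over.pullback f).obj U)).left ≫ (cu f U).left = (cu j U).left := by
  let Z : Over T₁ := (Over.pullback f).obj U
  refine ⟨⟨pullback.lift (pullback.fst Z.hom j₁ ≫ pullback.fst U.hom f) (pullback.snd Z.hom j₁) ?_,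
      pullback.lift_fst _ _ _⟩,
    ⟨pullback.lift (pullback.lift (pullback.fst U.hom j) (pullback.snd U.hom j ≫ j₁) ?_) (pullback.snd U.hom j) ?_, ?_⟩⟩
  · rw [← hj, Category.assoc, pullback.condition, ← Category.assoc]
    exact (congrArg (· ≫ f) (pullback.condition (f := Z.hom) (g := j₁))).trans (Category.assoc _ _ _)
  · rw [Category.assoc, hj, pullback.condition]
  · exact pullback.lift_snd _ _ _
  · change pullback.lift _ _ _ ≫ pullback.fst Z.hom j₁ ≫ pullback.fst U.hom f = pullback.fst U.hom j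
    rw [← Category.assoc, pullback.lift_fst, pullback.lift_fst]

lemma rP_eq_zero_of_factor {Y Y₁ Y₂ : Over T} (g₁ : Y₁ ⟶ Y) (g₂ : Y₂ ⟶ Y) (h : Y₂.left ⟶ Y₁.left)
    (e : h ≫ g₁.left = g₂.left) (x : Pts t G Y) (hx : rP t G g₁ x = 0) : rP t G g₂ x = 0 := by
  have hw : h ≫ Y₁.hom = Y₂.hom := by rw [← Over.w g₁, ← Over.w g₂, ← Category.assoc, e]
  have := congrArg (rP t G (Over.homMk h hw : Y₂ ⟶ Y₁)) hx
  rw [rP_rP, map_zero] at this
  refine Eq.trans (congrArg (fun g => rP t G g x) ?_) this
  exact Over.OverMorphism.ext e.symm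

include hj in
lemma exists_push_pts (U : Over T) (z : (infSh t G j).obj.obj (op U)) :
    ∃ y : (infSh (f ≫ t) G j₁).obj.obj (op ((Over.pullback f).obj U)),
      pl (f ≫ t) G (infPts (f ≫ t) G j₁ _ y) = (cu f U).left ≫ pl t G (infPts t G j U z) := by
  let Z : Over T₁ := (Over.pullback f).obj U
  obtain ⟨x, hx⟩ := (mov_bijective t G f Z).2 (rP t G (cu f U) (infPts t G j U z))
  have hx₀ : rP (f ≫ t) G (cu j₁ Z) x = 0 := by
    apply (mov_bijective t G f _).1
    rw [← mov_rP, hx, rP_rP, map_zero]
    obtain ⟨⟨h, e⟩, -⟩ := exists_cu_factor f j₁ j hj U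
    exact rP_eq_zero_of_factor t G (cu j U) _ h e _ (rP_infPts t G j U z)
  obtain ⟨y, hy⟩ := exists_infPts (f ≫ t) G j₁ Z x hx₀
  refine ⟨y, ?_⟩
  rw [hy, ← pl_mov t G f Z x, hx]
  rfl

variable {f j₁ j}

lemma pts_add_left {U' : Over T} {x y : Pts t G U'} {x' y' : Pts t G U'} (h : x = x') (h' : y = y') :
    x + y = x' + y' := by rw [h, h']

/-- Restriction of points vanishing on a subscheme, on sections. -/
def resPts (U : Over T) :
    (infSh t G j).obj.obj (op U) →+ (infSh (f ≫ t) G j₁).obj.obj (op ((Over.pullback f).obj U)) :=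
  AddMonoidHom.mk' (fun z => (exists_push_pts t G f j₁ j hj U z).choose) fun z z' => by
    have e : ∀ z, mov t G f _ (infPts (f ≫ t) G j₁ _ (exists_push_pts t G f j₁ j hj U z).choose) =
        rP t G (cu f U) (infPts t G j U z) := fun z =>
      pts_ext ((pl_mov t G f _ _).trans (exists_push_pts t G f j₁ j hj U z).choose_spec)
    apply infPts_injective (f ≫ t) G j₁ ((Over.pullback f).obj U)
    apply (mov_bijective t G f _).1
    refine (e (z + z')).trans ?_
    refine (congrArg (rP t G (cu f U)) (map_add (infPts t G j U) z z')).trans ?_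
    refine (map_add (rP t G (cu f U)) _ _).trans ?_
    refine Eq.trans ?_ (congrArg (mov t G f _) (map_add (infPts (f ≫ t) G j₁ _) _ _)).symm
    refine Eq.trans ?_ (map_add (mov t G f _) _ _).symm
    exact pts_add_left t G (e z).symm (e z').symm

lemma pl_resPts (U : Over T) (z : (infSh t G j).obj.obj (op U)) :
    pl (f ≫ t) G (infPts (f ≫ t) G j₁ ((Over.pullback f).obj U) (resPts t G hj U z)) =
      (cu f U).left ≫ pl t G (infPts t G j U z) :=
  (exists_push_pts t G f j₁ j hj U z).choose_spec

lemma resPts_natural {U U' : Over T} (g : U' ⟶ U) (z : (infSh t G j).obj.obj (op U)) :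
    resPts t G hj U' ((infSh t G j).obj.map g.op z) =
      (infSh (f ≫ t) G j₁).obj.map ((Over.pullback f).map g).op (resPts t G hj U z) := by
  apply infPts_injective (f ≫ t) G j₁ ((Over.pullback f).obj U')
  refine pts_ext ((pl_resPts t G hj U' _).trans ?_)
  refine Eq.trans ?_ (congrArg (pl (f ≫ t) G) (infPts_map (f ≫ t) G j₁ ((Over.pullback f).map g) _)).symm
  refine (congrArg ((cu f U').left ≫ ·) ((congrArg (pl t G) (infPts_map t G j g z)).trans (pl_rP t G g _))).trans ?_
  refine Eq.trans ?_ ((congrArg (((Over.pullback f).map g).left ≫ ·) (pl_resPts t G hj U z).symm).trans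
    (pl_rP (f ≫ t) G _ _).symm)
  refine (Category.assoc _ _ _).symm.trans (Eq.trans ?_ (Category.assoc _ _ _))
  exact congrArg (· ≫ pl t G _) (congrArg Over.Hom.left ((Over.mapPullbackAdj f).counit.naturality g)).symm

/-- Restriction of points vanishing on a subscheme to a larger subscheme. -/
def infRes : infSh t G j ⟶
    (BigSite.pushBig Scheme.fppfPrecoverage f AddCommGrpCat.{u + 1}).obj (infSh (f ≫ t) G j₁) :=
  ⟨{ app := fun U => AddCommGrpCat.ofHom (resPts t G hj U.unop)
     naturality := fun U U' g => AddCommGrpCat.ext fun z => resPts_natural t G hj g.unop z }⟩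

lemma pl_infRes (U : Over T) (z : (infSh t G j).obj.obj (op U)) :
    pl (f ≫ t) G (infPts (f ≫ t) G j₁ ((Over.pullback f).obj U) ((infRes t G hj).hom.app (op U) z)) =
      (cu f U).left ≫ pl t G (infPts t G j U z) :=
  pl_resPts t G hj U z

theorem epi_infRes [Smooth G.hom] [IsClosedImmersion f] [Surjective f] : Epi (infRes t G hj) := by
  haveI : Sheaf.IsLocallySurjective (infRes t G hj) := ⟨fun {U} y => by
    let Z : Over T₁ := (Over.pullback f).obj U
    let y₀ := mov t G f Z (infPts (f ≫ t) G j₁ Z y)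
    choose W i hi hz x hx using exists_lift_restr t G f U ((secP t G _).symm y₀)
    haveI := hi
    let V : U.left → Over T := fun z => Over.mk (i z ≫ U.hom)
    let π : ∀ z, V z ⟶ U := fun z => Over.homMk (i z) rfl
    have hcov : Presieve.ofArrows (fun z => (V z).left) (fun z => (π z).left) ∈
        Scheme.fppfPrecoverage.coverings U.left :=
      AdeqLib.fppf_ofArrows_iff.mpr ⟨fun w => let ⟨v, hv⟩ := hz w; ⟨w, v, hv⟩, fun z => AdeqLib.fppfP_imm (i z)⟩
    have hmem : Sieve.ofArrows V π ∈ QuotSh.J Scheme.fppfPrecoverage T U := by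
      rw [GrothendieckTopology.mem_over_iff, Sieve.ofArrows, Sieve.overEquiv_generate]
      refine GrothendieckTopology.superset_covering _ ?_ (Precoverage.generate_mem_toGrothendieck hcov)
      rw [Sieve.generate_le_iff]
      rintro Z' g ⟨z⟩
      apply Sieve.le_generate
      exact ⟨V z, π z, 𝟙 _, ⟨z⟩, (Category.id_comp _).symm⟩
    refine GrothendieckTopology.superset_covering _ ?_ hmem
    rw [Sieve.ofArrows, Sieve.generate_le_iff]
    rintro _ _ ⟨z⟩
    let xP := secP t G (V z) (x z)
    have hp : (cu f (V z)).left ≫ pl t G xP = ((Over.pullback f).map (π z)).left ≫ pl (f ≫ t) G (infPts (f ≫ t) G j₁ Z y) := by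
      have h := congrArg (fun s => pl t G (secP t G _ s)) (hx z)
      refine Eq.trans ?_ (h.trans ?_)
      · rfl
      · refine (congrArg (pl t G) (secP_map t G ((Over.map f).map ((Over.pullback f).map (π z))) _)).trans
          ((pl_rP t G _ _).trans ?_)
        refine congrArg (((Over.map f).map ((Over.pullback f).map (π z))).left ≫ ·) ?_
        exact (congrArg (pl t G) ((secP t G _).apply_symm_apply y₀)).trans (pl_mov t G f Z _)
    obtain ⟨w, hw⟩ := exists_infPts t G j (V z) xP (by
      refine pts_ext ?_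
      obtain ⟨-, ⟨h, e⟩⟩ := exists_cu_factor f j₁ j hj (V z)
      rw [pl_rP, ← e, Category.assoc, Category.assoc, hp]
      have h0 := congrArg (pl (f ≫ t) G) (rP_infPts (f ≫ t) G j₁ Z y)
      rw [pl_rP] at h0
      have en := congrArg Over.Hom.left ((Over.mapPullbackAdj j₁).counit.naturality ((Over.pullback f).map (π z)))
      simp only [Over.comp_left] at en
      rw [← Category.assoc (cu j₁ _).left]
      refine (congrArg (h ≫ ·) ((congrArg (· ≫ _) en.symm).trans ((Category.assoc _ _ _).trans
        (congrArg (_ ≫ ·) h0)))).trans ?_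
      rw [pl_zero, pl_zero]
      change h ≫ _ ≫ _ ≫ (f ≫ t) ≫ _ = _
      let Z' : Over T₁ := (Over.pullback f).obj (V z)
      have w1 : h ≫ (cu j₁ Z').left ≫ Z'.hom ≫ f = ((Over.map j).obj ((Over.pullback j).obj (V z))).hom := by
        rw [← Over.w (cu j (V z)), ← e]
        simp only [Category.assoc]
        refine congrArg (h ≫ (cu j₁ Z').left ≫ ·) ?_
        exact (pullback.condition (f := (V z).hom) (g := f)).symm
      rw [← w1]
      simp only [Category.assoc, Over.w_assoc]
      refine congrArg (h ≫ ·) ?_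
      exact (Category.assoc _ _ _).symm.trans (congrArg (· ≫ f ≫ t ≫ _)
        (Over.w ((Over.map j₁).map ((Over.pullback j₁).map ((Over.pullback f).map (π z)))))))
    refine ⟨w, infPts_injective (f ≫ t) G j₁ ((Over.pullback f).obj (V z)) (pts_ext ?_)⟩
    refine (pl_infRes t G hj (V z) w).trans ?_
    rw [hw]
    refine hp.trans ?_
    exact ((congrArg (pl (f ≫ t) G) (infPts_map (f ≫ t) G j₁ ((Over.pullback f).map (π z)) y)).trans
      (pl_rP _ _ _ _)).symm⟩
  infer_instance

end Factor

variable [IsAffine T]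

/-- The closed subscheme of an ideal. -/
abbrev ideT (I : Ideal Γ(T, ⊤)) : Spec (CommRingCat.of (Γ(T, ⊤) ⧸ I)) ⟶ T :=
  Spec.map (CommRingCat.ofHom (Ideal.Quotient.mk I)) ≫ T.isoSpec.inv

lemma isClosedImmersion_ideT (I : Ideal Γ(T, ⊤)) : IsClosedImmersion (ideT I) := by
  haveI := IsClosedImmersion.spec_of_surjective (CommRingCat.ofHom (Ideal.Quotient.mk I)) Ideal.Quotient.mk_surjective
  infer_instance

lemma ker_ideT (I : Ideal Γ(T, ⊤)) : RingHom.ker (ideT I).appTop.hom = I := by
  have e : T.isoSpec.inv.appTop = (Scheme.ΓSpecIso Γ(T, ⊤)).inv := by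
    rw [← cancel_mono (Scheme.ΓSpecIso Γ(T, ⊤)).hom, Iso.inv_hom_id, ← Scheme.toSpecΓ_appTop,
      ← Scheme.Hom.comp_appTop]
    change (T.isoSpec.hom ≫ T.isoSpec.inv).appTop = _
    rw [Iso.hom_inv_id]
    rfl
  ext r
  rw [RingHom.mem_ker]
  change (ideT I).appTop r = 0 ↔ _
  rw [← map_eq_zero_iff _ (Scheme.ΓSpecIso (CommRingCat.of (Γ(T, ⊤) ⧸ I))).commRingCatIsoToRingEquiv.injective,
    appTop_comp_apply, e]
  have h := congr($(Scheme.ΓSpecIso_naturality (CommRingCat.ofHom (Ideal.Quotient.mk I))) ((Scheme.ΓSpecIso Γ(T, ⊤)).inv r))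
  simp only [CommRingCat.comp_apply] at h
  refine Iff.trans ?_ Ideal.Quotient.eq_zero_iff_mem
  refine Eq.congr_left (h.trans ?_)
  change Ideal.Quotient.mk I ((Scheme.ΓSpecIso Γ(T, ⊤)).hom ((Scheme.ΓSpecIso Γ(T, ⊤)).inv r)) = _
  rw [← CommRingCat.comp_apply, Iso.inv_hom_id, CommRingCat.id_apply]

lemma surjective_of_ker_nil {X : Scheme.{u}} (j : X ⟶ T) [IsClosedImmersion j]
    (h : ∀ r, j.appTop r = 0 → IsNilpotent r) : Surjective j := by
  haveI : IsAffine X := isAffine_of_isAffineHom j
  refine ⟨fun z => ?_⟩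
  have hs : Function.Surjective (PrimeSpectrum.comap j.appTop.hom) := fun p => by
    have hp : p ∈ Set.range (PrimeSpectrum.comap j.appTop.hom) := by
      rw [range_comap_of_surjective _ _ (IsClosedImmersion.isAffine_surjective_of_isAffine j).2, PrimeSpectrum.mem_zeroLocus]
      intro r hr
      obtain ⟨n, hn⟩ := h r hr
      exact p.isPrime.mem_of_pow_mem n (hn ▸ zero_mem p.asIdeal)
    exact hp
  obtain ⟨q, hq⟩ := hs (T.isoSpec.hom z)
  refine ⟨X.isoSpec.inv q, ?_⟩
  rw [← Scheme.Hom.comp_apply, ← Scheme.isoSpec_inv_naturality, Scheme.Hom.comp_apply]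
  exact (congrArg T.isoSpec.inv hq).trans congr($(T.isoSpec.hom_inv_id) z)

/-- Nilpotent thickenings. -/
theorem texact_infSh_nilpotent [Smooth G.hom] : ∀ (e : ℕ) {X : Scheme.{u}} (j : X ⟶ T) [IsClosedImmersion j],
    RingHom.ker j.appTop.hom ^ (2 ^ e) = ⊥ → TExact (infSh t G j) := by
  intro e
  induction e with
  | zero =>
    intro X j _ hK R' a B _ _ _ m z _
    rw [pow_zero, pow_one] at hK
    refine ⟨0, ?_⟩
    rw [map_zero]
    apply infPts_injective t G j
    rw [map_zero]
    let U := sp a (tpow B (m + 2))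
    haveI : IsAffine U.left := inferInstanceAs (IsAffine (Spec _))
    haveI := isAffine_cu j U
    haveI : IsClosedImmersion (cu j U).left := inferInstanceAs (IsClosedImmersion (pullback.fst U.hom j))
    have hiso : IsIso (cu j U).left.appTop := (ConcreteCategory.isIso_iff_bijective _).mpr
      ⟨(injective_iff_map_eq_zero _).mpr fun x hx => by
          have h := (rg_cu_eq_zero_iff j U x).mp hx
          rw [hK, Ideal.map_bot] at h
          exact h,
        (IsClosedImmersion.isAffine_surjective_of_isAffine (cu j U).left).2⟩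
    haveI : IsIso (cu j U).left := by
      have e : (cu j U).left = ((Over.map j).obj ((Over.pullback j).obj U)).left.isoSpec.hom ≫
          Spec.map (cu j U).left.appTop ≫ U.left.isoSpec.inv := by
        rw [Scheme.isoSpec_hom_naturality_assoc, Iso.hom_inv_id, Category.comp_id]
      rw [e]
      infer_instance
    refine pts_ext ?_
    have h := congrArg (pl t G) (rP_infPts t G j U z)
    rw [pl_rP, pl_zero] at h
    rw [← cancel_epi (cu j U).left, pl_zero]
    refine (h.trans ?_).symm
    rw [← Over.w (cu j U), Category.assoc]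
  | succ e ih =>
    intro X j _ hK
    haveI : IsAffine X := isAffine_of_isAffineHom j
    let K := RingHom.ker j.appTop.hom
    have hnil : ∀ r ∈ K, IsNilpotent r := fun r hr => ⟨2 ^ (e + 1), by
      have := Ideal.pow_mem_pow hr (2 ^ (e + 1))
      rw [hK] at this
      exact this⟩
    let b := K ^ 2
    let f := ideT (T := T) b
    haveI : IsClosedImmersion f := isClosedImmersion_ideT b
    haveI : Surjective f := surjective_of_ker_nil f fun r hr => hnil r (by
      have h : r ∈ RingHom.ker f.appTop.hom := hr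
      rw [ker_ideT] at h
      exact Ideal.pow_le_self two_ne_zero h)
    have hkerf : RingHom.ker f.appTop.hom = K ^ 2 := ker_ideT b
    let j₁ : X ⟶ Spec (CommRingCat.of (Γ(T, ⊤) ⧸ b)) := X.isoSpec.hom ≫ Spec.map (CommRingCat.ofHom
      (Ideal.Quotient.lift b j.appTop.hom fun r hr => Ideal.pow_le_self two_ne_zero hr))
    have hj : j₁ ≫ f = j := by
      simp only [j₁, f, ideT, Category.assoc]
      rw [← Spec.map_comp_assoc, ← CommRingCat.ofHom_comp, Ideal.Quotient.lift_comp_mk]
      change X.isoSpec.hom ≫ Spec.map j.appTop ≫ T.isoSpec.inv = j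
      rw [Scheme.isoSpec_hom_naturality_assoc, Iso.hom_inv_id, Category.comp_id]
    haveI : IsClosedImmersion j₁ := by
      haveI : IsClosedImmersion (j₁ ≫ f) := by rw [hj]; infer_instance
      exact IsClosedImmersion.of_comp j₁ f
    have hsq : ∀ p q, j₁.appTop p = 0 → j₁.appTop q = 0 → p * q = 0 := by
      intro p q hp hq
      obtain ⟨p', rfl⟩ := (IsClosedImmersion.isAffine_surjective_of_isAffine f).2 p
      obtain ⟨q', rfl⟩ := (IsClosedImmersion.isAffine_surjective_of_isAffine f).2 q
      have k : ∀ r, j₁.appTop (f.appTop r) = 0 → r ∈ K := fun r hr => by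
        rw [← appTop_comp_apply, hj] at hr
        exact hr
      have : p' * q' ∈ RingHom.ker f.appTop.hom := by
        rw [hkerf, pow_two]
        exact Ideal.mul_mem_mul (k p' hp) (k q' hq)
      rw [← map_mul]
      exact this
    have h₃ : TExact ((BigSite.pushBig Scheme.fppfPrecoverage f AddCommGrpCat.{u + 1}).obj (infSh (f ≫ t) G j₁)) :=
      texact_push_infSh (G := G) f hsq
    have h₁' : TExact (infSh t G f) := ih f (by
      rw [hkerf, ← pow_mul, ← pow_succ']
      exact hK)
    let φ := infRes t G hj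
    haveI : Epi φ := epi_infRes t G hj
    let C : ShortComplex (EtFppf.AbF T) := ShortComplex.mk (kernel.ι φ) φ (kernel.condition φ)
    have hC : C.ShortExact := { exact := ShortComplex.exact_of_f_is_kernel _ (kernelIsKernel φ) }
    refine texact_middle hC ?_ h₃
    intro R' a B _ _ _ m z hz
    let U : ℕ → Over T := fun k => sp a (tpow B k)
    let inc : ∀ k, C.X₁.obj.obj (op (U k)) →+ Pts t G (U k) := fun k =>
      (infPts t G j (U k)).comp (C.f.hom.app (op (U k))).hom
    have hinc : ∀ k, Function.Injective (inc k) := fun k =>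
      (infPts_injective t G j (U k)).comp (AdeqLib.sections_injective hC (U k))
    have hker : ∀ k x, rP t G (cu f (U k)) (inc k x) = 0 := fun k x => by
      refine pts_ext ?_
      have h := pl_infRes t G hj (U k) (C.f.hom.app (op (U k)) x)
      rw [show φ.hom.app (op (U k)) (C.f.hom.app (op (U k)) x) = 0 from AdeqLib.g_f_zero (C := C) (U k) x, map_zero] at h
      rw [pl_rP]
      refine h.symm.trans ?_
      rw [pl_zero, pl_zero]
      exact (Category.assoc _ _ _).symm.trans rfl
    have himg : ∀ k (x : Pts t G (U k)), rP t G (cu f (U k)) x = 0 → ∃ w, inc k w = x := by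
      intro k x hx
      obtain ⟨w, hw⟩ := exists_infPts t G j (U k) x (by
        obtain ⟨-, ⟨h, e'⟩⟩ := exists_cu_factor f j₁ j hj (U k)
        exact rP_eq_zero_of_factor t G (cu f (U k)) _ (h ≫ (cu j₁ ((Over.pullback f).obj (U k))).left)
          (by rw [Category.assoc]; exact e') x hx)
      obtain ⟨v, hv⟩ := AdeqLib.sections_exact hC (U := U k) w (by
        apply infPts_injective (f ≫ t) G j₁ ((Over.pullback f).obj (U k))
        refine pts_ext ((pl_infRes t G hj (U k) w).trans ?_)
        rw [hw, ← pl_rP, hx, map_zero, pl_zero, pl_zero]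
        exact (Category.assoc _ _ _).trans rfl)
      refine ⟨v, ?_⟩
      change infPts t G j (U k) (C.f.hom.app (op (U k)) v) = x
      rw [hv, hw]
    let N := infSh t G f
    let tr : ∀ k x, N.obj.obj (op (U k)) := fun k x => (exists_infPts t G f (U k) (inc k x) (hker k x)).choose
    have htr : ∀ k x, infPts t G f (U k) (tr k x) = inc k x := fun k x =>
      (exists_infPts t G f (U k) (inc k x) (hker k x)).choose_spec
    have hdA : ∀ k (x : C.X₁.obj.obj (op (U k))) (x' : N.obj.obj (op (U k))), infPts t G f (U k) x' = inc k x →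
        infPts t G f (U (k + 1)) (AdeqLib.dA B (algF a N.obj) k x') = inc (k + 1) (AdeqLib.dA B (algF a C.X₁.obj) k x) := by
      intro k x x' hxx
      rw [AdeqLib.dA_apply, AdeqLib.dA_apply]
      refine (map_sum _ _ _).trans ((Finset.sum_congr rfl fun i _ => ?_).trans (map_sum (inc (k + 1)) _ _).symm)
      refine (map_zsmul _ _ _).trans (Eq.trans (congrArg _ ?_) (map_zsmul (inc (k + 1)) _ _).symm)
      refine (infPts_map t G f _ x').trans ?_
      rw [hxx]
      refine ((congrArg (infPts t G j (U (k + 1))) (NatTrans.naturality_apply C.f.hom _ x)).trans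
        (infPts_map t G j _ _)).symm
    obtain ⟨y, hy⟩ := h₁' R' a B m (tr (m + 2) z) (by
      apply infPts_injective t G f
      rw [hdA _ z _ (htr _ z), hz, map_zero, map_zero])
    obtain ⟨y', hy'⟩ := himg (m + 1) (infPts t G f (U (m + 1)) y) (rP_infPts t G f _ y)
    refine ⟨y', hinc (m + 2) ?_⟩
    rw [← hdA _ y' y hy'.symm, hy, htr]

end Groth.Agent.BigSiteLib
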