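import Groth.Agent.BigSiteLib.GmAcyclic
import Groth.Prelude.Def_CGrpSh

/-!
Points of a commutative group scheme on iterated base changes.
-/

set_option autoImplicit false
set_option linter.style.haveILetI false
set_option backward.isDefEq.respectTransparency false
set_option backward.defeqAttrib.useBackward true
universe u

noncomputable section

namespace Groth.Agent.BigSiteLib

open CategoryTheory Limits Opposite AlgebraicGeometry MonObj MonoidalCategory CartesianMonoidalCategory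

variable {S T V : Scheme.{u}} (t : T ⟶ S) (G : Over S) [GrpObj G] [IsCommMonObj G]

/-- Points over schemes over `T`. -/
abbrev Pts (Y : Over T) : Type u := Additive ((Over.map t).obj Y ⟶ G)

/-- The morphism of a point. -/
abbrev pl {Y : Over T} (x : Pts t G Y) : Y.left ⟶ G.left := (Additive.toMul x).left

variable {t G}

omit [GrpObj G] [IsCommMonObj G] in
lemma pl_w {Y : Over T} (x : Pts t G Y) : pl t G x ≫ G.hom = Y.hom ≫ t := Over.w (Additive.toMul x)

omit [GrpObj G] [IsCommMonObj G] in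
lemma pts_ext {Y : Over T} {x y : Pts t G Y} (h : pl t G x = pl t G y) : x = y :=
  congrArg Additive.ofMul (Over.OverMorphism.ext (f := Additive.toMul x) (g := Additive.toMul y) h)

variable (t G)

/-- The point of a morphism. -/
def mkP {Y : Over T} (y : Y.left ⟶ G.left) (h : y ≫ G.hom = Y.hom ≫ t) : Pts t G Y :=
  Additive.ofMul (Over.homMk y h)

omit [GrpObj G] [IsCommMonObj G] in
lemma pl_mkP {Y : Over T} (y : Y.left ⟶ G.left) (h : y ≫ G.hom = Y.hom ≫ t) : pl t G (mkP t G y h) = y := rfl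

/-- Restriction of points. -/
def rP {Y Y' : Over T} (g : Y' ⟶ Y) : Pts t G Y →+ Pts t G Y' :=
  AddMonoidHom.mk' (fun x => Additive.ofMul ((Over.map t).map g ≫ Additive.toMul x))
    fun x y => congrArg Additive.ofMul (MonObj.comp_mul _ (Additive.toMul x) (Additive.toMul y))

lemma pl_rP {Y Y' : Over T} (g : Y' ⟶ Y) (x : Pts t G Y) : pl t G (rP t G g x) = g.left ≫ pl t G x := rfl

lemma rP_rP {Y Y' Y'' : Over T} (g : Y' ⟶ Y) (h : Y'' ⟶ Y') (x : Pts t G Y) :
    rP t G h (rP t G g x) = rP t G (h ≫ g) x := pts_ext (by simp [pl_rP])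

lemma rP_id {Y : Over T} (x : Pts t G Y) : rP t G (𝟙 Y) x = x := pts_ext (by simp [pl_rP])

lemma pl_zero (Y : Over T) : pl t G (0 : Pts t G Y) = Y.hom ≫ t ≫ (η[G]).left := by
  change (toUnit ((Over.map t).obj Y) ≫ η[G]).left = _
  rw [Over.comp_left, ← Category.assoc]
  congr 1

variable (p : V ⟶ T)

/-- The leading term of the differential on points. -/
abbrev stepP (n : ℕ) (Y : Over T) :
    Pts t G (pbn p n ((pbF p).obj Y)) →+ Pts t G (pbn p (n + 1) ((pbF p).obj Y)) :=
  rP t G (pbnMap p n ((pbF p).map (kap p Y)))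

/-- The differential on points. -/
def dPt : (n : ℕ) → (Y : Over T) → (Pts t G (pbn p n Y) →+ Pts t G (pbn p (n + 1) Y))
  | 0, Y => rP t G (kap p Y)
  | n + 1, Y => stepP t G p n Y - dPt n ((pbF p).obj Y)

lemma dPt_natural : ∀ (n : ℕ) {Y Y' : Over T} (g : Y' ⟶ Y) (z : Pts t G (pbn p n Y)),
    rP t G (pbnMap p (n + 1) g) (dPt t G p n Y z) = dPt t G p n Y' (rP t G (pbnMap p n g) z)
  | 0, Y, Y', g, z => by
    change rP t G ((pbF p).map g) (rP t G (kap p Y) z) = rP t G (kap p Y') (rP t G g z)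
    rw [rP_rP, rP_rP, kap_natural]
  | n + 1, Y, Y', g, z => by
    let w : Pts t G (pbn p n ((pbF p).obj Y)) := z
    change rP t G (pbnMap p (n + 1) ((pbF p).map g))
        (stepP t G p n Y w - dPt t G p n ((pbF p).obj Y) w) =
      stepP t G p n Y' (rP t G (pbnMap p n ((pbF p).map g)) w) -
        dPt t G p n ((pbF p).obj Y') (rP t G (pbnMap p n ((pbF p).map g)) w)
    rw [map_sub, ← dPt_natural n ((pbF p).map g)]
    refine congrArg (· - _) ((rP_rP t G _ _ w).trans (Eq.trans ?_ (rP_rP t G _ _ w).symm))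
    exact congrArg (fun m => rP t G m w) (pbnMap_kap p n g)

lemma dPt_dPt : ∀ (n : ℕ) (Y : Over T) (x : Pts t G (pbn p n Y)),
    dPt t G p (n + 1) Y (dPt t G p n Y x) = 0
  | 0, Y, x => by
    let w : Pts t G Y := x
    change stepP t G p 0 Y (rP t G (kap p Y) w) -
      (rP t G (kap p ((pbF p).obj Y)) : Pts t G (pbn p 0 ((pbF p).obj Y)) →+ Pts t G (pbn p 1 ((pbF p).obj Y))) (rP t G (kap p Y) w) = 0
    refine sub_eq_zero.mpr ?_
    refine (rP_rP t G _ _ w).trans (Eq.trans ?_ (rP_rP t G _ _ w).symm)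
    exact congrArg (fun m => rP t G m w) (kap_natural p (kap p Y))
  | n + 1, Y, x => by
    let z : Pts t G (pbn p n ((pbF p).obj Y)) := x
    let Sm : Pts t G (pbn p n ((pbF p).obj Y)) →+ Pts t G (pbn p (n + 1) ((pbF p).obj Y)) :=
      stepP t G p n Y
    let S₁ : Pts t G (pbn p (n + 1) ((pbF p).obj Y)) →+ Pts t G (pbn p (n + 2) ((pbF p).obj Y)) :=
      stepP t G p (n + 1) Y
    have h1 : dPt t G p (n + 1) ((pbF p).obj Y) (dPt t G p n ((pbF p).obj Y) z) = 0 := dPt_dPt n ((pbF p).obj Y) z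
    have h2 : dPt t G p (n + 1) ((pbF p).obj Y) (Sm z) = S₁ (Sm z) - S₁ (dPt t G p n ((pbF p).obj Y) z) := by
      let S' : Pts t G (pbn p n ((pbF p).obj ((pbF p).obj Y))) →+
          Pts t G (pbn p (n + 1) ((pbF p).obj ((pbF p).obj Y))) :=
        stepP t G p n ((pbF p).obj Y)
      change S' (Sm z) - dPt t G p n ((pbF p).obj ((pbF p).obj Y)) (Sm z) = S₁ (Sm z) - S₁ (dPt t G p n ((pbF p).obj Y) z)
      refine congrArg₂ (· - ·) ?_ (dPt_natural t G p n ((pbF p).map (kap p Y)) z).symm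
      refine (rP_rP t G _ _ z).trans (Eq.trans ?_ (rP_rP t G _ _ z).symm)
      exact congrArg (fun m => rP t G m z) (pbnMap_kap p n (kap p Y)).symm
    change S₁ (Sm z - dPt t G p n ((pbF p).obj Y) z) -
      dPt t G p (n + 1) ((pbF p).obj Y) (Sm z - dPt t G p n ((pbF p).obj Y) z) = 0
    rw [map_sub, map_sub, h1, h2, sub_zero, sub_self]

variable {p} in
/-- Over an object with a point in the cover cocycles are coboundaries. -/
lemma exists_pts_bd_of_point {Y : Over T} (l : Y.left ⟶ V) (hl : l ≫ p = Y.hom) (n : ℕ)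
    (c : Pts t G (pbn p (n + 1) Y)) (hc : dPt t G p (n + 1) Y c = 0) : ∃ x, dPt t G p n Y x = c := by
  let z : Pts t G (pbn p n ((pbF p).obj Y)) := c
  let gr : Y ⟶ (pbF p).obj Y := graph l hl
  refine ⟨rP t G (pbnMap p n gr) z, ?_⟩
  have h1 : stepP t G p n Y z = dPt t G p n ((pbF p).obj Y) z := sub_eq_zero.mp hc
  rw [← dPt_natural, ← h1]
  refine (rP_rP t G _ _ z).trans ?_
  have e : pbnMap p (n + 1) gr ≫ pbnMap p n ((pbF p).map (kap p Y)) = 𝟙 _ := by
    refine (pbnMap_comp p n ((pbF p).map (kap p Y)) ((pbF p).map gr)).symm.trans ?_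
    rw [← (pbF p).map_comp, show gr ≫ kap p Y = 𝟙 Y from Over.OverMorphism.ext (pullback.lift_fst _ _ _),
      CategoryTheory.Functor.map_id, pbnMap_id]
    rfl
  rw [e]
  exact rP_id t G _

section Bridge

/-- Sections of iterates as points. -/
def tP : (n : ℕ) → (Y : Over T) →
    ((it p n (resPsh t (CGrpSh.pts Scheme.fppfPrecoverage G))).obj (op Y) ≃+ Pts t G (pbn p n Y))
  | 0, Y => CGrpSh.sectEquiv Scheme.fppfPrecoverage G ((Over.map t).obj Y)
  | n + 1, Y => tP n ((pbF p).obj Y)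

lemma tP_map : ∀ (n : ℕ) {Y Y' : Over T} (g : Y' ⟶ Y)
    (x : (it p n (resPsh t (CGrpSh.pts Scheme.fppfPrecoverage G))).obj (op Y)),
    tP t G p n Y' ((it p n (resPsh t (CGrpSh.pts Scheme.fppfPrecoverage G))).map g.op x) =
      rP t G (pbnMap p n g) (tP t G p n Y x)
  | 0, _, _, _, _ => rfl
  | n + 1, _, _, g, x => tP_map n ((pbF p).map g) x

lemma tP_dd : ∀ (n : ℕ) (Y : Over T) (x : (it p n (resPsh t (CGrpSh.pts Scheme.fppfPrecoverage G))).obj (op Y)),
    tP t G p (n + 1) Y ((dd p n (resPsh t (CGrpSh.pts Scheme.fppfPrecoverage G))).app (op Y) x) =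
      dPt t G p n Y (tP t G p n Y x)
  | 0, Y, x => by
    let P := resPsh t (CGrpSh.pts Scheme.fppfPrecoverage G)
    change tP t G p 0 ((pbF p).obj Y) ((etaP p P).app (op Y) x) = _
    rw [show (etaP p P).app (op Y) x = _ from unit_app_apply Y x]
    exact tP_map t G p 0 (kap p Y) x
  | n + 1, Y, x => by
    let P := resPsh t (CGrpSh.pts Scheme.fppfPrecoverage G)
    let X := it p n P
    let z : X.obj (op ((pbF p).obj Y)) := x
    let a : ((Cp p).obj ((Cp p).obj X)).obj (op Y) := X.map ((pbF p).map (kap p Y)).op z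
    let b : ((Cp p).obj ((Cp p).obj X)).obj (op Y) := (dd p n P).app (op ((pbF p).obj Y)) z
    have h : (dd p (n + 1) P).app (op Y) x = a - b := by
      let e : ((Cp p).obj ((Cp p).obj X)).obj (op Y) := (etaP p ((Cp p).obj X)).app (op Y) z
      have he : e = a := unit_app_apply (P := (Cp p).obj X) Y z
      change e - b = a - b
      rw [he]
    rw [h, map_sub]
    let w : Pts t G (pbn p n ((pbF p).obj Y)) := tP t G p n ((pbF p).obj Y) z
    change tP t G p (n + 2) Y a - tP t G p (n + 2) Y b = stepP t G p n Y w - dPt t G p n ((pbF p).obj Y) w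
    refine congrArg₂ (· - ·) ?_ (tP_dd n ((pbF p).obj Y) z)
    exact tP_map t G p n ((pbF p).map (kap p Y)) z

end Bridge

section Change

variable {W : Scheme.{u}} (v : W ⟶ T)

/-- Points along a change of the base. -/
def mov (Z : Over W) : Pts (v ≫ t) G Z →+ Pts t G ((Over.map v).obj Z) :=
  AddMonoidHom.mk' (fun x => Additive.ofMul
    ((Over.homMk (𝟙 Z.left) (by
      change 𝟙 _ ≫ Z.hom ≫ v ≫ t = (Z.hom ≫ v) ≫ t
      rw [Category.id_comp, Category.assoc]) : (Over.map t).obj ((Over.map v).obj Z) ⟶ (Over.map (v ≫ t)).obj Z) ≫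
      Additive.toMul x))
    fun x y => congrArg Additive.ofMul (MonObj.comp_mul _ (Additive.toMul x) (Additive.toMul y))

lemma pl_mov (Z : Over W) (x : Pts (v ≫ t) G Z) : pl t G (mov t G v Z x) = pl (v ≫ t) G x :=
  Category.id_comp _

lemma mov_bijective (Z : Over W) : Function.Bijective (mov t G v Z) :=
  ⟨fun x y h => pts_ext (by rw [← pl_mov t G v Z x, ← pl_mov t G v Z y, h]), fun y =>
    ⟨mkP (v ≫ t) G (pl t G y) ((pl_w y).trans (Category.assoc _ _ _)), pts_ext (pl_mov t G v Z _)⟩⟩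

lemma mov_rP {Z Z' : Over W} (g : Z' ⟶ Z) (x : Pts (v ≫ t) G Z) :
    rP t G ((Over.map v).map g) (mov t G v Z x) = mov t G v Z' (rP (v ≫ t) G g x) :=
  pts_ext (by rw [pl_rP, pl_mov, pl_mov, pl_rP]; rfl)

/-- Transport of points. -/
def thP (n : ℕ) (Y : Over W) : Pts (v ≫ t) G (pbn (pb' p v) n Y) →+ Pts t G (pbn p n ((Over.map v).obj Y)) :=
  (rP t G (eps' p v n Y)).comp (mov t G v _)

lemma thP_bijective (n : ℕ) (Y : Over W) : Function.Bijective (thP t G p v n Y) := by
  have h : Function.Bijective (rP t G (eps' p v n Y)) :=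
    Function.bijective_iff_has_inverse.mpr ⟨rP t G (inv (eps' p v n Y)),
      fun x => (rP_rP t G (eps' p v n Y) (inv (eps' p v n Y)) x).trans (by rw [IsIso.inv_hom_id]; exact rP_id t G x),
      fun x => (rP_rP t G (inv (eps' p v n Y)) (eps' p v n Y) x).trans (by rw [IsIso.hom_inv_id]; exact rP_id t G x)⟩
  exact h.comp (mov_bijective t G v _)

lemma thP_map (n : ℕ) {Y Y' : Over W} (g : Y' ⟶ Y) (x : Pts (v ≫ t) G (pbn (pb' p v) n Y)) :
    rP t G (pbnMap p n ((Over.map v).map g)) (thP t G p v n Y x) =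
      thP t G p v n Y' (rP (v ≫ t) G (pbnMap (pb' p v) n g) x) := by
  change rP t G _ (rP t G _ (mov t G v _ x)) = rP t G _ (mov t G v _ _)
  rw [← mov_rP, rP_rP, rP_rP, eps'_natural]

lemma thP_succ (n : ℕ) (Y : Over W) (x : Pts (v ≫ t) G (pbn (pb' p v) n ((pbF (pb' p v)).obj Y))) :
    thP t G p v (n + 1) Y x = rP t G (pbnMap p n (sigma p v Y)) (thP t G p v n ((pbF (pb' p v)).obj Y) x) :=
  (rP_rP t G (eps' p v n ((pbF (pb' p v)).obj Y)) (pbnMap p n (sigma p v Y)) (mov t G v _ x)).symm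

lemma thP_dPt : ∀ (n : ℕ) (Y : Over W) (x : Pts (v ≫ t) G (pbn (pb' p v) n Y)),
    thP t G p v (n + 1) Y (dPt (v ≫ t) G (pb' p v) n Y x) = dPt t G p n ((Over.map v).obj Y) (thP t G p v n Y x)
  | 0, Y, x => by
    refine (thP_succ t G p v 0 Y _).trans ?_
    refine pts_ext ?_
    change (sigma p v Y).left ≫ 𝟙 _ ≫ pl t G (mov t G v _ (rP (v ≫ t) G (kap (pb' p v) Y) x)) =
      (kap p ((Over.map v).obj Y)).left ≫ 𝟙 _ ≫ pl t G (mov t G v _ x)
    rw [pl_mov, pl_mov, pl_rP, Category.id_comp, Category.id_comp]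
    have := congrArg Over.Hom.left (sigma_kap p v Y)
    rw [Over.comp_left] at this
    exact (Category.assoc _ _ _).symm.trans (congrArg (· ≫ pl (v ≫ t) G x) this)
  | n + 1, Y, x => by
    let z : Pts (v ≫ t) G (pbn (pb' p v) n ((pbF (pb' p v)).obj Y)) := x
    let q : Pts (v ≫ t) G (pbn (pb' p v) (n + 1) ((pbF (pb' p v)).obj Y)) :=
      stepP (v ≫ t) G (pb' p v) n Y z
    let q' : Pts t G (pbn p (n + 1) ((pbF p).obj ((Over.map v).obj Y))) :=
      stepP t G p n ((Over.map v).obj Y) (thP t G p v (n + 1) Y z)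
    refine (thP_succ t G p v (n + 1) Y _).trans ?_
    change rP t G (pbnMap p (n + 1) (sigma p v Y)) (thP t G p v (n + 1) ((pbF (pb' p v)).obj Y)
      (q - dPt (v ≫ t) G (pb' p v) n ((pbF (pb' p v)).obj Y) z)) =
      q' - dPt t G p n ((pbF p).obj ((Over.map v).obj Y)) (thP t G p v (n + 1) Y z)
    rw [map_sub, map_sub, thP_dPt n, dPt_natural, thP_succ t G p v n Y z]
    refine congrArg (· - _) ?_
    change rP t G _ (thP t G p v (n + 1) _ (rP (v ≫ t) G _ z)) = rP t G _ _
    rw [thP_succ]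
    refine (congrArg (fun q => rP t G _ (rP t G _ q))
      (thP_map t G p v n ((pbF (pb' p v)).map (kap (pb' p v) Y)) z).symm).trans ?_
    refine (congrArg (rP t G _) (rP_rP t G _ _ _)).trans ?_
    let w : Pts t G (pbn p n ((Over.map v).obj ((pbF (pb' p v)).obj Y))) := thP t G p v n ((pbF (pb' p v)).obj Y) z
    change rP t G (pbnMap p n ((pbF p).map (sigma p v Y))) (rP t G (pbnMap p n (sigma p v ((pbF (pb' p v)).obj Y)) ≫
        pbnMap p n ((Over.map v).map ((pbF (pb' p v)).map (kap (pb' p v) Y)))) w) =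
      rP t G (pbnMap p n ((pbF p).map (kap p ((Over.map v).obj Y)))) (thP t G p v (n + 1) Y z)
    rw [thP_succ]
    refine (rP_rP t G _ _ w).trans (Eq.trans ?_ (rP_rP t G _ _ w).symm)
    refine congrArg (fun m => rP t G m w) ?_
    rw [← pbnMap_comp, ← pbnMap_comp, ← pbnMap_comp]
    refine congrArg (pbnMap p n) ?_
    rw [← sigma_kap p v Y, (pbF p).map_comp, Category.assoc, sigma_natural]

end Change

end Groth.Agent.BigSiteLib
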