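import Groth.Agent.BigSiteLib.SmChart

/-!
Restriction of scalars of affine schemes along iterated finite flat base changes.
-/

set_option autoImplicit false
set_option linter.style.haveILetI false
set_option backward.isDefEq.respectTransparency false
set_option backward.defeqAttrib.useBackward true
universe u

noncomputable section

namespace Groth.Agent.BigSiteLib

open CategoryTheory Limits Opposite AlgebraicGeometry MvPolynomial

section Glue

variable {ι : Type u} {U : ι → Scheme.{u}} {Z X : Scheme.{u}} (f : ∀ i, U i ⟶ X) [∀ i, IsOpenImmersion (f i)]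

/-- Maps to a disjoint union of opens are determined by the components. -/
lemma glue_ext (a b : Z ⟶ ∐ U) (h : a ≫ Sigma.desc f = b ≫ Sigma.desc f)
    (hc : ∀ z, ∃ i, a z ∈ Set.range (Sigma.ι U i) ∧ b z ∈ Set.range (Sigma.ι U i)) : a = b := by
  refine Scheme.hom_ext_of_forall a b fun z => ?_
  obtain ⟨i, hai, hbi⟩ := hc z
  let W : Z.Opens := a ⁻¹ᵁ (Sigma.ι U i).opensRange ⊓ b ⁻¹ᵁ (Sigma.ι U i).opensRange
  have hW : ∀ c : Z ⟶ ∐ U, W ≤ c ⁻¹ᵁ (Sigma.ι U i).opensRange → Set.range (W.ι ≫ c) ⊆ Set.range (Sigma.ι U i) := by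
    rintro c hc _ ⟨w, rfl⟩
    exact hc w.2
  let la := IsOpenImmersion.lift (Sigma.ι U i) (W.ι ≫ a) (hW a inf_le_left)
  let lb := IsOpenImmersion.lift (Sigma.ι U i) (W.ι ≫ b) (hW b inf_le_right)
  have ea : la ≫ Sigma.ι U i = W.ι ≫ a := IsOpenImmersion.lift_fac _ _ _
  have eb : lb ≫ Sigma.ι U i = W.ι ≫ b := IsOpenImmersion.lift_fac _ _ _
  refine ⟨W, ⟨hai, hbi⟩, ?_⟩
  rw [← ea, ← eb]
  refine congrArg (· ≫ Sigma.ι U i) ((cancel_mono (f i)).mp ?_)
  rw [← Sigma.ι_desc f i, ← Category.assoc, ea, ← Category.assoc, eb, Category.assoc, Category.assoc, h]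

/-- A map landing piecewise in opens lifts to their disjoint union. -/
lemma exists_glue (x : Z ⟶ X) (W : ι → Z.Opens) (hcov : ∀ z, ∃ i, z ∈ W i)
    (hdisj : ∀ i j z, z ∈ W i → z ∈ W j → i = j) (hW : ∀ i, ∀ z ∈ W i, x z ∈ Set.range (f i)) :
    ∃ y : Z ⟶ ∐ U, y ≫ Sigma.desc f = x ∧ ∀ i, ∀ z ∈ W i, y z ∈ Set.range (Sigma.ι U i) := by
  let 𝒰 : Z.OpenCover := Z.openCoverOfIsOpenCover W
    (TopologicalSpace.IsOpenCover.mk (eq_top_iff.mpr fun z _ => TopologicalSpace.Opens.mem_iSup.mpr (hcov z)))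
  have hr : ∀ i, Set.range ((W i).ι ≫ x) ⊆ Set.range (f i) := by
    rintro i _ ⟨w, rfl⟩
    exact hW i _ w.2
  let l : ∀ i, (W i).toScheme ⟶ U i := fun i => IsOpenImmersion.lift (f i) ((W i).ι ≫ x) (hr i)
  have hl : ∀ i, l i ≫ f i = (W i).ι ≫ x := fun i => IsOpenImmersion.lift_fac _ _ _
  let q : ∀ i, (W i).toScheme ⟶ ∐ U := fun i => l i ≫ Sigma.ι U i
  have hq : ∀ i j, pullback.fst (W i).ι (W j).ι ≫ q i = pullback.snd (W i).ι (W j).ι ≫ q j := by
    intro i j
    by_cases e : i = j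
    · subst e
      refine congrArg (· ≫ q i) ((cancel_mono (W i).ι).mp ?_)
      exact pullback.condition
    · haveI : IsEmpty (pullback (W i).ι (W j).ι : Scheme.{u}) := ⟨fun w => e (hdisj i j
        ((W i).ι (pullback.fst (W i).ι (W j).ι w)) (pullback.fst (W i).ι (W j).ι w).2
        (by rw [← Scheme.Hom.comp_apply, pullback.condition, Scheme.Hom.comp_apply]
            exact (pullback.snd (W i).ι (W j).ι w).2))⟩
      exact isInitialOfIsEmpty.hom_ext _ _
  refine ⟨𝒰.glueMorphisms q hq, Scheme.Cover.hom_ext 𝒰 _ _ fun i => ?_, fun i z hz => ?_⟩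
  · rw [← Category.assoc, Scheme.Cover.ι_glueMorphisms]
    change (l i ≫ Sigma.ι U i) ≫ Sigma.desc f = (W i).ι ≫ x
    rw [Category.assoc, Sigma.ι_desc, hl]
  · have e : (W i).ι ≫ 𝒰.glueMorphisms q hq = q i := Scheme.Cover.ι_glueMorphisms 𝒰 q hq i
    exact ⟨l i ⟨z, hz⟩, congr($e ⟨z, hz⟩).symm⟩

/-- Lifts to a disjoint union of opens extend along thickenings. -/
lemma exists_relift {Z₀ : Scheme.{u}} (g : Z₀ ⟶ Z) [IsClosedImmersion g] (hg : Function.Surjective g)
    (y₀ : Z₀ ⟶ ∐ U) (x : Z ⟶ X) (h : g ≫ x = y₀ ≫ Sigma.desc f) :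
    ∃ y, y ≫ Sigma.desc f = x ∧ g ≫ y = y₀ := by
  have hemb : Topology.IsEmbedding g := g.isClosedEmbedding.isEmbedding
  have hopen : IsOpenMap g :=
    (Topology.IsOpenEmbedding.mk hemb (by rw [hg.range_eq]; exact isOpen_univ)).isOpenMap
  let W : ι → Z.Opens := fun i =>
    ⟨g '' (y₀ ⁻¹' Set.range (Sigma.ι U i)), hopen _ ((Sigma.ι U i).opensRange.isOpen.preimage y₀.continuous)⟩
  have hone : ∀ (o : (∐ U : Scheme.{u})), ∃ i, o ∈ Set.range (Sigma.ι U i) := fun o => by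
    obtain ⟨i, a, ha⟩ := Scheme.Cover.exists_eq (sigmaOpenCover U) o
    exact ⟨i, a, ha⟩
  have hcov : ∀ z, ∃ i, z ∈ W i := fun z => by
    obtain ⟨z₀, rfl⟩ := hg z
    obtain ⟨i, hi⟩ := hone (y₀ z₀)
    exact ⟨i, z₀, hi, rfl⟩
  have hdisj : ∀ i j z, z ∈ W i → z ∈ W j → i = j := by
    rintro i j _ ⟨a, ⟨u, hu⟩, rfl⟩ ⟨b, ⟨v, hv⟩, hb⟩
    obtain rfl := hemb.injective hb
    by_contra hne
    exact ((disjoint_opensRange_sigmaι U i j hne).le_bot
      (show y₀ b ∈ (Sigma.ι U i).opensRange ⊓ (Sigma.ι U j).opensRange from ⟨⟨u, hu⟩, ⟨v, hv⟩⟩) : False)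
  obtain ⟨y, hy, hyW⟩ := exists_glue f x W hcov hdisj (by
    rintro i _ ⟨z₀, ⟨u, hu⟩, rfl⟩
    refine ⟨u, ?_⟩
    rw [← Scheme.Hom.comp_apply, h, Scheme.Hom.comp_apply, ← hu, ← Scheme.Hom.comp_apply, Sigma.ι_desc])
  refine ⟨y, hy, glue_ext f _ _ (by rw [Category.assoc, hy, h]) fun z₀ => ?_⟩
  obtain ⟨i, hi⟩ := hone (y₀ z₀)
  exact ⟨i, hyW i _ ⟨z₀, hi, rfl⟩, hi⟩

end Glue

variable {T V : Scheme.{u}} (p : V ⟶ T)

/-- The projection of an iterated base change. -/
def pbnPr : (n : ℕ) → (Y : Over T) → (pbn p n Y ⟶ Y)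
  | 0, Y => 𝟙 Y
  | n + 1, Y => pbnPr n ((pbF p).obj Y) ≫ kap p Y

lemma pbnPr_natural : ∀ (n : ℕ) {Y Y' : Over T} (g : Y' ⟶ Y), pbnMap p n g ≫ pbnPr p n Y = pbnPr p n Y' ≫ g
  | 0, _, _, _ => (Category.comp_id _).trans (Category.id_comp _).symm
  | n + 1, Y, Y', g => by
    change pbnMap p n ((pbF p).map g) ≫ pbnPr p n ((pbF p).obj Y) ≫ kap p Y =
      (pbnPr p n ((pbF p).obj Y') ≫ kap p Y') ≫ g
    rw [← Category.assoc, pbnPr_natural n, Category.assoc, kap_natural, Category.assoc]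

lemma kap_left (Y : Over T) : (kap p Y).left = pullback.fst Y.hom p :=
  rfl

lemma isPullback_pbnMap : ∀ (n : ℕ) {Y Y' : Over T} (g : Y' ⟶ Y),
    IsPullback (pbnMap p n g).left (pbnPr p n Y').left (pbnPr p n Y).left g.left
  | 0, _, _, g => IsPullback.id_vert g.left
  | n + 1, Y, Y', g => by
    refine (isPullback_pbnMap n ((pbF p).map g)).paste_vert ?_
    have e : ((pbF p).map g).left ≫ pullback.snd Y.hom p = pullback.snd Y'.hom p := pullback.lift_snd _ _ _
    have e' : ((pbF p).map g).left ≫ pullback.fst Y.hom p = pullback.fst Y'.hom p ≫ g.left := pullback.lift_fst _ _ _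
    change IsPullback ((pbF p).map g).left (pullback.fst Y'.hom p) (pullback.fst Y.hom p) g.left
    refine IsPullback.of_right ?_ e' (IsPullback.of_hasPullback Y.hom p).flip
    rw [e, Over.w]
    exact (IsPullback.of_hasPullback Y'.hom p).flip

lemma range_pbnMap (n : ℕ) {Y Y' : Over T} (g : Y' ⟶ Y) :
    Set.range (pbnMap p n g).left = (pbnPr p n Y).left ⁻¹' Set.range g.left := by
  have h := isPullback_pbnMap p n g
  rw [← h.isoPullback_hom_fst, Scheme.Hom.comp_base, TopCat.coe_comp, Set.range_comp,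
    Set.range_eq_univ.mpr h.isoPullback.hom.surjective, Set.image_univ, Scheme.Pullback.range_fst]

instance isFinite_pbnPr [IsFinite p] : ∀ (n : ℕ) (Y : Over T), IsFinite (pbnPr p n Y).left
  | 0, Y => inferInstanceAs (IsFinite (𝟙 Y.left))
  | n + 1, Y => by
    haveI := isFinite_pbnPr n ((pbF p).obj Y)
    haveI : IsFinite (kap p Y).left := by
      rw [kap_left]
      exact MorphismProperty.pullback_fst _ _ ‹_›
    exact inferInstanceAs (IsFinite ((pbnPr p n ((pbF p).obj Y)).left ≫ (kap p Y).left))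

variable [IsAffine T] [IsAffineHom p] {d : ℕ} (φ : Fin d → LinForm p) (b : Fin d → Γ(V, ⊤))
  (hb : letI := (p.appTop).hom.toAlgebra; ∀ x, ∑ i, p.appTop (φ i x) * b i = x)
  (Y₀ : Over T) [IsAffine Y₀.left]

include hb in
/-- The restriction of scalars of an affine scheme of finite presentation. -/
theorem exists_res {O S₀ : Scheme.{u}} [IsAffine O] [IsAffine S₀] (σ : O ⟶ S₀) [LocallyOfFinitePresentation σ]
    (t₀ : T ⟶ S₀) (n : ℕ) :
    ∃ (Q : Type u) (_ : CommRing Q) (_ : Algebra (Gam Y₀) Q), Algebra.FinitePresentation (Gam Y₀) Q ∧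
      ∃ yu : (pbn p n (algObj Y₀ Q)).left ⟶ O, yu ≫ σ = (pbn p n (algObj Y₀ Q)).hom ≫ t₀ ∧
        ∀ (B : Type u) [CommRing B] [Algebra (Gam Y₀) B] (y : (pbn p n (algObj Y₀ B)).left ⟶ O),
          y ≫ σ = (pbn p n (algObj Y₀ B)).hom ≫ t₀ →
          ∃! ψ : Q →ₐ[Gam Y₀] B, (pbnMap p n (algMap Y₀ ψ)).left ≫ yu = y := by
  letI := σ.appTop.hom.toAlgebra
  haveI : Algebra.FinitePresentation Γ(S₀, ⊤) Γ(O, ⊤) :=
    (HasRingHomProperty.iff_of_isAffine (P := @LocallyOfFinitePresentation) (f := σ)).mp inferInstance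
  obtain ⟨m, f, hf, s, hs⟩ := Algebra.FinitePresentation.out (R := Γ(S₀, ⊤)) (A := Γ(O, ⊤))
  let ρ : ∀ Z : Over T, Γ(S₀, ⊤) →+* Gam Z := fun Z => Z.hom.appTop.hom.comp t₀.appTop.hom
  let σI : Type u := ULift.{u} (Fin m) × Idx.{u} d n
  let J : Type u := σI ⊕ (↥s × Idx.{u} d n)
  let A : ∀ Y : Over T, (σI → Gam Y) → Fin m → Gam (pbn p n Y) := fun Y w j => dec p b n Y fun k => w (⟨j⟩, k)
  let rel : ∀ Y : Over T, IsAffine Y.left → (Y ⟶ Y₀) → (σI → Gam Y) → (J → Gam Y) := fun Y hY _ w =>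
    Sum.elim (fun jk => enc p φ n Y hY (A Y w jk.1.down) jk.2 - w jk)
      fun gk => enc p φ n Y hY (eval₂Hom (ρ (pbn p n Y)) (A Y w) gk.1.val) gk.2
  have hA : ∀ {Y Y' : Over T} (g : Y' ⟶ Y) (w : σI → Gam Y) (j : Fin m),
      rg (pbnMap p n g) (A Y w j) = A Y' (fun i => rg g (w i)) j := fun g w j => dec_natural p b n g _
  have hev : ∀ {Z Z' : Over T} (g : Z' ⟶ Z) (a : Fin m → Gam Z) (q : MvPolynomial (Fin m) Γ(S₀, ⊤)),
      rg g (eval₂Hom (ρ Z) a q) = eval₂Hom (ρ Z') (fun j => rg g (a j)) q := fun {Z Z'} g a q => by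
    induction q using MvPolynomial.induction_on with
    | C r =>
      simp only [eval₂Hom_C]
      exact rg_str g (t₀.appTop r)
    | add x y hx hy => simp only [map_add, hx, hy]
    | mul_X x i hx => simp only [map_mul, hx, eval₂Hom_X']
  have hnat : ∀ (Y Y' : Over T) (hY : IsAffine Y.left) (hY' : IsAffine Y'.left) (a : Y ⟶ Y₀) (g : Y' ⟶ Y)
      (w : σI → Gam Y) (j : J), rg g (rel Y hY a w j) = rel Y' hY' (g ≫ a) (fun i => rg g (w i)) j := by
    intro Y Y' hY hY' a g w j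
    rcases j with jk | gk
    · change rg g (enc p φ n Y hY _ jk.2 - _) = _
      rw [map_sub, enc_natural p φ n hY hY' g, hA]
      rfl
    · change rg g (enc p φ n Y hY _ gk.2) = _
      rw [enc_natural p φ n hY hY' g, hev]
      simp only [hA]
      rfl
  have hsol : ∀ (Y : Over T) (hY : IsAffine Y.left) (a : Y ⟶ Y₀) (w : σI → Gam Y), rel Y hY a w = 0 →
      ∃ y : (pbn p n Y).left ⟶ O, y ≫ σ = (pbn p n Y).hom ≫ t₀ ∧ ∀ j, y.appTop (f (X j)) = A Y w j := by
    intro Y hY a w hw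
    let e := eval₂Hom (ρ (pbn p n Y)) (A Y w)
    have hker : RingHom.ker f.toRingHom ≤ RingHom.ker e := by
      rw [← hs, Ideal.span_le]
      intro g hg
      change e g = 0
      rw [← dec_enc p φ b hb n Y hY (e g),
        show enc p φ n Y hY (e g) = 0 from funext fun k => congrFun hw (Sum.inr (⟨g, hg⟩, k)),
        ← map_zero (enc p φ n Y hY), dec_enc p φ b hb]
    let χ : Γ(O, ⊤) →+* Gam (pbn p n Y) := RingHom.liftOfSurjective f.toRingHom hf ⟨e, hker⟩
    have hχ : ∀ q, χ (f q) = e q := RingHom.liftOfSurjective_comp_apply f.toRingHom hf ⟨e, hker⟩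
    obtain ⟨y, hy, hya⟩ := exists_mor σ ((pbn p n Y).hom ≫ t₀) χ fun r => by
      rw [show σ.appTop r = f (C r) from (f.commutes r).symm, hχ, eval₂Hom_C, appTop_comp_apply]
      rfl
    exact ⟨y, hy, fun j => by rw [hya, hχ, eval₂Hom_X']⟩
  let co : ∀ (Y : Over T), IsAffine Y.left → ((pbn p n Y).left ⟶ O) → σI → Gam Y := fun Y hY y jk =>
    enc p φ n Y hY (y.appTop (f (X jk.1.down))) jk.2
  have hco : ∀ (Y : Over T) (hY : IsAffine Y.left) (a : Y ⟶ Y₀) (y : (pbn p n Y).left ⟶ O),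
      y ≫ σ = (pbn p n Y).hom ≫ t₀ → rel Y hY a (co Y hY y) = 0 := by
    intro Y hY a y hy
    have hAy : ∀ j, A Y (co Y hY y) j = y.appTop (f (X j)) := fun j =>
      dec_enc p φ b hb n Y hY (y.appTop (f (X j)))
    funext j
    rcases j with jk | gk
    · change enc p φ n Y hY (A Y (co Y hY y) jk.1.down) jk.2 - _ = 0
      rw [hAy]
      exact sub_self _
    · change enc p φ n Y hY (eval₂Hom (ρ (pbn p n Y)) (A Y (co Y hY y)) gk.1.val) gk.2 = 0
      have e : eval₂Hom (ρ (pbn p n Y)) (A Y (co Y hY y)) = y.appTop.hom.comp f.toRingHom :=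
        MvPolynomial.ringHom_ext (fun r => by
          rw [eval₂Hom_C]
          change (pbn p n Y).hom.appTop (t₀.appTop r) = y.appTop (f (C r))
          rw [← appTop_comp_apply, ← hy, appTop_comp_apply]
          exact congrArg y.appTop (f.commutes r).symm)
          fun j => by rw [eval₂Hom_X', hAy]; rfl
      have h0 : f gk.1.val = 0 := by
        have : gk.1.val ∈ RingHom.ker f.toRingHom := by rw [← hs]; exact Ideal.subset_span gk.1.2
        exact this
      rw [e, RingHom.comp_apply, show f.toRingHom gk.1.val = 0 from h0, map_zero, map_zero]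
      rfl
  let Q := LocusRing Y₀ rel
  refine ⟨Q, inferInstance, inferInstance,
    Algebra.FinitePresentation.quotient (Submodule.fg_span (Set.finite_range _)), ?_⟩
  obtain ⟨yu, hyu, hyuA⟩ := hsol _ inferInstance (algStr Y₀ Q) (fun i => (pig Y₀ Q).symm (Ideal.Quotient.mk _ (X i)))
    (rel_eq_zero_of_algHom Y₀ rel hnat (AlgHom.id (Gam Y₀) Q))
  refine ⟨yu, hyu, fun B _ _ y hy => ?_⟩
  have key : ∀ (ψ : Q →ₐ[Gam Y₀] B), (pbnMap p n (algMap Y₀ ψ)).left ≫ yu = y ↔
      ∀ i, ψ (Ideal.Quotient.mk _ (X i)) = pig Y₀ B (co _ inferInstance y i) := by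
    intro ψ
    let w : σI → Gam (algObj Y₀ B) := fun i => (pig Y₀ B).symm (ψ (Ideal.Quotient.mk _ (X i)))
    have hw := rel_eq_zero_of_algHom Y₀ rel hnat ψ
    have hyA : ∀ j, ((pbnMap p n (algMap Y₀ ψ)).left ≫ yu).appTop (f (X j)) = A (algObj Y₀ B) w j := fun j => by
      rw [appTop_comp_apply, hyuA]
      refine (hA (algMap Y₀ ψ) (fun i => (pig Y₀ Q).symm (Ideal.Quotient.mk _ (X i))) j).trans ?_
      exact congrArg (fun q => A (algObj Y₀ B) q j) (funext fun i => pig_symm_natural Y₀ ψ (Ideal.Quotient.mk _ (X i)))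
    constructor
    · rintro rfl i
      have := sub_eq_zero.mp (congrFun hw (Sum.inl i))
      rw [show co _ inferInstance ((pbnMap p n (algMap Y₀ ψ)).left ≫ yu) i =
        enc p φ n _ inferInstance (A (algObj Y₀ B) w i.1.down) i.2 from by simp only [co, hyA], this,
        RingEquiv.apply_symm_apply]
    · intro h
      refine ext_of_isAffine (CommRingCat.hom_ext ?_)
      rw [← RingHom.cancel_right hf (g₁ := ((pbnMap p n (algMap Y₀ ψ)).left ≫ yu).appTop.hom) (g₂ := y.appTop.hom)]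
      refine MvPolynomial.ringHom_ext (fun r => ?_) fun j => ?_
      · change ((pbnMap p n (algMap Y₀ ψ)).left ≫ yu).appTop (f (C r)) = y.appTop (f (C r))
        rw [show f (C r) = σ.appTop r from f.commutes r, ← appTop_comp_apply, ← appTop_comp_apply,
          Category.assoc, hyu, hy]
        exact congr(Scheme.Hom.appTop $((Category.assoc _ _ _).symm.trans
          (congrArg (· ≫ t₀) (Over.w (pbnMap p n (algMap Y₀ ψ))))) r)
      · change ((pbnMap p n (algMap Y₀ ψ)).left ≫ yu).appTop (f (X j)) = y.appTop (f (X j))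
        rw [hyA]
        change dec p b n _ (fun k => w (⟨j⟩, k)) = _
        simp only [w, h, RingEquiv.symm_apply_apply]
        exact dec_enc p φ b hb n (algObj Y₀ B) inferInstance (y.appTop (f (X j)))
  obtain ⟨ψ, hψ⟩ := exists_algHom Y₀ rel hnat (co _ inferInstance y) (hco _ inferInstance (algStr Y₀ B) y hy)
  refine ⟨ψ, (key ψ).mpr hψ, fun ψ' hψ' => Ideal.Quotient.algHom_ext _ (MvPolynomial.algHom_ext fun i => ?_)⟩
  exact ((key ψ').mp hψ' i).trans (hψ i).symm

include hb in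
/-- Closed conditions on an iterated base change restrict to closed conditions. -/
theorem exists_cut {Q : Type u} [CommRing Q] [Algebra (Gam Y₀) Q] (n : ℕ) {E : Scheme.{u}}
    (e : E ⟶ (pbn p n (algObj Y₀ Q)).left) [IsClosedImmersion e] [LocallyOfFinitePresentation e] :
    ∃ J : Ideal Q, J.FG ∧ ∀ (B : Type u) [CommRing B] [Algebra (Gam Y₀) B] (ψ : Q →ₐ[Gam Y₀] B),
      (∃ h, h ≫ e = (pbnMap p n (algMap Y₀ ψ)).left) ↔ J ≤ RingHom.ker ψ.toRingHom := by
  obtain ⟨hE, hsur⟩ := IsClosedImmersion.isAffine_surjective_of_isAffine e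
  haveI := hE
  let P := pbn p n (algObj Y₀ Q)
  letI := e.appTop.hom.toAlgebra
  haveI : Algebra.FinitePresentation (Gam P) Γ(E, ⊤) :=
    (HasRingHomProperty.iff_of_isAffine (P := @LocallyOfFinitePresentation) (f := e)).mp inferInstance
  obtain ⟨s, hs⟩ := Algebra.FinitePresentation.ker_fG_of_surjective (Algebra.ofId (Gam P) Γ(E, ⊤)) hsur
  let z : ↥s × Idx.{u} d n → Q := fun gk => pig Y₀ Q (enc p φ n _ inferInstance gk.1.val gk.2)
  refine ⟨Ideal.span (Set.range z), Submodule.fg_span (Set.finite_range z), fun B _ _ ψ => ?_⟩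
  have hz : ∀ gk, ψ (z gk) =
      pig Y₀ B (enc p φ n (algObj Y₀ B) inferInstance (rg (pbnMap p n (algMap Y₀ ψ)) gk.1.val) gk.2) := fun gk => by
    rw [← enc_natural p φ n (Y := algObj Y₀ Q) inferInstance inferInstance (algMap Y₀ ψ), pig_natural]
  constructor
  · rintro ⟨h, hh⟩
    rw [Ideal.span_le]
    rintro _ ⟨gk, rfl⟩
    change ψ (z gk) = 0
    have h0 : e.appTop gk.1.val = 0 := by
      have : gk.1.val ∈ RingHom.ker (Algebra.ofId (Gam P) Γ(E, ⊤)).toRingHom := by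
        rw [← hs]; exact Ideal.subset_span gk.1.2
      exact this
    have h1 : rg (pbnMap p n (algMap Y₀ ψ)) gk.1.val = 0 := by
      change (pbnMap p n (algMap Y₀ ψ)).left.appTop gk.1.val = 0
      rw [← hh, appTop_comp_apply, h0, map_zero]
    rw [hz, h1, map_zero, Pi.zero_apply, map_zero]
  · intro hJ
    have hker : RingHom.ker e.appTop.hom ≤ RingHom.ker (rg (pbnMap p n (algMap Y₀ ψ))).hom := by
      rw [show RingHom.ker e.appTop.hom = Ideal.span (↑s) from hs.symm, Ideal.span_le]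
      intro g hg
      change rg (pbnMap p n (algMap Y₀ ψ)) g = 0
      rw [← dec_enc p φ b hb n (algObj Y₀ B) inferInstance (rg (pbnMap p n (algMap Y₀ ψ)) g),
        show enc p φ n (algObj Y₀ B) inferInstance (rg (pbnMap p n (algMap Y₀ ψ)) g) = 0 from funext fun k => by
          apply (pig Y₀ B).injective
          rw [← hz (⟨g, hg⟩, k), Pi.zero_apply, map_zero]
          exact hJ (Ideal.subset_span ⟨_, rfl⟩),
        ← map_zero (enc p φ n (algObj Y₀ B) inferInstance), dec_enc p φ b hb]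
    let χ := RingHom.liftOfSurjective e.appTop.hom hsur ⟨_, hker⟩
    obtain ⟨h, hh, -⟩ := exists_mor e (pbnMap p n (algMap Y₀ ψ)).left χ
      (RingHom.liftOfSurjective_comp_apply e.appTop.hom hsur ⟨_, hker⟩)
    exact ⟨h, hh⟩

end Groth.Agent.BigSiteLib
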