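import Groth.Agent.BigSiteLib.AcyclicDerived
import Groth.Agent.BigSiteLib.Shriek
import Groth.Agent.EtMV.AdjExt
import Groth.Agent.EtMV.Main
import Groth.Agent.GaExt.H1Ext
import Groth.Prelude.Def_HRes

/-!
Restriction of flat cohomology to a closed subscheme, for sheaves acyclic for the étale comparison.
-/

set_option autoImplicit false
set_option linter.style.haveILetI false
set_option backward.isDefEq.respectTransparency false
set_option backward.isDefEq.respectTransparency.types false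
set_option backward.defeqAttrib.useBackward true
set_option linter.auxLemma false
universe u

noncomputable section

namespace Groth.Agent.BigSiteLib

open CategoryTheory Limits Opposite Abelian AlgebraicGeometry

attribute [local instance 100000] EtCoh.H._proof_1 EtMV.hext
attribute [local instance 200000] EtMV.hextAb

section Transport

variable {S T : Scheme.{u}}

lemma locExact_of_iso {V : Scheme.{u}} {p : V ⟶ T} {P Q : Psh T} (e : P ≅ Q) (h : LocExact p Q) : LocExact p P := by
  intro n U c hc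
  let c' := (mapC p (itMap p n e.hom)).app (op U) c
  have hc' : (dstep p (dd p n Q)).app (op U) c' = 0 :=
    (dstep_apply e.hom n U c).trans ((congrArg _ hc).trans (map_zero _))
  obtain ⟨R, hR, hb⟩ := h n U c' hc'
  refine ⟨R, hR, fun U' g hg => ?_⟩
  obtain ⟨b, hb⟩ := hb g hg
  refine ⟨(itMap p n e.inv).app (op U') b, ?_⟩
  refine (dd_apply e.inv n U' b).trans ?_
  rw [hb]
  refine (ConcreteCategory.congr_hom ((mapC p (itMap p n e.inv)).naturality g.op) c').trans ?_
  refine congrArg (((Cp p).obj (it p n P)).map g.op) ?_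
  have e₃ : mapC p (itMap p n e.hom) ≫ mapC p (itMap p n e.inv) = 𝟙 _ := by
    rw [← Functor.map_comp, ← itMap_comp, e.hom_inv_id, itMap_id, CategoryTheory.Functor.map_id]
  exact ConcreteCategory.congr_hom (NatTrans.congr_app e₃ (op U)) c

/-- Restrictions of acyclic sheaves are acyclic. -/
theorem acyc_pullBig (j : T ⟶ S) {F : EtFppf.AbF S} (hF : Acyc F) :
    Acyc ((BigSite.pullBig Scheme.fppfPrecoverage j AddCommGrpCat.{u + 1}).obj F) := by
  intro T' t V p _ _ _ _
  exact locExact_of_iso ((sheafToPresheaf _ _).mapIso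
    (((Scheme.fppfPrecoverage.toGrothendieck).overMapPullbackComp AddCommGrpCat.{u + 1} t j).app F))
    (hF T' (t ≫ j) V p)

/-- Injective sheaves have surjective restrictions along monomorphisms. -/
theorem surjective_map_of_mono (I : EtFppf.AbF S) [Injective I] {X X' : Over S} (i : X' ⟶ X) [Mono i] :
    Function.Surjective (I.obj.map i.op) := by
  let Fr : Over S ⥤ (Over S)ᵒᵖ ⥤ AddCommGrpCat.{u + 1} :=
    uliftYoneda.{u + 1} ⋙ (Functor.whiskeringRight _ _ _).obj AddCommGrpCat.free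
  let e : ∀ Y : Over S, (Fr.obj Y ⟶ I.obj) ≃ I.obj.obj (op Y) := fun Y =>
    ((AddCommGrpCat.adj.whiskerRight (Over S)ᵒᵖ).homEquiv _ I.obj).trans uliftYonedaEquiv.{u + 1}
  have he : ∀ φ : Fr.obj X ⟶ I.obj, e X' (Fr.map i ≫ φ) = I.obj.map i.op (e X φ) := fun φ => by
    simp only [e, Equiv.trans_apply]
    erw [Adjunction.homEquiv_naturality_left]
    exact (uliftYonedaEquiv_naturality (X := op X) (Y := op X') _ i.op).symm
  haveI : Mono (Fr.map i) := by
    haveI : ∀ Z, Mono ((Fr.map i).app Z) := fun Z => by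
      rw [AddCommGrpCat.mono_iff_injective]
      let g : (uliftYoneda.{u + 1}.obj X').obj Z ⟶ (uliftYoneda.{u + 1}.obj X).obj Z :=
        (uliftYoneda.{u + 1}.map i).app Z
      have hg : Function.Injective g := fun a b h => by
        have h' : a.down ≫ i = b.down ≫ i := congrArg ULift.down h
        exact ULift.ext _ _ ((cancel_mono i).mp h')
      change Function.Injective (AddCommGrpCat.free.map g)
      by_cases hne : Nonempty ((uliftYoneda.{u + 1}.obj X').obj Z)
      · haveI : Mono g := (mono_iff_injective g).mpr hg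
        let r := Function.invFun (fun a => g a)
        have hr : g ≫ (TypeCat.ofHom r) = 𝟙 _ := by
          ext a
          exact Function.leftInverse_invFun hg a
        have h1 : AddCommGrpCat.free.map g ≫ AddCommGrpCat.free.map (TypeCat.ofHom r) = 𝟙 _ := by
          rw [← Functor.map_comp, hr, CategoryTheory.Functor.map_id]
        exact Function.LeftInverse.injective fun x => ConcreteCategory.congr_hom h1 x
      · haveI : IsEmpty ((uliftYoneda.{u + 1}.obj X').obj Z) := not_nonempty_iff.mp hne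
        haveI : Unique (FreeAbelianGroup ((uliftYoneda.{u + 1}.obj X').obj Z)) := inferInstance
        exact fun a b _ => Subsingleton.elim
          (α := FreeAbelianGroup ((uliftYoneda.{u + 1}.obj X').obj Z)) a b
    exact NatTrans.mono_of_mono_app _
  haveI : Injective I.obj := Injective.injective_of_adjoint
    (sheafificationAdjunction (QuotSh.J Scheme.fppfPrecoverage S) AddCommGrpCat.{u + 1}) I
  intro s
  refine ⟨e X (Injective.factorThru ((e X').symm s) (Fr.map i)), ?_⟩
  rw [← he, Injective.comp_factorThru, Equiv.apply_symm_apply]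

end Transport

variable {T T₀ : Scheme.{u}} (j : T₀ ⟶ T)

/-- The restriction to the subscheme, pushed back. -/
abbrev pp : EtFppf.AbF T ⥤ EtFppf.AbF T :=
  BigSite.pullBig Scheme.fppfPrecoverage j AddCommGrpCat.{u + 1} ⋙
    BigSite.pushBig Scheme.fppfPrecoverage j AddCommGrpCat.{u + 1}

/-- The restriction map of sheaves. -/
abbrev etaU (F : EtFppf.AbF T) : F ⟶ (pp j).obj F :=
  (BigSite.bigAdj Scheme.fppfPrecoverage j AddCommGrpCat.{u + 1}).unit.app F

lemma etaU_apply (F : EtFppf.AbF T) (U : Over T) (x : F.obj.obj (op U)) :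
    (etaU j F).hom.app (op U) x = F.obj.map ((Over.mapPullbackAdj j).counit.app U).op x := rfl

/-- The restriction map on the small étale site. -/
abbrev etaE (F : EtFppf.AbF T) : (EtFppf.aPush T).obj F ⟶ (EtFppf.aPush T).obj ((pp j).obj F) :=
  (EtFppf.aPush T).map (etaU j F)

/-- Sheaves on which restriction to the subscheme is surjective with acyclic kernel. -/
def RClass (F : EtFppf.AbF T) : Prop :=
  Acyc F ∧ Epi (etaE j F) ∧
    ∀ n : ℕ, Subsingleton (Ext ((EtMV.P T).obj (EtCoh.top T)) (kernel (etaE j F)) (n + 1))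

variable {j} [IsFinite j]

lemma shortExact_aPush {X : ShortComplex (EtFppf.AbF T)} (hX : X.ShortExact) [Injective X.X₂] (h : Acyc X.X₁) :
    (X.map (EtFppf.aPush T)).ShortExact ∧ ((X.map (pp j)).map (EtFppf.aPush T)).ShortExact := by
  haveI : (EtFppf.aPush T).IsRightAdjoint := (EtFppf.aAdj T).isRightAdjoint
  haveI : (BigSite.pushBig Scheme.fppfPrecoverage j AddCommGrpCat.{u + 1}).IsRightAdjoint :=
    (BigSite.bigAdj Scheme.fppfPrecoverage j AddCommGrpCat.{u + 1}).isRightAdjoint
  haveI := hX.mono_f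
  refine ⟨?_, ?_⟩
  · haveI : Epi ((EtFppf.aPush T).map X.g) := (aPush_step X hX inferInstance h).1
    exact ShortComplex.ShortExact.mk'
      (ShortComplex.exact_of_f_is_kernel _ (KernelFork.mapIsLimit _ hX.fIsKernel (EtFppf.aPush T)))
      (inferInstanceAs (Mono ((EtFppf.aPush T).map X.f))) ‹_›
  · let X' := X.map (BigSite.pullBig Scheme.fppfPrecoverage j AddCommGrpCat.{u + 1})
    have hX' : X'.ShortExact := hX.map_of_exact _
    haveI : Injective X'.X₂ := injective_pullBig Scheme.fppfPrecoverage j X.X₂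
    obtain ⟨h1, h2⟩ := acyc_step hX' (acyc_pullBig j h)
    haveI := h1
    have hs := isLocallySurjective_pushBig j ((toEt T₀).map X'.g)
    haveI : Sheaf.IsLocallySurjective ((toEt T).map
        ((BigSite.pushBig Scheme.fppfPrecoverage j AddCommGrpCat.{u + 1}).map X'.g)) := hs
    haveI : Epi ((toEt T).map ((BigSite.pushBig Scheme.fppfPrecoverage j AddCommGrpCat.{u + 1}).map X'.g)) :=
      inferInstance
    haveI : (BigSite.resEt Scheme.etalePrecoverage T).IsLeftAdjoint :=
      (BigSite.iEtAdj Scheme.etalePrecoverage T).isLeftAdjoint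
    haveI : Epi ((EtFppf.aPush T).map ((pp j).map X.g)) :=
      (BigSite.resEt Scheme.etalePrecoverage T).map_epi
        ((toEt T).map ((BigSite.pushBig Scheme.fppfPrecoverage j AddCommGrpCat.{u + 1}).map X'.g))
    have hk := KernelFork.mapIsLimit _ (hX'.fIsKernel)
      (BigSite.pushBig Scheme.fppfPrecoverage j AddCommGrpCat.{u + 1} ⋙ EtFppf.aPush T)
    haveI : (BigSite.pushBig Scheme.fppfPrecoverage j AddCommGrpCat.{u + 1} ⋙ EtFppf.aPush T).IsRightAdjoint :=
      inferInstance
    haveI := hX'.mono_f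
    exact ShortComplex.ShortExact.mk' (ShortComplex.exact_of_f_is_kernel _ hk)
      (inferInstanceAs (Mono ((BigSite.pushBig Scheme.fppfPrecoverage j AddCommGrpCat.{u + 1} ⋙
        EtFppf.aPush T).map X'.f))) ‹_›

/-- The sequence of kernels of the restriction maps. -/
def kSeq (X : ShortComplex (EtFppf.AbF T)) : ShortComplex (EtCoh.Ab T) :=
  ShortComplex.mk
    (kernel.map (etaE j X.X₁) (etaE j X.X₂) ((EtFppf.aPush T).map X.f) ((EtFppf.aPush T).map ((pp j).map X.f)) (by
      rw [← Functor.map_comp, ← Functor.map_comp]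
      exact congrArg _ ((BigSite.bigAdj Scheme.fppfPrecoverage j AddCommGrpCat.{u + 1}).unit.naturality X.f).symm))
    (kernel.map (etaE j X.X₂) (etaE j X.X₃) ((EtFppf.aPush T).map X.g) ((EtFppf.aPush T).map ((pp j).map X.g)) (by
      rw [← Functor.map_comp, ← Functor.map_comp]
      exact congrArg _ ((BigSite.bigAdj Scheme.fppfPrecoverage j AddCommGrpCat.{u + 1}).unit.naturality X.g).symm))
    (by
      rw [← cancel_mono (kernel.ι _)]
      simp only [Category.assoc, kernel.lift_ι, kernel.lift_ι_assoc, zero_comp]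
      rw [← Functor.map_comp, X.zero, Functor.map_zero, comp_zero])

lemma etaE_natural {F F' : EtFppf.AbF T} (φ : F ⟶ F') :
    (EtFppf.aPush T).map φ ≫ etaE j F' = etaE j F ≫ (EtFppf.aPush T).map ((pp j).map φ) := by
  rw [← Functor.map_comp, ← Functor.map_comp]
  exact congrArg _ ((BigSite.bigAdj Scheme.fppfPrecoverage j AddCommGrpCat.{u + 1}).unit.naturality φ)

/-- Epimorphisms and kernels pass to quotients. -/
lemma kSeq_shortExact {X : ShortComplex (EtFppf.AbF T)} (hX : X.ShortExact) [Injective X.X₂] (h : Acyc X.X₁)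
    [Epi (etaE j X.X₁)] [Epi (etaE j X.X₂)] : (kSeq (j := j) X).ShortExact ∧ Epi (etaE j X.X₃) := by
  obtain ⟨h1, h2⟩ := shortExact_aPush (j := j) hX h
  haveI : Mono ((EtFppf.aPush T).map X.f) := h1.mono_f
  haveI : Epi ((EtFppf.aPush T).map X.g) := h1.epi_g
  haveI : Epi ((EtFppf.aPush T).map ((pp j).map X.g)) := h2.epi_g
  haveI : Mono ((EtFppf.aPush T).map ((pp j).map X.f)) := h2.mono_f
  have hf : (kSeq (j := j) X).f ≫ kernel.ι (etaE j X.X₂) = kernel.ι (etaE j X.X₁) ≫ (EtFppf.aPush T).map X.f :=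
    kernel.lift_ι _ _ _
  have hg : (kSeq (j := j) X).g ≫ kernel.ι (etaE j X.X₃) = kernel.ι (etaE j X.X₂) ≫ (EtFppf.aPush T).map X.g :=
    kernel.lift_ι _ _ _
  refine ⟨?_, epi_of_epi_fac (f := (EtFppf.aPush T).map X.g)
    (h := etaE j X.X₂ ≫ (EtFppf.aPush T).map ((pp j).map X.g)) (etaE_natural X.g)⟩
  haveI : Mono (kSeq (j := j) X).f := by
    haveI : Mono ((kSeq (j := j) X).f ≫ kernel.ι (etaE j X.X₂)) := by rw [hf]; infer_instance
    exact mono_of_mono _ (kernel.ι (etaE j X.X₂))
  haveI : Epi (kSeq (j := j) X).g := by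
    rw [epi_iff_surjective_up_to_refinements]
    intro A y
    obtain ⟨A₁, π₁, _, x, hx⟩ := surjective_up_to_refinements_of_epi ((EtFppf.aPush T).map X.g)
      (y ≫ kernel.ι (etaE j X.X₃))
    have h0 : (x ≫ etaE j X.X₂) ≫ (EtFppf.aPush T).map ((pp j).map X.g) = 0 := by
      rw [Category.assoc, ← etaE_natural, reassoc_of% hx.symm, kernel.condition, comp_zero, comp_zero]
    obtain ⟨w, hw⟩ : ∃ w, w ≫ (EtFppf.aPush T).map ((pp j).map X.f) = x ≫ etaE j X.X₂ :=
      ⟨h2.fIsKernel.lift (KernelFork.ofι _ h0), Fork.IsLimit.lift_ι h2.fIsKernel⟩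
    obtain ⟨A₂, π₂, _, v, hv⟩ := surjective_up_to_refinements_of_epi (etaE j X.X₁) w
    have hk : (π₂ ≫ x - v ≫ (EtFppf.aPush T).map X.f) ≫ etaE j X.X₂ = 0 := by
      rw [Preadditive.sub_comp, Category.assoc, Category.assoc, etaE_natural, ← hw, ← Category.assoc π₂, hv,
        Category.assoc, sub_self]
    refine ⟨A₂, π₂ ≫ π₁, inferInstance, kernel.lift _ _ hk, ?_⟩
    have z : (EtFppf.aPush T).map X.f ≫ (EtFppf.aPush T).map X.g = 0 := by
      rw [← Functor.map_comp, X.zero, Functor.map_zero]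
    rw [← cancel_mono (kernel.ι (etaE j X.X₃))]
    simp only [Category.assoc]
    rw [hg, kernel.lift_ι_assoc, Preadditive.sub_comp, Category.assoc, Category.assoc, z, comp_zero, sub_zero, ← hx]
  refine ShortComplex.ShortExact.mk' ?_ ‹_› ‹_›
  rw [ShortComplex.exact_iff_exact_up_to_refinements]
  intro A x hx
  have h0 : (x ≫ kernel.ι (etaE j X.X₂)) ≫ (EtFppf.aPush T).map X.g = 0 := by
    rw [Category.assoc, ← hg, reassoc_of% hx, zero_comp]
  obtain ⟨w, hw⟩ : ∃ w, w ≫ (EtFppf.aPush T).map X.f = x ≫ kernel.ι (etaE j X.X₂) :=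
    ⟨h1.fIsKernel.lift (KernelFork.ofι _ h0), Fork.IsLimit.lift_ι h1.fIsKernel⟩
  have hw0 : w ≫ etaE j X.X₁ = 0 := by
    rw [← cancel_mono ((EtFppf.aPush T).map ((pp j).map X.f)), Category.assoc, ← etaE_natural, reassoc_of% hw,
      kernel.condition, comp_zero, zero_comp]
  refine ⟨A, 𝟙 A, inferInstance, kernel.lift _ w hw0, ?_⟩
  rw [Category.id_comp, ← cancel_mono (kernel.ι (etaE j X.X₂)), Category.assoc, hf, kernel.lift_ι_assoc, hw]

variable [IsClosedImmersion j]

omit [IsFinite j] in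
lemma surjective_etaU_app (I : EtFppf.AbF T) [Injective I] (U : Over T) :
    Function.Surjective ((etaU j I).hom.app (op U)) := by
  haveI : Mono ((Over.mapPullbackAdj j).counit.app U).left := inferInstanceAs (Mono (pullback.fst U.hom j))
  haveI : Mono ((Over.mapPullbackAdj j).counit.app U) := Over.mono_of_mono_left _
  exact surjective_map_of_mono I ((Over.mapPullbackAdj j).counit.app U)

omit [IsFinite j] in
/-- Injective sheaves have surjective restriction with acyclic kernel. -/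
lemma rclass_injective (I : EtFppf.AbF T) [Injective I] : RClass j I := by
  have hls : Sheaf.IsLocallySurjective (etaE j I) := ⟨fun {U} s => by
    obtain ⟨x, hx⟩ := surjective_etaU_app (j := j) I ((EtFppf.a T).obj U) s
    exact GrothendieckTopology.superset_covering _ (fun V g _ => ⟨((EtFppf.aPush T).obj I).obj.map g.op x,
      (ConcreteCategory.congr_hom ((etaE j I).hom.naturality g.op) x).trans (congrArg _ hx)⟩)
      (GrothendieckTopology.top_mem _ _)⟩
  haveI : Epi (etaE j I) := inferInstance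
  refine ⟨acyc_injective I, inferInstance, fun n => ?_⟩
  haveI : Injective ((EtFppf.aPush T).obj I) := injective_resEt Scheme.fppfPrecoverage T I
  haveI : Injective ((pp j).obj I) := by
    haveI : Injective ((BigSite.pullBig Scheme.fppfPrecoverage j AddCommGrpCat.{u + 1}).obj I) :=
      injective_pullBig Scheme.fppfPrecoverage j I
    exact Injective.injective_of_adjoint (BigSite.bigAdj Scheme.fppfPrecoverage j AddCommGrpCat.{u + 1}) _
  haveI : Injective ((EtFppf.aPush T).obj ((pp j).obj I)) := injective_resEt Scheme.fppfPrecoverage T _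
  let S : ShortComplex (EtCoh.Ab T) := ShortComplex.mk (kernel.ι (etaE j I)) (etaE j I) (kernel.condition _)
  have hS : S.ShortExact :=
    { exact := ShortComplex.exact_of_f_is_kernel _ (kernelIsKernel _) }
  refine subsingleton_of_forall_eq 0 fun x => ?_
  obtain ⟨y, rfl⟩ := Ext.covariant_sequence_exact₁ _ hS x (Ext.eq_zero_of_injective _) (n₀ := n) rfl
  cases n with
  | zero =>
    obtain ⟨φ, rfl⟩ := (Ext.mk₀_bijective _ _).2 y
    obtain ⟨s, hs⟩ := surjective_etaU_app (j := j) I ((EtFppf.a T).obj (EtCoh.top T)) (EtMV.σ φ)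
    obtain ⟨ψ, hψ⟩ : ∃ ψ : (EtMV.P T).obj (EtCoh.top T) ⟶ S.X₂, ψ ≫ S.g = φ :=
      ⟨EtMV.σ.symm s, EtMV.σ.injective (by rw [EtMV.σ_comp, Equiv.apply_symm_apply]; exact hs)⟩
    rw [← hψ]
    erw [← Ext.mk₀_comp_mk₀, Ext.comp_assoc_of_second_deg_zero, hS.comp_extClass, Ext.comp_zero]
  | succ m =>
    rw [Ext.eq_zero_of_injective y, Ext.zero_comp]

/-- The class is closed under cosyzygies. -/
lemma rclass_step {X : ShortComplex (EtFppf.AbF T)} (hX : X.ShortExact) [Injective X.X₂] (h : RClass j X.X₁) :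
    RClass j X.X₃ := by
  obtain ⟨h1, h2, h3⟩ := h
  haveI := h2
  obtain ⟨-, hI2, hI3⟩ := rclass_injective (j := j) X.X₂
  haveI := hI2
  obtain ⟨hk, he⟩ := kSeq_shortExact (j := j) hX h1
  refine ⟨(acyc_step hX h1).2, he, fun n => subsingleton_of_forall_eq 0 fun x => ?_⟩
  obtain ⟨y, hy⟩ := Ext.covariant_sequence_exact₃ ((EtMV.P T).obj (EtCoh.top T)) hk x (n₁ := n + 2) rfl
    ((h3 (n + 1)).elim _ _)
  rw [← hy, show y = 0 from (hI3 n).elim _ _, Ext.zero_comp]

section Global

omit [IsFinite j] [IsClosedImmersion j]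

/-- The subscheme as an object of the big site. -/
abbrev subObj : Over T := (Over.map j).obj (Over.mk (𝟙 T₀))

/-- Its map to the base. -/
abbrev subMap : subObj (j := j) ⟶ Over.mk (𝟙 T) :=
  Over.homMk j (by change j ≫ 𝟙 T = 𝟙 T₀ ≫ j; simp)

/-- The pullback of the base. -/
def subIso : (Over.map j).obj ((Over.pullback j).obj (Over.mk (𝟙 T))) ≅ subObj (j := j) :=
  (Over.map j).mapIso (Over.isoMk (asIso (pullback.snd (𝟙 T) j)) (by
    change pullback.snd (𝟙 T) j ≫ 𝟙 T₀ = pullback.snd (𝟙 T) j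
    rw [Category.comp_id]))

lemma subIso_hom_subMap :
    (subIso (j := j)).hom ≫ subMap = (Over.mapPullbackAdj j).counit.app (Over.mk (𝟙 T)) := by
  refine Over.OverMorphism.ext ?_
  change pullback.snd (𝟙 T) j ≫ j = pullback.fst (𝟙 T) j
  rw [← pullback.condition, Category.comp_id]

lemma sub_eq_zero_iff (F : EtFppf.AbF T) (x : F.obj.obj (op (Over.mk (𝟙 T)))) :
    F.obj.map (subMap (j := j)).op x = 0 ↔ (etaU j F).hom.app (op (Over.mk (𝟙 T))) x = 0 := by
  rw [etaU_apply, ← subIso_hom_subMap, op_comp, Functor.map_comp, ConcreteCategory.comp_apply]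
  constructor
  · intro h; exact (congrArg (F.obj.map (subIso (j := j)).hom.op) h).trans (map_zero _)
  · intro h
    exact ((ConcreteCategory.isIso_iff_bijective (F.obj.map (subIso (j := j)).hom.op)).mp inferInstance).1
      (h.trans (map_zero _).symm)

/-- Sections over the subscheme lift. -/
lemma surjective_res {F : EtFppf.AbF T} (hF : RClass j F) :
    Function.Surjective (F.obj.map (subMap (j := j)).op) := by
  intro z
  obtain ⟨-, he, hk⟩ := hF
  haveI := he
  let S : ShortComplex (EtCoh.Ab T) := ShortComplex.mk (kernel.ι (etaE j F)) (etaE j F) (kernel.condition _)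
  have hS : S.ShortExact :=
    { exact := ShortComplex.exact_of_f_is_kernel _ (kernelIsKernel _) }
  let φ : (EtMV.P T).obj (EtCoh.top T) ⟶ S.X₃ := EtMV.σ.symm (F.obj.map (subIso (j := j)).hom.op z)
  obtain ⟨y, hy⟩ := Ext.covariant_sequence_exact₃ _ hS (Ext.mk₀ φ) (n₁ := 1) rfl ((hk 0).elim _ _)
  obtain ⟨ψ, rfl⟩ := (Ext.mk₀_bijective _ _).2 y
  rw [Ext.mk₀_comp_mk₀] at hy
  have hψ := congrArg EtMV.σ ((Ext.mk₀_bijective _ _).1 hy)
  rw [EtMV.σ_comp, Equiv.apply_symm_apply] at hψ
  refine ⟨EtMV.σ ψ, ((ConcreteCategory.isIso_iff_bijective (F.obj.map (subIso (j := j)).hom.op)).mp inferInstance).1 ?_⟩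
  refine Eq.trans ?_ hψ
  refine (ConcreteCategory.congr_hom (F.obj.map_comp _ _) _).symm.trans ?_
  rw [← op_comp, subIso_hom_subMap]
  rfl

variable [IsFinite j] [IsClosedImmersion j]

/-- Sections vanishing on the subscheme lift to such sections. -/
lemma exists_lift_vanishing {X : ShortComplex (EtFppf.AbF T)} (hX : X.ShortExact) [Injective X.X₂]
    (h : RClass j X.X₁) (z : X.X₃.obj.obj (op (Over.mk (𝟙 T)))) (hz : X.X₃.obj.map (subMap (j := j)).op z = 0) :
    ∃ i, X.g.hom.app (op (Over.mk (𝟙 T))) i = z ∧ X.X₂.obj.map (subMap (j := j)).op i = 0 := by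
  obtain ⟨h1, h2, h3⟩ := h
  haveI := h2
  obtain ⟨-, hI2, -⟩ := rclass_injective (j := j) X.X₂
  haveI := hI2
  obtain ⟨hk, -⟩ := kSeq_shortExact (j := j) hX h1
  let φ : (EtMV.P T).obj (EtCoh.top T) ⟶ (EtFppf.aPush T).obj X.X₃ := EtMV.σ.symm z
  have hφ : φ ≫ etaE j X.X₃ = 0 := by
    apply EtMV.σ.injective
    rw [EtMV.σ_comp, Equiv.apply_symm_apply]
    refine ((sub_eq_zero_iff X.X₃ z).mp hz).trans ?_
    rw [← comp_zero (f := φ) (Z := (EtFppf.aPush T).obj ((pp j).obj X.X₃)), EtMV.σ_comp]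
    rfl
  obtain ⟨y, hy⟩ := Ext.covariant_sequence_exact₃ _ hk (Ext.mk₀ (kernel.lift _ φ hφ)) (n₁ := 1) rfl ((h3 0).elim _ _)
  obtain ⟨ψ, rfl⟩ := (Ext.mk₀_bijective _ _).2 y
  rw [Ext.mk₀_comp_mk₀] at hy
  have e : (ψ ≫ kernel.ι (etaE j X.X₂)) ≫ (EtFppf.aPush T).map X.g = φ := by
    rw [Category.assoc, ← show (kSeq (j := j) X).g ≫ kernel.ι (etaE j X.X₃) =
      kernel.ι (etaE j X.X₂) ≫ (EtFppf.aPush T).map X.g from kernel.lift_ι _ _ _,
      ← Category.assoc, (Ext.mk₀_bijective _ _).1 hy, kernel.lift_ι]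
  refine ⟨EtMV.σ (ψ ≫ kernel.ι (etaE j X.X₂)), ?_, ?_⟩
  · have := congrArg EtMV.σ e
    rw [EtMV.σ_comp, Equiv.apply_symm_apply] at this
    exact this
  · refine (sub_eq_zero_iff X.X₂ _).mpr ?_
    have e0 : (ψ ≫ kernel.ι (etaE j X.X₂)) ≫ etaE j X.X₂ = 0 := by
      rw [Category.assoc, kernel.condition, comp_zero]
    have := congrArg EtMV.σ e0
    rw [EtMV.σ_comp] at this
    refine this.trans ?_
    rw [← comp_zero (f := ψ) (Z := (EtFppf.aPush T).obj ((pp j).obj X.X₂)), EtMV.σ_comp]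
    rfl

end Global

section Pull

omit [IsFinite j] [IsClosedImmersion j]

open Groth.Agent.GaExt (cZ one)

/-- The value at one. -/
def valT {X : Scheme.{u}} {F : EtFppf.AbF X} (φ : cZ X ⟶ F) : F.obj.obj (op (Over.mk (𝟙 X))) :=
  φ.hom.app (op (Over.mk (𝟙 X))) (one (Over.mk (𝟙 X)))

lemma valT_bijective {X : Scheme.{u}} (F : EtFppf.AbF X) : Function.Bijective (valT (F := F)) := by
  refine ⟨fun φ ψ h => ?_, fun c => GaExt.exists_hom_one F c⟩
  apply ((constantSheafAdj (QuotSh.J Scheme.fppfPrecoverage X) AddCommGrpCat.{u + 1}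
    (Over.mkIdTerminal : IsTerminal (Over.mk (𝟙 X)))).homEquiv _ F).injective
  rw [Adjunction.homEquiv_unit, Adjunction.homEquiv_unit]
  refine AddCommGrpCat.ext fun z => ?_
  have hz : z = z.down • (⟨1⟩ : ULift.{u + 1} ℤ) := ULift.ext _ _ (show z.down = z.down • (1 : ℤ) by simp)
  rw [hz, map_zsmul, map_zsmul]
  exact congrArg (z.down • ·) h

lemma valT_comp {X : Scheme.{u}} {F F' : EtFppf.AbF X} (φ : cZ X ⟶ F) (g : F ⟶ F') :
    valT (φ ≫ g) = g.hom.app (op (Over.mk (𝟙 X))) (valT φ) := rfl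

/-- Restriction of morphisms out of the constant sheaf. -/
def pull₀ {F : EtFppf.AbF T} (φ : cZ T ⟶ F) :
    cZ T₀ ⟶ (BigSite.pullBig Scheme.fppfPrecoverage j AddCommGrpCat.{u + 1}).obj F :=
  (HRes.pullConst Scheme.fppfPrecoverage j (AddCommGrpCat.of (ULift.{u + 1} ℤ))).inv ≫
    (BigSite.pullBig Scheme.fppfPrecoverage j AddCommGrpCat.{u + 1}).map φ

lemma valT_pull₀ {F : EtFppf.AbF T} (φ : cZ T ⟶ F) :
    valT (pull₀ (j := j) φ) = F.obj.map (subMap (j := j)).op (valT φ) := by
  let q := HRes.pullConst Scheme.fppfPrecoverage j (AddCommGrpCat.of (ULift.{u + 1} ℤ))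
  have h := GaExt.pullConst_one (Y := Over.mk j) (Over.mk (𝟙 T₀))
  have h' : q.inv.hom.app (op (Over.mk (𝟙 T₀))) (one (Over.mk (𝟙 T₀))) = one (subObj (j := j)) := by
    rw [← show q.hom.hom.app (op (Over.mk (𝟙 T₀))) (one (subObj (j := j))) = one (Over.mk (𝟙 T₀)) from h]
    exact ConcreteCategory.congr_hom (congrArg (fun m => m.hom.app (op (Over.mk (𝟙 T₀)))) q.hom_inv_id) _
  change φ.hom.app (op (subObj (j := j))) (q.inv.hom.app (op (Over.mk (𝟙 T₀))) (one (Over.mk (𝟙 T₀)))) = _
  rw [h', ← show GaExt.res (cZ T) (subMap (j := j)) (one (Over.mk (𝟙 T))) = one (subObj (j := j)) from GaExt.res_one _]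
  exact ConcreteCategory.congr_hom (φ.hom.naturality (subMap (j := j)).op) (one (Over.mk (𝟙 T)))

lemma pull_mk₀ {F : EtFppf.AbF T} (φ : cZ T ⟶ F) :
    HRes.pull Scheme.fppfPrecoverage j F 0 (Ext.mk₀ φ) = Ext.mk₀ (pull₀ (j := j) φ) := by
  rw [HRes.pull_apply, Ext.mapExactFunctor_mk₀, Ext.mk₀_comp_mk₀]
  rfl

lemma pull_extClass {X : ShortComplex (EtFppf.AbF T)} (hX : X.ShortExact) (n : ℕ)
    (y : Ext (cZ T) X.X₃ n) :
    HRes.pull Scheme.fppfPrecoverage j X.X₁ (n + 1) (y.comp hX.extClass rfl) =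
      (HRes.pull Scheme.fppfPrecoverage j X.X₃ n y).comp
        (hX.map_of_exact (BigSite.pullBig Scheme.fppfPrecoverage j AddCommGrpCat.{u + 1})).extClass rfl := by
  rw [HRes.pull_apply, HRes.pull_apply, Ext.mapExactFunctor_comp, Ext.mapExactFunctor_extClass,
    Ext.comp_assoc (a₁₂ := n) (a₂₃ := n + 1) _ _ _ _ (by omega)]
  all_goals omega

variable [IsFinite j] [IsClosedImmersion j]

/-- Restriction is bijective in positive degrees on the class. -/
theorem bijective_pull_of_rclass : ∀ (n : ℕ) (F : EtFppf.AbF T), RClass j F →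
    Function.Bijective (HRes.pull Scheme.fppfPrecoverage j F (n + 1))
  | 0, F, hF => by
    let X := EtMV.injSeq F
    have hX : X.ShortExact := EtMV.injSeq_shortExact F
    haveI : Injective X.X₂ := inferInstanceAs (Injective (Injective.under F))
    have hX' := hX.map_of_exact (BigSite.pullBig Scheme.fppfPrecoverage j AddCommGrpCat.{u + 1})
    haveI : Injective (X.map (BigSite.pullBig Scheme.fppfPrecoverage j AddCommGrpCat.{u + 1})).X₂ :=
      injective_pullBig Scheme.fppfPrecoverage j X.X₂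
    refine ⟨(injective_iff_map_eq_zero _).mpr fun x hx => ?_, fun x => ?_⟩
    · obtain ⟨y, rfl⟩ := Ext.covariant_sequence_exact₁ _ hX x (Ext.eq_zero_of_injective _) (n₀ := 0) rfl
      obtain ⟨φ, rfl⟩ := (Ext.mk₀_bijective _ _).2 y
      have hx := (pull_extClass (j := j) hX _ (Ext.mk₀ φ)).symm.trans hx
      rw [pull_mk₀] at hx
      obtain ⟨y₂, hy₂⟩ := Ext.covariant_sequence_exact₃ _ hX' (Ext.mk₀ (pull₀ (j := j) φ)) (n₁ := 1) rfl hx
      obtain ⟨ψ₀, rfl⟩ := (Ext.mk₀_bijective _ _).2 y₂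
      rw [Ext.mk₀_comp_mk₀] at hy₂
      have e₀ := congrArg valT ((Ext.mk₀_bijective _ _).1 hy₂)
      rw [valT_comp, valT_pull₀] at e₀
      obtain ⟨i, hi⟩ := surjective_res (rclass_injective (j := j) X.X₂) (valT ψ₀)
      have hz : X.X₃.obj.map (subMap (j := j)).op (valT φ - X.g.hom.app (op (Over.mk (𝟙 T))) i) = 0 := by
        rw [map_sub, sub_eq_zero, ← e₀, ← hi]
        exact ConcreteCategory.congr_hom (X.g.hom.naturality (subMap (j := j)).op) i
      obtain ⟨i', hi', -⟩ := exists_lift_vanishing hX hF _ hz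
      obtain ⟨χ, hχ⟩ := (valT_bijective X.X₂).2 (i + i')
      have : φ = χ ≫ X.g := (valT_bijective X.X₃).1 (by rw [valT_comp, hχ, map_add, hi', add_sub_cancel])
      rw [this, ← Ext.mk₀_comp_mk₀, Ext.comp_assoc_of_second_deg_zero, hX.comp_extClass, Ext.comp_zero]
    · obtain ⟨y, rfl⟩ := Ext.covariant_sequence_exact₁ _ hX' x (Ext.eq_zero_of_injective _) (n₀ := 0) rfl
      obtain ⟨φ₀, rfl⟩ := (Ext.mk₀_bijective _ _).2 y
      obtain ⟨z, hz⟩ := surjective_res (rclass_step hX hF) (valT φ₀)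
      obtain ⟨φ, hφ⟩ := (valT_bijective X.X₃).2 z
      refine ⟨(Ext.mk₀ φ).comp hX.extClass rfl, ?_⟩
      refine (pull_extClass (j := j) hX _ (Ext.mk₀ φ)).trans ?_
      rw [pull_mk₀, show pull₀ (j := j) φ = φ₀ from (valT_bijective _).1 (by
        rw [valT_pull₀, hφ, hz])]
  | n + 1, F, hF => by
    let X := EtMV.injSeq F
    have hX : X.ShortExact := EtMV.injSeq_shortExact F
    haveI : Injective X.X₂ := inferInstanceAs (Injective (Injective.under F))
    have hX' := hX.map_of_exact (BigSite.pullBig Scheme.fppfPrecoverage j AddCommGrpCat.{u + 1})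
    haveI : Injective (X.map (BigSite.pullBig Scheme.fppfPrecoverage j AddCommGrpCat.{u + 1})).X₂ :=
      injective_pullBig Scheme.fppfPrecoverage j X.X₂
    obtain ⟨hi, hs⟩ := bijective_pull_of_rclass n X.X₃ (rclass_step hX hF)
    refine ⟨(injective_iff_map_eq_zero _).mpr fun x hx => ?_, fun x => ?_⟩
    · obtain ⟨y, rfl⟩ := Ext.covariant_sequence_exact₁ _ hX x (Ext.eq_zero_of_injective _) (n₀ := n + 1) rfl
      have hx := (pull_extClass (j := j) hX _ y).symm.trans hx
      obtain ⟨y₂, hy₂⟩ := Ext.covariant_sequence_exact₃ _ hX' _ (n₁ := n + 1 + 1) rfl hx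
      rw [Ext.eq_zero_of_injective y₂, Ext.zero_comp] at hy₂
      rw [show y = 0 from (injective_iff_map_eq_zero _).mp hi y hy₂.symm, Ext.zero_comp]
    · obtain ⟨y, rfl⟩ := Ext.covariant_sequence_exact₁ _ hX' x (Ext.eq_zero_of_injective _) (n₀ := n + 1) rfl
      obtain ⟨z, hz⟩ := hs y
      refine ⟨z.comp hX.extClass rfl, (pull_extClass (j := j) hX _ z).trans ?_⟩
      rw [hz]

end Pull

end Groth.Agent.BigSiteLib
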