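import Groth.Agent.BigSiteLib.SmLift
import Groth.Agent.BigSiteLib.SmRes
import Groth.Agent.LimDesc.FPCancel

/-!
Cocycle equations in points of a smooth commutative group scheme have solutions étale locally.
-/

set_option autoImplicit false
set_option linter.style.haveILetI false
set_option backward.isDefEq.respectTransparency false
set_option backward.defeqAttrib.useBackward true
universe u

noncomputable section

namespace Groth.Agent.BigSiteLib

open CategoryTheory Limits Opposite AlgebraicGeometry MonObj MonoidalCategory CartesianMonoidalCategory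

section Alg

variable {T : Scheme.{u}} (Y₀ : Over T) [IsAffine Y₀.left]

lemma algMap_comp {A B D : Type u} [CommRing A] [Algebra (Gam Y₀) A] [CommRing B] [Algebra (Gam Y₀) B]
    [CommRing D] [Algebra (Gam Y₀) D] (φ : A →ₐ[Gam Y₀] B) (ψ : B →ₐ[Gam Y₀] D) :
    algMap Y₀ (ψ.comp φ) = algMap Y₀ ψ ≫ algMap Y₀ φ := by
  refine Over.OverMorphism.ext ?_
  change Spec.map (CommRingCat.ofHom ((ψ.comp φ : A →ₐ[Gam Y₀] D) : A →+* D)) = Spec.map _ ≫ Spec.map _
  rw [← Spec.map_comp, ← CommRingCat.ofHom_comp]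
  rfl

lemma sqZero_algMap {B : Type u} [CommRing B] [Algebra (Gam Y₀) B] (I : Ideal B) (hI : I ^ 2 = ⊥) :
    SqZero (algMap Y₀ (Ideal.Quotient.mkₐ (Gam Y₀) I)) := by
  refine ⟨fun y => ?_, fun a b ha hb => ?_⟩
  · obtain ⟨x, hx⟩ := Ideal.Quotient.mk_surjective (pig Y₀ _ y)
    refine ⟨(pig Y₀ B).symm x, ?_⟩
    apply (pig Y₀ (B ⧸ I)).injective
    rw [pig_natural, RingEquiv.apply_symm_apply]
    exact hx
  · have h : ∀ c, rg (algMap Y₀ (Ideal.Quotient.mkₐ (Gam Y₀) I)) c = 0 → pig Y₀ B c ∈ I := fun c hc => by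
      rw [← Ideal.Quotient.eq_zero_iff_mem]
      have := pig_natural Y₀ (Ideal.Quotient.mkₐ (Gam Y₀) I) c
      rw [hc, map_zero] at this
      exact this.symm
    apply (pig Y₀ B).injective
    rw [map_mul, map_zero, ← Ideal.mem_bot, ← hI, pow_two]
    exact Ideal.mul_mem_mul (h a ha) (h b hb)

lemma isUnit_of_isUnit_quotient {B : Type u} [CommRing B] {I : Ideal B} (hI : I ^ 2 = ⊥) {b : B}
    (hb : IsUnit (Ideal.Quotient.mk I b)) : IsUnit b := by
  obtain ⟨u, hu⟩ := hb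
  obtain ⟨w, hw⟩ := Ideal.Quotient.mk_surjective u.inv
  have h1 : b * w - 1 ∈ I := by
    rw [← Ideal.Quotient.eq_zero_iff_mem, map_sub, map_mul, map_one, hw, ← hu, u.val_inv, sub_self]
  have h2 : IsNilpotent (b * w - 1) := ⟨2, by
    rw [← Ideal.mem_bot, ← hI]
    exact Ideal.pow_mem_pow h1 2⟩
  have h3 := h2.isUnit_one_add
  rw [add_sub_cancel] at h3
  exact isUnit_of_mul_isUnit_left h3

end Alg

/-- A finite scheme over a field is finite and discrete. -/
lemma finite_discrete_of_isFinite {K : Type u} [Field K] {X : Scheme.{u}} (f : X ⟶ Spec (CommRingCat.of K)) [IsFinite f] :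
    Finite X ∧ DiscreteTopology X := by
  haveI : IsAffine X := isAffine_of_isAffineHom f
  let i : K →+* Γ(X, ⊤) := f.appTop.hom.comp (Scheme.ΓSpecIso (CommRingCat.of K)).inv.hom
  have hi : i.Finite := RingHom.Finite.comp f.finite_appTop
    (RingHom.Finite.of_surjective _ (Scheme.ΓSpecIso (CommRingCat.of K)).commRingCatIsoToRingEquiv.symm.surjective)
  letI := i.toAlgebra
  haveI : Module.Finite K Γ(X, ⊤) := hi
  haveI : IsArtinianRing Γ(X, ⊤) := IsArtinianRing.of_finite K _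
  let e : X ≃ₜ PrimeSpectrum Γ(X, ⊤) := Scheme.homeoOfIso X.isoSpec
  exact ⟨Finite.of_equiv _ e.symm.toEquiv, e.symm.discreteTopology⟩

variable {S T V : Scheme.{u}} {t : T ⟶ S} {G : Over S} [GrpObj G] [IsCommMonObj G] [Smooth G.hom]
  (p : V ⟶ T) [IsAffine T] [IsFinite p]

section Res

variable {d : ℕ} (φ : Fin d → LinForm p) (b : Fin d → Γ(V, ⊤))
  (hb : letI := (p.appTop).hom.toAlgebra; ∀ x, ∑ i, p.appTop (φ i x) * b i = x)
  (Y₀ : Over T) [IsAffine Y₀.left]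

include hb in
set_option maxHeartbeats 400000 in
/-- An affine family of points containing a given geometric one, along which points lift uniquely. -/
theorem exists_res_pts (C : UnitChart t G) (n : ℕ) (K : Type u) [Field K] [Algebra (Gam Y₀) K]
    (x₀ : Pts t G (pbn p n (algObj Y₀ K))) :
    ∃ (Q : Type u) (_ : CommRing Q) (_ : Algebra (Gam Y₀) Q), Algebra.FinitePresentation (Gam Y₀) Q ∧
      ∃ (xu : Pts t G (pbn p n (algObj Y₀ Q))) (ψK : Q →ₐ[Gam Y₀] K),
        rP t G (pbnMap p n (algMap Y₀ ψK)) xu = x₀ ∧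
        ∀ (B : Type u) [CommRing B] [Algebra (Gam Y₀) B] (I : Ideal B), I ^ 2 = ⊥ →
          ∀ ψ₀ : Q →ₐ[Gam Y₀] B ⧸ I,
            (∃ x', rP t G (pbnMap p n (algMap Y₀ (Ideal.Quotient.mkₐ (Gam Y₀) I))) x' =
              rP t G (pbnMap p n (algMap Y₀ ψ₀)) xu) ∧
            ∀ x, rP t G (pbnMap p n (algMap Y₀ (Ideal.Quotient.mkₐ (Gam Y₀) I))) x =
              rP t G (pbnMap p n (algMap Y₀ ψ₀)) xu →
              ∃ ψ : Q →ₐ[Gam Y₀] B, (Ideal.Quotient.mkₐ (Gam Y₀) I).comp ψ = ψ₀ ∧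
                rP t G (pbnMap p n (algMap Y₀ ψ)) xu = x := by
  let YK : Over T := algObj Y₀ K
  obtain ⟨hfin, hdisc⟩ := finite_discrete_of_isFinite (pbnPr p n YK).left
  haveI := hfin
  haveI := hdisc
  let Pnt : Type u := (pbn p n YK).left
  have hmem : ∀ P : Pnt, pl t G x₀ P ∈ G.hom ⁻¹ᵁ C.S₀ := fun P => by
    change G.hom (pl t G x₀ P) ∈ C.S₀
    rw [← Scheme.Hom.comp_apply, pl_w, Scheme.Hom.comp_apply,
      ← congr($(C.ht) ((pbn p n YK).hom P))]
    exact (C.t₀ ((pbn p n YK).hom P)).2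
  choose U hU hxU hUS using fun P : Pnt => exists_isAffineOpen_mem_and_subset (hmem P)
  let O : Scheme.{u} := ∐ fun P : Pnt => (U P).toScheme
  haveI : ∀ P : Pnt, IsAffine (U P).toScheme := hU
  haveI : IsAffine O := inferInstanceAs (IsAffine (∐ fun P : Pnt => (U P).toScheme))
  let π : O ⟶ G.left := Sigma.desc fun P => (U P).ι
  let σ : O ⟶ C.B₀ := Sigma.desc fun P => G.hom.resLE C.S₀ (U P) (hUS P)
  have hσ : σ ≫ C.S₀.ι = π ≫ G.hom := Sigma.hom_ext _ _ fun P => by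
    simp only [σ, π, Sigma.ι_desc_assoc, Scheme.Hom.resLE_comp_ι]
  haveI : Smooth σ := IsZariskiLocalAtSource.sigmaDesc (P := (@Smooth : MorphismProperty Scheme.{u})) fun P => by
    delta Scheme.Hom.resLE
    infer_instance
  obtain ⟨y₀, hy₀, -⟩ := exists_glue (U := fun P : Pnt => (U P).toScheme) (fun P => (U P).ι) (pl t G x₀)
    (fun P => ⟨{P}, isOpen_discrete _⟩) (fun P => ⟨P, rfl⟩)
    (fun i j P hi hj => (Set.mem_singleton_iff.mp hi).symm.trans (Set.mem_singleton_iff.mp hj))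
    (fun i P hP => by
      obtain rfl : P = i := hP
      rw [Scheme.Opens.range_ι]
      exact hxU P)
  have hy₀σ : y₀ ≫ σ = (pbn p n YK).hom ≫ C.t₀ := by
    rw [← cancel_mono C.S₀.ι, Category.assoc, hσ, reassoc_of% hy₀, pl_w, Category.assoc, C.ht]
  obtain ⟨Q, _, _, hQ, yu, hyu, hcl⟩ := exists_res p φ b hb Y₀ σ C.t₀ n
  let xu : Pts t G (pbn p n (algObj Y₀ Q)) :=
    mkP t G (yu ≫ π) (by rw [Category.assoc, ← hσ, reassoc_of% hyu, C.ht])
  obtain ⟨ψK, hψK, -⟩ := hcl K y₀ hy₀σ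
  refine ⟨Q, _, _, hQ, xu, ψK, pts_ext (by
    rw [pl_rP, pl_mkP, reassoc_of% hψK]
    exact hy₀), fun B _ _ I hI ψ₀ => ?_⟩
  let mk := Ideal.Quotient.mkₐ (Gam Y₀) I
  let g := pbnMap p n (algMap Y₀ mk)
  have hsn : SqZero g := sqZero_pbn p n inferInstance inferInstance _ (sqZero_algMap Y₀ I hI)
  let yB₀ := (pbnMap p n (algMap Y₀ ψ₀)).left ≫ yu
  have hyB₀ : yB₀ ≫ σ = (pbn p n (algObj Y₀ (B ⧸ I))).hom ≫ C.t₀ := by
    simp only [yB₀, Category.assoc, hyu]
    rw [← Category.assoc, Over.w]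
  refine ⟨?_, fun x hx => ?_⟩
  · letI := σ.appTop.hom.toAlgebra
    haveI : Algebra.Smooth Γ(C.B₀, ⊤) Γ(O, ⊤) :=
      RingHom.smooth_algebraMap.mp ((HasRingHomProperty.iff_of_isAffine (P := @Smooth) (f := σ)).mp inferInstance)
    letI : Algebra Γ(C.B₀, ⊤) (Gam (pbn p n (algObj Y₀ B))) :=
      ((pbn p n (algObj Y₀ B)).hom ≫ C.t₀).appTop.hom.toAlgebra
    letI : Algebra Γ(C.B₀, ⊤) (Gam (pbn p n (algObj Y₀ (B ⧸ I)))) :=
      ((pbn p n (algObj Y₀ (B ⧸ I))).hom ≫ C.t₀).appTop.hom.toAlgebra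
    let fA : Γ(O, ⊤) →ₐ[Γ(C.B₀, ⊤)] Gam (pbn p n (algObj Y₀ (B ⧸ I))) :=
      { yB₀.appTop.hom with
        commutes' := fun r => by
          change yB₀.appTop (σ.appTop r) = ((pbn p n (algObj Y₀ (B ⧸ I))).hom ≫ C.t₀).appTop r
          rw [← appTop_comp_apply, hyB₀] }
    let gA : Gam (pbn p n (algObj Y₀ B)) →ₐ[Γ(C.B₀, ⊤)] Gam (pbn p n (algObj Y₀ (B ⧸ I))) :=
      { (rg g).hom with
        commutes' := fun r => by
          change rg g (((pbn p n (algObj Y₀ B)).hom ≫ C.t₀).appTop r) = _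
          rw [appTop_comp_apply, rg_str]
          exact (appTop_comp_apply _ _ _).symm }
    have hnil : IsNilpotent (RingHom.ker gA.toRingHom) := ⟨2, by
      rw [pow_two, Ideal.zero_eq_bot, eq_bot_iff, Ideal.mul_le]
      exact fun x hx y hy => (Submodule.mem_bot _).mpr (hsn.2 x y hx hy)⟩
    let lA := Algebra.FormallySmooth.liftOfSurjective fA gA hsn.1 hnil
    have hlA : ∀ x, rg g (lA x) = yB₀.appTop x := Algebra.FormallySmooth.liftOfSurjective_apply fA gA hsn.1 hnil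
    obtain ⟨y', hy', hy'a⟩ := exists_mor σ ((pbn p n (algObj Y₀ B)).hom ≫ C.t₀) lA.toRingHom lA.commutes
    have hgy' : g.left ≫ y' = yB₀ := ext_of_isAffine (by
      ext x
      rw [appTop_comp_apply, hy'a]
      exact hlA x)
    refine ⟨mkP t G (y' ≫ π) (by rw [Category.assoc, ← hσ, reassoc_of% hy', C.ht]), pts_ext ?_⟩
    rw [pl_rP, pl_rP, pl_mkP, pl_mkP, reassoc_of% hgy']
    exact Category.assoc _ _ _
  · haveI := isClosedImmersion_of_sqZero hsn
    obtain ⟨y, hy, hgy⟩ := exists_relift (U := fun P : Pnt => (U P).toScheme) (fun P => (U P).ι) g.left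
      (surjective_of_sqZero hsn) yB₀ (pl t G x) (by
        rw [← pl_rP, hx, pl_rP, pl_mkP]
        exact (Category.assoc _ _ _).symm)
    have hyσ : y ≫ σ = (pbn p n (algObj Y₀ B)).hom ≫ C.t₀ := by
      rw [← cancel_mono C.S₀.ι, Category.assoc, hσ, reassoc_of% hy, pl_w, Category.assoc, C.ht]
    obtain ⟨ψ, hψ, -⟩ := hcl B y hyσ
    refine ⟨ψ, (hcl (B ⧸ I) yB₀ hyB₀).unique ?_ rfl, pts_ext ?_⟩
    · rw [algMap_comp, pbnMap_comp, Over.comp_left, Category.assoc, hψ]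
      exact hgy
    · rw [pl_rP, pl_mkP, reassoc_of% hψ]
      exact hy

include hb in
set_option maxHeartbeats 400000 in
/-- Near a point where two families of points agree, the locus where they agree is cut out by finitely many equations. -/
theorem exists_eq_locus (n : ℕ) {Q : Type u} [CommRing Q] [Algebra (Gam Y₀) Q] (K : Type u) [Field K]
    [Algebra (Gam Y₀) K] (ψK : Q →ₐ[Gam Y₀] K) (a₁ a₂ : Pts t G (pbn p n (algObj Y₀ Q)))
    (hK : rP t G (pbnMap p n (algMap Y₀ ψK)) a₁ = rP t G (pbnMap p n (algMap Y₀ ψK)) a₂) :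
    ∃ f₀ : Q, IsUnit (ψK f₀) ∧ ∃ J : Ideal (Localization.Away f₀), J.FG ∧
      ∀ (B : Type u) [CommRing B] [Algebra (Gam Y₀) B] (ψ : Localization.Away f₀ →ₐ[Gam Y₀] B),
        J ≤ RingHom.ker ψ.toRingHom ↔
          rP t G (pbnMap p n (algMap Y₀ (ψ.comp (IsScalarTower.toAlgHom (Gam Y₀) Q (Localization.Away f₀))))) a₁ =
            rP t G (pbnMap p n (algMap Y₀ (ψ.comp (IsScalarTower.toAlgHom (Gam Y₀) Q (Localization.Away f₀))))) a₂ := by
  let P := (pbn p n (algObj Y₀ Q)).left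
  have hw : pl t G a₁ ≫ G.hom = pl t G a₂ ≫ G.hom := by rw [pl_w, pl_w]
  let pair : P ⟶ pullback G.hom G.hom := pullback.lift (pl t G a₁) (pl t G a₂) hw
  let e : pullback (pullback.diagonal G.hom) pair ⟶ P := pullback.snd _ _
  haveI : LocallyOfFinitePresentation (pullback.diagonal G.hom) := by
    haveI : LocallyOfFinitePresentation (pullback.diagonal G.hom ≫ pullback.fst G.hom G.hom) := by
      rw [pullback.diagonal_fst]; infer_instance
    exact LimDesc.lfp_of_comp _ (pullback.fst G.hom G.hom)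
  haveI : IsImmersion e := MorphismProperty.pullback_snd _ _ inferInstance
  haveI : LocallyOfFinitePresentation e := MorphismProperty.pullback_snd _ _ ‹_›
  have hfac : ∀ {W : Scheme.{u}} (h : W ⟶ P), (∃ h', h' ≫ e = h) ↔ h ≫ pl t G a₁ = h ≫ pl t G a₂ := by
    intro W h
    constructor
    · rintro ⟨h', rfl⟩
      have e1 := congrArg (fun m => h' ≫ m ≫ pullback.fst G.hom G.hom)
        (pullback.condition (f := pullback.diagonal G.hom) (g := pair))
      have e2 := congrArg (fun m => h' ≫ m ≫ pullback.snd G.hom G.hom)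
        (pullback.condition (f := pullback.diagonal G.hom) (g := pair))
      simp only [pair, Category.assoc, pullback.diagonal_fst, pullback.diagonal_snd, pullback.lift_fst, pullback.lift_snd,
        Category.comp_id] at e1 e2
      simp only [e, Category.assoc]
      exact e1.symm.trans e2
    · intro he
      refine ⟨pullback.lift (h ≫ pl t G a₁) h ?_, pullback.lift_snd _ _ _⟩
      apply pullback.hom_ext <;> simp [pair, he]
  let Ω : P.Opens := ⟨coborder (Set.range e), e.isLocallyClosed_range.isOpen_coborder⟩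
  let pr : P ⟶ Spec (CommRingCat.of Q) := (pbnPr p n (algObj Y₀ Q)).left
  haveI : IsFinite pr := isFinite_pbnPr p n (algObj Y₀ Q)
  let qK : PrimeSpectrum Q := (algMap Y₀ ψK).left (default : Spec (CommRingCat.of K))
  have hq : qK ∉ pr '' (Ω : Set P)ᶜ := by
    rintro ⟨w, hw, hwq⟩
    have hmem : w ∈ Set.range (pbnMap p n (algMap Y₀ ψK)).left := by
      rw [range_pbnMap]
      exact ⟨_, hwq.symm⟩
    obtain ⟨u, rfl⟩ := hmem
    obtain ⟨h', hh'⟩ := (hfac _).mpr (congrArg (pl t G) hK)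
    exact hw (subset_coborder ⟨h' u, congr($hh' u)⟩)
  obtain ⟨_, ⟨f₀, rfl⟩, hqf, hf₀⟩ := PrimeSpectrum.isTopologicalBasis_basic_opens.exists_subset_of_mem_open
    (show qK ∈ (pr '' (Ω : Set P)ᶜ)ᶜ from hq) ((pr.isClosedMap _ Ω.2.isClosed_compl).isOpen_compl)
  have hunit : IsUnit (ψK f₀) := by
    rw [isUnit_iff_ne_zero]
    intro h0
    refine hqf ?_
    change (ψK : Q →+* K) f₀ ∈ PrimeSpectrum.asIdeal (R := K) (default : Spec (CommRingCat.of K))
    rw [show (ψK : Q →+* K) f₀ = 0 from h0]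
    exact zero_mem _
  refine ⟨f₀, hunit, ?_⟩
  let Q₁ := Localization.Away f₀
  let loc : Q →ₐ[Gam Y₀] Q₁ := IsScalarTower.toAlgHom (Gam Y₀) Q Q₁
  let m := (pbnMap p n (algMap Y₀ loc)).left
  have hm : ∀ w, m w ∈ Ω := fun w => by
    by_contra hw
    refine hf₀ ?_ ⟨m w, hw, rfl⟩
    have e0 := congrArg Over.Hom.left (pbnPr_natural p n (algMap Y₀ loc))
    rw [Over.comp_left, Over.comp_left] at e0
    have e1 : pr (m w) = (algMap Y₀ loc).left ((pbnPr p n (algObj Y₀ Q₁)).left w) := congr($e0 w)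
    let v : PrimeSpectrum Q₁ := (pbnPr p n (algObj Y₀ Q₁)).left w
    change pr (m w) ∈ PrimeSpectrum.basicOpen f₀
    rw [e1]
    change algebraMap Q Q₁ f₀ ∉ v.asIdeal
    exact fun hmem => v.isPrime.ne_top (Ideal.eq_top_of_isUnit_mem _ hmem (IsLocalization.Away.algebraMap_isUnit f₀))
  let e₁ : pullback e m ⟶ (pbn p n (algObj Y₀ Q₁)).left := pullback.snd e m
  haveI : IsImmersion e₁ := MorphismProperty.pullback_snd _ _ ‹_›
  haveI : LocallyOfFinitePresentation e₁ := MorphismProperty.pullback_snd _ _ ‹_›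
  haveI : IsClosedImmersion e₁ := IsClosedImmersion.of_isPreimmersion _ (by
    rw [Scheme.Pullback.range_snd, show m ⁻¹' Set.range e = m ⁻¹' closure (Set.range e) from ?_]
    · exact isClosed_closure.preimage m.continuous
    · ext w
      refine ⟨fun h => subset_closure h, fun h => ?_⟩
      change m w ∈ Set.range e
      rw [← closure_inter_coborder (s := Set.range e)]
      exact ⟨h, hm w⟩)
  obtain ⟨J, hJ, hJe⟩ := exists_cut p φ b hb Y₀ n e₁
  refine ⟨J, hJ, fun B _ _ ψ => ?_⟩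
  rw [← hJe B ψ, algMap_comp, pbnMap_comp]
  constructor
  · rintro ⟨h, hh⟩
    refine pts_ext ?_
    rw [pl_rP, pl_rP]
    exact (hfac _).mp ⟨h ≫ pullback.fst e m, by
      rw [Category.assoc, pullback.condition, ← Category.assoc, hh]; rfl⟩
  · intro h
    obtain ⟨h', hh'⟩ := (hfac _).mpr (congrArg (pl t G) h)
    exact ⟨pullback.lift h' _ hh', pullback.lift_snd _ _ _⟩

include hb in
/-- The algebra of solutions is smooth. -/
theorem smooth_sol [Surjective p] (C : UnitChart t G) (n : ℕ) (r : LinForm p)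
    (hr : letI := (p.appTop).hom.toAlgebra; r 1 = 1)
    (c : Pts t G (pbn p (n + 1) Y₀)) (hc : dPt t G p (n + 1) Y₀ c = 0)
    {Q : Type u} [CommRing Q] [Algebra (Gam Y₀) Q] [Algebra.FinitePresentation (Gam Y₀) Q]
    (xu : Pts t G (pbn p n (algObj Y₀ Q)))
    (hlift : ∀ (B : Type u) [CommRing B] [Algebra (Gam Y₀) B] (I : Ideal B), I ^ 2 = ⊥ →
      ∀ ψ₀ : Q →ₐ[Gam Y₀] B ⧸ I,
        (∃ x', rP t G (pbnMap p n (algMap Y₀ (Ideal.Quotient.mkₐ (Gam Y₀) I))) x' =
          rP t G (pbnMap p n (algMap Y₀ ψ₀)) xu) ∧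
        ∀ x, rP t G (pbnMap p n (algMap Y₀ (Ideal.Quotient.mkₐ (Gam Y₀) I))) x =
          rP t G (pbnMap p n (algMap Y₀ ψ₀)) xu →
          ∃ ψ : Q →ₐ[Gam Y₀] B, (Ideal.Quotient.mkₐ (Gam Y₀) I).comp ψ = ψ₀ ∧
            rP t G (pbnMap p n (algMap Y₀ ψ)) xu = x)
    (f₀ : Q) (J : Ideal (Localization.Away f₀)) (hJ : J.FG)
    (hJ' : ∀ (B : Type u) [CommRing B] [Algebra (Gam Y₀) B] (ψ : Localization.Away f₀ →ₐ[Gam Y₀] B),
      J ≤ RingHom.ker ψ.toRingHom ↔
        dPt t G p n (algObj Y₀ B)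
          (rP t G (pbnMap p n (algMap Y₀ (ψ.comp (IsScalarTower.toAlgHom (Gam Y₀) Q (Localization.Away f₀))))) xu) =
          rP t G (pbnMap p (n + 1) (algStr Y₀ B)) c) :
    Algebra.Smooth (Gam Y₀) (Localization.Away f₀ ⧸ J) := by
  haveI : Algebra.FinitePresentation Q (Localization.Away f₀) := IsLocalization.Away.finitePresentation f₀
  haveI : Algebra.FinitePresentation (Gam Y₀) (Localization.Away f₀) :=
    Algebra.FinitePresentation.trans (Gam Y₀) Q (Localization.Away f₀)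
  refine { formallySmooth := Algebra.FormallySmooth.of_comp_surjective fun B _ _ I hI f => ?_,
           finitePresentation := Algebra.FinitePresentation.quotient hJ }
  let loc := IsScalarTower.toAlgHom (Gam Y₀) Q (Localization.Away f₀)
  let mk := Ideal.Quotient.mkₐ (Gam Y₀) I
  let ψ₁ : Localization.Away f₀ →ₐ[Gam Y₀] B ⧸ I := f.comp (Ideal.Quotient.mkₐ (Gam Y₀) J)
  let ψ₀ := ψ₁.comp loc
  have hs₀ : dPt t G p n (algObj Y₀ (B ⧸ I)) (rP t G (pbnMap p n (algMap Y₀ ψ₀)) xu) =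
      rP t G (pbnMap p (n + 1) (algStr Y₀ (B ⧸ I))) c := (hJ' _ ψ₁).mp fun j hj => by
    change f (Ideal.Quotient.mk J j) = 0
    rw [Ideal.Quotient.eq_zero_iff_mem.mpr hj, map_zero]
  obtain ⟨⟨x', hx'⟩, hl⟩ := hlift B I hI ψ₀
  obtain ⟨x, hx, hxx⟩ := exists_lift_pts_sol p C r hr n inferInstance inferInstance _ (sqZero_algMap Y₀ I hI)
    (rP t G (pbnMap p (n + 1) (algStr Y₀ B)) c) (by rw [← dPt_natural, hc, map_zero]) x' (by
      rw [hx', rP_rP, ← pbnMap_comp, algMap_str]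
      exact hs₀)
  obtain ⟨ψ', hred, hψ'⟩ := hl x (hxx.trans hx')
  have hunit : IsUnit (ψ' f₀) := isUnit_of_isUnit_quotient hI (by
    have := (IsLocalization.Away.algebraMap_isUnit (S := Localization.Away f₀) f₀).map ψ₁
    rw [show Ideal.Quotient.mk I (ψ' f₀) = ψ₀ f₀ from DFunLike.congr_fun hred f₀]
    exact this)
  let ψ₁' : Localization.Away f₀ →ₐ[Gam Y₀] B :=
    IsLocalization.liftAlgHom (M := Submonoid.powers f₀) (f := ψ') (by
      rintro ⟨_, k, rfl⟩
      simpa only [map_pow] using hunit.pow k)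
  have hψ₁' : ψ₁'.comp loc = ψ' := AlgHom.ext fun a => IsLocalization.lift_eq _ a
  have hker : J ≤ RingHom.ker ψ₁'.toRingHom := (hJ' B ψ₁').mpr (by
    change dPt t G p n _ (rP t G (pbnMap p n (algMap Y₀ (ψ₁'.comp loc))) xu) = _
    rw [hψ₁', hψ']
    exact hx)
  refine ⟨Ideal.Quotient.liftₐ J ψ₁' fun a ha => hker ha, Ideal.Quotient.algHom_ext _ ?_⟩
  refine IsLocalization.algHom_ext (Submonoid.powers f₀) (AlgHom.ext fun a => ?_)
  change mk (ψ₁' (loc a)) = ψ₀ a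
  rw [← AlgHom.comp_apply ψ₁', hψ₁']
  exact DFunLike.congr_fun hred a

end Res

variable [Flat p] [LocallyOfFinitePresentation p] [Surjective p]

/-- A smooth algebra of solutions with a given geometric point. -/
theorem exists_smooth_sol (C : UnitChart t G) (n : ℕ) (Y₀ : Over T) [IsAffine Y₀.left]
    (c : Pts t G (pbn p (n + 1) Y₀)) (hc : dPt t G p (n + 1) Y₀ c = 0)
    (K : Type u) [Field K] [Algebra (Gam Y₀) K] (x₀ : Pts t G (pbn p n (algObj Y₀ K)))
    (hx₀ : dPt t G p n (algObj Y₀ K) x₀ = rP t G (pbnMap p (n + 1) (algStr Y₀ K)) c) :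
    ∃ (Q : Type u) (_ : CommRing Q) (_ : Algebra (Gam Y₀) Q), Algebra.Smooth (Gam Y₀) Q ∧
      Nonempty (Q →ₐ[Gam Y₀] K) ∧ ∃ x : Pts t G (pbn p n (algObj Y₀ Q)),
        dPt t G p n (algObj Y₀ Q) x = rP t G (pbnMap p (n + 1) (algStr Y₀ Q)) c := by
  obtain ⟨d, φ, b, r, hb, hr⟩ := exists_split p
  obtain ⟨Q₀, _, _, hQ₀, xu, ψK, hψK, hlift⟩ := exists_res_pts p φ b hb Y₀ C n K x₀
  haveI := hQ₀
  have hc₂ : ∀ (B : Type u) [CommRing B] [Algebra (Gam Y₀) B] (ψ : Q₀ →ₐ[Gam Y₀] B),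
      rP t G (pbnMap p (n + 1) (algMap Y₀ ψ)) (rP t G (pbnMap p (n + 1) (algStr Y₀ Q₀)) c) =
        rP t G (pbnMap p (n + 1) (algStr Y₀ B)) c := fun B _ _ ψ => by
    rw [rP_rP, ← pbnMap_comp, algMap_str]
  obtain ⟨f₀, hf₀, J, hJ, hJ'⟩ := exists_eq_locus p φ b hb Y₀ (n + 1) K ψK (dPt t G p n (algObj Y₀ Q₀) xu)
    (rP t G (pbnMap p (n + 1) (algStr Y₀ Q₀)) c) (by rw [dPt_natural, hψK, hx₀, hc₂])
  have hJ'' : ∀ (B : Type u) [CommRing B] [Algebra (Gam Y₀) B] (ψ : Localization.Away f₀ →ₐ[Gam Y₀] B),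
      J ≤ RingHom.ker ψ.toRingHom ↔
        dPt t G p n (algObj Y₀ B)
          (rP t G (pbnMap p n (algMap Y₀ (ψ.comp (IsScalarTower.toAlgHom (Gam Y₀) Q₀ (Localization.Away f₀))))) xu) =
          rP t G (pbnMap p (n + 1) (algStr Y₀ B)) c := fun B _ _ ψ => by
    rw [hJ' B ψ, ← dPt_natural, hc₂]
  let ψK₁ : Localization.Away f₀ →ₐ[Gam Y₀] K :=
    IsLocalization.liftAlgHom (M := Submonoid.powers f₀) (f := ψK) (by
      rintro ⟨_, k, rfl⟩
      simpa only [map_pow] using hf₀.pow k)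
  have hψK₁ : ψK₁.comp (IsScalarTower.toAlgHom (Gam Y₀) Q₀ (Localization.Away f₀)) = ψK :=
    AlgHom.ext fun a => IsLocalization.lift_eq _ a
  have hkerK : J ≤ RingHom.ker ψK₁.toRingHom := (hJ'' K ψK₁).mpr (by rw [hψK₁, hψK, hx₀])
  refine ⟨Localization.Away f₀ ⧸ J, _, _, smooth_sol p φ b hb Y₀ C n r hr c hc xu hlift f₀ J hJ hJ'',
    ⟨Ideal.Quotient.liftₐ J ψK₁ fun a ha => hkerK ha⟩, _,
    (hJ'' (Localization.Away f₀ ⧸ J) (Ideal.Quotient.mkₐ (Gam Y₀) J)).mp fun j hj =>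
      Ideal.Quotient.eq_zero_iff_mem.mpr hj⟩

/-- Smooth algebras with a geometric point over a point give étale neighbourhoods mapping to them. -/
lemma exists_etale_to_alg (Y₀ : Over T) [IsAffine Y₀.left] (z : Y₀.left)
    (Q : Type u) [CommRing Q] [Algebra (Gam Y₀) Q] [Algebra.Smooth (Gam Y₀) Q]
    (K : Type u) [Field K] [Algebra (Gam Y₀) K] (f : Q →ₐ[Gam Y₀] K)
    (hK : RingHom.ker (algebraMap (Gam Y₀) K) = PrimeSpectrum.asIdeal (Y₀.left.isoSpec.hom z : PrimeSpectrum (Gam Y₀))) :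
    ∃ (U : Over T) (k : U ⟶ Y₀) (h : U ⟶ algObj Y₀ Q), h ≫ algStr Y₀ Q = k ∧ Etale k.left ∧ z ∈ Set.range k.left := by
  haveI : Smooth (Spec.map (CommRingCat.ofHom (algebraMap (Gam Y₀) Q))) := by
    rw [HasRingHomProperty.Spec_iff (P := @Smooth)]
    exact RingHom.smooth_algebraMap.mpr inferInstance
  let a := algStr Y₀ Q
  haveI : Smooth a.left := inferInstanceAs (Smooth (Spec.map _ ≫ Y₀.left.isoSpec.inv))
  let x : PrimeSpectrum Q := ⟨RingHom.ker (f : Q →+* K), RingHom.ker_isPrime _⟩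
  have hx : a.left x = z := by
    have e : Spec.map (CommRingCat.ofHom (algebraMap (Gam Y₀) Q)) x = Y₀.left.isoSpec.hom z := by
      refine PrimeSpectrum.ext ?_
      change (RingHom.ker (f : Q →+* K)).comap (algebraMap (Gam Y₀) Q) = _
      rw [RingHom.comap_ker, f.comp_algebraMap, hK]
    change Y₀.left.isoSpec.inv (Spec.map (CommRingCat.ofHom (algebraMap (Gam Y₀) Q)) x) = z
    rw [e]
    exact congr($(Y₀.left.isoSpec.hom_inv_id) z)
  obtain ⟨S', g, s', hg, hs', h, hh⟩ := Groth.Agent.SmSect.exists_etale_section a.left x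
  exact ⟨Over.mk (g ≫ Y₀.hom), Over.homMk g, Over.homMk h (by
      change h ≫ a.left ≫ Y₀.hom = g ≫ Y₀.hom
      rw [reassoc_of% hh]), Over.OverMorphism.ext hh, hg, s', hs'.trans hx⟩

/-- Cocycles are coboundaries étale locally. -/
theorem exists_etale_pts_sol (C : UnitChart t G) (n : ℕ) (Y₀ : Over T) [IsAffine Y₀.left]
    (c : Pts t G (pbn p (n + 1) Y₀)) (hc : dPt t G p (n + 1) Y₀ c = 0) (z : Y₀.left) :
    ∃ (U : Over T) (k : U ⟶ Y₀) (x : Pts t G (pbn p n U)),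
      dPt t G p n U x = rP t G (pbnMap p (n + 1) k) c ∧ Etale k.left ∧ z ∈ Set.range k.left := by
  obtain ⟨K, _, _, _, hK⟩ : ∃ (K : Type u) (_ : Field K) (_ : IsAlgClosed K) (_ : Algebra (Gam Y₀) K),
      RingHom.ker (algebraMap (Gam Y₀) K) = PrimeSpectrum.asIdeal (Y₀.left.isoSpec.hom z : PrimeSpectrum (Gam Y₀)) := by
    let q : PrimeSpectrum (Gam Y₀) := Y₀.left.isoSpec.hom z
    refine ⟨AlgebraicClosure q.asIdeal.ResidueField, inferInstance, inferInstance, inferInstance, ?_⟩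
    rw [IsScalarTower.algebraMap_eq (Gam Y₀) q.asIdeal.ResidueField,
      RingHom.ker_comp_of_injective _ (algebraMap q.asIdeal.ResidueField _).injective,
      Ideal.ker_algebraMap_residueField]
  let YK : Over T := algObj Y₀ K
  obtain ⟨v, hv⟩ := p.surjective (YK.hom (default : Spec (CommRingCat.of K)))
  obtain ⟨⟨l, hl⟩, -⟩ := EtIntegral.exists_lift_of_point p YK.hom v hv
  obtain ⟨x₀, hx₀⟩ := exists_pts_bd_of_point t G (Y := YK) l hl n (rP t G (pbnMap p (n + 1) (algStr Y₀ K)) c)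
    (by rw [← dPt_natural, hc, map_zero])
  obtain ⟨Q, _, _, hQ, ⟨f⟩, x, hx⟩ := exists_smooth_sol p C n Y₀ c hc K x₀ hx₀
  haveI := hQ
  obtain ⟨U, k, h, hk, he, hz⟩ := exists_etale_to_alg Y₀ z Q K f hK
  refine ⟨U, k, rP t G (pbnMap p n h) x, ?_, he, hz⟩
  rw [← dPt_natural, hx, rP_rP, ← pbnMap_comp, hk]

end Groth.Agent.BigSiteLib
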