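import Groth.Prelude.Def_BigSite2
import Groth.Agent.AdeqLib.SiteInst

/-!
The extension to all objects of the sections of a big-site module on flat objects.
-/

set_option autoImplicit false
set_option linter.style.haveILetI false
set_option backward.isDefEq.respectTransparency false
set_option backward.isDefEq.respectTransparency.types false
universe u

noncomputable section

namespace Groth.Agent.BigSiteLib.SqExt

open CategoryTheory Limits Opposite AlgebraicGeometry

local notation "Kf" => Scheme.fppfPrecoverage

variable {T : Scheme.{u}}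

/-- Functions on an object. -/
abbrev Rg (U : Over T) : RingCat.{u + 1} := (BigSite.ORing Scheme.fppfPrecoverage T).obj.obj (op U)

/-- Restriction of functions. -/
abbrev rr {U U' : Over T} (g : U' ⟶ U) : Rg U →+* Rg U' :=
  ((BigSite.ORing Scheme.fppfPrecoverage T).obj.map g.op).hom

instance (U : Over T) : CommRing (Rg U) := inferInstanceAs (CommRing (ULift.{u + 1} Γ(U.left, ⊤)))

lemma rr_rr {U U' U'' : Over T} (g : U' ⟶ U) (h : U'' ⟶ U') (r : Rg U) : rr h (rr g r) = rr (h ≫ g) r :=
  (ConcreteCategory.congr_hom ((BigSite.ORing Scheme.fppfPrecoverage T).obj.map_comp g.op h.op) r).symm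

lemma rr_id (U : Over T) (r : Rg U) : rr (𝟙 U) r = r :=
  ConcreteCategory.congr_hom ((BigSite.ORing Scheme.fppfPrecoverage T).obj.map_id (op U)) r

variable (N : BigSite.Mod Scheme.fppfPrecoverage T)

/-- Restriction of sections. -/
abbrev mr {U U' : Over T} (g : U' ⟶ U) : N.val.obj (op U) →+ N.val.obj (op U') :=
  (N.val.presheaf.map g.op).hom

lemma mr_mr {U U' U'' : Over T} (g : U' ⟶ U) (h : U'' ⟶ U') (x : N.val.obj (op U)) :
    mr N h (mr N g x) = mr N (h ≫ g) x :=
  (ConcreteCategory.congr_hom (N.val.presheaf.map_comp g.op h.op) x).symm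

lemma mr_id (U : Over T) (x : N.val.obj (op U)) : mr N (𝟙 U) x = x :=
  ConcreteCategory.congr_hom (N.val.presheaf.map_id (op U)) x

lemma mr_smul {U U' : Over T} (g : U' ⟶ U) (r : Rg U) (x : N.val.obj (op U)) :
    mr N g (r • x) = rr g r • mr N g x :=
  N.val.map_smul g.op r x

/-- Sections on flat objects under an object. -/
structure Gen (U : Over T) : Type (u + 1) where
  W : Over T
  flat : Flat W.hom
  g : U ⟶ W
  x : N.val.obj (op W)

/-- The free module on such sections. -/
abbrev FU (U : Over T) : Type (u + 1) := Gen N U →₀ Rg U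

/-- The relations. -/
inductive IsRel (U : Over T) : FU N U → Prop
  | add (W : Over T) (h : Flat W.hom) (g : U ⟶ W) (x y : N.val.obj (op W)) :
      IsRel U (Finsupp.single ⟨W, h, g, x + y⟩ 1 - Finsupp.single ⟨W, h, g, x⟩ 1 - Finsupp.single ⟨W, h, g, y⟩ 1)
  | smul (W : Over T) (h : Flat W.hom) (g : U ⟶ W) (r : Rg W) (x : N.val.obj (op W)) :
      IsRel U (Finsupp.single ⟨W, h, g, r • x⟩ 1 - Finsupp.single ⟨W, h, g, x⟩ (rr g r))
  | res (W W' : Over T) (h : Flat W.hom) (h' : Flat W'.hom) (g : U ⟶ W) (k : W ⟶ W') (x : N.val.obj (op W')) :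
      IsRel U (Finsupp.single ⟨W', h', g ≫ k, x⟩ 1 - Finsupp.single ⟨W, h, g, mr N k x⟩ 1)

/-- The span of the relations. -/
def Rel (U : Over T) : Submodule (Rg U) (FU N U) := Submodule.span (Rg U) {p | IsRel N U p}

/-- The sections of the extension. -/
abbrev PU (U : Over T) : Type (u + 1) := FU N U ⧸ Rel N U

/-- Precomposition. -/
def pre {U U' : Over T} (g : U' ⟶ U) (e : Gen N U) : Gen N U' := ⟨e.W, e.flat, g ≫ e.g, e.x⟩

/-- Restriction on free modules. -/
def fmap {U U' : Over T} (g : U' ⟶ U) : FU N U →ₛₗ[rr g] FU N U' where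
  toFun := Finsupp.liftAddHom fun e => (Finsupp.singleAddHom (pre N g e)).comp (rr g).toAddMonoidHom
  map_add' := map_add _
  map_smul' r p := by
    induction p using Finsupp.induction_linear with
    | zero => simp
    | add a b ha hb => simp only [smul_add, map_add, ha, hb]
    | single e c => simp [Finsupp.smul_single, map_mul]

lemma fmap_single {U U' : Over T} (g : U' ⟶ U) (e : Gen N U) (c : Rg U) :
    fmap N g (Finsupp.single e c) = Finsupp.single (pre N g e) (rr g c) :=
  Finsupp.liftAddHom_apply_single _ e c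

lemma rel_le {U U' : Over T} (g : U' ⟶ U) : Rel N U ≤ (Rel N U').comap (fmap N g) := by
  refine Submodule.span_le.mpr fun p hp => ?_
  refine Submodule.subset_span ?_
  induction hp with
  | add W h k x y =>
    simp only [map_sub, fmap_single, pre, map_one]
    exact IsRel.add W h _ x y
  | smul W h k r x =>
    simp only [map_sub, fmap_single, pre, map_one, rr_rr]
    exact IsRel.smul W h _ r x
  | res W W' h h' k l x =>
    simp only [map_sub, fmap_single, pre, map_one, ← Category.assoc]
    exact IsRel.res W W' h h' _ l x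

/-- Restriction of the extension. -/
def pmap {U U' : Over T} (g : U' ⟶ U) : PU N U →ₛₗ[rr g] PU N U' :=
  Submodule.mapQ _ _ (fmap N g) (rel_le N g)

lemma pmap_mk {U U' : Over T} (g : U' ⟶ U) (p : FU N U) :
    pmap N g (Submodule.Quotient.mk p) = Submodule.Quotient.mk (fmap N g p) := rfl

lemma fmap_id (U : Over T) (p : FU N U) : fmap N (𝟙 U) p = p := by
  induction p using Finsupp.induction_linear with
  | zero => simp
  | add a b ha hb => simp only [map_add, ha, hb]
  | single e c =>
    rw [fmap_single, rr_id]
    simp [pre]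

lemma fmap_fmap {U U' U'' : Over T} (g : U' ⟶ U) (h : U'' ⟶ U') (p : FU N U) :
    fmap N h (fmap N g p) = fmap N (h ≫ g) p := by
  induction p using Finsupp.induction_linear with
  | zero => simp
  | add a b ha hb => simp only [map_add, ha, hb]
  | single e c =>
    rw [fmap_single, fmap_single, fmap_single, rr_rr]
    simp [pre]

/-- The underlying presheaf of the extension. -/
def preAb : (Over T)ᵒᵖ ⥤ AddCommGrpCat.{u + 1} where
  obj U := AddCommGrpCat.of (PU N U.unop)
  map g := AddCommGrpCat.ofHom (pmap N g.unop).toAddMonoidHom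
  map_id U := by
    ext z
    obtain ⟨p, rfl⟩ := Submodule.Quotient.mk_surjective _ z
    exact congrArg Submodule.Quotient.mk (fmap_id N U.unop p)
  map_comp g h := by
    ext z
    obtain ⟨p, rfl⟩ := Submodule.Quotient.mk_surjective _ z
    exact congrArg Submodule.Quotient.mk (fmap_fmap N g.unop h.unop p).symm

instance (U : (Over T)ᵒᵖ) : Module ((BigSite.ORing Scheme.fppfPrecoverage T).obj.obj U) ((preAb N).obj U) :=
  inferInstanceAs (Module (Rg U.unop) (PU N U.unop))

/-- The extension as a presheaf of modules. -/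
def Pre : PresheafOfModules.{u + 1} (BigSite.ORing Scheme.fppfPrecoverage T).obj :=
  PresheafOfModules.ofPresheaf (preAb N) fun _ _ g r x => (pmap N g.unop).map_smulₛₗ r x

/-- Evaluation of sections. -/
def ev (U : Over T) : FU N U →ₗ[Rg U] N.val.obj (op U) :=
  Finsupp.linearCombination (Rg U) fun e => mr N e.g e.x

lemma rel_le_ev (U : Over T) : Rel N U ≤ LinearMap.ker (ev N U) := by
  refine Submodule.span_le.mpr fun p hp => ?_
  change ev N U p = 0
  induction hp with
  | add W h k x y => simp [ev, map_add]
  | smul W h k r x => simp [ev, mr_smul]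
  | res W W' h h' k l x => simp [ev, mr_mr]

/-- Evaluation on the extension. -/
def pev (U : Over T) : PU N U →ₗ[Rg U] N.val.obj (op U) := (Rel N U).liftQ (ev N U) (rel_le_ev N U)

lemma ev_natural {U U' : Over T} (g : U' ⟶ U) (p : FU N U) : ev N U' (fmap N g p) = mr N g (ev N U p) := by
  induction p using Finsupp.induction_linear with
  | zero => simp
  | add a b ha hb => simp only [map_add, ha, hb]
  | single e c => simp [ev, fmap_single, pre, mr_smul, mr_mr]

/-- Evaluation as a map of presheaves of modules. -/
def evHom : Pre N ⟶ N.val :=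
  PresheafOfModules.homMk
    { app := fun U => AddCommGrpCat.ofHom (pev N U.unop).toAddMonoidHom
      naturality := fun U U' g => by
        ext z
        obtain ⟨p, rfl⟩ := Submodule.Quotient.mk_surjective _ z
        exact ev_natural N g.unop p }
    fun U r z => (pev N U.unop).map_smul r z

lemma evHom_app (U : Over T) (p : FU N U) :
    (evHom N).app (op U) (Submodule.Quotient.mk p : PU N U) = ev N U p := rfl

/-- The class of a section on a flat object. -/
def cls {U W : Over T} (h : Flat W.hom) (g : U ⟶ W) : N.val.obj (op W) →ₛₗ[rr g] PU N U where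
  toFun x := Submodule.Quotient.mk (Finsupp.single ⟨W, h, g, x⟩ 1)
  map_add' x y := by
    rw [← Submodule.Quotient.mk_add, Submodule.Quotient.eq, ← sub_sub]
    exact Submodule.subset_span (IsRel.add W h g x y)
  map_smul' r x := by
    rw [← Submodule.Quotient.mk_smul, Finsupp.smul_single, smul_eq_mul, mul_one, Submodule.Quotient.eq]
    exact Submodule.subset_span (IsRel.smul W h g r x)

lemma cls_res {U W W' : Over T} (h : Flat W.hom) (h' : Flat W'.hom) (g : U ⟶ W) (k : W ⟶ W') (x : N.val.obj (op W')) :
    cls N h' (g ≫ k) x = cls N h g (mr N k x) :=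
  (Submodule.Quotient.eq _).mpr (Submodule.subset_span (IsRel.res W W' h h' g k x))

lemma pmap_cls {U U' W : Over T} (h : Flat W.hom) (g : U ⟶ W) (k : U' ⟶ U) (x : N.val.obj (op W)) :
    pmap N k (cls N h g x) = cls N h (k ≫ g) x := by
  refine (pmap_mk N k _).trans ?_
  rw [fmap_single, map_one]
  rfl

lemma mk_single {U : Over T} (e : Gen N U) (c : Rg U) :
    (Submodule.Quotient.mk (Finsupp.single e c) : PU N U) = c • cls N e.flat e.g e.x := by
  change _ = c • Submodule.Quotient.mk (Finsupp.single e 1)
  rw [← Submodule.Quotient.mk_smul, Finsupp.smul_single, smul_eq_mul, mul_one]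

lemma pev_bijective (U : Over T) (hU : Flat U.hom) : Function.Bijective (pev N U) := by
  have key : ∀ z, cls N hU (𝟙 U) (pev N U z) = z := fun z => by
    obtain ⟨p, rfl⟩ := Submodule.Quotient.mk_surjective _ z
    change cls N hU (𝟙 U) (ev N U p) = _
    induction p using Finsupp.induction_linear with
    | zero => simp
    | add a b ha hb => simp only [map_add, Submodule.Quotient.mk_add, ha, hb]
    | single e c =>
      rw [mk_single, ev, Finsupp.linearCombination_single, LinearMap.map_smulₛₗ, rr_id, ← cls_res N hU e.flat,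
        Category.id_comp]
  refine ⟨fun a b h => by rw [← key a, h, key b], fun y => ⟨cls N hU (𝟙 U) y, ?_⟩⟩
  change ev N U (Finsupp.single _ 1) = y
  simp [ev, mr_id]

/-- The quasi-coherent extension. -/
def Ext : BigSite.Mod Scheme.fppfPrecoverage T :=
  (PresheafOfModules.sheafification (𝟙 (BigSite.ORing Scheme.fppfPrecoverage T).obj)).obj (Pre N)

/-- The map to the extension. -/
def eta : Pre N ⟶ (Ext N).val :=
  (PresheafOfModules.sheafificationAdjunction (𝟙 (BigSite.ORing Scheme.fppfPrecoverage T).obj)).unit.app (Pre N)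

instance : Presheaf.IsLocallySurjective (QuotSh.J Scheme.fppfPrecoverage T)
    ((PresheafOfModules.toPresheaf _).map (eta N)) :=
  inferInstanceAs (Presheaf.IsLocallySurjective (QuotSh.J Scheme.fppfPrecoverage T)
    (CategoryTheory.toSheafify (QuotSh.J Scheme.fppfPrecoverage T) (Pre N).presheaf))

instance : Presheaf.IsLocallyInjective (QuotSh.J Scheme.fppfPrecoverage T)
    ((PresheafOfModules.toPresheaf _).map (eta N)) :=
  inferInstanceAs (Presheaf.IsLocallyInjective (QuotSh.J Scheme.fppfPrecoverage T)
    (CategoryTheory.toSheafify (QuotSh.J Scheme.fppfPrecoverage T) (Pre N).presheaf))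

/-- Evaluation on the extension. -/
def eps : Ext N ⟶ N :=
  ((PresheafOfModules.sheafificationAdjunction (𝟙 (BigSite.ORing Scheme.fppfPrecoverage T).obj)).homEquiv
    (Pre N) N).symm (evHom N)

lemma eta_eps : eta N ≫ (eps N).val = evHom N := by
  have h := ((PresheafOfModules.sheafificationAdjunction
    (𝟙 (BigSite.ORing Scheme.fppfPrecoverage T).obj)).homEquiv (Pre N) N).apply_symm_apply (evHom N)
  rw [Adjunction.homEquiv_unit] at h
  exact h

lemma eps_eta_apply (U : Over T) (z : PU N U) :
    (eps N).val.app (op U) ((eta N).app (op U) z) = pev N U z :=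
  congr($(eta_eps N).app (op U) z)

/-- Every covering of a flat object contains one by flat objects. -/
lemma exists_flat_sieve {U : Over T} (hU : Flat U.hom) (S : Sieve U) (hS : S ∈ QuotSh.J Scheme.fppfPrecoverage T U) :
    Sieve.generate (fun V (f : V ⟶ U) => S f ∧ Flat V.hom) ∈ QuotSh.J Scheme.fppfPrecoverage T U := by
  haveI : Scheme.fppfPrecoverage.{u}.HasIsos :=
    haveI : AdeqLib.fppfP.{u}.ContainsIdentities := ⟨fun X => AdeqLib.fppfP_imm (𝟙 X)⟩
    haveI : AdeqLib.fppfP.{u}.RespectsIso :=
      MorphismProperty.respectsIso_of_isStableUnderComposition fun X Y f (hf : IsIso f) => AdeqLib.fppfP_imm f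
    inferInstanceAs ((Scheme.precoverage AdeqLib.fppfP).HasIsos)
  rw [GrothendieckTopology.mem_over_iff, Precoverage.mem_toGrothendieck_iff_of_isStableUnderComposition] at hS
  obtain ⟨R, hR, hle⟩ := hS
  rw [GrothendieckTopology.mem_over_iff]
  refine GrothendieckTopology.superset_covering _ ?_ (Precoverage.generate_mem_toGrothendieck hR)
  rw [Sieve.generate_le_iff]
  intro Z f hf
  rw [Sieve.overEquiv_iff]
  refine Sieve.le_generate _ _ _ (And.intro ((Sieve.overEquiv_iff S f).mp (hle _ f hf)) ?_)
  haveI := hU
  haveI : Flat f := (hR.2 hf).1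
  exact MorphismProperty.comp_mem _ f U.hom ‹_› hU

/-- Sections of modules are determined on coverings. -/
lemma ext_of_sieve (M : BigSite.Mod Scheme.fppfPrecoverage T) {U : Over T} (S : Sieve U)
    (hS : S ∈ QuotSh.J Scheme.fppfPrecoverage T U) {a b : M.val.obj (op U)}
    (h : ∀ ⦃V : Over T⦄ (f : V ⟶ U), S f → mr M f a = mr M f b) : a = b := by
  have hsh : Presieve.IsSheaf (QuotSh.J Scheme.fppfPrecoverage T) (M.val.presheaf ⋙ forget AddCommGrpCat.{u + 1}) :=
    (isSheaf_iff_isSheaf_of_type _ _).mp ((Presheaf.isSheaf_iff_isSheaf_forget _ _ (forget AddCommGrpCat.{u + 1})).mp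
      M.isSheaf)
  exact ((hsh S hS).isSeparatedFor).ext (t₁ := a) (t₂ := b) fun V f hf => h f hf

/-- Evaluation is bijective on flat objects. -/
theorem eps_bijective (U : Over T) (hU : Flat U.hom) : Function.Bijective ((eps N).val.app (op U)) := by
  constructor
  · refine (injective_iff_map_eq_zero ((eps N).val.app (op U)).hom).mpr fun m hm => ?_
    refine ext_of_sieve (Ext N) _ (exists_flat_sieve hU _
      (Presheaf.imageSieve_mem _ ((PresheafOfModules.toPresheaf _).map (eta N)) m)) ?_
    rintro V f ⟨V', a, b, ⟨⟨z, hz⟩, hV'⟩, rfl⟩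
    have hz' : (eta N).app (op V') z = mr (Ext N) b m := hz
    have h0 : pev N V' z = 0 := by
      rw [← eps_eta_apply]
      refine (congrArg ((eps N).val.app (op V')) hz').trans ((PresheafOfModules.naturality_apply _ b.op m).trans ?_)
      change mr N b ((eps N).val.app (op U) m) = 0
      rw [show (eps N).val.app (op U) m = 0 from hm, map_zero]
    have hz0 : z = 0 := (pev_bijective N V' hV').1 (h0.trans (map_zero _).symm)
    have e : mr (Ext N) b m = 0 := by rw [← hz', hz0]; exact map_zero ((eta N).app (op V')).hom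
    rw [map_zero, ← mr_mr, e, map_zero]
  · intro y
    obtain ⟨z, hz⟩ := (pev_bijective N U hU).2 y
    exact ⟨(eta N).app (op U) z, (eps_eta_apply N U z).trans hz⟩

end Groth.Agent.BigSiteLib.SqExt
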