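import Mathlib.Algebra.Category.ModuleCat.Sheaf.Quasicoherent
import Mathlib.Algebra.Category.ModuleCat.Presheaf.Free
import Mathlib.CategoryTheory.Sites.LocallyInjective
import Mathlib.CategoryTheory.Sites.LocallySurjective

/-!
Sections of free sheaves of modules are locally finite combinations of the basis.
-/

set_option autoImplicit false
set_option backward.isDefEq.respectTransparency false
set_option backward.isDefEq.respectTransparency.types false
universe w v₁ u₁

noncomputable section

namespace Groth.Agent.BigSiteLib.SqFree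

open CategoryTheory Limits Opposite

variable {C : Type u₁} [Category.{v₁} C] {J : GrothendieckTopology C} {R : Sheaf J RingCat.{w}}

/-- A finite combination of sections. -/
def lc {M : SheafOfModules.{w} R} {I : Type w} (s : I → M.sections) (Y : C) :
    (I →₀ R.obj.obj (op Y)) →ₗ[R.obj.obj (op Y)] M.val.obj (op Y) :=
  Finsupp.linearCombination (R.obj.obj (op Y)) fun i => (s i).val (op Y)

lemma lc_single {M : SheafOfModules.{w} R} {I : Type w} (s : I → M.sections) (Y : C) (i : I) (r : R.obj.obj (op Y)) :
    lc s Y (Finsupp.single i r) = r • (show M.val.obj (op Y) from (s i).val (op Y)) :=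
  Finsupp.linearCombination_single _ _ _

/-- Restriction of coefficients. -/
def cmap {I : Type w} {Y Y' : C} (f : Y' ⟶ Y) : (I →₀ R.obj.obj (op Y)) →+ (I →₀ R.obj.obj (op Y')) :=
  Finsupp.mapRange.addMonoidHom (R.obj.map f.op).hom.toAddMonoidHom

lemma cmap_single {I : Type w} {Y Y' : C} (f : Y' ⟶ Y) (i : I) (r : R.obj.obj (op Y)) :
    cmap f (Finsupp.single i r) = Finsupp.single i (R.obj.map f.op r) := by
  simp [cmap]

lemma map_lc {M : SheafOfModules.{w} R} {I : Type w} (s : I → M.sections) {Y Y' : C} (f : Y' ⟶ Y)
    (c : I →₀ R.obj.obj (op Y)) : M.val.presheaf.map f.op (lc s Y c) = lc s Y' (cmap f c) := by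
  induction c using Finsupp.induction_linear with
  | zero => simp only [map_zero]
  | add a b ha hb => simp only [map_add, ← ha, ← hb]
  | single i r =>
    rw [cmap_single, lc_single, lc_single]
    refine (M.val.map_smul f.op r _).trans ?_
    exact congrArg _ ((s i).property f.op)

lemma app_lc {M M' : SheafOfModules.{w} R} {I : Type w} (s : I → M.sections) (g : M ⟶ M') (Y : C)
    (c : I →₀ R.obj.obj (op Y)) :
    g.val.app (op Y) (lc s Y c) = lc (fun i => SheafOfModules.sectionsMap g (s i)) Y c := by
  induction c using Finsupp.induction_linear with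
  | zero => simp only [map_zero]
  | add a b ha hb => simp only [map_add, ha, hb]
  | single i r => rw [lc_single, lc_single, map_smul]; rfl

variable [HasWeakSheafify J AddCommGrpCat.{w}] [J.WEqualsLocallyBijective AddCommGrpCat.{w}]

/-- A family of sections as a map of presheaves of sets. -/
def famMap {M : PresheafOfModules.{w} R.obj} {I : Type w} (s : I → M.sections) :
    (Functor.const Cᵒᵖ).obj I ⟶ M.presheaf ⋙ forget _ where
  app X := ↾fun i => (s i).val X
  naturality X X' f := by
    ext i
    exact ((s i).property f).symm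

lemma freeObjDesc_famMap {M : SheafOfModules.{w} R} {I : Type w} (s : I → M.sections) (Y : C)
    (c : I →₀ R.obj.obj (op Y)) :
    (PresheafOfModules.freeObjDesc (famMap (M := M.val) fun i => s i)).app (op Y) c = lc s Y c := by
  induction c using Finsupp.induction_linear with
  | zero => simp only [map_zero]
  | add a b ha hb =>
    simp only [map_add, ← ha, ← hb]
  | single i r =>
    rw [lc_single, ← mul_one r, ← smul_eq_mul, ← Finsupp.smul_single]
    refine (map_smul ((PresheafOfModules.freeObjDesc (famMap _)).app (op Y)).hom r (Finsupp.single i 1)).trans ?_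
    rw [smul_eq_mul, mul_one]
    exact congrArg (r • ·) (ModuleCat.freeDesc_apply _ i)

/-- Sections of a free sheaf are locally finite combinations of the basis. -/
theorem exists_local_lc {I : Type w} {Y : C} (z : (SheafOfModules.free (R := R) I).val.obj (op Y)) :
    ∃ S ∈ J Y, ∀ ⦃Y' : C⦄ (f : Y' ⟶ Y), S f → ∃ c : I →₀ R.obj.obj (op Y'),
      (SheafOfModules.free (R := R) I).val.presheaf.map f.op z = lc SheafOfModules.freeSection Y' c := by
  let F := PresheafOfModules.sheafification (𝟙 R.obj)
  let adj := PresheafOfModules.sheafificationAdjunction (𝟙 R.obj)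
  let P : PresheafOfModules.{w} R.obj := PresheafOfModules.freeObj ((Functor.const Cᵒᵖ).obj I)
  let η : P ⟶ (F.obj P).val := adj.unit.app P
  let FI := SheafOfModules.free (R := R) I
  let d : P ⟶ FI.val := PresheafOfModules.freeObjDesc (famMap (M := FI.val) fun i => SheafOfModules.freeSection i)
  let Ψ : F.obj P ⟶ FI := (adj.homEquiv P FI).symm d
  have hΨ : η ≫ Ψ.val = d := by
    have h := (adj.homEquiv P FI).apply_symm_apply d
    rw [Adjunction.homEquiv_unit] at h
    exact h
  let sec : I → (F.obj P).sections := fun i => PresheafOfModules.sectionsMk (fun X => η.app X (ModuleCat.freeMk i))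
    fun X X' f => by
      refine (PresheafOfModules.naturality_apply η f (ModuleCat.freeMk i)).symm.trans ?_
      exact congrArg (η.app X') (ModuleCat.freeDesc_apply _ i)
  let Φ : FI ⟶ F.obj P := (F.obj P).freeHomEquiv.symm sec
  have hid : Φ ≫ Ψ = 𝟙 FI := by
    apply FI.freeHomEquiv.injective
    funext i
    refine (SheafOfModules.freeHomEquiv_comp_apply Φ Ψ i).trans ?_
    rw [Equiv.apply_symm_apply]
    refine Subtype.ext (funext fun X => ?_)
    change Ψ.val.app X (η.app X (ModuleCat.freeMk i)) = _
    refine (congr($(hΨ).app X (ModuleCat.freeMk i))).trans ?_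
    exact ModuleCat.freeDesc_apply _ i
  haveI : Presheaf.IsLocallySurjective J ((PresheafOfModules.toPresheaf _).map η) :=
    inferInstanceAs (Presheaf.IsLocallySurjective J (CategoryTheory.toSheafify J P.presheaf))
  refine ⟨_, Presheaf.imageSieve_mem J ((PresheafOfModules.toPresheaf _).map η) (Φ.val.app (op Y) z), ?_⟩
  rintro Y' f ⟨c, hc⟩
  refine ⟨c, ?_⟩
  rw [← freeObjDesc_famMap]
  change _ = d.app (op Y') c
  rw [← hΨ]
  change _ = Ψ.val.app (op Y') (η.app (op Y') c)
  refine Eq.trans ?_ (congrArg (Ψ.val.app (op Y')) hc).symm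
  refine Eq.trans ?_ (PresheafOfModules.naturality_apply Ψ.val f.op (Φ.val.app (op Y) z)).symm
  refine congrArg (FI.val.presheaf.map f.op) ?_
  exact (congr($(hid).val.app (op Y) z)).symm

end Groth.Agent.BigSiteLib.SqFree
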