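import Groth.Agent.BigSiteLib.SqExtStalk
import Groth.Agent.BigSiteLib.SqFree
import Groth.Agent.AdeqLib.ModBasic

/-!
Quasi-coherence of the extension.
-/

set_option autoImplicit false
set_option linter.style.haveILetI false
set_option backward.isDefEq.respectTransparency false
set_option backward.isDefEq.respectTransparency.types false
universe u

noncomputable section

namespace Groth.Agent.BigSiteLib.SqExt

open CategoryTheory Limits Opposite AlgebraicGeometry
open SqFree (lc lc_single map_lc app_lc cmap)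

variable {T : Scheme.{u}} (N : BigSite.Mod Scheme.fppfPrecoverage T)

/-- A sieve containing a covering by opens is covering. -/
lemma mem_of_opens {U : Over T} (S : Sieve U) (h : ∀ u : U.left, ∃ D : U.left.Opens, u ∈ D ∧ S (opι D)) :
    S ∈ QuotSh.J Scheme.fppfPrecoverage T U := by
  choose D hD hS using h
  rw [GrothendieckTopology.mem_over_iff]
  have hcov : Presieve.ofArrows (fun u => (D u : Scheme.{u})) (fun u => (D u).ι) ∈
      Scheme.fppfPrecoverage.coverings U.left :=
    AdeqLib.fppf_ofArrows_iff.mpr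
      ⟨fun x => ⟨x, ⟨x, hD x⟩, rfl⟩, fun u => AdeqLib.fppfP_imm ((D u).ι)⟩
  refine GrothendieckTopology.superset_covering _ ?_ (Precoverage.generate_mem_toGrothendieck hcov)
  rw [Sieve.generate_le_iff]
  rintro _ _ ⟨u⟩
  exact (Sieve.overEquiv_iff S _).mpr (hS u)

variable (X : Over T)

/-- Functions on objects over the object. -/
abbrev RX : Sheaf ((QuotSh.J Scheme.fppfPrecoverage T).over X) RingCat.{u + 1} :=
  (BigSite.ORing Scheme.fppfPrecoverage T).over X

/-- Combinations of sections over the object. -/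
abbrev lcS {M : SheafOfModules.{u + 1} (RX X)} {I : Type (u + 1)} (s : I → M.sections) (Y : Over X) :
    (I →₀ Rg Y.left) →+ M.val.obj (op Y) :=
  (SqFree.lc (R := RX X) s Y).toAddMonoidHom

lemma map_lcS {M : SheafOfModules.{u + 1} (RX X)} {I : Type (u + 1)} (s : I → M.sections) {Y Y' : Over X}
    (f : Y' ⟶ Y) (c : I →₀ Rg Y.left) : M.val.presheaf.map f.op (lcS X s Y c) = lcS X s Y' (cm f.left c) :=
  SqFree.map_lc (R := RX X) s f c

lemma app_lcS {M M' : SheafOfModules.{u + 1} (RX X)} {I : Type (u + 1)} (s : I → M.sections) (g : M ⟶ M')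
    (Y : Over X) (c : I →₀ Rg Y.left) :
    g.val.app (op Y) (lcS X s Y c) = lcS X (fun i => SheafOfModules.sectionsMap g (s i)) Y c :=
  SqFree.app_lc (R := RX X) s g Y c

/-- Combinations of the basis of a free sheaf over the object. -/
abbrev lcF {I : Type (u + 1)} (Y : Over X) (c : I →₀ Rg Y.left) :
    (SheafOfModules.free (R := RX X) I).val.obj (op Y) :=
  lcS X SheafOfModules.freeSection Y c

/-- The same over a fixed object. -/
lemma mem_over_of_opens {Y : Over X} (S : Sieve Y)
    (h : ∀ u : Y.left.left, ∃ D : Y.left.left.Opens, u ∈ D ∧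
      S (Over.homMk (opι D) rfl : Over.mk (opι D ≫ Y.hom) ⟶ Y)) :
    S ∈ (QuotSh.J Scheme.fppfPrecoverage T).over X Y := by
  rw [GrothendieckTopology.mem_over_iff]
  refine mem_of_opens _ fun u => ?_
  obtain ⟨D, hu, hS⟩ := h u
  exact ⟨D, hu, (Sieve.overEquiv_iff S _).mpr hS⟩

/-- Combinations in the extension. -/
def cmbP {U : Over T} [IsOpenImmersion X.hom] (a : U ⟶ X) : (N.val.obj (op X) →₀ Rg U) →ₗ[Rg U] PU N U :=
  Finsupp.linearCombination (Rg U) fun i => cls N (inferInstance : Flat X.hom) a i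

variable [IsOpenImmersion X.hom]

lemma cmbP_single {U : Over T} (a : U ⟶ X) (i : N.val.obj (op X)) (r : Rg U) :
    cmbP N X a (Finsupp.single i r) = r • cls N (inferInstance : Flat X.hom) a i :=
  Finsupp.linearCombination_single _ _ _

lemma pmap_cmbP {U U' : Over T} (g : U' ⟶ U) (a : U ⟶ X) (c : N.val.obj (op X) →₀ Rg U) :
    pmap N g (cmbP N X a c) = cmbP N X (g ≫ a) (cm g c) := by
  induction c using Finsupp.induction_linear with
  | zero => simp
  | add p q hp hq => simp only [map_add, hp, hq]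
  | single i r => rw [cm_single, cmbP_single, cmbP_single, LinearMap.map_smulₛₗ, pmap_cls]

lemma pev_cmbP {U : Over T} (a : U ⟶ X) (c : N.val.obj (op X) →₀ Rg U) :
    pev N U (cmbP N X a c) = cmb N X a c := by
  induction c using Finsupp.induction_linear with
  | zero => simp
  | add p q hp hq => simp only [map_add, hp, hq]
  | single i r =>
    rw [cmbP_single, map_smul, cmb, Finsupp.linearCombination_single]
    change r • ev N U (Finsupp.single _ 1) = _
    simp [ev]

lemma mk_fsum {U : Over T} (a : U ⟶ X) (c : N.val.obj (op X) →₀ Rg U) :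
    (Submodule.Quotient.mk (c.mapDomain fun i => (⟨X, inferInstance, a, i⟩ : Gen N U)) : PU N U) = cmbP N X a c := by
  induction c using Finsupp.induction_linear with
  | zero => simp
  | add p q hp hq => simp only [Finsupp.mapDomain_add, Submodule.Quotient.mk_add, map_add, hp, hq]
  | single i r => rw [Finsupp.mapDomain_single, mk_single, cmbP_single]

variable {N X} (hN : Good N X)

include hN in
/-- Elements of the extension are locally combinations. -/
lemma exists_gen {U : Over T} (a : U ⟶ X) (z : PU N U) (u : U.left) :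
    ∃ (D : U.left.Opens) (_ : u ∈ D) (c : N.val.obj (op X) →₀ Rg (opn D)),
      pmap N (opι D) z = cmbP N X (opι D ≫ a) c := by
  obtain ⟨p, rfl⟩ := Submodule.Quotient.mk_surjective _ z
  induction p using Finsupp.induction_linear with
  | zero => exact ⟨⊤, trivial, 0, by simp⟩
  | add p q hp hq =>
    obtain ⟨D, hu, c, hc⟩ := hp
    obtain ⟨E, hu', d, hd⟩ := hq
    have h1 : D ⊓ E ≤ D := inf_le_left
    have h2 : D ⊓ E ≤ E := inf_le_right
    refine ⟨D ⊓ E, ⟨hu, hu'⟩, cm (opLE h1) c + cm (opLE h2) d, ?_⟩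
    have e1 := congrArg (pmap N (opLE h1)) hc
    have e2 := congrArg (pmap N (opLE h2)) hd
    rw [pmap_cmbP, ← Category.assoc, opLE_opι] at e1
    rw [pmap_cmbP, ← Category.assoc, opLE_opι] at e2
    rw [pmap_mk, pmap_mk, fmap_fmap, opLE_opι] at e1 e2
    rw [Submodule.Quotient.mk_add, map_add, map_add, pmap_mk, pmap_mk, e1, e2]
  | single e r =>
    obtain ⟨O, hO, hu, hX, -⟩ := exists_affine_nhd e.g a u ⊤ trivial
    obtain ⟨c, hc⟩ := hN.surj (opn O) hO (flat_opn e.flat O) (toX O hX) (mr N (opι O) e.x)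
    let D := e.g.left ⁻¹ᵁ O
    let k : opn D ⟶ opn O := Over.homMk (IsOpenImmersion.lift O.ι (D.ι ≫ e.g.left) (by
        rintro _ ⟨z, rfl⟩
        exact (Scheme.Opens.range_ι O).symm.subset z.2)) (by
      change IsOpenImmersion.lift _ _ _ ≫ O.ι ≫ e.W.hom = D.ι ≫ U.hom
      rw [IsOpenImmersion.lift_fac_assoc, Category.assoc, Over.w e.g])
    have hk : k ≫ opι O = opι D ≫ e.g := Over.OverMorphism.ext (IsOpenImmersion.lift_fac _ _ _)
    refine ⟨D, hu, rr (opι D) r • cm k c, ?_⟩
    rw [mk_single, LinearMap.map_smulₛₗ, pmap_cls, map_smul, ← hk, cls_res N (flat_opn e.flat O) e.flat, ← hc,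
      show opι D ≫ a = k ≫ toX O hX from hom_X_ext _ _]
    refine congrArg (rr (opι D) r • ·) ?_
    clear hc
    induction c using Finsupp.induction_linear with
    | zero => simp
    | add p q hp hq => simp only [map_add, hp, hq]
    | single i s =>
      rw [cm_single, cmbP_single, cmb, Finsupp.linearCombination_single, LinearMap.map_smulₛₗ, ← cls_res]

/-- Coefficients spread out from a point. -/
lemma exists_zero_finsupp {I : Type (u + 1)} {U : Over T} (u : U.left) (D : U.left.Opens) (hu : u ∈ D)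
    (c : I →₀ Rg (opn D)) (hc : cm (ptD u D hu) c = 0) :
    ∃ (D' : U.left.Opens) (h : D' ≤ D), u ∈ D' ∧ cm (opLE h) c = 0 := by
  classical
  suffices key : ∀ s : Finset I, ∃ (D' : U.left.Opens) (h : D' ≤ D), u ∈ D' ∧ ∀ i ∈ s, rr (opLE h) (c i) = 0 by
    obtain ⟨D', h, hu', hz⟩ := key c.support
    refine ⟨D', h, hu', Finsupp.ext fun i => ?_⟩
    by_cases hi : i ∈ c.support
    · simpa [cm] using hz i hi
    · simp [cm, Finsupp.notMem_support_iff.mp hi]
  intro s
  induction s using Finset.induction_on with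
  | empty => exact ⟨D, le_rfl, hu, fun i hi => absurd hi (Finset.notMem_empty i)⟩
  | insert i s his ih =>
    obtain ⟨D₁, h₁, hu₁, hz⟩ := ih
    have hi : rr (ptD u D₁ hu₁) (rr (opLE h₁) (c i)) = 0 := by
      rw [rr_rr, show ptD u D₁ hu₁ ≫ opLE h₁ = ptD u D hu from hom_opn_ext _ _ (by
        rw [Category.assoc, opLE_opι, ptD_ι, ptD_ι])]
      simpa [cm] using Finsupp.ext_iff.mp hc i
    obtain ⟨D₂, h₂, hu₂, h0⟩ := exists_zero u D₁ hu₁ _ hi
    have e : opLE h₂ ≫ opLE h₁ = opLE (h₂.trans h₁) := hom_opn_ext _ _ (by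
      rw [Category.assoc, opLE_opι, opLE_opι, opLE_opι])
    refine ⟨D₂, h₂.trans h₁, hu₂, fun k hk => ?_⟩
    rw [← e, ← rr_rr]
    rcases Finset.mem_insert.mp hk with rfl | hk
    · exact h0
    · rw [hz k hk, map_zero]

/-- Relations spread out from a point. -/
lemma exists_spread_LRel {U : Over T} (a : U ⟶ X) (u : U.left) {c : N.val.obj (op X) →₀ Rg (pt U u)}
    (hc : c ∈ LRel N X (ptι U u ≫ a)) :
    ∃ (D : U.left.Opens) (hu : u ∈ D) (c' : N.val.obj (op X) →₀ Rg (opn D)),
      c' ∈ LRel N X (opι D ≫ a) ∧ cm (ptD u D hu) c' = c := by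
  induction hc using Submodule.span_induction with
  | mem p hp =>
    obtain ⟨r, hr, rfl⟩ := hp
    refine ⟨⊤, trivial, cm (opι ⊤ ≫ a) r, Submodule.subset_span ⟨r, hr, rfl⟩, ?_⟩
    rw [cm_cm, reassoc_of% ptD_ι]
  | zero => exact ⟨⊤, trivial, 0, Submodule.zero_mem _, map_zero _⟩
  | add p q _ _ hp hq =>
    obtain ⟨D, hu, c, hc, rfl⟩ := hp
    obtain ⟨E, hu', d, hd, rfl⟩ := hq
    have h1 : D ⊓ E ≤ D := inf_le_left
    have h2 : D ⊓ E ≤ E := inf_le_right
    have k1 := cm_mem_LRel N X (opLE h1) _ hc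
    have k2 := cm_mem_LRel N X (opLE h2) _ hd
    rw [show opLE h1 ≫ opι D ≫ a = opι (D ⊓ E) ≫ a from hom_X_ext _ _] at k1
    rw [show opLE h2 ≫ opι E ≫ a = opι (D ⊓ E) ≫ a from hom_X_ext _ _] at k2
    refine ⟨D ⊓ E, ⟨hu, hu'⟩, _, Submodule.add_mem _ k1 k2, ?_⟩
    rw [map_add, cm_cm, cm_cm, show ptD u (D ⊓ E) ⟨hu, hu'⟩ ≫ opLE h1 = ptD u D hu from hom_opn_ext _ _ (by
        rw [Category.assoc, opLE_opι, ptD_ι, ptD_ι]),
      show ptD u (D ⊓ E) ⟨hu, hu'⟩ ≫ opLE h2 = ptD u E hu' from hom_opn_ext _ _ (by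
        rw [Category.assoc, opLE_opι, ptD_ι, ptD_ι])]
  | smul r p _ hp =>
    obtain ⟨D, hu, c, hc, rfl⟩ := hp
    obtain ⟨E, hu', s, rfl⟩ := exists_spread u r
    have h1 : D ⊓ E ≤ D := inf_le_left
    have h2 : D ⊓ E ≤ E := inf_le_right
    have k1 := cm_mem_LRel N X (opLE h1) _ hc
    rw [show opLE h1 ≫ opι D ≫ a = opι (D ⊓ E) ≫ a from hom_X_ext _ _] at k1
    refine ⟨D ⊓ E, ⟨hu, hu'⟩, _, Submodule.smul_mem _ (rr (opLE h2) s) k1, ?_⟩
    rw [cm_smul, cm_cm, rr_rr, show ptD u (D ⊓ E) ⟨hu, hu'⟩ ≫ opLE h1 = ptD u D hu from hom_opn_ext _ _ (by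
        rw [Category.assoc, opLE_opι, ptD_ι, ptD_ι]),
      show ptD u (D ⊓ E) ⟨hu, hu'⟩ ≫ opLE h2 = ptD u E hu' from hom_opn_ext _ _ (by
        rw [Category.assoc, opLE_opι, ptD_ι, ptD_ι])]

include hN in
/-- Combinations vanishing in the extension come locally from relations. -/
lemma exists_rel {U : Over T} (a : U ⟶ X) (c : N.val.obj (op X) →₀ Rg U) (hc : cmbP N X a c = 0) (u : U.left) :
    ∃ D : U.left.Opens, u ∈ D ∧ cm (opι D) c ∈ LRel N X (opι D ≫ a) := by
  rw [← mk_fsum, Submodule.Quotient.mk_eq_zero] at hc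
  have h : psi hN a u (c.mapDomain fun i => (⟨X, inferInstance, a, i⟩ : Gen N U)) = 0 := rel_le_psi hN a u hc
  have e : psi hN a u (c.mapDomain fun i => (⟨X, inferInstance, a, i⟩ : Gen N U)) =
      Submodule.Quotient.mk (cm (ptι U u) c) := by
    clear h hc
    induction c using Finsupp.induction_linear with
    | zero => simp
    | add p q hp hq => simp only [Finsupp.mapDomain_add, map_add, Submodule.Quotient.mk_add, hp, hq]
    | single i r => rw [Finsupp.mapDomain_single, psi_single_X]
  rw [e, Submodule.Quotient.mk_eq_zero] at h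
  obtain ⟨D, hu, c', hc', he⟩ := exists_spread_LRel a u h
  obtain ⟨D', hle, hu', h0⟩ := exists_zero_finsupp u D hu (cm (opι D) c - c') (by
    rw [map_sub, cm_cm, ptD_ι, he, sub_self])
  refine ⟨D', hu', ?_⟩
  rw [map_sub, sub_eq_zero, cm_cm, opLE_opι] at h0
  rw [h0, show opι D' ≫ a = opLE hle ≫ opι D ≫ a from hom_X_ext _ _]
  exact cm_mem_LRel N X (opLE hle) _ hc'

/-! ### The presentation -/

variable (N X)

/-- The chosen sections over the object. -/
def secX (i : N.val.obj (op X)) : ((Ext N).over X).sections :=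
  PresheafOfModules.sectionsMk (fun Y => (eta N).app (op Y.unop.left) (cls N (inferInstance : Flat X.hom) Y.unop.hom i))
    fun Y Y' f => by
      refine (PresheafOfModules.naturality_apply (eta N) f.unop.left.op _).symm.trans ?_
      refine congrArg ((eta N).app (op Y'.unop.left)) ?_
      exact (pmap_cls N _ Y.unop.hom f.unop.left i).trans
        (congrArg (fun a => cls N (inferInstance : Flat X.hom) a i) (Over.w f.unop))

lemma lc_secX (Y : Over X) (c : N.val.obj (op X) →₀ Rg Y.left) :
    lcS X (secX N X) Y c = (eta N).app (op Y.left) (cmbP N X Y.hom c) := by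
  induction c using Finsupp.induction_linear with
  | zero => simp only [map_zero]
  | add p q hp hq =>
    simp only [map_add, hp, hq]
  | single i r =>
    rw [cmbP_single]
    refine (lc_single (R := RX X) (secX N X) Y i r).trans ?_
    exact (map_smul ((eta N).app (op Y.left)).hom r _).symm

/-- The generators. -/
abbrev gX : SheafOfModules.free (R := RX X) (N.val.obj (op X)) ⟶ (Ext N).over X :=
  ((Ext N).over X).freeHomEquiv.symm (secX N X)

lemma gX_lc (Y : Over X) (c : N.val.obj (op X) →₀ Rg Y.left) :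
    (gX N X).val.app (op Y) (lcF X Y c) = (eta N).app (op Y.left) (cmbP N X Y.hom c) := by
  rw [app_lcS, ← lc_secX]
  refine congrArg (fun s => lcS X s Y c) (funext fun i => ?_)
  exact SheafOfModules.sectionsMap_freeHomEquiv_symm_freeSection (secX N X) i

include hN in
lemma epi_gX : Epi (gX N X) := by
  haveI : Sheaf.IsLocallySurjective ((SheafOfModules.toSheaf.{u + 1} (RX X)).map (gX N X)) := ⟨fun {Y} m => by
    let m' : (Ext N).val.obj (op Y.left) := m
    refine GrothendieckTopology.transitive _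
      (S := (Sieve.overEquiv Y).symm (Presheaf.imageSieve ((PresheafOfModules.toPresheaf _).map (eta N)) m'))
      ?_ _ ?_
    · rw [GrothendieckTopology.mem_over_iff]
      refine Eq.mpr (congrArg (· ∈ _) ((Sieve.overEquiv Y).apply_symm_apply _)) ?_
      exact Presheaf.imageSieve_mem (QuotSh.J Scheme.fppfPrecoverage T) ((PresheafOfModules.toPresheaf _).map (eta N)) m'
    intro Y' f hf
    obtain ⟨z, hz⟩ := (Sieve.overEquiv_symm_iff _ f).mp hf
    refine mem_over_of_opens X _ fun u => ?_
    obtain ⟨D, hu, c, hc⟩ := exists_gen hN Y'.hom z u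
    refine ⟨D, hu, lcF X (Over.mk (opι D ≫ Y'.hom)) c, ?_⟩
    refine (gX_lc N X (Over.mk (opι D ≫ Y'.hom)) c).trans ?_
    change (eta N).app (op (opn D)) (cmbP N X (opι D ≫ Y'.hom) c) = _
    rw [← hc]
    refine (PresheafOfModules.naturality_apply (eta N) (opι D).op z).trans ?_
    refine (congrArg ((Ext N).val.presheaf.map (opι D).op) hz).trans ?_
    exact mr_mr (Ext N) f.left (opι D) m'⟩
  haveI : Epi ((SheafOfModules.toSheaf _).map (gX N X)) := inferInstance
  exact (SheafOfModules.toSheaf _).epi_of_epi_map this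

/-- The relation sections. -/
def rsec (r : RelI N X) : (SheafOfModules.free (R := RX X) (N.val.obj (op X))).sections :=
  PresheafOfModules.sectionsMk (fun Y => lcF X Y.unop (cm Y.unop.hom r.1))
    fun Y Y' f => by
      refine (map_lcS X SheafOfModules.freeSection f.unop (cm Y.unop.hom r.1)).trans ?_
      refine congrArg (lcS X SheafOfModules.freeSection Y'.unop) ?_
      exact (cm_cm Y.unop.hom f.unop.left r.1).trans (congrArg (fun a => cm a r.1) (Over.w f.unop))

omit [IsOpenImmersion X.hom] in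
lemma mem_LRel_exists {U : Over T} (a : U ⟶ X) {c : N.val.obj (op X) →₀ Rg U} (hc : c ∈ LRel N X a) :
    ∃ d : RelI N X →₀ Rg U, Finsupp.linearCombination (Rg U) (fun r : RelI N X => cm a r.1) d = c :=
  Finsupp.mem_span_range_iff_exists_finsupp.mp (by rwa [← Set.image_eq_range]) |>.imp fun d hd => by
    rwa [Finsupp.linearCombination_apply]

lemma lcF_rel (Y : Over X) (d : RelI N X →₀ Rg Y.left) :
    lcF X Y (Finsupp.linearCombination (Rg Y.left) (fun r : RelI N X => cm Y.hom r.1) d) =
      lcS X (rsec N X) Y d := by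
  induction d using Finsupp.induction_linear with
  | zero => simp only [map_zero]
  | add p q hp hq => simp only [map_add, hp, hq]
  | single r s =>
    rw [Finsupp.linearCombination_single]
    refine Eq.trans (map_smul (SqFree.lc (R := RX X) (M := SheafOfModules.free (N.val.obj (op X)))
      SheafOfModules.freeSection Y) (id s : (RX X).obj.obj (op Y))
      (id (cm Y.hom r.1) : N.val.obj (op X) →₀ (RX X).obj.obj (op Y))) ?_
    exact (lc_single (R := RX X) (rsec N X) Y r s).symm

/-- The relations. -/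
abbrev fX : SheafOfModules.free (R := RX X) (RelI N X) ⟶ SheafOfModules.free (R := RX X) (N.val.obj (op X)) :=
  (SheafOfModules.free (R := RX X) (N.val.obj (op X))).freeHomEquiv.symm (rsec N X)

lemma fX_gX : fX N X ≫ gX N X = 0 := by
  apply ((Ext N).over X).freeHomEquiv.injective
  funext r
  rw [SheafOfModules.freeHomEquiv_comp_apply, Equiv.apply_symm_apply]
  refine Subtype.ext (funext fun Y => ?_)
  have h0 : cmbP N X (𝟙 X) r.1 = 0 :=
    (pev_bijective N X inferInstance).1 ((pev_cmbP N X (𝟙 X) r.1).trans (r.2.trans (map_zero _).symm))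
  refine Eq.trans (gX_lc N X Y.unop (cm Y.unop.hom r.1)) ?_
  have h1 := congrArg (pmap N Y.unop.hom) h0
  rw [pmap_cmbP, Category.comp_id, map_zero] at h1
  rw [h1]
  refine (map_zero ((eta N).app (op Y.unop.left)).hom).trans ?_
  rw [SheafOfModules.freeHomEquiv_apply]
  rfl

/-- The relations in the kernel. -/
abbrev kX : SheafOfModules.free (R := RX X) (RelI N X) ⟶ kernel (gX N X) := kernel.lift _ (fX N X) (fX_gX N X)

lemma kernel_app_injective {M M' : SheafOfModules.{u + 1} (RX X)} (φ : M ⟶ M') (Y : Over X) :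
    Function.Injective ((kernel.ι φ).val.app (op Y)) := by
  let G := SheafOfModules.evaluation.{u + 1} (RX X) (op Y)
  haveI : PreservesLimitsOfShape WalkingCospan G := inferInstance
  exact (ModuleCat.mono_iff_injective (G.map (kernel.ι φ))).mp inferInstance

include hN in
lemma epi_kX : Epi (kX N X) := by
  haveI : Sheaf.IsLocallySurjective ((SheafOfModules.toSheaf.{u + 1} (RX X)).map (kX N X)) := ⟨fun {Y} m => by
    let z := (kernel.ι (gX N X)).val.app (op Y) m
    have hz : (gX N X).val.app (op Y) z = 0 :=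
      congr($(kernel.condition (gX N X)).val.app (op Y) m)
    obtain ⟨S, hS, hc⟩ := SqFree.exists_local_lc z
    refine GrothendieckTopology.transitive _ (S := S) hS _ fun Y' f hf => ?_
    obtain ⟨c, hc⟩ := hc f hf
    have h1 : (eta N).app (op Y'.left) (cmbP N X Y'.hom c) = 0 := by
      refine ((congrArg ((gX N X).val.app (op Y')) hc).trans (gX_lc N X Y' c)).symm.trans ?_
      refine (PresheafOfModules.naturality_apply (gX N X).val f.op z).trans ?_
      rw [hz]
      exact map_zero (((Ext N).over X).val.presheaf.map f.op).hom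
    have h2 := Presheaf.equalizerSieve_mem (QuotSh.J Scheme.fppfPrecoverage T)
      ((PresheafOfModules.toPresheaf _).map (eta N)) (X := op Y'.left) (cmbP N X Y'.hom c) 0
      (h1.trans (map_zero _).symm)
    refine GrothendieckTopology.transitive _ (S := (Sieve.overEquiv Y').symm (Presheaf.equalizerSieve
      (F := (Pre N).presheaf) (X := op Y'.left) (cmbP N X Y'.hom c) 0)) ?_ _ fun V g hg => ?_
    · rw [GrothendieckTopology.mem_over_iff]
      refine Eq.mpr (congrArg (· ∈ _) ((Sieve.overEquiv Y').apply_symm_apply _)) ?_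
      exact h2
    have h3 : cmbP N X V.hom (cm g.left c) = 0 := by
      have h := (Sieve.overEquiv_symm_iff _ g).mp hg
      refine Eq.trans ?_ (h.trans (map_zero (pmap N g.left)))
      exact ((pmap_cmbP N X g.left Y'.hom c).trans (congrArg (fun a => cmbP N X a (cm g.left c)) (Over.w g))).symm
    refine mem_over_of_opens X _ fun u => ?_
    obtain ⟨D, hu, hD⟩ := exists_rel hN V.hom (cm g.left c) h3 u
    refine ⟨D, hu, ?_⟩
    obtain ⟨d, hd⟩ := mem_LRel_exists N X _ hD
    let W : Over X := Over.mk (opι D ≫ V.hom)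
    let ι' : W ⟶ V := Over.homMk (opι D) rfl
    refine ⟨lcF X W d, ?_⟩
    apply kernel_app_injective
    refine ((congr($(kernel.lift_ι (gX N X) (fX N X) (fX_gX N X)).val.app (op W)
      (lcF X W d))).trans ?_)
    rw [app_lcS]
    have hz' : (kernel.ι (gX N X)).val.app (op W)
        (((kernel (gX N X)).val.presheaf).map ((ι' ≫ g) ≫ f).op m) =
        lcF X W (cm (opι D) (cm g.left c)) := by
      refine (PresheafOfModules.naturality_apply (kernel.ι (gX N X)).val ((ι' ≫ g) ≫ f).op m).trans ?_
      refine (congr($((SheafOfModules.free (R := RX X) (N.val.obj (op X))).val.presheaf.map_comp f.op (ι' ≫ g).op) z)).trans ?_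
      refine (congrArg ((SheafOfModules.free (R := RX X) (N.val.obj (op X))).val.presheaf.map (ι' ≫ g).op) hc).trans ?_
      refine (map_lcS X SheafOfModules.freeSection (ι' ≫ g) c).trans ?_
      exact congrArg (lcS X SheafOfModules.freeSection W) (cm_cm g.left (opι D) c).symm
    refine Eq.trans ?_ hz'.symm
    rw [← hd]
    refine Eq.trans ?_ (lcF_rel N X W d).symm
    refine congrArg (fun s => lcS X s W d) (funext fun r => ?_)
    exact SheafOfModules.sectionsMap_freeHomEquiv_symm_freeSection (rsec N X) r⟩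
  haveI : Epi ((SheafOfModules.toSheaf _).map (kX N X)) := inferInstance
  exact (SheafOfModules.toSheaf _).epi_of_epi_map this

include hN in
/-- The presentation over the object. -/
def presentation : ((Ext N).over X).Presentation where
  generators := { I := N.val.obj (op X), s := secX N X, epi := epi_gX N X hN }
  relations :=
    { I := RelI N X
      s := (kernel (gX N X)).freeHomEquiv (kX N X)
      epi := by
        rw [Equiv.symm_apply_apply]
        exact epi_kX N X hN }

omit [IsOpenImmersion X.hom] in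
/-- The extension is quasi-coherent. -/
theorem isQuasicoherent_Ext {I : Type (u + 1)} (Z : I → Over T) (hopen : ∀ i, IsOpenImmersion (Z i).hom)
    (hZ : ∀ i, Good N (Z i)) (hcov : ∀ t : T, ∃ i, t ∈ Set.range (Z i).hom) : (Ext N).IsQuasicoherent :=
  SheafOfModules.QuasicoherentData.isQuasicoherent.{u + 1} (M := Ext N)
    { I := I
      X := Z
      coversTop := show GrothendieckTopology.CoversTop (QuotSh.J Scheme.fppfPrecoverage T) Z from fun Y => mem_of_opens (U := Y) (Sieve.ofObjects Z Y) fun u => by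
        obtain ⟨i, hi⟩ := hcov (Y.hom u)
        haveI := hopen i
        refine ⟨Y.hom ⁻¹ᵁ (Z i).hom.opensRange, hi, ?_⟩
        exact ⟨i, ⟨toX _ le_rfl⟩⟩
      presentation := fun i => haveI := hopen i; presentation (hN := hZ i) }

end Groth.Agent.BigSiteLib.SqExt
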