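import Groth.Agent.BigSiteLib.SqExt

/-!
Local coordinates of the extension over an open subscheme of the base.
-/

set_option autoImplicit false
set_option linter.style.haveILetI false
set_option backward.isDefEq.respectTransparency false
set_option backward.isDefEq.respectTransparency.types false
universe u

noncomputable section

namespace Groth.Agent.BigSiteLib.SqExt

open CategoryTheory Limits Opposite AlgebraicGeometry

variable {T : Scheme.{u}} (N : BigSite.Mod Scheme.fppfPrecoverage T) (X : Over T)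

/-- Restriction of coefficients. -/
abbrev cm {I : Type (u + 1)} {U U' : Over T} (g : U' ⟶ U) : (I →₀ Rg U) →+ (I →₀ Rg U') :=
  Finsupp.mapRange.addMonoidHom (rr g).toAddMonoidHom

lemma cm_single {I : Type (u + 1)} {U U' : Over T} (g : U' ⟶ U) (i : I) (r : Rg U) :
    cm g (Finsupp.single i r) = Finsupp.single i (rr g r) := by
  simp [cm]

lemma cm_cm {I : Type (u + 1)} {U U' U'' : Over T} (g : U' ⟶ U) (h : U'' ⟶ U') (c : I →₀ Rg U) :
    cm h (cm g c) = cm (h ≫ g) c := by
  ext i
  simp [cm, rr_rr]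

lemma cm_smul {I : Type (u + 1)} {U U' : Over T} (g : U' ⟶ U) (r : Rg U) (c : I →₀ Rg U) :
    cm g (r • c) = rr g r • cm g c := by
  ext i
  simp [cm]

/-- Combinations of the sections on the chosen object. -/
def cmb {U : Over T} (a : U ⟶ X) : (N.val.obj (op X) →₀ Rg U) →ₗ[Rg U] N.val.obj (op U) :=
  Finsupp.linearCombination (Rg U) fun i => mr N a i

lemma mr_cmb {U U' : Over T} (g : U' ⟶ U) (a : U ⟶ X) (c : N.val.obj (op X) →₀ Rg U) :
    mr N g (cmb N X a c) = cmb N X (g ≫ a) (cm g c) := by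
  induction c using Finsupp.induction_linear with
  | zero => simp
  | add p q hp hq => simp only [map_add, hp, hq]
  | single i r => simp [cmb, cm_single, mr_smul, mr_mr]

/-- Linear relations between the sections on the chosen object. -/
def RelI : Set (N.val.obj (op X) →₀ Rg X) := {r | cmb N X (𝟙 X) r = 0}

/-- The relations pulled back to an object. -/
def LRel {U : Over T} (a : U ⟶ X) : Submodule (Rg U) (N.val.obj (op X) →₀ Rg U) :=
  Submodule.span (Rg U) (cm a '' RelI N X)

lemma cm_mem_LRel {U U' : Over T} (g : U' ⟶ U) (a : U ⟶ X) {c : N.val.obj (op X) →₀ Rg U}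
    (hc : c ∈ LRel N X a) : cm g c ∈ LRel N X (g ≫ a) := by
  induction hc using Submodule.span_induction with
  | mem p hp =>
    obtain ⟨r, hr, rfl⟩ := hp
    exact Submodule.subset_span ⟨r, hr, (cm_cm a g r).symm⟩
  | zero => rw [map_zero]; exact Submodule.zero_mem _
  | add p q _ _ hp hq => rw [map_add]; exact Submodule.add_mem _ hp hq
  | smul r p _ hp => rw [cm_smul]; exact Submodule.smul_mem _ _ hp

/-- The sections on the chosen object present the module on flat affine objects over it. -/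
structure Good : Prop where
  surj : ∀ (W : Over T) (_ : IsAffine W.left) (_ : Flat W.hom) (a : W ⟶ X) (x : N.val.obj (op W)),
    ∃ c, cmb N X a c = x
  inj : ∀ (W : Over T) (_ : IsAffine W.left) (_ : Flat W.hom) (a : W ⟶ X) (c : N.val.obj (op X) →₀ Rg W),
    cmb N X a c = 0 → c ∈ LRel N X a

/-! ### Opens of objects -/

/-- An open of an object. -/
abbrev opn {U : Over T} (D : U.left.Opens) : Over T := Over.mk (D.ι ≫ U.hom)

/-- Its inclusion. -/
abbrev opι {U : Over T} (D : U.left.Opens) : opn D ⟶ U := Over.homMk D.ι rfl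

/-- Inclusions of opens. -/
abbrev opLE {U : Over T} {D D' : U.left.Opens} (h : D' ≤ D) : opn D' ⟶ opn D :=
  Over.homMk (U.left.homOfLE h) (by
    change U.left.homOfLE h ≫ D.ι ≫ U.hom = D'.ι ≫ U.hom
    rw [Scheme.homOfLE_ι_assoc])

lemma opLE_opι {U : Over T} {D D' : U.left.Opens} (h : D' ≤ D) : opLE h ≫ opι D = opι D' :=
  Over.OverMorphism.ext (Scheme.homOfLE_ι _ h)

variable {X}

lemma hom_X_ext [IsOpenImmersion X.hom] {U : Over T} (a b : U ⟶ X) : a = b :=
  Over.OverMorphism.ext ((cancel_mono X.hom).mp ((Over.w a).trans (Over.w b).symm))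

/-- The lift to the chosen object. -/
def toX [IsOpenImmersion X.hom] {W : Over T} (O : W.left.Opens) (hO : O ≤ W.hom ⁻¹ᵁ X.hom.opensRange) : opn O ⟶ X :=
  Over.homMk (IsOpenImmersion.lift X.hom (O.ι ≫ W.hom) (by
      rintro _ ⟨z, rfl⟩
      exact hO z.2))
    (IsOpenImmersion.lift_fac _ _ _)

lemma flat_opn {W : Over T} (hW : Flat W.hom) (O : W.left.Opens) : Flat (opn O).hom :=
  haveI := hW
  inferInstanceAs (Flat (O.ι ≫ W.hom))

/-- Small affine neighbourhoods of a point. -/
lemma exists_affine_nhd [IsOpenImmersion X.hom] {U W : Over T} (g : U ⟶ W) (a : U ⟶ X) (u : U.left)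
    (V : W.left.Opens) (hV : g.left u ∈ V) :
    ∃ O : W.left.Opens, IsAffineOpen O ∧ g.left u ∈ O ∧ O ≤ W.hom ⁻¹ᵁ X.hom.opensRange ∧ O ≤ V := by
  have hu : g.left u ∈ V ⊓ W.hom ⁻¹ᵁ X.hom.opensRange := by
    refine ⟨hV, ?_⟩
    change W.hom (g.left u) ∈ Set.range X.hom
    rw [← Scheme.Hom.comp_apply, Over.w g, ← Over.w a, Scheme.Hom.comp_apply]
    exact ⟨_, rfl⟩
  obtain ⟨O, hO, huO, hle⟩ := exists_isAffineOpen_mem_and_subset hu
  exact ⟨O, hO, huO, le_trans hle inf_le_right, le_trans hle inf_le_left⟩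

/-! ### The local point -/

/-- The spectrum of the local ring at a point. -/
abbrev pt (U : Over T) (u : U.left) : Over T := Over.mk (U.left.fromSpecStalk u ≫ U.hom)

/-- Its map. -/
abbrev ptι (U : Over T) (u : U.left) : pt U u ⟶ U := Over.homMk (U.left.fromSpecStalk u) rfl

/-- It lands in neighbourhoods. -/
def ptLift {U W : Over T} (g : U ⟶ W) (u : U.left) (O : W.left.Opens) (hO : g.left u ∈ O) : pt U u ⟶ opn O :=
  Over.homMk (IsOpenImmersion.lift O.ι (U.left.fromSpecStalk u ≫ g.left) (by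
      rintro _ ⟨z, rfl⟩
      refine (Scheme.Opens.range_ι O).symm.subset ?_
      rw [Scheme.Hom.comp_apply]
      have hz : U.left.fromSpecStalk u z ⤳ u := by
        have := Scheme.range_fromSpecStalk (X := U.left) (x := u)
        exact this.subset ⟨z, rfl⟩
      exact (hz.map g.left.continuous).mem_open O.isOpen hO))
    (by
      change IsOpenImmersion.lift _ _ _ ≫ O.ι ≫ W.hom = U.left.fromSpecStalk u ≫ U.hom
      rw [IsOpenImmersion.lift_fac_assoc, Category.assoc, Over.w g])

lemma ptLift_ι {U W : Over T} (g : U ⟶ W) (u : U.left) (O : W.left.Opens) (hO : g.left u ∈ O) :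
    ptLift g u O hO ≫ opι O = ptι U u ≫ g :=
  Over.OverMorphism.ext (IsOpenImmersion.lift_fac _ _ _)

lemma hom_opn_ext {U W : Over T} {O : W.left.Opens} (a b : U ⟶ opn O) (h : a ≫ opι O = b ≫ opι O) : a = b :=
  Over.OverMorphism.ext ((cancel_mono O.ι).mp (congrArg Over.Hom.left h))

/-! ### Values at a point -/

section Value

variable [IsOpenImmersion X.hom] {N} (hN : Good N X) {U : Over T} (a : U ⟶ X) (u : U.left)

/-- Coordinates of a section at a point. -/
def IsVal (e : Gen N U) (q : (N.val.obj (op X) →₀ Rg (pt U u)) ⧸ LRel N X (ptι U u ≫ a)) : Prop :=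
  ∀ (O : e.W.left.Opens) (_ : IsAffineOpen O) (hu : e.g.left u ∈ O) (hX : O ≤ e.W.hom ⁻¹ᵁ X.hom.opensRange)
    (c : N.val.obj (op X) →₀ Rg (opn O)), cmb N X (toX O hX) c = mr N (opι O) e.x →
      Submodule.Quotient.mk (cm (ptLift e.g u O hu) c) = q

include hN in
lemma exists_isVal (e : Gen N U) : ∃ q, IsVal a u e q := by
  obtain ⟨O, hO, hu, hX, -⟩ := exists_affine_nhd e.g a u ⊤ trivial
  obtain ⟨c, hc⟩ := hN.surj (opn O) hO (flat_opn e.flat O) (toX O hX) (mr N (opι O) e.x)
  refine ⟨Submodule.Quotient.mk (cm (ptLift e.g u O hu) c), fun O' hO' hu' hX' c' hc' => ?_⟩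
  obtain ⟨P, hP, huP, -, hle⟩ := exists_affine_nhd e.g a u (O ⊓ O') ⟨hu, hu'⟩
  have h1 : P ≤ O := le_trans hle inf_le_left
  have h2 : P ≤ O' := le_trans hle inf_le_right
  have key : cm (opLE h2) c' - cm (opLE h1) c ∈ LRel N X (opLE h2 ≫ toX O' hX') := by
    refine hN.inj (opn P) hP (flat_opn e.flat P) _ _ ?_
    rw [map_sub, ← mr_cmb, hc', mr_mr, opLE_opι, show opLE h2 ≫ toX O' hX' = opLE h1 ≫ toX O hX from hom_X_ext _ _,
      ← mr_cmb, hc, mr_mr, opLE_opι, sub_self]
  have hk := cm_mem_LRel N X (ptLift e.g u P huP) _ key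
  rw [map_sub, cm_cm, cm_cm,
    show ptLift e.g u P huP ≫ opLE h2 = ptLift e.g u O' hu' from hom_opn_ext _ _ (by
      rw [Category.assoc, opLE_opι, ptLift_ι, ptLift_ι]),
    show ptLift e.g u P huP ≫ opLE h1 = ptLift e.g u O hu from hom_opn_ext _ _ (by
      rw [Category.assoc, opLE_opι, ptLift_ι, ptLift_ι]),
    show ptLift e.g u P huP ≫ opLE h2 ≫ toX O' hX' = ptι U u ≫ a from hom_X_ext _ _] at hk
  exact (Submodule.Quotient.eq _).mpr hk

/-- The coordinates of a section at a point. -/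
def val (e : Gen N U) : (N.val.obj (op X) →₀ Rg (pt U u)) ⧸ LRel N X (ptι U u ≫ a) := (exists_isVal hN a u e).choose

/-- The coordinates of combinations at a point. -/
def psi : FU N U →ₛₗ[rr (ptι U u)] (N.val.obj (op X) →₀ Rg (pt U u)) ⧸ LRel N X (ptι U u ≫ a) where
  toFun := Finsupp.liftAddHom fun e =>
    ((LinearMap.id : Rg (pt U u) →ₗ[Rg (pt U u)] Rg (pt U u)).smulRight (val hN a u e)).toAddMonoidHom.comp
      (rr (ptι U u)).toAddMonoidHom
  map_add' := map_add _
  map_smul' r p := by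
    induction p using Finsupp.induction_linear with
    | zero => simp
    | add p q hp hq => simp only [smul_add, map_add, hp, hq]
    | single e c => simp [Finsupp.smul_single, map_mul, mul_smul]

lemma psi_single (e : Gen N U) (c : Rg U) :
    psi hN a u (Finsupp.single e c) = rr (ptι U u) c • val hN a u e := by
  simp [psi]

include hN in
lemma rel_le_psi : Rel N U ≤ LinearMap.ker (psi hN a u) := by
  have hv : ∀ e, IsVal a u e (val hN a u e) := fun e => (exists_isVal hN a u e).choose_spec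
  refine Submodule.span_le.mpr fun p hp => ?_
  change psi hN a u p = 0
  induction hp with
  | add W h g x y =>
    obtain ⟨O, hO, hu, hX, -⟩ := exists_affine_nhd g a u ⊤ trivial
    obtain ⟨c, hc⟩ := hN.surj (opn O) hO (flat_opn h O) (toX O hX) (mr N (opι O) x)
    obtain ⟨d, hd⟩ := hN.surj (opn O) hO (flat_opn h O) (toX O hX) (mr N (opι O) y)
    rw [map_sub, map_sub, psi_single, psi_single, psi_single, map_one, one_smul, one_smul, one_smul,
      ← hv ⟨W, h, g, x + y⟩ O hO hu hX (c + d) (by rw [map_add, map_add, hc, hd]),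
      ← hv ⟨W, h, g, x⟩ O hO hu hX c hc, ← hv ⟨W, h, g, y⟩ O hO hu hX d hd, map_add, Submodule.Quotient.mk_add]
    abel
  | smul W h g r x =>
    obtain ⟨O, hO, hu, hX, -⟩ := exists_affine_nhd g a u ⊤ trivial
    obtain ⟨c, hc⟩ := hN.surj (opn O) hO (flat_opn h O) (toX O hX) (mr N (opι O) x)
    rw [map_sub, psi_single, psi_single, map_one, one_smul,
      ← hv ⟨W, h, g, r • x⟩ O hO hu hX (rr (opι O) r • c) (by rw [map_smul, hc, mr_smul]),
      ← hv ⟨W, h, g, x⟩ O hO hu hX c hc, cm_smul, rr_rr, rr_rr, ptLift_ι, Submodule.Quotient.mk_smul, sub_self]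
  | res W W' h h' g k x =>
    obtain ⟨O', hO', hu', hX', -⟩ := exists_affine_nhd (g ≫ k) a u ⊤ trivial
    obtain ⟨O, hO, hu, hX, hle⟩ := exists_affine_nhd g a u (k.left ⁻¹ᵁ O') hu'
    obtain ⟨c, hc⟩ := hN.surj (opn O') hO' (flat_opn h' O') (toX O' hX') (mr N (opι O') x)
    let k' : opn O ⟶ opn O' := Over.homMk (IsOpenImmersion.lift O'.ι (O.ι ≫ k.left) (by
        rintro _ ⟨z, rfl⟩
        exact (Scheme.Opens.range_ι O').symm.subset (hle z.2))) (by
      change IsOpenImmersion.lift _ _ _ ≫ O'.ι ≫ W'.hom = O.ι ≫ W.hom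
      rw [IsOpenImmersion.lift_fac_assoc, Category.assoc, Over.w k])
    have hk : k' ≫ opι O' = opι O ≫ k := Over.OverMorphism.ext (IsOpenImmersion.lift_fac _ _ _)
    rw [map_sub, psi_single, psi_single, map_one, one_smul, one_smul, ← hv ⟨W', h', g ≫ k, x⟩ O' hO' hu' hX' c hc,
      ← hv ⟨W, h, g, mr N k x⟩ O hO hu hX (cm k' c) (by
        rw [show toX O hX = k' ≫ toX O' hX' from hom_X_ext _ _, ← mr_cmb, hc, mr_mr, mr_mr, hk]), cm_cm,
      show ptLift g u O hu ≫ k' = ptLift (g ≫ k) u O' hu' from hom_opn_ext _ _ (by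
        rw [Category.assoc, hk, reassoc_of% ptLift_ι, ptLift_ι]), sub_self]

lemma psi_single_X (i : N.val.obj (op X)) (c : Rg U) :
    psi hN a u (Finsupp.single ⟨X, inferInstance, a, i⟩ c) =
      Submodule.Quotient.mk (cm (ptι U u) (Finsupp.single i c)) := by
  obtain ⟨O, hO, hu, hX, -⟩ := exists_affine_nhd a a u ⊤ trivial
  rw [psi_single]
  change _ • (exists_isVal hN a u ⟨X, inferInstance, a, i⟩).choose = _
  rw [← (exists_isVal hN a u ⟨X, inferInstance, a, i⟩).choose_spec O hO hu hX (Finsupp.single i 1) (by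
      rw [cmb, Finsupp.linearCombination_single, one_smul, show toX O hX = opι O from hom_X_ext _ _]),
    cm_single, cm_single, map_one, ← Submodule.Quotient.mk_smul, Finsupp.smul_single, smul_eq_mul, mul_one]

end Value

/-! ### Spreading out from a point -/

/-- The lift of the local point to a neighbourhood. -/
abbrev ptD {U : Over T} (u : U.left) (D : U.left.Opens) (hu : u ∈ D) : pt U u ⟶ opn D :=
  ptLift (𝟙 U) u D hu

lemma ptD_ι {U : Over T} (u : U.left) (D : U.left.Opens) (hu : u ∈ D) : ptD u D hu ≫ opι D = ptι U u := by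
  rw [ptLift_ι, Category.comp_id]

lemma appTop_appLE {A B C : Scheme.{u}} (f : A ⟶ B) (g : B ⟶ C) (V : C.Opens) (e : (⊤ : B.Opens) ≤ g ⁻¹ᵁ V)
    (s : Γ(C, V)) :
    f.appTop (g.appLE V ⊤ e s) = (f ≫ g).appLE V ⊤ (fun _ _ => e trivial) s := by
  have := Scheme.Hom.appLE_comp_appLE f g V ⊤ ⊤ e (fun _ _ => trivial)
  rw [← this, CommRingCat.comp_apply]
  refine congrArg (fun q : Γ(B, ⊤) ⟶ Γ(A, ⊤) => q (g.appLE V ⊤ e s)) ?_
  rw [Scheme.Hom.appLE]
  exact (Category.comp_id _).symm.trans (congrArg (f.appTop ≫ ·) (A.presheaf.map_id _).symm)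

/-- A function on an open. -/
def funD {U : Over T} (D : U.left.Opens) (s : Γ(U.left, D)) : Rg (opn D) :=
  ULift.up (D.ι.appLE D ⊤ (by simp) s)

lemma rr_ptD_funD {U : Over T} (u : U.left) (D : U.left.Opens) (hu : u ∈ D) (s : Γ(U.left, D)) :
    rr (ptD u D hu) (funD D s) =
      ULift.up ((Scheme.ΓSpecIso (U.left.presheaf.stalk u)).inv (U.left.presheaf.germ D u hu s)) := by
  refine congrArg ULift.up ?_
  have hl : (ptD u D hu).left ≫ D.ι = U.left.fromSpecStalk u := congrArg Over.Hom.left (ptD_ι u D hu)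
  change (ptD u D hu).left.appTop (D.ι.appLE D ⊤ _ s) = _
  refine (appTop_appLE (B := (D : Scheme.{u})) (ptD u D hu).left D.ι D _ s).trans ?_
  simp only [hl]
  rw [Scheme.Hom.appLE, Scheme.fromSpecStalk_app hu, Category.assoc, Category.assoc]
  erw [← Functor.map_comp]
  change ((Spec (U.left.presheaf.stalk u)).presheaf.map _) ((Scheme.ΓSpecIso _).inv (U.left.presheaf.germ D u hu s)) = _
  refine Eq.trans (congrArg (fun q => (Spec (U.left.presheaf.stalk u)).presheaf.map q _) (Subsingleton.elim _ (𝟙 _))) ?_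
  rw [CategoryTheory.Functor.map_id]
  rfl

lemma funD_bijective {U : Over T} (D : U.left.Opens) : Function.Bijective (funD D) := by
  haveI : IsIso (D.ι.appLE D ⊤ (by simp)) := by
    rw [Scheme.Opens.ι_appLE]
    have hle : D.ι ''ᵁ ⊤ ≤ D := by simp
    have hge : D ≤ D.ι ''ᵁ ⊤ := by simp
    haveI : IsIso (homOfLE hle) := ⟨homOfLE hge, Subsingleton.elim _ _, Subsingleton.elim _ _⟩
    exact Functor.map_isIso _ _
  exact ULift.up_bijective.comp (ConcreteCategory.bijective_of_isIso _)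

lemma rr_opLE_funD {U : Over T} {D D' : U.left.Opens} (h : D' ≤ D) (s : Γ(U.left, D)) :
    rr (opLE h) (funD D s) = funD D' (U.left.presheaf.map (homOfLE h).op s) := by
  refine congrArg ULift.up ?_
  change (U.left.homOfLE h).appTop (D.ι.appLE D ⊤ _ s) = D'.ι.appLE D' ⊤ _ _
  rw [appTop_appLE, ← CommRingCat.comp_apply, Scheme.Hom.map_appLE]
  simp only [Scheme.homOfLE_ι]

/-- Elements of the local ring spread out. -/
lemma exists_spread {U : Over T} (u : U.left) (e : Rg (pt U u)) :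
    ∃ (D : U.left.Opens) (hu : u ∈ D) (r : Rg (opn D)), rr (ptD u D hu) r = e := by
  obtain ⟨D, hu, s, hs⟩ := U.left.presheaf.germ_exist (x := u) ((Scheme.ΓSpecIso (U.left.presheaf.stalk u)).hom e.down)
  refine ⟨D, hu, funD D s, ?_⟩
  rw [rr_ptD_funD, hs]
  exact congrArg ULift.up (congr($((Scheme.ΓSpecIso (U.left.presheaf.stalk u)).hom_inv_id) e.down))

/-- Functions vanishing in the local ring vanish nearby. -/
lemma exists_zero {U : Over T} (u : U.left) (D : U.left.Opens) (hu : u ∈ D) (r : Rg (opn D))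
    (hr : rr (ptD u D hu) r = 0) : ∃ (D' : U.left.Opens) (h : D' ≤ D), u ∈ D' ∧ rr (opLE h) r = 0 := by
  obtain ⟨s, rfl⟩ := (funD_bijective D).2 r
  rw [rr_ptD_funD] at hr
  have h0 : U.left.presheaf.germ D u hu s = U.left.presheaf.germ D u hu 0 := by
    have h := congrArg (fun x : Rg (pt U u) => (Scheme.ΓSpecIso (U.left.presheaf.stalk u)).hom x.down) hr
    rw [map_zero]
    refine (congr($((Scheme.ΓSpecIso (U.left.presheaf.stalk u)).inv_hom_id) _)).symm.trans (h.trans ?_)
    exact map_zero _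
  obtain ⟨D', hu', i₁, i₂, h⟩ := U.left.presheaf.germ_eq u hu hu s 0 h0
  refine ⟨D', i₁.le, hu', ?_⟩
  rw [rr_opLE_funD, show U.left.presheaf.map (homOfLE i₁.le).op s = 0 from h.trans (map_zero _)]
  exact congrArg ULift.up (map_zero _)

end Groth.Agent.BigSiteLib.SqExt
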