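import Groth.Agent.BigSiteLib.SmInfDual
import Groth.Agent.BlowUpLib.Cartier

/-!
Scalars on the kernel of restriction of a commutative group scheme along a square-zero thickening.
-/

set_option autoImplicit false
set_option linter.style.haveILetI false
set_option backward.isDefEq.respectTransparency false
set_option backward.defeqAttrib.useBackward true
universe u

noncomputable section

namespace Groth.Agent.BigSiteLib.SqKer

open CategoryTheory Limits Opposite AlgebraicGeometry MonObj MonoidalCategory CartesianMonoidalCategory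
open InfChart (exists_log exists_log_of_ker)

variable {T T₀ : Scheme.{u}} (j : T₀ ⟶ T) (G : Over T) [GrpObj G] [IsCommMonObj G]

/-- The sheaf of points vanishing on the pulled back subscheme. -/
abbrev NK : BigSite.Ab Scheme.fppfPrecoverage T :=
  kernel ((BigSite.bigAdj Scheme.fppfPrecoverage j AddCommGrpCat.{u + 1}).unit.app
    (CGrpSh.pts Scheme.fppfPrecoverage G))

/-- The inclusion in all points. -/
abbrev nι : NK j G ⟶ CGrpSh.pts Scheme.fppfPrecoverage G := kernel.ι _

/-- The points of a section. -/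
def nPts (U : Over T) : (NK j G).obj.obj (op U) →+ Additive (U ⟶ G) :=
  (CGrpSh.sectEquiv Scheme.fppfPrecoverage G U).toAddMonoidHom.comp
    ((kernel.ι ((BigSite.bigAdj Scheme.fppfPrecoverage j AddCommGrpCat.{u + 1}).unit.app
      (CGrpSh.pts Scheme.fppfPrecoverage G))).hom.app (op U)).hom

/-- The morphism of a section. -/
abbrev nl {U : Over T} (x : (NK j G).obj.obj (op U)) : U.left ⟶ G.left := (Additive.toMul (nPts j G U x)).left

lemma nl_w {U : Over T} (x : (NK j G).obj.obj (op U)) : nl j G x ≫ G.hom = U.hom :=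
  Over.w (Additive.toMul (nPts j G U x))

lemma nPts_map {U U' : Over T} (g : U' ⟶ U) (x : (NK j G).obj.obj (op U)) :
    nPts j G U' ((NK j G).obj.map g.op x) = Additive.ofMul (g ≫ Additive.toMul (nPts j G U x)) := by
  change CGrpSh.sectEquiv _ G U' ((nι j G).hom.app (op U') ((NK j G).obj.map g.op x)) = _
  rw [NatTrans.naturality_apply (nι j G).hom g.op x]
  rfl

lemma nl_map {U U' : Over T} (g : U' ⟶ U) (x : (NK j G).obj.obj (op U)) :
    nl j G ((NK j G).obj.map g.op x) = g.left ≫ nl j G x := by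
  rw [nl, nPts_map]
  rfl

lemma nPts_injective (U : Over T) : Function.Injective (nPts j G U) := by
  let Φ : BigSite.Ab Scheme.fppfPrecoverage T ⥤ AddCommGrpCat.{u + 1} :=
    sheafToPresheaf _ _ ⋙ (evaluation _ AddCommGrpCat.{u + 1}).obj (op U)
  haveI : PreservesFiniteLimits Φ := comp_preservesFiniteLimits _ _
  exact (CGrpSh.sectEquiv Scheme.fppfPrecoverage G U).injective.comp
    ((AddCommGrpCat.mono_iff_injective (Φ.map (kernel.ι ((BigSite.bigAdj Scheme.fppfPrecoverage j
      AddCommGrpCat.{u + 1}).unit.app (CGrpSh.pts Scheme.fppfPrecoverage G))))).1 inferInstance)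

lemma nl_ext {U : Over T} {x y : (NK j G).obj.obj (op U)} (h : nl j G x = nl j G y) : x = y :=
  nPts_injective j G U (congrArg Additive.ofMul
    (Over.OverMorphism.ext (f := Additive.toMul (nPts j G U x)) (g := Additive.toMul (nPts j G U y)) h))

/-- The value of the unit. -/
lemma nl_zero_cu (U : Over T) (x : (NK j G).obj.obj (op U)) :
    Additive.ofMul ((Over.mapPullbackAdj j).counit.app U ≫ Additive.toMul (nPts j G U x)) =
      (0 : Additive ((Over.map j).obj ((Over.pullback j).obj U) ⟶ G)) := by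
  let Φ : BigSite.Ab Scheme.fppfPrecoverage T ⥤ AddCommGrpCat.{u + 1} :=
    sheafToPresheaf _ _ ⋙ (evaluation _ AddCommGrpCat.{u + 1}).obj (op U)
  let η₁ := (BigSite.bigAdj Scheme.fppfPrecoverage j AddCommGrpCat.{u + 1}).unit.app
    (CGrpSh.pts Scheme.fppfPrecoverage G)
  have h : Φ.map (kernel.ι η₁) ≫ Φ.map η₁ = 0 := by
    rw [← Functor.map_comp, kernel.condition, Functor.map_zero]
  exact congrArg (fun z => CGrpSh.sectEquiv Scheme.fppfPrecoverage G _ z) (ConcreteCategory.congr_hom h x) |>.trans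
    (map_zero _)

lemma nl_cu (U : Over T) (x : (NK j G).obj.obj (op U)) :
    pullback.fst U.hom j ≫ nl j G x = pullback.fst U.hom j ≫ U.hom ≫ (η[G]).left := by
  have h := congrArg (fun z => (Additive.toMul z).left) (nl_zero_cu j G U x)
  refine h.trans ?_
  change (toUnit ((Over.map j).obj ((Over.pullback j).obj U)) ≫ η[G]).left = _
  rw [Over.comp_left, ← Category.assoc]
  congr 1
  exact pullback.condition.symm

lemma exists_nl {U : Over T} (a : U.left ⟶ G.left) (ha : a ≫ G.hom = U.hom)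
    (h0 : pullback.fst U.hom j ≫ a = pullback.fst U.hom j ≫ U.hom ≫ (η[G]).left) :
    ∃ x : (NK j G).obj.obj (op U), nl j G x = a := by
  let Φ : BigSite.Ab Scheme.fppfPrecoverage T ⥤ AddCommGrpCat.{u + 1} :=
    sheafToPresheaf _ _ ⋙ (evaluation _ AddCommGrpCat.{u + 1}).obj (op U)
  haveI : PreservesFiniteLimits Φ := comp_preservesFiniteLimits _ _
  let η₀ := (BigSite.bigAdj Scheme.fppfPrecoverage j AddCommGrpCat.{u + 1}).unit.app
    (CGrpSh.pts Scheme.fppfPrecoverage G)
  let p : Additive (U ⟶ G) := Additive.ofMul (Over.homMk a ha)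
  obtain ⟨z, hz⟩ := (ShortComplex.ab_exact_iff _).1 (ShortComplex.exact_of_f_is_kernel
    (ShortComplex.mk (Φ.map (kernel.ι η₀)) (Φ.map η₀) (by rw [← Functor.map_comp, kernel.condition, Functor.map_zero]))
    (KernelFork.mapIsLimit _ (kernelIsKernel η₀) Φ)) ((CGrpSh.sectEquiv Scheme.fppfPrecoverage G U).symm p) (by
      apply (CGrpSh.sectEquiv Scheme.fppfPrecoverage G ((Over.map j).obj ((Over.pullback j).obj U))).injective
      refine Eq.trans ?_ (map_zero _).symm
      refine congrArg Additive.ofMul (Over.OverMorphism.ext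
        (f := (Over.mapPullbackAdj j).counit.app U ≫ Additive.toMul p) (g := toUnit _ ≫ η[G]) ?_)
      refine h0.trans ?_
      change _ = (toUnit ((Over.map j).obj ((Over.pullback j).obj U)) ≫ η[G]).left
      rw [Over.comp_left, ← Category.assoc]
      congr 1
      exact pullback.condition)
  exact ⟨z, congrArg (fun q => (Additive.toMul (CGrpSh.sectEquiv Scheme.fppfPrecoverage G U q)).left) hz⟩

variable {j G} [IsClosedImmersion j] (hj : j.ker * j.ker = ⊥)

/-- The identity object. -/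
abbrev one (W : Scheme.{u}) : Over W := Over.mk (𝟙 W)

instance (W : Scheme.{u}) [IsAffine W] : IsAffine (one W).left := inferInstanceAs (IsAffine W)

/-- Functions on the identity object. -/
abbrev cst {W : Scheme.{u}} (a : Γ(W, ⊤)) : Gam (one W) := a

lemma one_str {W : Scheme.{u}} (a : Γ(W, ⊤)) : (one W).hom.appTop a = a := rfl

/-- The subscheme of an object over the base. -/
abbrev gW {W : Scheme.{u}} (v : W ⟶ T) : Over.mk (pullback.fst v j) ⟶ one W :=
  Over.homMk (pullback.fst v j) (Category.comp_id _)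

include hj in
lemma fst_ker_sq {W : Scheme.{u}} (v : W ⟶ T) : (pullback.fst v j).ker ^ 2 = ⊥ := by
  rw [sq, Scheme.IdealSheafData.ker_fst_of_isClosedImmersion, ← BlowUpLib.comap_mul, hj,
    Scheme.IdealSheafData.comap_bot]

instance {W : Scheme.{u}} [IsAffine W] (v : W ⟶ T) : IsAffine (Over.mk (pullback.fst v j)).left :=
  isAffine_of_isAffineHom (pullback.fst v j)

lemma isAffine_fst {W : Scheme.{u}} [IsAffine W] (v : W ⟶ T) : IsAffine (pullback v j) :=
  isAffine_of_isAffineHom (pullback.fst v j)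

include hj in
lemma sqZero_gW {W : Scheme.{u}} [IsAffine W] (v : W ⟶ T) : SqZero (gW (j := j) v) := by
  haveI := isAffine_fst (j := j) v
  refine ⟨(IsClosedImmersion.isAffine_surjective_of_isAffine (pullback.fst v j)).2, fun a b ha hb => ?_⟩
  exact NilAffine.mul_eq_zero_of_sq (pullback.fst v j) (fst_ker_sq hj v) (U := ⊤) a b ha hb

variable {U : Over T} {W : Scheme.{u}} {v : W ⟶ T} (w : W ⟶ U.left) (hv : v = w ≫ U.hom)

/-- A section at an object over the base. -/
def tau : (NK j G).obj.obj (op U) →+ Pts v G (one W) :=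
  AddMonoidHom.mk' (fun x => Additive.ofMul
    ((Over.homMk w (by change w ≫ U.hom = 𝟙 W ≫ v; rw [Category.id_comp, hv]) : (Over.map v).obj (one W) ⟶ U) ≫
      Additive.toMul (nPts j G U x)))
    fun x y => by
      rw [map_add]
      exact congrArg Additive.ofMul (MonObj.comp_mul _ _ _)

omit [IsClosedImmersion j] in
lemma pl_tau (x : (NK j G).obj.obj (op U)) : pl v G (tau (j := j) w hv x) = w ≫ nl j G x := rfl

omit [IsClosedImmersion j] in
lemma rP_tau (x : (NK j G).obj.obj (op U)) : rP v G (gW (j := j) v) (tau w hv x) = 0 := by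
  refine pts_ext ?_
  rw [pl_rP, pl_tau, pl_zero]
  subst hv
  have h : pullback.fst (w ≫ U.hom) j = pullback.fst (w ≫ U.hom) j := rfl
  let q : pullback (w ≫ U.hom) j ⟶ pullback U.hom j :=
    pullback.lift (pullback.fst _ _ ≫ w) (pullback.snd _ _) (by rw [Category.assoc, pullback.condition])
  have e : q ≫ pullback.fst U.hom j = pullback.fst _ _ ≫ w := pullback.lift_fst _ _ _
  change pullback.fst _ _ ≫ w ≫ nl j G x = pullback.fst _ _ ≫ (w ≫ U.hom) ≫ (η[G]).left
  rw [← Category.assoc, ← e, Category.assoc, nl_cu, reassoc_of% e, Category.assoc]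

section Change

variable {W₀ : Scheme.{u}} [IsAffine W₀] [IsAffine W] (q : W ⟶ W₀) {v₀ : W₀ ⟶ T} (hq : v = q ≫ v₀)
  (C₀ : InfChart v₀ G) (C : InfChart v G)

include hj hq in
/-- Scalar multiples in coordinates are independent of the chart. -/
theorem log_change {a b : Pts v G (one W)} {a₀ b₀ : Pts v₀ G (one W₀)} (ha : pl v G a = q ≫ pl v₀ G a₀)
    (hb : pl v G b = q ≫ pl v₀ G b₀) (hk : rP v G (gW (j := j) v) a = 0) {D₀ : Γ(C₀.O, ⊤) → Gam (one W₀)}
    {r : Γ(W₀, ⊤)} (h₀ : C₀.Log a₀ D₀) (h₀' : C₀.Log b₀ fun c => cst r * D₀ c) {D : Γ(C.O, ⊤) → Gam (one W)}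
    (h : C.Log a D) : C.Log b fun c => cst (q.appTop r) * D c := by
  haveI := isAffine_fst (j := j) v
  have hg := sqZero_gW hj v
  obtain ⟨D', hD', k'⟩ := exists_log_of_ker (C := C) hg a hk
  obtain rfl : D' = D := hD'.unique h
  have hD : ∀ c d, D' c * D' d = 0 := fun c d => hg.2 _ _ (k' c) (k' d)
  obtain ⟨Dadd, Dσ, Dmul⟩ := hD'.w
  obtain ⟨b', hb'⟩ := exists_log (C := C) (Z := one W) (fun c => cst (q.appTop r) * D' c)
    (fun c d => by rw [Dadd, mul_add]) (fun c => by rw [Dσ, mul_zero])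
    (fun c d => by rw [Dmul, hD, add_zero]; ring)
    (fun c d => by rw [_root_.mul_mul_mul_comm, hD, mul_zero])
  -- the comparison of the charts
  let Z : Over W₀ := Over.mk (C.σ ≫ q)
  let Z₀ : Over W₀ := Over.mk q
  let g : Z₀ ⟶ Z := Over.homMk C.eT (by
    change C.eT ≫ C.σ ≫ q = q
    rw [reassoc_of% C.eT_σ])
  have hgs : SqZero g := ⟨fun c => ⟨C.σ.appTop c, C.eps_σ c⟩, fun c d hc hd => C.sq c d hc hd⟩
  let x : Pts v₀ G Z := mkP v₀ G C.inc
    (C.hw.trans ((congrArg (C.σ ≫ ·) hq).trans (Category.assoc _ _ _).symm))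
  obtain ⟨θ, hθ, hθσ⟩ := C₀.factor (inferInstanceAs (IsAffine C.O)) (inferInstanceAs (IsAffine W)) g hgs x (by
    refine pts_ext ?_
    rw [pl_rP, pl_zero]
    change C.eT ≫ C.inc = q ≫ v₀ ≫ (η[G]).left
    rw [C.eT_inc, hq, Category.assoc])
  have hθ' : θ ≫ C₀.inc = C.inc := hθ
  have hθσ' : θ ≫ C₀.σ = C.σ ≫ q := hθσ
  have heps : ∀ c, C.eps (θ.appTop c) = q.appTop (C₀.eps c) := fun c => by
    have e : C.eT ≫ θ = q ≫ C₀.eT := C₀.inj _ _
      (by rw [Category.assoc, hθ', C.eT_inc, Category.assoc, C₀.eT_inc, hq, Category.assoc])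
      (by rw [Category.assoc, hθσ', reassoc_of% C.eT_σ, Category.assoc, C₀.eT_σ, Category.comp_id])
    exact (appTop_comp_apply C.eT θ c).symm.trans
      ((congrArg (fun f => f.appTop c) e).trans (appTop_comp_apply q C₀.eT c))
  obtain ⟨y, hy, hyσ, hyD⟩ := hD'
  obtain ⟨y₀, hy₀, hy₀σ, hy₀D⟩ := h₀
  have hDθ : ∀ c, D' (θ.appTop c) = q.appTop (D₀ c) := fun c => by
    have e : y ≫ θ = q ≫ y₀ := C₀.inj _ _
      (by rw [Category.assoc, hθ', hy, Category.assoc, hy₀, ha])
      (by rw [Category.assoc, hθσ', reassoc_of% hyσ, Category.assoc, hy₀σ]; simp)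
    have e' := congrArg (fun f => f.appTop c) e
    simp only at e'
    have e1 : cst (C.eps (θ.appTop c)) + D' (θ.appTop c) = q.appTop (cst (C₀.eps c) + D₀ c) := by
      refine (hyD _).symm.trans (((appTop_comp_apply y θ c).symm.trans e').trans ?_)
      exact (appTop_comp_apply q y₀ c).trans (congrArg q.appTop (hy₀D c))
    rw [heps] at e1
    exact add_left_cancel (e1.trans (map_add q.appTop.hom _ _))
  obtain ⟨y', hy', hy'σ, hy'D⟩ := id hb'
  obtain ⟨y₀', hy₀', hy₀'σ, hy₀'D⟩ := h₀'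
  have e : y' ≫ θ = q ≫ y₀' := ext_of_isAffine (by
    ext c
    refine (appTop_comp_apply y' θ c).trans ((hy'D _).trans (Eq.trans ?_ (appTop_comp_apply q y₀' c).symm))
    refine Eq.trans ?_ (congrArg q.appTop (hy₀'D c)).symm
    change cst (C.eps (θ.appTop c)) + cst (q.appTop r) * D' (θ.appTop c) = q.appTop (cst (C₀.eps c) + cst r * D₀ c)
    rw [heps, hDθ]
    exact ((map_add q.appTop.hom _ _).trans (congrArg _ (map_mul q.appTop.hom _ _))).symm)
  have : b' = b := pts_ext (by rw [← hy', hb, ← hy₀', ← hθ', reassoc_of% e])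
  exact this ▸ hb'

end Change

variable [Smooth G.hom]

variable (j G) in
/-- Scalar multiples of sections, in coordinates. -/
def SRel (U : Over T) (r : Γ(U.left, ⊤)) (x y : (NK j G).obj.obj (op U)) : Prop :=
  ∀ (W : Scheme.{u}) (_ : IsAffine W) (w : W ⟶ U.left) (v : W ⟶ T) (hv : v = w ≫ U.hom) (C : InfChart v G)
    (D : Γ(C.O, ⊤) → Gam (one W)), C.Log (tau w hv x) D → C.Log (tau w hv y) fun c => cst (w.appTop r) * D c

omit [IsClosedImmersion j] [Smooth G.hom] in
lemma SRel.map {r : Γ(U.left, ⊤)} {x y : (NK j G).obj.obj (op U)} (h : SRel j G U r x y) {U' : Over T} (g : U' ⟶ U) :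
    SRel j G U' (g.left.appTop r) ((NK j G).obj.map g.op x) ((NK j G).obj.map g.op y) := by
  intro W hW w v hv C D hD
  have hv' : v = (w ≫ g.left) ≫ U.hom := by rw [hv, Category.assoc, Over.w g]
  have e : ∀ z, tau w hv ((NK j G).obj.map g.op z) = tau (w ≫ g.left) hv' z := fun z =>
    pts_ext (by rw [pl_tau, pl_tau, nl_map, Category.assoc])
  rw [e] at hD ⊢
  simpa only [appTop_comp_apply] using h W hW (w ≫ g.left) v hv' C D hD

include hj in
/-- A scalar multiple is unique. -/
lemma SRel.unique {r : Γ(U.left, ⊤)} {x y y' : (NK j G).obj.obj (op U)} (h : SRel j G U r x y)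
    (h' : SRel j G U r x y') : y = y' := by
  refine nl_ext j G (Scheme.Cover.hom_ext U.left.affineCover _ _ fun i => ?_)
  let w := U.left.affineCover.f i
  haveI := isAffine_fst (j := j) (w ≫ U.hom)
  obtain ⟨C⟩ := exists_infChart (w ≫ U.hom) G
  obtain ⟨D, hD, -⟩ := exists_log_of_ker (C := C) (sqZero_gW hj _) _ (rP_tau w rfl x)
  have := congrArg (fun z => pl (w ≫ U.hom) G z)
    ((h _ inferInstance w _ rfl C D hD).eq (h' _ inferInstance w _ rfl C D hD))
  exact this

include hj in
lemma exists_srel_affine [IsAffine U.left] (r : Γ(U.left, ⊤)) (x : (NK j G).obj.obj (op U)) :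
    ∃ y, SRel j G U r x y := by
  have h1 : U.hom = 𝟙 U.left ≫ U.hom := (Category.id_comp _).symm
  haveI := isAffine_fst (j := j) U.hom
  obtain ⟨C₀⟩ := exists_infChart U.hom G
  have hg := sqZero_gW hj U.hom
  obtain ⟨D₀, h₀, k₀⟩ := exists_log_of_ker (C := C₀) hg _ (rP_tau (𝟙 _) h1 x)
  have hD : ∀ c d, D₀ c * D₀ d = 0 := fun c d => hg.2 _ _ (k₀ c) (k₀ d)
  obtain ⟨Dadd, Dσ, Dmul⟩ := h₀.w
  obtain ⟨b₀, hb₀⟩ := exists_log (C := C₀) (Z := one U.left) (fun c => cst r * D₀ c)
    (fun c d => by rw [Dadd, mul_add]) (fun c => by rw [Dσ, mul_zero])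
    (fun c d => by rw [Dmul, hD, add_zero]; ring)
    (fun c d => by rw [_root_.mul_mul_mul_comm, hD, mul_zero])
  have hb0 : rP U.hom G (gW (j := j) U.hom) b₀ = 0 := by
    have h := hb₀.map (gW (j := j) U.hom)
    simp only [map_mul, k₀, mul_zero] at h
    exact h.eq (C₀.log_zero _)
  obtain ⟨y, hy⟩ := exists_nl j G (pl U.hom G b₀) ((pl_w b₀).trans (Category.id_comp _)) (by
    have h := congrArg (fun z => pl U.hom G z) hb0
    simp only [pl_rP, pl_zero] at h
    exact h)
  refine ⟨y, fun W hW w v hv C D hD' => ?_⟩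
  exact log_change hj w hv C₀ C (by rw [pl_tau, pl_tau, Category.id_comp])
    (by rw [pl_tau, hy]) (rP_tau w hv x) h₀ hb₀ hD'

include hj in
/-- Local scalar multiples agree with candidates in coordinates. -/
lemma eq_of_srel {U' : Over T} (g : U' ⟶ U) {r : Γ(U.left, ⊤)} {x y : (NK j G).obj.obj (op U)}
    (h : SRel j G U' (g.left.appTop r) ((NK j G).obj.map g.op x) ((NK j G).obj.map g.op y)) [IsAffine W]
    {C : InfChart v G} {D : Γ(C.O, ⊤) → Gam (one W)} (hD : C.Log (tau w hv x) D) {b : Pts v G (one W)}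
    (hb : C.Log b fun c => cst (w.appTop r) * D c) {W' : Scheme.{u}} [IsAffine W'] (q : W' ⟶ W) (wi : W' ⟶ U'.left)
    (hq : q ≫ w = wi ≫ g.left) : q ≫ pl v G b = q ≫ w ≫ nl j G y := by
  have hvi : q ≫ v = wi ≫ U'.hom := by rw [hv, ← Over.w g, reassoc_of% hq]
  obtain ⟨C'⟩ := exists_infChart (q ≫ v) G
  haveI := isAffine_fst (j := j) (q ≫ v)
  obtain ⟨E, hE, -⟩ := exists_log_of_ker (C := C') (sqZero_gW hj _) _ (rP_tau wi hvi ((NK j G).obj.map g.op x))
  have h1 := h W' inferInstance wi _ hvi C' E hE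
  let b' : Pts (q ≫ v) G (one W') := mkP (q ≫ v) G (q ≫ pl v G b) (by
    rw [Category.assoc, pl_w]
    change q ≫ 𝟙 W ≫ v = 𝟙 W' ≫ q ≫ v
    rw [Category.id_comp, Category.id_comp])
  have h2 : C'.Log b' fun c => cst (q.appTop (w.appTop r)) * E c :=
    log_change hj q rfl C C' (by rw [pl_tau, pl_tau, nl_map, ← reassoc_of% hq]) (pl_mkP _ _ _ _)
      (rP_tau wi hvi ((NK j G).obj.map g.op x)) hD hb hE
  have h3 : q.appTop (w.appTop r) = wi.appTop (g.left.appTop r) := by
    rw [← appTop_comp_apply, ← appTop_comp_apply, hq]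
  rw [h3] at h2
  have e := congrArg (fun z => pl (q ≫ v) G z) (h2.eq h1)
  simp only [b', pl_mkP, pl_tau, nl_map] at e
  rw [e, ← reassoc_of% hq]

include hj in
/-- A section which is a scalar multiple locally is one. -/
lemma SRel.of_cover (𝒰 : U.left.OpenCover) {r : Γ(U.left, ⊤)} {x y : (NK j G).obj.obj (op U)}
    (h : ∀ i, SRel j G (Over.mk (𝒰.f i ≫ U.hom)) ((𝒰.f i).appTop r)
      ((NK j G).obj.map (Over.homMk (𝒰.f i) rfl : Over.mk (𝒰.f i ≫ U.hom) ⟶ U).op x)
      ((NK j G).obj.map (Over.homMk (𝒰.f i) rfl : Over.mk (𝒰.f i ≫ U.hom) ⟶ U).op y)) :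
    SRel j G U r x y := by
  intro W hW w v hv C D hD
  haveI := hW
  haveI := isAffine_fst (j := j) v
  have hg := sqZero_gW hj v
  obtain ⟨D', hD', k⟩ := exists_log_of_ker (C := C) hg _ (rP_tau w hv x)
  obtain rfl : D' = D := hD'.unique hD
  have hDD : ∀ c d, D' c * D' d = 0 := fun c d => hg.2 _ _ (k c) (k d)
  obtain ⟨Dadd, Dσ, Dmul⟩ := hD.w
  obtain ⟨b, hb⟩ := exists_log (C := C) (Z := one W) (fun c => cst (w.appTop r) * D' c)
    (fun c d => by rw [Dadd, mul_add]) (fun c => by rw [Dσ, mul_zero])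
    (fun c d => by rw [Dmul, hDD, add_zero]; ring)
    (fun c d => by rw [_root_.mul_mul_mul_comm, hDD, mul_zero])
  suffices e : b = tau w hv y by exact e ▸ hb
  refine pts_ext ?_
  rw [pl_tau]
  refine Scheme.Cover.hom_ext (𝒰.pullback₁ w) _ _ fun i => ?_
  refine Scheme.Cover.hom_ext ((𝒰.pullback₁ w).X i).affineCover _ _ fun k => ?_
  let W' := ((𝒰.pullback₁ w).X i).affineCover.X k
  let p : W' ⟶ pullback w (𝒰.f i) := ((𝒰.pullback₁ w).X i).affineCover.f k
  haveI : IsAffine W' := Scheme.isAffine_affineCover _ k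
  exact (Category.assoc _ _ _).symm.trans ((eq_of_srel hj w hv _ (h i) hD hb (p ≫ pullback.fst w (𝒰.f i))
    (p ≫ pullback.snd w (𝒰.f i)) ((Category.assoc _ _ _).trans ((congrArg (p ≫ ·) pullback.condition).trans
      (Category.assoc _ _ _).symm))).trans (Category.assoc _ _ _))

include hj in
/-- Scalar multiples exist. -/
theorem exists_srel (U : Over T) (r : Γ(U.left, ⊤)) (x : (NK j G).obj.obj (op U)) : ∃ y, SRel j G U r x y := by
  let 𝒰 := U.left.affineCover
  let Ui : 𝒰.I₀ → Over T := fun i => Over.mk (𝒰.f i ≫ U.hom)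
  let πi : ∀ i, Ui i ⟶ U := fun i => Over.homMk (𝒰.f i) rfl
  haveI : ∀ i, IsAffine (Ui i).left := fun i => inferInstanceAs (IsAffine (𝒰.X i))
  choose y hy using fun i => exists_srel_affine hj (U := Ui i) ((𝒰.f i).appTop r) ((NK j G).obj.map (πi i).op x)
  have hgl : ∀ i k, pullback.fst (𝒰.f i) (𝒰.f k) ≫ nl j G (y i) = pullback.snd _ _ ≫ nl j G (y k) := by
    intro i k
    let P : Over T := Over.mk (pullback.fst (𝒰.f i) (𝒰.f k) ≫ 𝒰.f i ≫ U.hom)
    let a : P ⟶ Ui i := Over.homMk (pullback.fst (𝒰.f i) (𝒰.f k)) rfl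
    let b : P ⟶ Ui k := Over.homMk (pullback.snd (𝒰.f i) (𝒰.f k)) (by
      change pullback.snd (𝒰.f i) (𝒰.f k) ≫ 𝒰.f k ≫ U.hom = _
      rw [← reassoc_of% pullback.condition]
      rfl)
    have hab : a ≫ πi i = b ≫ πi k := Over.OverMorphism.ext pullback.condition
    have h1 := (hy i).map a
    have h2 := (hy k).map b
    have ex : (NK j G).obj.map b.op ((NK j G).obj.map (πi k).op x) =
        (NK j G).obj.map a.op ((NK j G).obj.map (πi i).op x) := by
      apply nl_ext j G
      rw [nl_map, nl_map, nl_map, nl_map]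
      have e' : a.left ≫ (πi i).left = b.left ≫ (πi k).left := congrArg Over.Hom.left hab
      rw [reassoc_of% e']
    have er : b.left.appTop ((𝒰.f k).appTop r) = a.left.appTop ((𝒰.f i).appTop r) := by
      change (pullback.snd (𝒰.f i) (𝒰.f k)).appTop ((𝒰.f k).appTop r) =
        (pullback.fst (𝒰.f i) (𝒰.f k)).appTop ((𝒰.f i).appTop r)
      rw [← appTop_comp_apply, ← appTop_comp_apply, pullback.condition]
    rw [ex, er] at h2
    have e := congrArg (nl j G) (h1.unique hj h2)
    rw [nl_map, nl_map] at e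
    exact e
  let m : U.left ⟶ G.left := 𝒰.glueMorphisms (fun i => nl j G (y i)) hgl
  have hm : ∀ i, 𝒰.f i ≫ m = nl j G (y i) := fun i => Scheme.Cover.ι_glueMorphisms 𝒰 _ hgl i
  obtain ⟨z, hz⟩ := exists_nl j G (U := U) m
    (Scheme.Cover.hom_ext 𝒰 _ _ fun i => by rw [reassoc_of% hm i]; exact nl_w j G (y i))
    (Scheme.Cover.hom_ext (𝒰.pullback₁ (pullback.fst U.hom j)) _ _ fun i => by
      let e : pullback (pullback.fst U.hom j) (𝒰.f i) ⟶ pullback (𝒰.f i ≫ U.hom) j :=
        pullback.lift (pullback.snd _ _) (pullback.fst _ _ ≫ pullback.snd U.hom j) (by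
          rw [← reassoc_of% pullback.condition, pullback.condition, Category.assoc])
      have he : e ≫ pullback.fst (𝒰.f i ≫ U.hom) j = pullback.snd _ _ := pullback.lift_fst _ _ _
      change pullback.fst (pullback.fst U.hom j) (𝒰.f i) ≫ pullback.fst U.hom j ≫ m =
        pullback.fst (pullback.fst U.hom j) (𝒰.f i) ≫ pullback.fst U.hom j ≫ U.hom ≫ (η[G]).left
      rw [pullback.condition_assoc, pullback.condition_assoc, hm, ← he, Category.assoc, Category.assoc]
      refine (congrArg (e ≫ ·) (nl_cu j G (Ui i) (y i))).trans ?_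
      change e ≫ pullback.fst _ _ ≫ (𝒰.f i ≫ U.hom) ≫ (η[G]).left = _
      rw [Category.assoc])
  refine ⟨z, SRel.of_cover hj 𝒰 fun i => ?_⟩
  have : y i = (NK j G).obj.map (πi i).op z := nl_ext j G (by rw [nl_map, hz]; exact (hm i).symm)
  exact this ▸ hy i

/-- Scalar multiplication. -/
def smulN (U : Over T) (r : Γ(U.left, ⊤)) (x : (NK j G).obj.obj (op U)) : (NK j G).obj.obj (op U) :=
  (exists_srel hj U r x).choose

lemma smulN_spec (U : Over T) (r : Γ(U.left, ⊤)) (x : (NK j G).obj.obj (op U)) :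
    SRel j G U r x (smulN hj U r x) :=
  (exists_srel hj U r x).choose_spec

include hj in
lemma srel_add (U : Over T) {r r' : Γ(U.left, ⊤)} {x y y' : (NK j G).obj.obj (op U)} (h : SRel j G U r x y)
    (h' : SRel j G U r' x y') : SRel j G U (r + r') x (y + y') := by
  intro W hW w v hv C D hD
  haveI := hW
  haveI := isAffine_fst (j := j) v
  have hg := sqZero_gW hj v
  obtain ⟨D', hD', k⟩ := exists_log_of_ker (C := C) hg _ (rP_tau w hv x)
  obtain rfl : D' = D := hD'.unique hD
  rw [map_add]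
  simpa only [map_add, add_mul] using InfChart.log_add hg (h W hW w v hv C D' hD) (h' W hW w v hv C D' hD)
    (fun a => by rw [map_mul, k, mul_zero]) (fun a => by rw [map_mul, k, mul_zero])

include hj in
lemma srel_add_right (U : Over T) {r : Γ(U.left, ⊤)} {x x' y y' : (NK j G).obj.obj (op U)} (h : SRel j G U r x y)
    (h' : SRel j G U r x' y') : SRel j G U r (x + x') (y + y') := by
  intro W hW w v hv C D hD
  haveI := hW
  haveI := isAffine_fst (j := j) v
  have hg := sqZero_gW hj v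
  obtain ⟨D₁, hD₁, k₁⟩ := exists_log_of_ker (C := C) hg _ (rP_tau w hv x)
  obtain ⟨D₂, hD₂, k₂⟩ := exists_log_of_ker (C := C) hg _ (rP_tau w hv x')
  have hs := InfChart.log_add hg hD₁ hD₂ k₁ k₂
  rw [← map_add] at hs
  obtain rfl := hD.unique hs
  rw [map_add]
  simpa only [mul_add] using InfChart.log_add hg (h W hW w v hv C D₁ hD₁) (h' W hW w v hv C D₂ hD₂)
    (fun a => by rw [map_mul, k₁, mul_zero]) (fun a => by rw [map_mul, k₂, mul_zero])

omit [IsClosedImmersion j] [Smooth G.hom] in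
lemma srel_one (U : Over T) (x : (NK j G).obj.obj (op U)) : SRel j G U 1 x x := by
  intro W hW w v hv C D hD
  simpa only [map_one, _root_.one_mul] using hD

omit [IsClosedImmersion j] [Smooth G.hom] in
lemma srel_mul (U : Over T) {r r' : Γ(U.left, ⊤)} {x y z : (NK j G).obj.obj (op U)} (h : SRel j G U r' x y)
    (h' : SRel j G U r y z) : SRel j G U (r * r') x z := by
  intro W hW w v hv C D hD
  simpa only [map_mul, _root_.mul_assoc] using h' W hW w v hv C _ (h W hW w v hv C D hD)

/-- The module structure on sections. -/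
@[instance_reducible]
def moduleN (U : Over T) : Module Γ(U.left, ⊤) ((NK j G).obj.obj (op U)) where
  smul r x := smulN (G := G) hj U r x
  one_smul x := (smulN_spec (G := G) hj U 1 x).unique hj (srel_one U x)
  mul_smul r r' x := (smulN_spec (G := G) hj U (r * r') x).unique hj
    (srel_mul U (smulN_spec (G := G) hj U r' x) (smulN_spec (G := G) hj U r _))
  smul_zero r := by
    have h := (smulN_spec (G := G) hj U r (0 + 0)).unique hj
      (srel_add_right hj U (smulN_spec (G := G) hj U r 0) (smulN_spec (G := G) hj U r 0))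
    rw [add_zero] at h
    exact left_eq_add.mp h
  smul_add r x y := (smulN_spec (G := G) hj U r (x + y)).unique hj
    (srel_add_right hj U (smulN_spec (G := G) hj U r x) (smulN_spec (G := G) hj U r y))
  add_smul r r' x := (smulN_spec (G := G) hj U (r + r') x).unique hj
    (srel_add hj U (smulN_spec (G := G) hj U r x) (smulN_spec (G := G) hj U r' x))
  zero_smul x := by
    have h := (smulN_spec (G := G) hj U (0 + 0) x).unique hj
      (srel_add hj U (smulN_spec (G := G) hj U 0 x) (smulN_spec (G := G) hj U 0 x))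
    rw [add_zero] at h
    exact left_eq_add.mp h

lemma smulN_map {U U' : Over T} (g : U' ⟶ U) (r : Γ(U.left, ⊤)) (x : (NK j G).obj.obj (op U)) :
    (NK j G).obj.map g.op (smulN hj U r x) = smulN hj U' (g.left.appTop r) ((NK j G).obj.map g.op x) :=
  ((smulN_spec (G := G) hj U r x).map g).unique hj (smulN_spec (G := G) hj U' _ _)

end Groth.Agent.BigSiteLib.SqKer
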