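import Groth.Agent.BigSiteLib.SqKer
import Groth.Agent.BigSiteLib.SqExtStalk
import Groth.Agent.BigSiteLib.SmInfExact
import Mathlib.RingTheory.Flat.EquationalCriterion

/-!
The kernel of restriction along a square-zero thickening on flat affine schemes over an affine open.
-/

set_option autoImplicit false
set_option linter.style.haveILetI false
set_option backward.isDefEq.respectTransparency false
set_option backward.defeqAttrib.useBackward true
universe u

noncomputable section

namespace Groth.Agent.BigSiteLib.SqPres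

open CategoryTheory Limits Opposite AlgebraicGeometry MonObj MonoidalCategory CartesianMonoidalCategory
open InfChart (exists_log exists_log_of_ker)
open SqKer SqExt

variable {T T₀ : Scheme.{u}} {j : T₀ ⟶ T} [IsClosedImmersion j] {G : Over T} [GrpObj G] [IsCommMonObj G]
  [Smooth G.hom] (hj : j.ker * j.ker = ⊥)

/-- The module structure over the sections of the structure sheaf. -/
@[instance_reducible]
def modU (U : (Over T)ᵒᵖ) :
    Module ((BigSite.ORing Scheme.fppfPrecoverage T).obj.obj U) ((NK j G).obj.obj U) :=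
  letI := moduleN (G := G) hj U.unop
  inferInstanceAs (Module (ULift.{u + 1} Γ(U.unop.left, ⊤)) ((NK j G).obj.obj (op U.unop)))

/-- The kernel as a module over the structure sheaf. -/
def NMod : BigSite.Mod Scheme.fppfPrecoverage T :=
  letI := modU (G := G) hj
  { val := PresheafOfModules.ofPresheaf (R := (BigSite.ORing Scheme.fppfPrecoverage T).obj) (NK j G).obj
      fun U U' g r x => smulN_map (G := G) hj g.unop r.down x
    isSheaf := (NK j G).property }

/-- Its underlying sheaf is the kernel. -/
lemma toAb_NMod : (BigSite.toAbMod Scheme.fppfPrecoverage T).obj (NMod (G := G) hj) = NK j G := rfl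

/-- The morphism of a section. -/
abbrev npl {U : Over T} (z : (NMod (G := G) hj).val.obj (op U)) : U.left ⟶ G.left := nl j G z

lemma smul_NMod (U : Over T) (r : Rg U) (z : (NMod (G := G) hj).val.obj (op U)) :
    (r • z : (NMod (G := G) hj).val.obj (op U)) = smulN (G := G) hj U r.down z := rfl

section Coord

variable {X : Over T} [IsAffine X.left] (C : InfChart X.hom G) {W : Over T} [IsAffine W.left] (a : W ⟶ X)

/-- An object over the open. -/
abbrev ZW : Over X.left := Over.mk a.left

instance : IsAffine (ZW a).left := inferInstanceAs (IsAffine W.left)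

/-- Its subscheme. -/
abbrev gA : Over.mk (pullback.fst W.hom j ≫ a.left) ⟶ ZW a := Over.homMk (pullback.fst W.hom j) rfl

instance : IsAffine (Over.mk (pullback.fst W.hom j ≫ a.left)).left :=
  isAffine_of_isAffineHom (pullback.fst W.hom j)

omit [IsAffine X.left] in
include hj in
lemma sqZero_gA : SqZero (gA (j := j) a) :=
  ⟨(sqZero_gW hj W.hom).1, (sqZero_gW hj W.hom).2⟩

/-- A section as a point over the open. -/
def ptA : (NK j G).obj.obj (op W) →+ Pts X.hom G (ZW a) :=
  AddMonoidHom.mk' (fun z => Additive.ofMul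
    ((Over.homMk (𝟙 W.left) (by
      change 𝟙 W.left ≫ W.hom = a.left ≫ X.hom
      rw [Category.id_comp, Over.w a]) : (Over.map X.hom).obj (ZW a) ⟶ W) ≫ Additive.toMul (nPts j G W z)))
    fun z z' => by
      rw [map_add]
      exact congrArg Additive.ofMul (MonObj.comp_mul _ _ _)

omit [IsAffine X.left] [IsAffine W.left] [Smooth G.hom] [IsClosedImmersion j] in
lemma pl_ptA (z : (NK j G).obj.obj (op W)) : pl X.hom G (ptA a z) = nl j G z := Category.id_comp _

omit [IsAffine X.left] [IsAffine W.left] [Smooth G.hom] [IsClosedImmersion j] in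
lemma rP_ptA (z : (NK j G).obj.obj (op W)) : rP X.hom G (gA (j := j) a) (ptA a z) = 0 := by
  refine pts_ext ?_
  rw [pl_rP, pl_ptA, pl_zero]
  change pullback.fst W.hom j ≫ nl j G z = (pullback.fst W.hom j ≫ a.left) ≫ X.hom ≫ (η[G]).left
  rw [nl_cu, Category.assoc, ← reassoc_of% (Over.w a)]

include hj in
lemma exists_crd (z : (NK j G).obj.obj (op W)) :
    ∃ D, C.Log (ptA a z) D ∧ ∀ c, rg (gA (j := j) a) (D c) = 0 :=
  exists_log_of_ker (C := C) (sqZero_gA hj a) _ (rP_ptA a z)

/-- The coordinates of a section. -/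
def crd (z : (NMod (G := G) hj).val.obj (op W)) : Γ(C.O, ⊤) → Gam (ZW a) := (exists_crd hj C a z).choose

lemma crd_log (z : (NMod (G := G) hj).val.obj (op W)) : C.Log (ptA a (show (NK j G).obj.obj (op W) from z)) (crd hj C a z) :=
  (exists_crd hj C a z).choose_spec.1

lemma crd_kills (z : (NMod (G := G) hj).val.obj (op W)) (c : Γ(C.O, ⊤)) : rg (gA (j := j) a) (crd hj C a z c) = 0 :=
  (exists_crd hj C a z).choose_spec.2 c

lemma crd_add (z z' : (NMod (G := G) hj).val.obj (op W)) :
    crd hj C a (z + z') = fun c => crd hj C a z c + crd hj C a z' c := by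
  have h := InfChart.log_add (sqZero_gA hj a) (crd_log hj C a z) (crd_log hj C a z') (crd_kills hj C a z) (crd_kills hj C a z')
  have h' := crd_log hj C a (z + z')
  rw [← map_add (ptA a)] at h
  exact h'.unique h

lemma crd_zero : crd hj C a (0 : (NMod (G := G) hj).val.obj (op W)) = fun _ => 0 := by
  have h := crd_log hj C a (0 : (NMod (G := G) hj).val.obj (op W))
  have e : ptA (j := j) a (0 : (NK j G).obj.obj (op W)) = (0 : Pts X.hom G (ZW a)) := map_zero _
  exact h.unique (e ▸ C.log_zero (ZW a))

lemma crd_injective {z z' : (NMod (G := G) hj).val.obj (op W)} (h : crd hj C a z = crd hj C a z') : z = z' := by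
  have e := (crd_log hj C a z).eq (h ▸ crd_log hj C a z')
  refine nl_ext j G ?_
  rw [← pl_ptA a, e, pl_ptA]

lemma crd_mul_zero (z : (NMod (G := G) hj).val.obj (op W)) (c c' : Γ(C.O, ⊤)) :
    crd hj C a z c * crd hj C a z c' = 0 :=
  (sqZero_gA hj a).2 _ _ (crd_kills hj C a z c) (crd_kills hj C a z c')

lemma crd_smul (r : Rg W) (z : (NMod (G := G) hj).val.obj (op W)) :
    crd hj C a (r • z) = fun c => (show Gam (ZW a) from r.down) * crd hj C a z c := by
  have hv : W.hom = 𝟙 W.left ≫ W.hom := (Category.id_comp _).symm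
  obtain ⟨C'⟩ := exists_infChart W.hom G
  -- the comparison of the charts
  let Z : Over X.left := Over.mk (C'.σ ≫ a.left)
  let g : ZW a ⟶ Z := Over.homMk C'.eT (by
    change C'.eT ≫ C'.σ ≫ a.left = a.left
    rw [reassoc_of% C'.eT_σ])
  have hgs : SqZero g := ⟨fun c => ⟨C'.σ.appTop c, C'.eps_σ c⟩, fun c d hc hd => C'.sq c d hc hd⟩
  let p : Pts X.hom G Z := mkP X.hom G C'.inc
    (C'.hw.trans ((congrArg (C'.σ ≫ ·) (Over.w a).symm).trans (Category.assoc _ _ _).symm))
  obtain ⟨θ, hθ, hθσ⟩ := C.factor (inferInstanceAs (IsAffine C'.O)) (inferInstanceAs (IsAffine W.left)) g hgs p (by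
    refine pts_ext ?_
    rw [pl_rP, pl_zero]
    change C'.eT ≫ C'.inc = a.left ≫ X.hom ≫ (η[G]).left
    rw [C'.eT_inc, ← reassoc_of% (Over.w a)])
  have hθ' : θ ≫ C.inc = C'.inc := hθ
  have hθσ' : θ ≫ C.σ = C'.σ ≫ a.left := hθσ
  have heps : ∀ c, C'.eps (θ.appTop c) = a.left.appTop (C.eps c) := fun c => by
    have e : C'.eT ≫ θ = a.left ≫ C.eT := C.inj _ _
      (by rw [Category.assoc, hθ', C'.eT_inc, Category.assoc, C.eT_inc, ← reassoc_of% (Over.w a)])
      (by rw [Category.assoc, hθσ', reassoc_of% C'.eT_σ, Category.assoc, C.eT_σ, Category.comp_id])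
    exact (appTop_comp_apply C'.eT θ c).symm.trans
      ((congrArg (fun f => f.appTop c) e).trans (appTop_comp_apply a.left C.eT c))
  have key : ∀ (z : (NK j G).obj.obj (op W)) (D' : Γ(C'.O, ⊤) → Gam (one W.left)),
      C'.Log (tau (𝟙 _) hv z) D' → C.Log (ptA a z) fun c => D' (θ.appTop c) := by
    rintro z D' ⟨y, hy, hyσ, hyD⟩
    let y' : W.left ⟶ C'.O := y
    have hy' : y' ≫ C'.inc = nl j G z := hy.trans ((pl_tau (𝟙 W.left) hv z).trans (Category.id_comp _))
    have hyσ' : y' ≫ C'.σ = 𝟙 W.left := hyσ
    have h1 : (y' ≫ θ) ≫ C.inc = nl j G z := by rw [Category.assoc, hθ', hy']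
    have h2 : (y' ≫ θ) ≫ C.σ = a.left := by rw [Category.assoc, hθσ', reassoc_of% hyσ']
    refine ⟨y' ≫ θ, h1.trans (pl_ptA a z).symm, h2, fun c => ?_⟩
    exact (appTop_comp_apply y θ c).trans ((hyD _).trans (congrArg (fun t => cst (W := W.left) t + D' (θ.appTop c)) (heps c)))
  obtain ⟨D', hD', -⟩ := exists_log_of_ker (C := C') (sqZero_gW hj _) _
    (rP_tau (𝟙 W.left) hv (show (NK j G).obj.obj (op W) from z))
  have h1 := (crd_log hj C a z).unique (key _ _ hD')
  have h2 := (crd_log hj C a (r • z)).unique
    (key _ _ (smulN_spec hj W r.down z W.left inferInstance (𝟙 _) W.hom hv C' D' hD'))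
  rw [h2, h1]
  funext c
  simp only [Scheme.Hom.id_appTop]
  rfl

lemma crd_map {W' : Over T} [IsAffine W'.left] (k : W' ⟶ W) (z : (NMod (G := G) hj).val.obj (op W)) :
    crd hj C (k ≫ a) (mr (NMod (G := G) hj) k z) = fun c => k.left.appTop (crd hj C a z c) := by
  let g : ZW (k ≫ a) ⟶ ZW a := Over.homMk k.left rfl
  have h := (crd_log hj C a z).map g
  have e : rP X.hom G g (ptA a (show (NK j G).obj.obj (op W) from z)) =
      ptA (k ≫ a) ((NK j G).obj.map k.op (show (NK j G).obj.obj (op W) from z)) :=
    pts_ext (by rw [pl_rP, pl_ptA, pl_ptA, nl_map]; rfl)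
  exact (crd_log hj C (k ≫ a) _).unique (e ▸ h)

variable {n : ℕ} {x : Fin n → Γ(C.O, ⊤)} {l : Γ(C.O, ⊤) → Fin n → Γ(X.left, ⊤)} (hx : ∀ k, C.eps (x k) = 0)
  (ladd : ∀ c d, l (c + d) = l c + l d) (lsmul : ∀ r c, l (C.σ.appTop r * c) = r • l c)
  (lσ : ∀ r, l (C.σ.appTop r) = 0) (ldec : ∀ c, c = C.σ.appTop (C.eps c) + ∑ k, C.σ.appTop (l c k) * x k)

/-- Functions of the open on an object. -/
abbrev sA (r : Γ(X.left, ⊤)) : Gam (ZW a) := a.left.appTop r

include hx ldec in
lemma crd_eq (z : (NMod (G := G) hj).val.obj (op W)) (c : Γ(C.O, ⊤)) :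
    crd hj C a z c = ∑ k, sA a (l c k) * crd hj C a z (x k) := by
  classical
  obtain ⟨za, zσ, zm⟩ := (crd_log hj C a z).w
  have hsum : ∀ s : Finset (Fin n), crd hj C a z (∑ k ∈ s, C.σ.appTop (l c k) * x k) =
      ∑ k ∈ s, sA a (l c k) * crd hj C a z (x k) := fun s => by
    have z0 : crd hj C a z 0 = 0 := by simpa using zσ 0
    induction s using Finset.induction_on with
    | empty => simpa using z0
    | insert k s hk ih =>
      rw [Finset.sum_insert hk, Finset.sum_insert hk, za, ih, zm, zσ, hx, C.eps_σ, map_zero]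
      change _ * _ + (_ * 0) + 0 * _ + _ = _
      simp [sA]
  conv_lhs => rw [ldec c, za, zσ, zero_add, hsum]

include hx ladd lsmul lσ ldec in
lemma exists_of_coords (v : Fin n → Gam (ZW a)) (hv : ∀ k, rg (gA (j := j) a) (v k) = 0) :
    ∃ z : (NMod (G := G) hj).val.obj (op W), crd hj C a z = fun c => ∑ k, sA a (l c k) * v k := by
  classical
  have lmul : ∀ c c', l (c * c') = C.eps c • l c' + C.eps c' • l c := fun c c' => by
    have hX : ∀ c, C.eps (∑ k, C.σ.appTop (l c k) * x k) = 0 := fun c => by simp [map_sum, hx]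
    have e : c * c' + C.σ.appTop (C.eps c * C.eps c') = C.σ.appTop (C.eps c) * c' + C.σ.appTop (C.eps c') * c := by
      have h0 := C.sq _ _ (hX c) (hX c')
      rw [map_mul]
      linear_combination h0 + (c' - C.σ.appTop (C.eps c')) * ldec c +
        (∑ k, C.σ.appTop (l c k) * x k) * ldec c'
    have := congrArg l e
    rwa [ladd, ladd, lsmul, lsmul, lσ, add_zero] at this
  let D : Γ(C.O, ⊤) → Gam (ZW a) := fun c => ∑ k, sA a (l c k) * v k
  have hD0 : ∀ c, rg (gA (j := j) a) (D c) = 0 := fun c => by
    simp only [D, map_sum, map_mul, hv, mul_zero, Finset.sum_const_zero]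
  obtain ⟨y, hy⟩ := exists_log (C := C) (Z := ZW a) D
    (fun c c' => by simp only [D, sA, ladd, Pi.add_apply, map_add, add_mul, Finset.sum_add_distrib])
    (fun r => by simp only [D, sA, lσ, Pi.zero_apply, map_zero, zero_mul, Finset.sum_const_zero])
    (fun c c' => by
      simp only [D, sA, lmul, Pi.add_apply, Pi.smul_apply, smul_eq_mul, map_add, map_mul, Finset.mul_sum,
        ← Finset.sum_add_distrib]
      exact Finset.sum_congr rfl fun k _ => by change _ = a.left.appTop _ * _ + a.left.appTop _ * _; ring)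
    (fun c c' => (sqZero_gA hj a).2 _ _ (hD0 c) (hD0 c'))
  have hy0 : rP X.hom G (gA (j := j) a) y = 0 := by
    have h := hy.map (gA (j := j) a)
    simp only [hD0] at h
    exact h.eq (C.log_zero _)
  obtain ⟨z, hz⟩ := exists_nl j G (U := W) (pl X.hom G y) ((pl_w y).trans (Over.w a)) (by
    have h := congrArg (fun p => pl X.hom G p) hy0
    simp only [pl_rP, pl_zero] at h
    refine h.trans ?_
    change (pullback.fst W.hom j ≫ a.left) ≫ X.hom ≫ (η[G]).left = _
    rw [Category.assoc, reassoc_of% (Over.w a)])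
  have e : ptA a z = y := pts_ext (by rw [pl_ptA, hz])
  exact ⟨z, (crd_log hj C a z).unique (e.symm ▸ hy)⟩

omit [GrpObj G] [IsCommMonObj G] [Smooth G.hom] in
/-- The ideal of the subscheme comes from the open. -/
lemma gA_eq_zero_iff (β : Gam (ZW a)) : rg (gA (j := j) a) β = 0 ↔
    β ∈ (RingHom.ker (pullback.fst X.hom j).appTop.hom).map a.left.appTop.hom := by
  haveI : IsAffine (ZW a).left := inferInstanceAs (IsAffine W.left)
  refine Iff.trans ?_ (rg_cu_eq_zero_iff (pullback.fst X.hom j) (ZW a) β)
  let q : pullback a.left (pullback.fst X.hom j) ⟶ pullback W.hom j :=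
    pullback.lift (pullback.fst _ _) (pullback.snd _ _ ≫ pullback.snd X.hom j) (by
      rw [← Over.w a, pullback.condition_assoc, Category.assoc, pullback.condition])
  let q' : pullback W.hom j ⟶ pullback a.left (pullback.fst X.hom j) :=
    pullback.lift (pullback.fst _ _) (pullback.lift (pullback.fst _ _ ≫ a.left) (pullback.snd _ _) (by
      rw [Category.assoc, Over.w a, pullback.condition])) (pullback.lift_fst _ _ _).symm
  have hq : q ≫ pullback.fst W.hom j = pullback.fst _ _ := pullback.lift_fst _ _ _
  have hq' : q' ≫ pullback.fst a.left (pullback.fst X.hom j) = pullback.fst _ _ := pullback.lift_fst _ _ _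
  constructor
  · intro h
    change (pullback.fst a.left (pullback.fst X.hom j)).appTop β = 0
    rw [← hq, appTop_comp_apply]
    exact (congrArg q.appTop h).trans (map_zero _)
  · intro h
    change (pullback.fst W.hom j).appTop β = 0
    rw [← hq', appTop_comp_apply]
    exact (congrArg q'.appTop h).trans (map_zero _)

end Coord

include hj in
set_option maxHeartbeats 1000000 in
/-- Sections over an affine open present the kernel on flat affine schemes over it. -/
theorem good (X : Over T) [IsAffine X.left] [IsOpenImmersion X.hom] : Good (NMod (G := G) hj) X := by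
  classical
  obtain ⟨C⟩ := exists_infChart X.hom G
  obtain ⟨n, x, l, hx, ladd, lsmul, lσ, ldec⟩ := C.exists_dual
  let N := NMod (G := G) hj
  have hbase : ∀ {W : Over T} (a : W ⟶ X) [IsAffine W.left] (i : N.val.obj (op X)) (c : Γ(C.O, ⊤)),
      crd hj C a (mr N a i) c = a.left.appTop (crd hj C (𝟙 X) i c) := by
    intro W a _ i c
    have h := congrFun (crd_map hj C (𝟙 X) a i) c
    have e : ∀ (b : W ⟶ X) (hb : b = a), crd hj C b (mr N a i) c = crd hj C a (mr N a i) c := fun b hb => by rw [hb]
    rw [← e (a ≫ 𝟙 X) (Category.comp_id a)]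
    exact h
  have hcrd : ∀ {W : Over T} (a : W ⟶ X) [IsAffine W.left] (c : N.val.obj (op X) →₀ Rg W) (d : Γ(C.O, ⊤)),
      crd hj C a (cmb N X a c) d = c.sum fun i r => (show Gam (ZW a) from r.down) * sA a (crd hj C (𝟙 X) i d) := by
    intro W a _ c d
    induction c using Finsupp.induction_linear with
    | zero => rw [map_zero, crd_zero, Finsupp.sum_zero_index]
    | add p q hp hq =>
      rw [map_add, crd_add, Finsupp.sum_add_index' (fun i => zero_mul _) (fun i r r' => add_mul _ _ _)]
      exact congrArg₂ (· + ·) hp hq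
    | single i r =>
      rw [cmb, Finsupp.linearCombination_single, crd_smul, Finsupp.sum_single_index (zero_mul _)]
      exact congrArg _ (hbase a i d)
  refine ⟨fun W hW hflat a z => ?_, fun W hW hflat a c hc => ?_⟩
  · haveI := hW
    suffices key : ∀ (k₀ : Fin n) (β : Gam (ZW a)),
        β ∈ (RingHom.ker (pullback.fst X.hom j).appTop.hom).map a.left.appTop.hom →
          ∃ c, crd hj C a (cmb N X a c) = fun d => sA a (l d k₀) * β by
      choose c hc using fun k => key k (crd hj C a z (x k)) ((gA_eq_zero_iff a _).mp (crd_kills hj C a z _))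
      refine ⟨∑ k, c k, crd_injective hj C a (funext fun d => ?_)⟩
      rw [crd_eq hj C a hx ldec z d]
      have hs : ∀ s : Finset (Fin n), crd hj C a (cmb N X a (∑ k ∈ s, c k)) d =
          ∑ k ∈ s, sA a (l d k) * crd hj C a z (x k) := fun s => by
        induction s using Finset.induction_on with
        | empty => rw [Finset.sum_empty, map_zero, crd_zero, Finset.sum_empty]
        | insert k s hk ih =>
          rw [Finset.sum_insert hk, Finset.sum_insert hk, map_add, crd_add]
          exact congrArg₂ (· + ·) (congrFun (hc k) d) ih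
      exact hs Finset.univ
    intro k₀ β hβ
    change (β : Γ(W.left, ⊤)) ∈ _ at hβ
    refine Submodule.span_induction (p := fun (β : Γ(W.left, ⊤)) _ =>
      ∃ c, crd hj C a (cmb N X a c) = fun d => sA a (l d k₀) * (show Gam (ZW a) from β)) ?_ ?_ ?_ ?_ hβ
    · rintro _ ⟨κ, hκ, rfl⟩
      obtain ⟨y, hy⟩ := exists_of_coords hj C (𝟙 X) hx ladd lsmul lσ ldec
        (fun k => if k = k₀ then κ else 0) (fun k => by
          by_cases h : k = k₀
          · simp only [h, if_true]
            exact hκ
          · simp only [h, if_false, map_zero])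
      refine ⟨Finsupp.single y 1, funext fun d => ?_⟩
      rw [hcrd, Finsupp.sum_single_index (zero_mul _), hy]
      change (1 : Gam (ZW a)) * (show Gam (ZW a) from a.left.appTop (∑ k, (𝟙 X.left : X.left ⟶ X.left).appTop (l d k) * _)) = _
      rw [_root_.one_mul, Finset.sum_eq_single k₀ (fun k _ h => by simp [h]) (fun h => absurd (Finset.mem_univ _) h)]
      simp [sA, map_mul]
    · exact ⟨0, by rw [map_zero, crd_zero]; funext d; rw [mul_zero]⟩
    · rintro β β' - - ⟨c, hc⟩ ⟨c', hc'⟩
      exact ⟨c + c', by rw [map_add, crd_add, hc, hc']; funext d; rw [mul_add]⟩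
    · rintro b β - ⟨c, hc⟩
      refine ⟨(show Rg W from ULift.up b) • c, ?_⟩
      rw [map_smul, crd_smul, hc]
      funext d
      rw [smul_eq_mul, mul_left_comm]
  · haveI := hW
    haveI := hflat
    let A := Γ(X.left, ⊤)
    let B := Γ(W.left, ⊤)
    letI : Algebra A B := a.left.appTop.hom.toAlgebra
    haveI : Flat a.left := by
      have : Flat (a.left ≫ X.hom) := by rw [Over.w a]; exact hflat
      exact MorphismProperty.of_postcomp (W := @Flat) (W' := @IsOpenImmersion) _ X.hom ‹_› this
    haveI : Module.Flat A B := (HasRingHomProperty.appTop @Flat a.left ‹_›)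
    let s := c.support
    let σ : N.val.obj (op X) → Fin n → A := fun i k => crd hj C (𝟙 X) i (x k)
    let f : (Fin n → A) →ₗ[A] (s → A) :=
      { toFun := fun v i => ∑ k, v k * σ i.1 k
        map_add' := fun v v' => funext fun i => by simp [add_mul, Finset.sum_add_distrib]
        map_smul' := fun r v => funext fun i => by simp [Finset.mul_sum, _root_.mul_assoc] }
    let ev : (s → A) →ₗ[A] B := Fintype.linearCombination A fun i : s => ((c i.1).down : B)
    have hcomp : ev ∘ₗ f = 0 := by
      refine LinearMap.ext fun v => ?_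
      simp only [LinearMap.comp_apply, ev, f, Fintype.linearCombination_apply, LinearMap.coe_mk, AddHom.coe_mk,
        LinearMap.zero_apply, Algebra.smul_def, map_sum, map_mul, Finset.sum_mul]
      rw [Finset.sum_comm]
      refine Finset.sum_eq_zero fun k _ => ?_
      have h := congrFun (congrArg (crd hj C a) hc) (x k)
      rw [hcrd, crd_zero] at h
      simp only [_root_.mul_assoc, ← Finset.mul_sum]
      refine mul_eq_zero_of_right _ ?_
      refine Eq.trans ?_ h
      rw [Finsupp.sum]
      refine Eq.trans (Finset.sum_congr rfl fun (i : s) _ => ?_) (Finset.sum_coe_sort c.support _)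
      exact mul_comm (sA a (σ i.1 k)) (show Gam (ZW a) from (c i.1).down)
    obtain ⟨m, α, y, hαy, hαf⟩ := Module.Flat.exists_factorization_of_comp_eq_zero_of_free hcomp
    let e : s → (s → A) := fun i => Pi.single i 1
    let r : Fin m → (N.val.obj (op X) →₀ Rg X) := fun q =>
      ∑ i : s, Finsupp.single i.1 (ULift.up (α (e i) q))
    have hr : ∀ q, r q ∈ RelI N X := fun q => by
      refine crd_injective hj C (𝟙 X) (funext fun d => ?_)
      have hpt : ∀ k, crd hj C (𝟙 X) (cmb N X (𝟙 X) (r q)) (x k) = 0 := fun k => by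
        rw [hcrd, show r q = ∑ i : s, Finsupp.single i.1 (ULift.up (α (e i) q)) from rfl,
          ← Finsupp.sum_finsetSum_index (fun i => zero_mul _) (fun i r r' => add_mul _ _ _)]
        have h := congrArg (fun v => v q) (LinearMap.congr_fun hαf (Pi.single k 1))
        simp only [LinearMap.comp_apply, LinearMap.zero_apply, Finsupp.coe_zero, Pi.zero_apply] at h
        rw [show f (Pi.single k 1) = ∑ i : s, σ i.1 k • e i from funext fun i => by
          simp [f, e, Pi.single_apply, Finset.sum_apply]] at h
        rw [map_sum, Finsupp.finsetSum_apply] at h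
        refine Eq.trans ?_ h
        refine Finset.sum_congr rfl fun i _ => ?_
        rw [Finsupp.sum_single_index (zero_mul _), map_smul, Finsupp.smul_apply, smul_eq_mul]
        exact mul_comm (α (e i) q) (σ i.1 k)
      rw [crd_zero, crd_eq hj C (𝟙 X) hx ldec]
      simp only [hpt, mul_zero, Finset.sum_const_zero]
    have hci : c = ∑ q, (show Rg W from ULift.up (y (Finsupp.single q 1))) • cm a (r q) := by
      ext i : 1
      apply ULift.ext
      by_cases hi : i ∈ s
      · have h1 : (c i).down = ev (e ⟨i, hi⟩) := by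
          simp [ev, e, Fintype.linearCombination_apply_single]
        rw [h1, hαy, LinearMap.comp_apply]
        conv_lhs => rw [← Finsupp.sum_single (α (e ⟨i, hi⟩))]
        rw [Finsupp.sum_fintype _ _ (fun q => Finsupp.single_zero q), map_sum, Finsupp.finsetSum_apply,
          show ∀ g : Fin m → Rg W, (∑ q, g q).down = ∑ q, (g q).down from fun g => map_sum ULift.ringEquiv g _]
        refine Finset.sum_congr rfl fun q _ => ?_
        rw [← _root_.mul_one (α (e ⟨i, hi⟩) q), ← smul_eq_mul, ← Finsupp.smul_single, map_smul, Algebra.smul_def,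
          Finsupp.smul_apply, mul_comm]
        refine congrArg (fun b : B => y (Finsupp.single q 1) * b) ?_
        simp only [r, map_sum, cm_single, Finsupp.finsetSum_apply]
        rw [Finset.sum_eq_single (⟨i, hi⟩ : s) (fun b _ hb => Finsupp.single_eq_of_ne fun h => hb (Subtype.ext h.symm))
          (fun h => absurd (Finset.mem_univ _) h), Finsupp.single_eq_same]
        rfl
      · rw [Finsupp.notMem_support_iff.mp hi, Finsupp.finsetSum_apply]
        refine congrArg ULift.down (Eq.symm (Finset.sum_eq_zero fun q _ => ?_))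
        simp only [r, map_sum, cm_single, Finsupp.smul_apply, Finsupp.finsetSum_apply]
        rw [Finset.sum_eq_zero fun (b : s) _ => Finsupp.single_eq_of_ne fun (h : i = b.1) => hi (h.symm ▸ b.2), smul_zero]
    rw [hci]
    exact Submodule.sum_mem _ fun q _ => Submodule.smul_mem _ _ (Submodule.subset_span ⟨r q, hr q, rfl⟩)

end Groth.Agent.BigSiteLib.SqPres
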