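import Groth.Agent.BigSiteLib.PiSections
import Groth.Agent.HTopVPh.Cover
import Groth.Agent.S7477
import Groth.Prelude.Def_HTop
import Mathlib

/-!
The inverse image of an etale sheaf on the big etale site is a sheaf for coverings which are universally submersive:
for instance for the ph and h topologies.
-/

set_option autoImplicit false
set_option backward.isDefEq.respectTransparency false
set_option backward.defeqAttrib.useBackward true
set_option linter.style.haveILetI false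
universe u

noncomputable section

namespace Groth.Agent.BigSiteLib

open CategoryTheory Limits Opposite AlgebraicGeometry

/-- universally submersive and surjective sieves -/
def Subm {T : Scheme.{u}} (R : Sieve T) : Prop :=
  ∀ ⦃U : Scheme.{u}⦄ (g : U ⟶ T),
    (∀ z : U, ∃ (Y : Scheme.{u}) (k : Y ⟶ U) (y : Y), R.arrows (k ≫ g) ∧ k y = z) ∧
      ∀ W : Set U, (∀ ⦃Y : Scheme.{u}⦄ (k : Y ⟶ U), R.arrows (k ≫ g) → IsOpen (k ⁻¹' W)) → IsOpen W

/-- the topology of universally submersive sieves -/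
def submTop : GrothendieckTopology Scheme.{u} where
  sieves T := Set.ofPred fun R : Sieve T => Subm R
  top_mem' T := fun U g => ⟨fun z => ⟨U, 𝟙 U, z, trivial, rfl⟩, fun W hW => hW (𝟙 U) trivial⟩
  pullback_stable' := fun T T' R f hR U g => by
    refine ⟨fun z => ?_, fun W hW => (hR (g ≫ f)).2 W fun Y k hk => hW k ?_⟩
    · obtain ⟨Y, k, y, hk, hy⟩ := (hR (g ≫ f)).1 z
      exact ⟨Y, k, y, show R.arrows ((k ≫ g) ≫ f) by rwa [Category.assoc], hy⟩
    · exact show R.arrows ((k ≫ g) ≫ f) by rwa [Category.assoc]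
  transitive' := fun T R hR S hS U g => by
    refine ⟨fun z => ?_, fun W hW => (hR g).2 W fun Y k hk => ?_⟩
    · obtain ⟨Y, k, y, hk, rfl⟩ := (hR g).1 z
      obtain ⟨Y', k', y', hk', rfl⟩ := (hS hk (𝟙 Y)).1 y
      refine ⟨Y', k' ≫ k, y', ?_, Scheme.Hom.comp_apply _ _ _⟩
      have h : S.arrows ((k' ≫ 𝟙 Y) ≫ k ≫ g) := hk'
      simpa using h
    · refine (hS hk (𝟙 Y)).2 (k ⁻¹' W) fun Y' k' hk' => ?_
      have h : S.arrows ((k' ≫ 𝟙 Y) ≫ k ≫ g) := hk'
      have := hW (k' ≫ k) (by simpa using h)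
      convert this using 1
      ext w
      simp [Scheme.Hom.comp_apply]

theorem subm_of_isVCover {T : Scheme.{u}} (E : PreZeroHypercover.{u + 1} T) (hE : HTop.IsVCover E) :
    Subm (Sieve.generate E.presieve₀) := by
  choose F hF hFE using hE
  choose i hi hhi using fun U j => hFE U j
  let I' : Type u := Σ U : T.affineOpens, ULift.{u} (F U).I₀
  let E' : PreZeroHypercover.{u} T :=
    { I₀ := I'
      X := fun p => E.X (i p.1 p.2.down)
      f := fun p => E.f (i p.1 p.2.down) }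
  have hE' : HTop.IsVCover E' := fun U => ⟨F U, hF U, fun j => ⟨⟨U, ⟨j⟩⟩, hi U j, hhi U j⟩⟩
  intro U g
  have hq := Groth.Agent.S7477.result E' hE' _ _ _ (IsPullback.of_hasPullback (Sigma.desc E'.f) g).flip
  obtain ⟨hq⟩ : Nonempty (Topology.IsQuotientMap (pullback.snd (Sigma.desc E'.f) g)) := ⟨hq⟩
  let c : ∀ p : I', pullback (E'.f p) g ⟶ pullback (Sigma.desc E'.f) g := fun p =>
    pullback.map _ _ _ _ (Sigma.ι E'.X p) (𝟙 U) (𝟙 T) (by simp) (by simp)
  have hc : ∀ p, c p ≫ pullback.snd (Sigma.desc E'.f) g = pullback.snd (E'.f p) g := fun p =>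
    (pullback.lift_snd _ _ _).trans (Category.comp_id _)
  have hco : ∀ p, IsOpenImmersion (c p) := fun p =>
    inferInstanceAs (IsOpenImmersion (pullback.map _ _ _ _ (Sigma.ι E'.X p) (𝟙 U) (𝟙 T) _ _))
  have hsurj : ∀ w : ↥(pullback (Sigma.desc E'.f) g), ∃ p y, c p y = w := fun w => by
    obtain ⟨p, x, hx⟩ := (sigmaOpenCover E'.X).exists_eq (pullback.fst (Sigma.desc E'.f) g w)
    have hP : IsPullback (pullback.fst (E'.f p) g) (c p) (Sigma.ι E'.X p) (pullback.fst (Sigma.desc E'.f) g) := by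
      refine IsPullback.of_bot ?_ (pullback.lift_fst _ _ _).symm (IsPullback.of_hasPullback _ g)
      rw [hc, Sigma.ι_desc]
      exact IsPullback.of_hasPullback (E'.f p) g
    obtain ⟨z, -, hz⟩ := Scheme.Pullback.exists_preimage_pullback x w hx
    exact ⟨p, hP.isoPullback.inv z, by
      rw [← Scheme.Hom.comp_apply, hP.isoPullback_inv_snd]; exact hz⟩
  have hmem : ∀ p, (Sieve.generate E.presieve₀).arrows (pullback.snd (E'.f p) g ≫ g) := fun p =>
    ⟨_, pullback.fst (E'.f p) g, _, ⟨i p.1 p.2.down⟩, pullback.condition⟩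
  refine ⟨fun z => ?_, fun W hW => hq.isOpen_preimage.mp ?_⟩
  · obtain ⟨w, rfl⟩ := hq.surjective z
    obtain ⟨p, y, rfl⟩ := hsurj w
    exact ⟨_, pullback.snd (E'.f p) g, y, hmem p, by rw [← hc, Scheme.Hom.comp_apply]⟩
  · rw [isOpen_iff_forall_mem_open]
    intro w hw
    obtain ⟨p, y, rfl⟩ := hsurj w
    haveI := hco p
    refine ⟨c p '' (pullback.snd (E'.f p) g ⁻¹' W), ?_,
      (c p).isOpenEmbedding.isOpenMap _ (hW _ (hmem p)), ⟨y, ?_, rfl⟩⟩
    · rintro _ ⟨y', hy', rfl⟩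
      rw [Set.mem_preimage, ← Scheme.Hom.comp_apply, hc]
      exact hy'
    · rw [Set.mem_preimage, ← hc, Scheme.Hom.comp_apply]
      exact hw

theorem hTopology_le_submTop : HTop.hTopology.{u} ≤ submTop := by
  refine Precoverage.toGrothendieck_le_iff_le_toPrecoverage.mpr fun T R hR => ?_
  rw [GrothendieckTopology.mem_toPrecoverage_iff]
  obtain ⟨E, hE⟩ := hR
  exact subm_of_isVCover E (hE.2)

theorem phTopology_le_submTop : HTop.phTopology.{u} ≤ submTop := by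
  refine Precoverage.toGrothendieck_le_iff_le_toPrecoverage.mpr fun T R hR => ?_
  rw [GrothendieckTopology.mem_toPrecoverage_iff]
  obtain ⟨E, hE⟩ := hR
  exact subm_of_isVCover E (HTopVPh.isVCover_of_isPhCover hE)

variable {S : Scheme.{u}} (F : EtCoh.Ab S)

variable {F}

/-- membership of pullbacks -/
lemma exists_subm {T : Over S} {R : Sieve T} (hR : R ∈ (submTop.over S) T) {U : Over S} (p : U ⟶ T) :
    (∀ z : U.left, ∃ (Y : Over S) (k : Y ⟶ U) (y : Y.left), R.arrows (k ≫ p) ∧ k.left y = z) ∧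
      ∀ W : Set U.left, (∀ ⦃Y : Over S⦄ (k : Y ⟶ U), R.arrows (k ≫ p) → IsOpen (k.left ⁻¹' W)) → IsOpen W := by
  rw [GrothendieckTopology.mem_over_iff] at hR
  obtain ⟨h1, h2⟩ := hR p.left
  have key : ∀ {Y : Scheme.{u}} (k : Y ⟶ U.left), (Sieve.overEquiv T R).arrows (k ≫ p.left) →
      R.arrows ((Over.homMk k : Over.mk (k ≫ U.hom) ⟶ U) ≫ p) := fun {Y} k hk => by
    have hk' := (Sieve.overEquiv_iff R (k ≫ p.left)).mp hk
    let e : Over.mk (k ≫ U.hom) ⟶ Over.mk ((k ≫ p.left) ≫ T.hom) :=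
      Over.homMk (𝟙 Y) (by
        change 𝟙 Y ≫ (k ≫ p.left) ≫ T.hom = k ≫ U.hom
        rw [Category.id_comp, Category.assoc, Over.w p])
    convert R.downward_closed hk' e using 1
    exact Over.OverMorphism.ext (Category.id_comp _).symm
  refine ⟨fun z => ?_, fun W hW => h2 W fun Y k hk => hW _ (key k hk)⟩
  obtain ⟨Y, k, y, hk, hy⟩ := h1 z
  exact ⟨_, _, y, key k hk, hy⟩

/-- Sections vanishing on a submersive covering vanish. -/
lemma eq_zero_of_subm {T : Over S} {R : Sieve T} (hR : R ∈ (submTop.over S) T)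
    (x : (Pi F).obj.obj (op T)) (h : ∀ ⦃T' : Over S⦄ (g : T' ⟶ T), R.arrows g → rs F g x = 0) : x = 0 := by
  refine eq_zero_of_zeroLocus F (Set.eq_univ_of_forall fun z => ?_)
  obtain ⟨Y, k, y, hk, rfl⟩ := (exists_subm hR (𝟙 T)).1 z
  rw [Category.comp_id] at hk
  obtain ⟨Ω, _, _, s, t, rfl⟩ := exists_geom (T := Y) y
  refine mem_zeroLocus F (t ≫ k) ?_
  rw [← rs_rs, h _ hk, map_zero]

set_option maxHeartbeats 1000000 in
/-- A compatible family on a submersive covering glues etale locally. -/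
theorem glueSieve_mem_subm {T : Over S} {R : Sieve T} (hR : R ∈ (submTop.over S) T)
    (x : ∀ ⦃Y : Over S⦄ (f : Y ⟶ T), R.arrows f → (Pi F).obj.obj (op Y))
    (hx' : ∀ ⦃Y₁ Y₂ Z : Over S⦄ (g₁ : Z ⟶ Y₁) (g₂ : Z ⟶ Y₂) {f₁ : Y₁ ⟶ T} {f₂ : Y₂ ⟶ T}
      (h₁ : R.arrows f₁) (h₂ : R.arrows f₂), g₁ ≫ f₁ = g₂ ≫ f₂ → rs F g₁ (x f₁ h₁) = rs F g₂ (x f₂ h₂)) :
    glueSieve R x ∈ QuotSh.J Scheme.etalePrecoverage S T := by
    refine mem_J_of_nhds _ fun z => ?_
    obtain ⟨X₀, g₀, w₀, hg₀, rfl⟩ := (exists_subm hR (𝟙 T)).1 z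
    rw [Category.comp_id] at hg₀
    obtain ⟨Ω, _, _, s, t₀, rfl⟩ := exists_geom (T := X₀) w₀
    obtain ⟨V, v, σ, hσ⟩ := basic_of_geom F s (rs F t₀ (x g₀ hg₀))
    let t : Over.mk s ⟶ T := t₀ ≫ g₀
    haveI : Etale V.hom := V.prop
    let U : Over S := Over.mk (pullback.fst T.hom V.hom ≫ T.hom)
    let p : U ⟶ T := Over.homMk (pullback.fst T.hom V.hom)
    let q : U ⟶ (EtFppf.a S).obj V := Over.homMk (pullback.snd T.hom V.hom) pullback.condition.symm
    let u : Over.mk s ⟶ U :=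
      Over.homMk (pullback.lift t.left v.left ((Over.w t).trans (Over.w v).symm)) (by
        change pullback.lift _ _ _ ≫ pullback.fst T.hom V.hom ≫ T.hom = s
        rw [pullback.lift_fst_assoc]
        exact Over.w t)
    have hup : u ≫ p = t := Over.OverMorphism.ext (pullback.lift_fst _ _ _)
    have huq : u ≫ q = v := Over.OverMorphism.ext (pullback.lift_snd _ _ _)
    let s₀ : (Pi F).obj.obj (op U) := rs F q (eta F V σ)
    let d : ∀ ⦃Y : Over S⦄ (k : Y ⟶ U), R.arrows (k ≫ p) → (Pi F).obj.obj (op Y) :=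
      fun Y k hk => x (k ≫ p) hk - rs F k s₀
    have hd : ∀ {Y₁ Y₂ : Over S} (k₁ : Y₁ ⟶ U) (k₂ : Y₂ ⟶ U) (h₁ : R.arrows (k₁ ≫ p))
        (h₂ : R.arrows (k₂ ≫ p)) ⦃Z : Over S⦄ (a : Z ⟶ Y₁) (b : Z ⟶ Y₂), a ≫ k₁ = b ≫ k₂ →
        rs F a (d k₁ h₁) = rs F b (d k₂ h₂) := by
      intro Y₁ Y₂ k₁ k₂ h₁ h₂ Z a b e
      change rs F a (x _ h₁ - rs F k₁ s₀) = rs F b (x _ h₂ - rs F k₂ s₀)
      rw [map_sub, map_sub, rs_rs F k₁ a, rs_rs F k₂ b, e]
      congr 1
      exact hx' a b h₁ h₂ (by rw [← Category.assoc, e, Category.assoc])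
    let W : Set U.left := {w | ∃ (Y : Over S) (k : Y ⟶ U) (hk : R.arrows (k ≫ p)) (y : Y.left),
      k.left y = w ∧ y ∈ zeroLocus F (d k hk)}
    have hpre : ∀ ⦃Y : Over S⦄ (k : Y ⟶ U) (hk : R.arrows (k ≫ p)),
        k.left ⁻¹' W = zeroLocus F (d k hk) := by
      intro Y k hk
      ext y
      exact ⟨fun ⟨Y', k', hk', y', e, hy'⟩ => mem_zeroLocus_of_compatible (hd k' k hk' hk) e hy',
        fun hy => ⟨Y, k, hk, y, rfl, hy⟩⟩
    have hWopen : IsOpen W := (exists_subm hR p).2 W fun Y k hk => (hpre k hk) ▸ isOpen_zeroLocus F _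
    have huW : u.left (cpt Ω) ∈ W := by
      let Q : Over S := Over.mk (pullback.snd g₀.left p.left ≫ U.hom)
      let k : Q ⟶ U := Over.homMk (pullback.snd g₀.left p.left)
      let h : Q ⟶ X₀ :=
        Over.homMk (pullback.fst g₀.left p.left) (by
          change pullback.fst g₀.left p.left ≫ X₀.hom = pullback.snd g₀.left p.left ≫ U.hom
          rw [← Over.w g₀, pullback.condition_assoc, Over.w p])
      let l : Over.mk s ⟶ Q :=
        Over.homMk (pullback.lift t₀.left u.left (congrArg (fun m => m.left) hup).symm) (by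
          change pullback.lift _ _ _ ≫ pullback.snd g₀.left p.left ≫ U.hom = s
          rw [pullback.lift_snd_assoc]
          exact Over.w u)
      have hlk : l ≫ k = u := Over.OverMorphism.ext (pullback.lift_snd _ _ _)
      have hlh : l ≫ h = t₀ := Over.OverMorphism.ext (pullback.lift_fst _ _ _)
      have hkp : k ≫ p = h ≫ g₀ := Over.OverMorphism.ext pullback.condition.symm
      have hk : R.arrows (k ≫ p) := hkp ▸ R.downward_closed hg₀ h
      have elk : l.left ≫ k.left = u.left := congrArg Over.Hom.left hlk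
      refine ⟨_, k, hk, l.left (cpt Ω), congr($elk (cpt Ω)), mem_zeroLocus F l ?_⟩
      rw [map_sub, sub_eq_zero, rs_rs, hlk, rs_rs, huq, hσ, ← hlh, ← rs_rs]
      congr 1
      exact ((hx' (𝟙 _) h hk hg₀ (by rw [Category.id_comp]; exact hkp)).symm.trans (rs_id F _)).symm
    let Wo : U.left.Opens := ⟨W, hWopen⟩
    let j : Over.mk (Wo.ι ≫ U.hom) ⟶ U := Over.homMk Wo.ι
    refine ⟨_, j ≫ p, ⟨rs F j s₀, fun Y k hk => ?_⟩,
      inferInstanceAs (Etale (Wo.ι ≫ pullback.fst T.hom V.hom)), ⟨u.left (cpt Ω), huW⟩, ?_⟩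
    · have hk' : R.arrows ((k ≫ j) ≫ p) := by rw [Category.assoc]; exact hk
      have h0 : d (k ≫ j) hk' = 0 := eq_zero_of_zeroLocus F (by
        rw [← hpre (k ≫ j) hk']
        exact Set.eq_univ_of_forall fun y => (k.left y).2)
      rw [rs_rs, ← sub_eq_zero.mp h0]
      congr 1
    · have ep : u.left ≫ p.left = t.left := congrArg Over.Hom.left hup
      exact congr($ep (cpt Ω))

/-- The sheaf condition for submersive coverings. -/
theorem isSheaf_subm_Pi (F : EtCoh.Ab S) : Presheaf.IsSheaf (submTop.over S) (Pi F).obj := by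
  rw [Presheaf.isSheaf_iff_isSheaf_forget _ _ (forget AddCommGrpCat.{u + 1}), isSheaf_iff_isSheaf_of_type]
  intro T R hR x hx
  let P := (Pi F).obj ⋙ forget AddCommGrpCat.{u + 1}
  have het : Presieve.IsSheaf (QuotSh.J Scheme.etalePrecoverage S) P := (isSheaf_iff_isSheaf_of_type _ _).mp
    ((Presheaf.isSheaf_iff_isSheaf_forget _ _ (forget AddCommGrpCat.{u + 1})).mp (Pi F).property)
  have hx' : ∀ ⦃Y₁ Y₂ Z : Over S⦄ (g₁ : Z ⟶ Y₁) (g₂ : Z ⟶ Y₂) {f₁ : Y₁ ⟶ T} {f₂ : Y₂ ⟶ T}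
      (h₁ : R.arrows f₁) (h₂ : R.arrows f₂), g₁ ≫ f₁ = g₂ ≫ f₂ → rs F g₁ (x f₁ h₁) = rs F g₂ (x f₂ h₂) :=
    fun Y₁ Y₂ Z g₁ g₂ f₁ f₂ h₁ h₂ e => hx g₁ g₂ h₁ h₂ e
  have hsep : ∀ {T' : Over S} (g : T' ⟶ T) (a b : (Pi F).obj.obj (op T')),
      (∀ ⦃Y : Over S⦄ (k : Y ⟶ T') (hk : R.arrows (k ≫ g)), rs F k a = x (k ≫ g) hk) →
      (∀ ⦃Y : Over S⦄ (k : Y ⟶ T') (hk : R.arrows (k ≫ g)), rs F k b = x (k ≫ g) hk) → a = b := by
    intro T' g a b ha hb
    refine sub_eq_zero.mp (eq_zero_of_subm (GrothendieckTopology.pullback_stable _ g hR) _ fun Y k hk => ?_)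
    rw [map_sub, ha k hk, hb k hk, sub_self]
  let L : Sieve T := glueSieve R fun _ f hf => x f hf
  have hL : L ∈ QuotSh.J Scheme.etalePrecoverage S T := glueSieve_mem_subm hR _ hx'
  choose y hy using fun (T' : Over S) (g : T' ⟶ T) (hg : L.arrows g) => hg
  let yf : Presieve.FamilyOfElements P L.arrows := fun T' g hg => y T' g hg
  have hyf : yf.Compatible := by
    intro Y₁ Y₂ Z a b f₁ f₂ h₁ h₂ e
    change rs F a (y _ f₁ h₁) = rs F b (y _ f₂ h₂)
    refine hsep (a ≫ f₁) _ _ (fun Y k hk => ?_) (fun Y k hk => ?_)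
    · rw [rs_rs, hy _ f₁ h₁ (k ≫ a) (by rw [Category.assoc]; exact hk)]
      congr 1
    · rw [rs_rs, hy _ f₂ h₂ (k ≫ b) (by rw [Category.assoc, ← e]; exact hk)]
      congr 1
      rw [Category.assoc, e]
  obtain ⟨s, hs, -⟩ := het L hL yf hyf
  have hglue : ∀ ⦃T' : Over S⦄ (g : T' ⟶ T) (hg : R.arrows g), rs F g s = x g hg := by
    intro T' g hg
    refine (het _ (GrothendieckTopology.pullback_stable _ g hL)).isSeparatedFor.ext fun Y k hk => ?_
    change rs F k (rs F g s) = rs F k (x g hg)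
    rw [rs_rs]
    have h1 : rs F (k ≫ g) s = y _ (k ≫ g) hk := hs (k ≫ g) hk
    have h2 := hy _ (k ≫ g) hk (𝟙 Y) (by rw [Category.id_comp]; exact R.downward_closed hg k)
    rw [rs_id] at h2
    rw [h1, h2]
    exact ((hx' k (𝟙 Y) hg (by rw [Category.id_comp]; exact R.downward_closed hg k)
      (by rw [Category.id_comp, Category.id_comp] :
        k ≫ g = 𝟙 Y ≫ (𝟙 Y ≫ k ≫ g))).trans (rs_id F _)).symm
  refine ⟨s, fun T' g hg => hglue g hg, fun s' hs' => ?_⟩
  refine sub_eq_zero.mp (eq_zero_of_subm hR (x := (s' : (Pi F).obj.obj (op T)) - s) fun T' g hg => ?_)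
  rw [map_sub, hglue g hg]
  exact sub_eq_zero.mpr (hs' g hg)


theorem isSheaf_Jh_Pi (F : EtCoh.Ab S) : Presheaf.IsSheaf (HTop.Jh S) (Pi F).obj :=
  fun A => Presieve.isSheaf_of_le _
    (fun T R hR => by rw [GrothendieckTopology.mem_over_iff] at hR ⊢; exact hTopology_le_submTop _ hR)
    (isSheaf_subm_Pi F A)

theorem isSheaf_Jph_Pi (F : EtCoh.Ab S) : Presheaf.IsSheaf (HTop.Jph S) (Pi F).obj :=
  fun A => Presieve.isSheaf_of_le _
    (fun T R hR => by rw [GrothendieckTopology.mem_over_iff] at hR ⊢; exact phTopology_le_submTop _ hR)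
    (isSheaf_subm_Pi F A)

end Groth.Agent.BigSiteLib
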