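import Groth.Agent.BigSiteLib.Compare
import Mathlib.AlgebraicGeometry.Sites.BigZariski

/-!
Comparison of the cohomology of the big and small Zariski sites.
-/

set_option autoImplicit false
set_option backward.isDefEq.respectTransparency false
set_option backward.defeqAttrib.useBackward true
universe u

noncomputable section

namespace Groth.Agent.BigSiteLib

open CategoryTheory Limits Opposite AlgebraicGeometry TopologicalSpace

section Flat

variable {C : Type u} [Category.{u} C] {D : Type (u + 1)} [Category.{u} D]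

/-- Pointwise description of `lan`. -/
def smallLanEvalIso (F : C ⥤ D) (X : D) :
    (F.lan : (C ⥤ AnLib.Ab'.{u}) ⥤ _) ⋙ (evaluation D AnLib.Ab'.{u}).obj X ≅
      (Functor.whiskeringLeft _ _ AnLib.Ab'.{u}).obj (CostructuredArrow.proj F X) ⋙ colim :=
  NatIso.ofComponents (fun G =>
    IsColimit.coconePointUniqueUpToIso
    (Functor.isPointwiseLeftKanExtensionLeftKanExtensionUnit F G X)
    (colimit.isColimit _)) (fun {G₁ G₂} φ => by
      apply (Functor.isPointwiseLeftKanExtensionLeftKanExtensionUnit F G₁ X).hom_ext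
      intro T
      have h₁ := fun (G : C ⥤ AnLib.Ab'.{u}) => IsColimit.comp_coconePointUniqueUpToIso_hom
        (Functor.isPointwiseLeftKanExtensionLeftKanExtensionUnit F G X) (colimit.isColimit _) T
      have h₂ := congr_app (F.lanUnit.naturality φ) T.left
      dsimp at h₁ h₂ ⊢
      simp only [Category.assoc] at h₁ ⊢
      simp only [Functor.lan, Functor.lanUnit] at h₂ ⊢
      rw [reassoc_of% h₁, NatTrans.naturality_assoc, ← reassoc_of% h₂, h₁,
        ι_colimMap, Functor.whiskerLeft_app]
      rfl)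

/-- Inverse image along a flat functor out of a small site is left exact. -/
theorem sheafPullback_preservesFiniteLimits_small (F : C ⥤ D) [RepresentablyFlat F]
    (J : GrothendieckTopology C) (K : GrothendieckTopology D) [F.IsContinuous J K]
    [HasSheafify K AnLib.Ab'.{u}] [HasSheafify J AnLib.Ab'.{u}] :
    PreservesFiniteLimits (F.sheafPullback AnLib.Ab'.{u} J K) := by
  haveI : PreservesFiniteLimits (F.op.lan : (Cᵒᵖ ⥤ AnLib.Ab'.{u}) ⥤ Dᵒᵖ ⥤ AnLib.Ab'.{u}) := by
    refine ⟨fun I _ _ => preservesLimitsOfShape_of_evaluation _ _ fun Y => ?_⟩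
    haveI : IsFiltered (CostructuredArrow F.op Y) :=
      IsFiltered.of_equivalence (structuredArrowOpEquivalence F (unop Y))
    let e : CostructuredArrow F.op Y ≌ AsSmall.{u + 1} (CostructuredArrow F.op Y) := AsSmall.equiv
    haveI : IsFiltered (AsSmall.{u + 1} (CostructuredArrow F.op Y)) := IsFiltered.of_equivalence e
    haveI : PreservesFiniteLimits (colim : (CostructuredArrow F.op Y ⥤ AnLib.Ab'.{u}) ⥤ AnLib.Ab'.{u}) :=
      haveI : PreservesFiniteLimits ((Functor.whiskeringLeft _ _ AnLib.Ab'.{u}).obj e.inverse ⋙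
          (colim : (AsSmall.{u + 1} (CostructuredArrow F.op Y) ⥤ AnLib.Ab'.{u}) ⥤ _)) :=
        comp_preservesFiniteLimits _ _
      preservesFiniteLimits_of_natIso (Functor.Final.colimIso (E := AnLib.Ab'.{u}) e.inverse)
    exact preservesLimitsOfShape_of_natIso (smallLanEvalIso F.op Y).symm
  exact Functor.sheafPullbackConstruction.preservesFiniteLimits F AnLib.Ab'.{u} J K

end Flat

variable (X : Scheme.{u})

lemma zarIncl_hom_ext {Y : Over X} {U : X.Opens} (a b : Y ⟶ (BigSite.zarIncl X).obj U) : a = b :=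
  Over.OverMorphism.ext ((cancel_mono U.ι).mp ((Over.w a).trans (Over.w b).symm))

instance representablyFlat_zarIncl : RepresentablyFlat (BigSite.zarIncl X) := ⟨fun Y =>
  haveI : Nonempty (StructuredArrow Y (BigSite.zarIncl X)) :=
    ⟨StructuredArrow.mk (Y := (⊤ : X.Opens))
      (Over.homMk (Y.hom ≫ (Scheme.topIso X).inv) (by
        change (Y.hom ≫ (Scheme.topIso X).inv) ≫ (Scheme.topIso X).hom = Y.hom
        simp))⟩
  haveI : IsCofilteredOrEmpty (StructuredArrow Y (BigSite.zarIncl X)) :=
    { cone_objs := fun A B => by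
        have hr : Set.range Y.hom ⊆ Set.range (A.right ⊓ B.right).ι := by
          rw [Scheme.Opens.range_ι]
          rintro _ ⟨y, rfl⟩
          refine ⟨?_, ?_⟩
          · exact (Scheme.Opens.range_ι A.right).subset ⟨A.hom.left y, congrArg (fun q : Y.left ⟶ X => q y) (Over.w A.hom)⟩
          · exact (Scheme.Opens.range_ι B.right).subset ⟨B.hom.left y, congrArg (fun q : Y.left ⟶ X => q y) (Over.w B.hom)⟩
        let C : StructuredArrow Y (BigSite.zarIncl X) := StructuredArrow.mk
          (Over.homMk (IsOpenImmersion.lift (A.right ⊓ B.right).ι Y.hom hr) (IsOpenImmersion.lift_fac _ _ _) :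
            Y ⟶ (BigSite.zarIncl X).obj (A.right ⊓ B.right))
        exact ⟨C, StructuredArrow.homMk (homOfLE inf_le_left) (zarIncl_hom_ext X _ _),
          StructuredArrow.homMk (homOfLE inf_le_right) (zarIncl_hom_ext X _ _), trivial⟩
      cone_maps := fun A B a b => ⟨A, 𝟙 _, by
        congr 1
        exact StructuredArrow.hom_ext _ _ (Subsingleton.elim _ _)⟩ }
  { }⟩

instance zarIncl_isCocontinuous :
    (BigSite.zarIncl X).IsCocontinuous (Opens.grothendieckTopology X) (QuotSh.J Scheme.zariskiPrecoverage X) where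
  cover_lift {U R} hR := by
    rw [GrothendieckTopology.mem_over_iff] at hR
    obtain ⟨𝒰, hle⟩ := (Scheme.mem_grothendieckTopology_iff (P := @IsOpenImmersion)).mp hR
    intro x hx
    obtain ⟨i, y, hy⟩ := 𝒰.exists_eq (⟨x, hx⟩ : U)
    haveI hi : IsOpenImmersion (𝒰.f i) := 𝒰.map_prop i
    let g : 𝒰.X i ⟶ (U : Scheme.{u}) := 𝒰.f i
    haveI : IsOpenImmersion g := hi
    let V : X.Opens := U.ι ''ᵁ g.opensRange
    have hVU : V ≤ U := U.ι_image_le _
    refine ⟨V, homOfLE hVU, ?_, ⟨⟨x, hx⟩, ⟨y, hy⟩, rfl⟩⟩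
    have hr : Set.range (X.homOfLE hVU) ⊆ Set.range g := by
      rintro _ ⟨v, rfl⟩
      obtain ⟨w, hw, hwv⟩ := v.2
      have : X.homOfLE hVU v = w := Subtype.ext ((Scheme.homOfLE_apply hVU v).trans hwv.symm)
      rw [this]
      exact hw
    have h1 := hle _ _ ⟨i⟩
    rw [Sieve.overEquiv_iff] at h1
    let l : (BigSite.zarIncl X).obj V ⟶ Over.mk (g ≫ U.ι) :=
      Over.homMk (IsOpenImmersion.lift g (X.homOfLE hVU) hr) (by
        refine (IsOpenImmersion.lift_fac_assoc g (X.homOfLE hVU) hr U.ι).trans ?_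
        exact X.homOfLE_ι hVU)
    have h2 := R.downward_closed h1 l
    refine (congrArg (fun q => R.arrows q) (zarIncl_hom_ext X _ _)).mp h2

variable [BigSite.ZarCont Scheme.zariskiPrecoverage X]

/-- Big and small Zariski cohomology. -/
theorem nonempty_H_resZar_equiv (F : BigSite.Ab Scheme.zariskiPrecoverage X) (p : ℕ) :
    Nonempty (EtZar.H ((BigSite.resZar Scheme.zariskiPrecoverage X).obj F) p ≃+
      BigSite.H Scheme.zariskiPrecoverage X F p) := by
  haveI : PreservesFiniteLimits (BigSite.piZarPull Scheme.zariskiPrecoverage X) :=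
    sheafPullback_preservesFiniteLimits_small (BigSite.zarIncl X) _ _
  haveI : PreservesFiniteLimits (BigSite.resZar Scheme.zariskiPrecoverage X) :=
    ⟨fun _ _ _ => (BigSite.piZarAdj Scheme.zariskiPrecoverage X).rightAdjoint_preservesLimits.preservesLimitsOfShape⟩
  haveI : PreservesFiniteColimits (BigSite.resZar Scheme.zariskiPrecoverage X) :=
    ⟨fun _ _ _ => ((BigSite.zarIncl X).sheafAdjunctionCocontinuous AddCommGrpCat.{u + 1}
      (Opens.grothendieckTopology X) (QuotSh.J Scheme.zariskiPrecoverage X)).leftAdjoint_preservesColimits.preservesColimitsOfShape⟩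
  refine nonempty_H_equiv (BigSite.zarIncl X) (tC := (⊤ : X.Opens)) ?_ ?_ (fun I hI => ?_) F p
  · exact IsTerminal.ofUniqueHom (fun _ => homOfLE le_top) fun _ _ => Subsingleton.elim _ _
  · exact Over.mkIdTerminal.ofIso (Over.isoMk (Scheme.topIso X).symm (by simp [EtZar.zarToEt]))
  · haveI := hI
    haveI : (BigSite.piZarPull Scheme.zariskiPrecoverage X).PreservesMonomorphisms := inferInstance
    exact Injective.injective_of_adjoint (BigSite.piZarAdj Scheme.zariskiPrecoverage X) I

end Groth.Agent.BigSiteLib
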